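import Mathlib
import Cfsg.Prelude.Def_Characters
import Cfsg.Prelude.Def_ParabolicCharacters

set_option autoImplicit false

namespace Cfsg.Agent.Helper40

open Matrix

variable {F : Type*} [Field F]

/-- explicit constructor for 2x2 determinant-one matrices -/
def mk2 (a b c d : F) (h : a * d - b * c = 1) : Matrix.SpecialLinearGroup (Fin 2) F :=
  ⟨!![a, b; c, d], by rw [Matrix.det_fin_two_of]; exact h⟩

@[simp] theorem mk2_00 (a b c d : F) (h : a * d - b * c = 1) :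
    ((mk2 a b c d h : Matrix.SpecialLinearGroup (Fin 2) F) : Matrix (Fin 2) (Fin 2) F) 0 0 = a := rfl
@[simp] theorem mk2_01 (a b c d : F) (h : a * d - b * c = 1) :
    ((mk2 a b c d h : Matrix.SpecialLinearGroup (Fin 2) F) : Matrix (Fin 2) (Fin 2) F) 0 1 = b := rfl
@[simp] theorem mk2_10 (a b c d : F) (h : a * d - b * c = 1) :
    ((mk2 a b c d h : Matrix.SpecialLinearGroup (Fin 2) F) : Matrix (Fin 2) (Fin 2) F) 1 0 = c := rfl
@[simp] theorem mk2_11 (a b c d : F) (h : a * d - b * c = 1) :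
    ((mk2 a b c d h : Matrix.SpecialLinearGroup (Fin 2) F) : Matrix (Fin 2) (Fin 2) F) 1 1 = d := rfl

theorem det2 (g : Matrix.SpecialLinearGroup (Fin 2) F) :
    (g : Matrix (Fin 2) (Fin 2) F) 0 0 * (g : Matrix (Fin 2) (Fin 2) F) 1 1
      - (g : Matrix (Fin 2) (Fin 2) F) 0 1 * (g : Matrix (Fin 2) (Fin 2) F) 1 0 = 1 := by
  have := g.2
  rwa [Matrix.det_fin_two] at this

theorem ext2 {g h : Matrix.SpecialLinearGroup (Fin 2) F}
    (h00 : (g : Matrix (Fin 2) (Fin 2) F) 0 0 = (h : Matrix (Fin 2) (Fin 2) F) 0 0)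
    (h01 : (g : Matrix (Fin 2) (Fin 2) F) 0 1 = (h : Matrix (Fin 2) (Fin 2) F) 0 1)
    (h10 : (g : Matrix (Fin 2) (Fin 2) F) 1 0 = (h : Matrix (Fin 2) (Fin 2) F) 1 0)
    (h11 : (g : Matrix (Fin 2) (Fin 2) F) 1 1 = (h : Matrix (Fin 2) (Fin 2) F) 1 1) : g = h := by
  apply Matrix.SpecialLinearGroup.ext
  intro i j
  fin_cases i <;> fin_cases j <;> assumption

theorem mul_00 (g h : Matrix.SpecialLinearGroup (Fin 2) F) :
    ((g * h : Matrix.SpecialLinearGroup (Fin 2) F) : Matrix (Fin 2) (Fin 2) F) 0 0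
      = (g : Matrix (Fin 2) (Fin 2) F) 0 0 * (h : Matrix (Fin 2) (Fin 2) F) 0 0
        + (g : Matrix (Fin 2) (Fin 2) F) 0 1 * (h : Matrix (Fin 2) (Fin 2) F) 1 0 := by
  rw [Matrix.SpecialLinearGroup.coe_mul, Matrix.mul_apply, Fin.sum_univ_two]
theorem mul_01 (g h : Matrix.SpecialLinearGroup (Fin 2) F) :
    ((g * h : Matrix.SpecialLinearGroup (Fin 2) F) : Matrix (Fin 2) (Fin 2) F) 0 1
      = (g : Matrix (Fin 2) (Fin 2) F) 0 0 * (h : Matrix (Fin 2) (Fin 2) F) 0 1
        + (g : Matrix (Fin 2) (Fin 2) F) 0 1 * (h : Matrix (Fin 2) (Fin 2) F) 1 1 := by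
  rw [Matrix.SpecialLinearGroup.coe_mul, Matrix.mul_apply, Fin.sum_univ_two]
theorem mul_10 (g h : Matrix.SpecialLinearGroup (Fin 2) F) :
    ((g * h : Matrix.SpecialLinearGroup (Fin 2) F) : Matrix (Fin 2) (Fin 2) F) 1 0
      = (g : Matrix (Fin 2) (Fin 2) F) 1 0 * (h : Matrix (Fin 2) (Fin 2) F) 0 0
        + (g : Matrix (Fin 2) (Fin 2) F) 1 1 * (h : Matrix (Fin 2) (Fin 2) F) 1 0 := by
  rw [Matrix.SpecialLinearGroup.coe_mul, Matrix.mul_apply, Fin.sum_univ_two]
theorem mul_11 (g h : Matrix.SpecialLinearGroup (Fin 2) F) :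
    ((g * h : Matrix.SpecialLinearGroup (Fin 2) F) : Matrix (Fin 2) (Fin 2) F) 1 1
      = (g : Matrix (Fin 2) (Fin 2) F) 1 0 * (h : Matrix (Fin 2) (Fin 2) F) 0 1
        + (g : Matrix (Fin 2) (Fin 2) F) 1 1 * (h : Matrix (Fin 2) (Fin 2) F) 1 1 := by
  rw [Matrix.SpecialLinearGroup.coe_mul, Matrix.mul_apply, Fin.sum_univ_two]

theorem inv_00 (g : Matrix.SpecialLinearGroup (Fin 2) F) :
    ((g⁻¹ : Matrix.SpecialLinearGroup (Fin 2) F) : Matrix (Fin 2) (Fin 2) F) 0 0
      = (g : Matrix (Fin 2) (Fin 2) F) 1 1 := by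
  rw [Matrix.SpecialLinearGroup.coe_inv, Matrix.adjugate_fin_two]; rfl
theorem inv_01 (g : Matrix.SpecialLinearGroup (Fin 2) F) :
    ((g⁻¹ : Matrix.SpecialLinearGroup (Fin 2) F) : Matrix (Fin 2) (Fin 2) F) 0 1
      = - (g : Matrix (Fin 2) (Fin 2) F) 0 1 := by
  rw [Matrix.SpecialLinearGroup.coe_inv, Matrix.adjugate_fin_two]; rfl
theorem inv_10 (g : Matrix.SpecialLinearGroup (Fin 2) F) :
    ((g⁻¹ : Matrix.SpecialLinearGroup (Fin 2) F) : Matrix (Fin 2) (Fin 2) F) 1 0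
      = - (g : Matrix (Fin 2) (Fin 2) F) 1 0 := by
  rw [Matrix.SpecialLinearGroup.coe_inv, Matrix.adjugate_fin_two]; rfl
theorem inv_11 (g : Matrix.SpecialLinearGroup (Fin 2) F) :
    ((g⁻¹ : Matrix.SpecialLinearGroup (Fin 2) F) : Matrix (Fin 2) (Fin 2) F) 1 1
      = (g : Matrix (Fin 2) (Fin 2) F) 0 0 := by
  rw [Matrix.SpecialLinearGroup.coe_inv, Matrix.adjugate_fin_two]; rfl

theorem one_00 : ((1 : Matrix.SpecialLinearGroup (Fin 2) F) : Matrix (Fin 2) (Fin 2) F) 0 0 = 1 := by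
  simp
theorem one_01 : ((1 : Matrix.SpecialLinearGroup (Fin 2) F) : Matrix (Fin 2) (Fin 2) F) 0 1 = 0 := by
  simp
theorem one_10 : ((1 : Matrix.SpecialLinearGroup (Fin 2) F) : Matrix (Fin 2) (Fin 2) F) 1 0 = 0 := by
  simp
theorem one_11 : ((1 : Matrix.SpecialLinearGroup (Fin 2) F) : Matrix (Fin 2) (Fin 2) F) 1 1 = 1 := by
  simp

/-- the upper triangular (Borel) subgroup of SL2, in the Prelude's form -/
abbrev borel (F : Type*) [Field F] : Subgroup (Matrix.SpecialLinearGroup (Fin 2) F) :=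
  (Cfsg.upperTriangularGL 2 F).comap Matrix.SpecialLinearGroup.toGL

theorem mem_borel (g : Matrix.SpecialLinearGroup (Fin 2) F) :
    g ∈ borel F ↔ (g : Matrix (Fin 2) (Fin 2) F) 1 0 = 0 := by
  change ((Matrix.SpecialLinearGroup.toGL g : GL (Fin 2) F) : Matrix (Fin 2) (Fin 2) F).BlockTriangular id ↔ _
  rw [Matrix.SpecialLinearGroup.coe_GL_coe_matrix]
  constructor
  · intro h
    exact h (by decide : (id (0 : Fin 2)) < id (1 : Fin 2))
  · intro h i j hij
    fin_cases i <;> fin_cases j <;> simp_all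


theorem g00_ne_zero_of_g10 (g : Matrix.SpecialLinearGroup (Fin 2) F)
    (h : (g : Matrix (Fin 2) (Fin 2) F) 1 0 = 0) : (g : Matrix (Fin 2) (Fin 2) F) 0 0 ≠ 0 := by
  intro h0
  have := det2 g
  rw [h, h0] at this
  simp at this

theorem g11_eq_inv_of_g10 (g : Matrix.SpecialLinearGroup (Fin 2) F)
    (h : (g : Matrix (Fin 2) (Fin 2) F) 1 0 = 0) :
    (g : Matrix (Fin 2) (Fin 2) F) 1 1 = ((g : Matrix (Fin 2) (Fin 2) F) 0 0)⁻¹ := by
  have := det2 g
  rw [h, mul_zero, sub_zero] at this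
  exact eq_inv_of_mul_eq_one_right this

/-- upper triangular elements correspond to pairs (unit, field element) -/
noncomputable def borelEquiv : {g : Matrix.SpecialLinearGroup (Fin 2) F // (g : Matrix (Fin 2) (Fin 2) F) 1 0 = 0} ≃ Fˣ × F where
  toFun g := (Units.mk0 ((g.1 : Matrix (Fin 2) (Fin 2) F) 0 0) (g00_ne_zero_of_g10 g.1 g.2),
    (g.1 : Matrix (Fin 2) (Fin 2) F) 0 1)
  invFun x := ⟨mk2 (x.1 : F) x.2 0 ((x.1 : F)⁻¹) (by simp), by simp⟩
  left_inv g := by
    apply Subtype.ext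
    apply ext2
    · simp
    · simp
    · simp [g.2]
    · simp only [mk2_11, Units.val_mk0]
      exact (g11_eq_inv_of_g10 g.1 g.2).symm
  right_inv x := by
    apply Prod.ext
    · apply Units.ext
      simp
    · simp

/-- elements with nonzero lower left entry -/
noncomputable def bigCellEquiv : {g : Matrix.SpecialLinearGroup (Fin 2) F // (g : Matrix (Fin 2) (Fin 2) F) 1 0 ≠ 0} ≃ Fˣ × F × F where
  toFun g := (Units.mk0 ((g.1 : Matrix (Fin 2) (Fin 2) F) 1 0) g.2,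
    (g.1 : Matrix (Fin 2) (Fin 2) F) 0 0, (g.1 : Matrix (Fin 2) (Fin 2) F) 1 1)
  invFun x := ⟨mk2 x.2.1 ((x.2.1 * x.2.2 - 1) / (x.1 : F)) (x.1 : F) x.2.2 (by
      have : (x.1 : F) ≠ 0 := x.1.ne_zero
      field_simp
      ring), by simp⟩
  left_inv g := by
    apply Subtype.ext
    apply ext2
    · simp
    · simp only [mk2_01, Units.val_mk0]
      have := det2 g.1
      have h2 := g.2
      field_simp
      linear_combination this
    · simp
    · simp
  right_inv x := by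
    apply Prod.ext
    · apply Units.ext
      simp
    · simp

theorem card_borel [Fintype F] : Nat.card (borel F) = Fintype.card F * (Fintype.card F - 1) := by
  classical
  have e : (borel F) ≃ {g : Matrix.SpecialLinearGroup (Fin 2) F // (g : Matrix (Fin 2) (Fin 2) F) 1 0 = 0} :=
    Equiv.subtypeEquivRight (fun g => mem_borel g)
  rw [Nat.card_congr (e.trans borelEquiv), Nat.card_prod, Nat.card_units, Nat.card_eq_fintype_card, mul_comm]

theorem card_SL2 [Fintype F] : Nat.card (Matrix.SpecialLinearGroup (Fin 2) F) =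
    Fintype.card F * (Fintype.card F - 1) * (Fintype.card F + 1) := by
  classical
  have e := (Equiv.sumCompl (fun g : Matrix.SpecialLinearGroup (Fin 2) F => (g : Matrix (Fin 2) (Fin 2) F) 1 0 = 0)).symm
  rw [Nat.card_congr e, Nat.card_sum, Nat.card_congr borelEquiv, Nat.card_congr bigCellEquiv,
    Nat.card_prod, Nat.card_prod, Nat.card_prod, Nat.card_units, Nat.card_eq_fintype_card]
  ring

theorem card_SL2_eq [Fintype F] : Nat.card (Matrix.SpecialLinearGroup (Fin 2) F) =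
    (Fintype.card F + 1) * Nat.card (borel F) := by
  rw [card_SL2, card_borel]; ring

end Cfsg.Agent.Helper40
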