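import Mathlib
import Cfsg.Agent.Lib.Helper93.U30

/-!
helper40: shared lemmas for my pieces of helper93's lemma server "U3" (row S2334).
-/

set_option autoImplicit false

namespace Cfsg.Agent.Helper40.U3

open Matrix Cfsg.Agent.Helper13 Cfsg.Agent.Helper93.U2 Cfsg.Agent.Helper93.U3

variable {F : Type*} [Field F] [Fintype F] {q : ℕ} (hF : Fintype.card F = q ^ 2)

/-- `Q* P = 1` -/
theorem baseO_qp {n m : ℕ} (fr : FrameO hF n m) : cT hF fr.Q * fr.P = 1 := by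
  have h := congrArg (cT hF) fr.pq
  rw [cT_mul, cT_cT, cT_one] at h
  exact h

/-- `(P H P*)* = P H* P*` -/
theorem baseO_cT_PHP {n m : ℕ} (fr : FrameO hF n m) (H : Matrix (Fin m) (Fin m) F) :
    cT hF (fr.P * H * cT hF fr.P) = fr.P * cT hF H * cT hF fr.P := by
  rw [cT_mul, cT_mul, cT_cT, Matrix.mul_assoc]

/-- `(P H P*)(P K P*) = 0` -/
theorem baseO_PHP_mul {n m : ℕ} (fr : FrameO hF n m) (H K : Matrix (Fin m) (Fin m) F) :
    (fr.P * H * cT hF fr.P) * (fr.P * K * cT hF fr.P) = 0 := by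
  calc (fr.P * H * cT hF fr.P) * (fr.P * K * cT hF fr.P)
      = fr.P * H * (cT hF fr.P * fr.P) * K * cT hF fr.P := by simp only [Matrix.mul_assoc]
    _ = 0 := by rw [fr.pp]; simp

/-- the nilpotent part of the Levi element -/
noncomputable def nMatO {n m : ℕ} (fr : FrameO hF n m) (E : Matrix (Fin m) (Fin m) F) :
    Matrix (Fin n) (Fin n) F :=
  fr.P * E * cT hF fr.Q - fr.Q * cT hF E * cT hF fr.P

theorem lMatO_eq {n m : ℕ} (fr : FrameO hF n m) (E : Matrix (Fin m) (Fin m) F) :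
    lMatO hF fr E = 1 + nMatO hF fr E := rfl

theorem cT_nMatO {n m : ℕ} (fr : FrameO hF n m) (E : Matrix (Fin m) (Fin m) F) :
    cT hF (nMatO hF fr E) = - nMatO hF fr E := by
  unfold nMatO
  rw [cT_sub, cT_mul, cT_mul, cT_cT, cT_mul, cT_mul, cT_cT, cT_cT]
  simp only [Matrix.mul_assoc]
  abel

theorem nMatO_mul_P {n m : ℕ} (fr : FrameO hF n m) (E : Matrix (Fin m) (Fin m) F) :
    nMatO hF fr E * fr.P = fr.P * E := by
  unfold nMatO
  rw [Matrix.sub_mul]
  have h1 : fr.P * E * cT hF fr.Q * fr.P = fr.P * E := by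
    rw [Matrix.mul_assoc, baseO_qp, Matrix.mul_one]
  have h2 : fr.Q * cT hF E * cT hF fr.P * fr.P = 0 := by
    rw [Matrix.mul_assoc, fr.pp, Matrix.mul_zero]
  rw [h1, h2, sub_zero]

theorem cTP_mul_nMatO {n m : ℕ} (fr : FrameO hF n m) (E : Matrix (Fin m) (Fin m) F) :
    cT hF fr.P * nMatO hF fr E = - (cT hF E * cT hF fr.P) := by
  unfold nMatO
  rw [Matrix.mul_sub]
  have h1 : cT hF fr.P * (fr.P * E * cT hF fr.Q) = 0 := by
    rw [← Matrix.mul_assoc, ← Matrix.mul_assoc, fr.pp, Matrix.zero_mul, Matrix.zero_mul]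
  have h2 : cT hF fr.P * (fr.Q * cT hF E * cT hF fr.P) = cT hF E * cT hF fr.P := by
    rw [← Matrix.mul_assoc, ← Matrix.mul_assoc, fr.pq, Matrix.one_mul]
  rw [h1, h2, zero_sub]

theorem nMatO_sq {n m : ℕ} (fr : FrameO hF n m) (E : Matrix (Fin m) (Fin m) F) (hE : E * E = 0) :
    nMatO hF fr E * nMatO hF fr E = 0 := by
  have hE' : cT hF E * cT hF E = 0 := by
    rw [← cT_mul, hE, cT_zero]
  have hqQ : cT hF fr.Q * fr.Q = 0 := fr.qq
  have hsplit : nMatO hF fr E * nMatO hF fr E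
      = fr.P * E * cT hF fr.Q * nMatO hF fr E - fr.Q * cT hF E * cT hF fr.P * nMatO hF fr E := by
    unfold nMatO
    rw [Matrix.sub_mul]
  rw [hsplit]
  -- `(P E Q*) N = P E (Q* N)` and `(Q E* P*) N = Q E* (P* N)`
  have h1 : fr.P * E * cT hF fr.Q * nMatO hF fr E = 0 := by
    have : cT hF fr.Q * nMatO hF fr E = E * cT hF fr.Q := by
      unfold nMatO
      rw [Matrix.mul_sub, ← Matrix.mul_assoc, ← Matrix.mul_assoc, baseO_qp, Matrix.one_mul,
        ← Matrix.mul_assoc, ← Matrix.mul_assoc, hqQ, Matrix.zero_mul, Matrix.zero_mul, sub_zero]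
    rw [Matrix.mul_assoc, this, ← Matrix.mul_assoc, Matrix.mul_assoc fr.P E E, hE, Matrix.mul_zero,
      Matrix.zero_mul]
  have h2 : fr.Q * cT hF E * cT hF fr.P * nMatO hF fr E = 0 := by
    rw [Matrix.mul_assoc, cTP_mul_nMatO, Matrix.mul_neg, ← Matrix.mul_assoc,
      Matrix.mul_assoc fr.Q (cT hF E) (cT hF E), hE', Matrix.mul_zero, Matrix.zero_mul, neg_zero]
  rw [h1, h2, sub_zero]

end Cfsg.Agent.Helper40.U3
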