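import Mathlib
import Cfsg.Agent.Lib.Helper93.U30
import Cfsg.Agent.Lib.Helper40.U3Base

/-! helper40: piece O1a of helper93's lemma server "U3" (row S2334). -/

set_option autoImplicit false

namespace Cfsg.Agent.Helper40.U3

open Matrix Cfsg.Agent.Helper13 Cfsg.Agent.Helper93.U2 Cfsg.Agent.Helper93.U3

variable {F : Type*} [Field F] [Fintype F] {q : ℕ} (hF : Fintype.card F = q ^ 2)

/-- piece O1a -/
theorem aMatO_add {n m : ℕ} (fr : FrameO hF n m) (ε : F) (H K : Matrix (Fin m) (Fin m) F) :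
    aMatO hF fr ε (H + K) = aMatO hF fr ε H * aMatO hF fr ε K := by
  unfold aMatO
  have hAB := baseO_PHP_mul hF fr H K
  rw [Matrix.mul_add, Matrix.add_mul, Matrix.add_mul, Matrix.mul_add, Matrix.mul_add, Matrix.one_mul,
    Matrix.mul_one, Matrix.one_mul, Matrix.smul_mul, Matrix.mul_smul, hAB, smul_zero, smul_zero,
    add_zero, smul_add, add_assoc]
  congr 1
  exact add_comm _ _

end Cfsg.Agent.Helper40.U3
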