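import Mathlib
import Cfsg.Agent.Lib.Helper93.U30
import Cfsg.Agent.Lib.Helper40.U3Base
import Cfsg.Agent.Lib.Helper40.U3O1a

/-! helper40: piece O1b of helper93's lemma server "U3" (row S2334). -/

set_option autoImplicit false

namespace Cfsg.Agent.Helper40.U3

open Matrix Cfsg.Agent.Helper13 Cfsg.Agent.Helper93.U2 Cfsg.Agent.Helper93.U3

variable {F : Type*} [Field F] [Fintype F] {q : ℕ} (hF : Fintype.card F = q ^ 2)

/-- piece O1b -/
theorem aMatO_unitary {n m : ℕ} (fr : FrameO hF n m) (ε : F) (hε : ε ^ q = -ε)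
    (H : Matrix (Fin m) (Fin m) F) (hH : cT hF H = H) :
    cT hF (aMatO hF fr ε H) * aMatO hF fr ε H = 1 := by
  have h1 : cT hF (aMatO hF fr ε H) = aMatO hF fr ε (-H) := by
    unfold aMatO
    rw [cT_add, cT_one, cT_smul, baseO_cT_PHP, hH, hε, Matrix.mul_neg, Matrix.neg_mul, smul_neg,
      neg_smul]
  rw [h1, ← aMatO_add, neg_add_cancel]
  unfold aMatO
  simp

end Cfsg.Agent.Helper40.U3
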