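import Mathlib
import Cfsg.Agent.Lib.Helper93.U30
import Cfsg.Agent.Lib.Helper40.U3Base

/-! helper40: piece O4 of helper93's lemma server "U3" (row S2334). -/

set_option autoImplicit false

namespace Cfsg.Agent.Helper40.U3

open Matrix Cfsg.Agent.Helper13 Cfsg.Agent.Helper93.U2 Cfsg.Agent.Helper93.U3

variable {F : Type*} [Field F] [Fintype F] {q : ℕ} (hF : Fintype.card F = q ^ 2)

/-- piece O4 -/
theorem aMatO_injective {n m : ℕ} (fr : FrameO hF n m) (ε : F) (hε0 : ε ≠ 0)
    (H K : Matrix (Fin m) (Fin m) F) (h : aMatO hF fr ε H = aMatO hF fr ε K) : H = K := by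
  unfold aMatO at h
  have h1 : ε • (fr.P * H * cT hF fr.P) = ε • (fr.P * K * cT hF fr.P) := add_left_cancel h
  have h2 : fr.P * H * cT hF fr.P = fr.P * K * cT hF fr.P := by
    have := congrArg (fun M => ε⁻¹ • M) h1
    simpa [smul_smul, inv_mul_cancel₀ hε0] using this
  have key : ∀ X : Matrix (Fin m) (Fin m) F,
      cT hF fr.Q * (fr.P * X * cT hF fr.P) * fr.Q = X := by
    intro X
    calc cT hF fr.Q * (fr.P * X * cT hF fr.P) * fr.Q
        = (cT hF fr.Q * fr.P) * X * (cT hF fr.P * fr.Q) := by simp only [Matrix.mul_assoc]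
      _ = X := by rw [baseO_qp, fr.pq, Matrix.one_mul, Matrix.mul_one]
  rw [← key H, h2, key K]

end Cfsg.Agent.Helper40.U3
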