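import Mathlib
import Cfsg.Prelude.Def_LieTypeDatum
import Cfsg.Agent.Lib.Helper5.OrthAut

/-!
# Field automorphisms of `PΩ(Q)` and the semidirect structure with the conformal group

For a one-argument form `Q : (ι → F) → F`, `QAut Q` is the group of field automorphisms `σ` with
`Q (σ v) = σ (Q v)`.  Such `σ` act entrywise on `O(Q)`, on `Ω(Q)` and on `PΩ(Q)`
(`fieldAutPOm`).  Together with `Helper5.OrthAut.Phi` this gives the standard description of the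
automorphisms induced by semisimilarities.
-/

set_option autoImplicit false
set_option linter.unusedSectionVars false
set_option linter.unusedSimpArgs false
set_option linter.unusedVariables false

namespace Cfsg.Agent.Helper40.AutPOm

open Matrix Cfsg.Agent.Helper5.OrthAut

variable {F : Type*} [Field F] {ι : Type} [Fintype ι] [DecidableEq ι] (Q : (ι → F) → F)

/-! ### entrywise field automorphisms on `GL` -/

/-- `σ` applied entrywise on `GL` -/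
def mapGL (σ : F ≃+* F) : GL ι F →* GL ι F := Matrix.GeneralLinearGroup.map σ.toRingHom

theorem mapGL_coe (σ : F ≃+* F) (g : GL ι F) :
    ((mapGL σ g : GL ι F) : Matrix ι ι F) = (g : Matrix ι ι F).map σ := rfl

theorem mapGL_mapGL (σ τ : F ≃+* F) (g : GL ι F) : mapGL σ (mapGL τ g) = mapGL (σ * τ) g := by
  apply Units.ext
  rw [mapGL_coe, mapGL_coe, mapGL_coe]
  ext i j
  simp only [Matrix.map_apply]
  rfl

theorem mapGL_one (g : GL ι F) : mapGL (1 : F ≃+* F) g = g := by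
  apply Units.ext
  rw [mapGL_coe]
  ext i j
  simp only [Matrix.map_apply]
  rfl

theorem mapGL_inv_mapGL (σ : F ≃+* F) (g : GL ι F) : mapGL σ⁻¹ (mapGL σ g) = g := by
  rw [mapGL_mapGL, inv_mul_cancel, mapGL_one]

theorem mapGL_mapGL_inv (σ : F ≃+* F) (g : GL ι F) : mapGL σ (mapGL σ⁻¹ g) = g := by
  rw [mapGL_mapGL, mul_inv_cancel, mapGL_one]

theorem map_mulVec_sigma (σ : F ≃+* F) (A : Matrix ι ι F) (v : ι → F) :
    (A.map σ) *ᵥ (fun i => σ (v i)) = fun i => σ ((A *ᵥ v) i) := by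
  funext i
  exact (RingHom.map_mulVec σ.toRingHom A v i).symm

/-! ### the compatible field automorphisms -/

/-- the field automorphisms `σ` with `Q (σ v) = σ (Q v)` -/
def QAut : Subgroup (F ≃+* F) where
  carrier := {σ | ∀ v : ι → F, Q (fun i => σ (v i)) = σ (Q v)}
  one_mem' := fun v => rfl
  mul_mem' := by
    intro σ τ hσ hτ v
    have h1 := hσ (fun i => τ (v i))
    rw [hτ v] at h1
    exact h1
  inv_mem' := by
    intro σ hσ v
    have h1 := hσ (fun i => σ⁻¹ (v i))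
    have h2 : (fun i => σ (σ⁻¹ (v i))) = v := by
      funext i
      exact σ.apply_symm_apply (v i)
    rw [h2] at h1
    rw [h1]
    exact (σ.symm_apply_apply _).symm

theorem mem_QAut (σ : F ≃+* F) :
    σ ∈ QAut Q ↔ ∀ v : ι → F, Q (fun i => σ (v i)) = σ (Q v) := Iff.rfl

theorem Q_mapGL_mulVec {σ : F ≃+* F} (hσ : σ ∈ QAut Q) (g : GL ι F) (v : ι → F) :
    Q (((mapGL σ g : GL ι F) : Matrix ι ι F) *ᵥ (fun i => σ (v i))) =
      σ (Q ((g : Matrix ι ι F) *ᵥ v)) := by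
  rw [mapGL_coe, map_mulVec_sigma, hσ]

theorem exists_sigma_eq (σ : F ≃+* F) (u : ι → F) : ∃ v : ι → F, u = fun i => σ (v i) :=
  ⟨fun i => σ.symm (u i), by funext i; exact (σ.apply_symm_apply (u i)).symm⟩

theorem mapGL_mem_iso {σ : F ≃+* F} (hσ : σ ∈ QAut Q) {g : GL ι F}
    (hg : g ∈ Cfsg.isometryGroup F Q) : mapGL σ g ∈ Cfsg.isometryGroup F Q := by
  rw [mem_iso_iff] at hg ⊢
  intro u
  obtain ⟨v, rfl⟩ := exists_sigma_eq σ u
  rw [Q_mapGL_mulVec Q hσ, hg, hσ]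

theorem mapGL_mem_iso_iff {σ : F ≃+* F} (hσ : σ ∈ QAut Q) (g : GL ι F) :
    mapGL σ g ∈ Cfsg.isometryGroup F Q ↔ g ∈ Cfsg.isometryGroup F Q := by
  constructor
  · intro h
    have := mapGL_mem_iso Q (inv_mem hσ) h
    rwa [mapGL_inv_mapGL] at this
  · exact mapGL_mem_iso Q hσ

theorem mapGL_mem_sim {σ : F ≃+* F} (hσ : σ ∈ QAut Q) {g : GL ι F}
    (hg : g ∈ Cfsg.Geo.quadSimilarityGroup (F := F) Q) :
    mapGL σ g ∈ Cfsg.Geo.quadSimilarityGroup (F := F) Q := by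
  obtain ⟨c, hc⟩ := hg
  refine ⟨Units.map σ.toRingHom.toMonoidHom c, ?_⟩
  intro u
  obtain ⟨v, rfl⟩ := exists_sigma_eq σ u
  rw [Q_mapGL_mulVec Q hσ, hc, hσ, map_mul]
  rfl

theorem mapGL_mem_NO {σ : F ≃+* F} (hσ : σ ∈ QAut Q) {g : GL ι F} (hg : g ∈ NO Q) :
    mapGL σ g ∈ NO Q := by
  rw [Subgroup.mem_normalizer_iff] at hg ⊢
  intro h
  have h1 : mapGL σ g * h * (mapGL σ g)⁻¹ = mapGL σ (g * mapGL σ⁻¹ h * g⁻¹) := by
    rw [map_mul, map_mul, map_inv, mapGL_mapGL_inv]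
  rw [h1]
  constructor
  · intro hh
    apply mapGL_mem_iso Q hσ
    exact (hg _).1 (mapGL_mem_iso Q (inv_mem hσ) hh)
  · intro hh
    have h2 := (hg _).2 ((mapGL_mem_iso_iff Q hσ _).1 hh)
    have h3 := mapGL_mem_iso Q hσ h2
    rwa [mapGL_mapGL_inv] at h3

/-! ### `σ` on `O(Q)`, `Ω(Q)`, `PΩ(Q)` -/

/-- `σ` applied entrywise on `O(Q)` -/
def sigO (σ : ↥(QAut Q)) (s : ↥(Cfsg.isometryGroup F Q)) : ↥(Cfsg.isometryGroup F Q) :=
  ⟨mapGL σ.1 s.1, mapGL_mem_iso Q σ.2 s.2⟩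

theorem sigO_coe (σ : ↥(QAut Q)) (s : ↥(Cfsg.isometryGroup F Q)) :
    ((sigO Q σ s : ↥(Cfsg.isometryGroup F Q)) : GL ι F) = mapGL σ.1 s.1 := rfl

theorem sigO_mul (σ : ↥(QAut Q)) (s t : ↥(Cfsg.isometryGroup F Q)) :
    sigO Q σ (s * t) = sigO Q σ s * sigO Q σ t := by
  apply Subtype.ext
  exact map_mul (mapGL σ.1) s.1 t.1

theorem sigO_sigO (σ τ : ↥(QAut Q)) (s : ↥(Cfsg.isometryGroup F Q)) :
    sigO Q σ (sigO Q τ s) = sigO Q (σ * τ) s := by
  apply Subtype.ext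
  exact mapGL_mapGL σ.1 τ.1 s.1

theorem sigO_one (s : ↥(Cfsg.isometryGroup F Q)) : sigO Q 1 s = s := by
  apply Subtype.ext
  exact mapGL_one s.1

/-- `σ` as an automorphism of `O(Q)` -/
def sigmaO (σ : ↥(QAut Q)) : ↥(Cfsg.isometryGroup F Q) ≃* ↥(Cfsg.isometryGroup F Q) where
  toFun := sigO Q σ
  invFun := sigO Q σ⁻¹
  left_inv s := by rw [sigO_sigO, inv_mul_cancel, sigO_one]
  right_inv s := by rw [sigO_sigO, mul_inv_cancel, sigO_one]
  map_mul' := sigO_mul Q σ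

theorem sigmaO_apply (σ : ↥(QAut Q)) (s : ↥(Cfsg.isometryGroup F Q)) :
    sigmaO Q σ s = sigO Q σ s := rfl

theorem sigmaO_mem_omega (σ : ↥(QAut Q)) (s : ↥(Cfsg.isometryGroup F Q)) :
    sigmaO Q σ s ∈ Cfsg.Omega F Q ↔ s ∈ Cfsg.Omega F Q := by
  have h := (Subgroup.characteristic_iff_comap_eq.1
    (inferInstance : (commutator ↥(Cfsg.isometryGroup F Q)).Characteristic)) (sigmaO Q σ)
  have : s ∈ (commutator ↥(Cfsg.isometryGroup F Q)).comap (sigmaO Q σ).toMonoidHom ↔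
      s ∈ commutator ↥(Cfsg.isometryGroup F Q) := by rw [h]
  exact this

/-- `σ` applied entrywise on `Ω(Q)` -/
def sigOm (σ : ↥(QAut Q)) (s : ↥(Cfsg.Omega F Q)) : ↥(Cfsg.Omega F Q) :=
  ⟨sigmaO Q σ s.1, (sigmaO_mem_omega Q σ s.1).2 s.2⟩

theorem sigOm_coe (σ : ↥(QAut Q)) (s : ↥(Cfsg.Omega F Q)) :
    (((sigOm Q σ s : ↥(Cfsg.Omega F Q)) : ↥(Cfsg.isometryGroup F Q)) : GL ι F) =
      mapGL σ.1 ((s : ↥(Cfsg.isometryGroup F Q)) : GL ι F) := rfl

theorem sigOm_mat (σ : ↥(QAut Q)) (s : ↥(Cfsg.Omega F Q)) :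
    omat Q (sigOm Q σ s) = (omat Q s).map σ.1 := rfl

theorem sigOm_mul (σ : ↥(QAut Q)) (s t : ↥(Cfsg.Omega F Q)) :
    sigOm Q σ (s * t) = sigOm Q σ s * sigOm Q σ t := by
  apply Subtype.ext
  exact sigO_mul Q σ s.1 t.1

theorem sigOm_sigOm (σ τ : ↥(QAut Q)) (s : ↥(Cfsg.Omega F Q)) :
    sigOm Q σ (sigOm Q τ s) = sigOm Q (σ * τ) s := by
  apply Subtype.ext
  exact sigO_sigO Q σ τ s.1

theorem sigOm_one (s : ↥(Cfsg.Omega F Q)) : sigOm Q 1 s = s := by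
  apply Subtype.ext
  exact sigO_one Q s.1

/-- `σ` as an automorphism of `Ω(Q)` -/
def sigmaOm (σ : ↥(QAut Q)) : ↥(Cfsg.Omega F Q) ≃* ↥(Cfsg.Omega F Q) where
  toFun := sigOm Q σ
  invFun := sigOm Q σ⁻¹
  left_inv s := by rw [sigOm_sigOm, inv_mul_cancel, sigOm_one]
  right_inv s := by rw [sigOm_sigOm, mul_inv_cancel, sigOm_one]
  map_mul' := sigOm_mul Q σ

theorem sigmaOm_apply (σ : ↥(QAut Q)) (s : ↥(Cfsg.Omega F Q)) :
    sigmaOm Q σ s = sigOm Q σ s := rfl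

theorem sigmaOm_center (σ : ↥(QAut Q)) :
    (Subgroup.center ↥(Cfsg.Omega F Q)).map (sigmaOm Q σ).toMonoidHom =
      Subgroup.center ↥(Cfsg.Omega F Q) :=
  (Subgroup.characteristic_iff_map_eq.1
    (inferInstance : (Subgroup.center ↥(Cfsg.Omega F Q)).Characteristic)) (sigmaOm Q σ)

/-- the standard field automorphism of `PΩ(Q)` attached to `σ` -/
noncomputable def fieldAutPOm (σ : ↥(QAut Q)) : MulAut (Cfsg.POmega F Q) :=
  QuotientGroup.congr (Subgroup.center ↥(Cfsg.Omega F Q)) (Subgroup.center ↥(Cfsg.Omega F Q))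
    (sigmaOm Q σ) (sigmaOm_center Q σ)

theorem fieldAutPOm_mk (σ : ↥(QAut Q)) (s : ↥(Cfsg.Omega F Q)) :
    fieldAutPOm Q σ (QuotientGroup.mk s : Cfsg.POmega F Q) = QuotientGroup.mk (sigOm Q σ s) := rfl

/-- the homomorphism `σ ↦ fieldAutPOm σ` -/
noncomputable def fieldAutHom : ↥(QAut Q) →* MulAut (Cfsg.POmega F Q) where
  toFun σ := fieldAutPOm Q σ
  map_one' := by
    apply MulEquiv.ext
    intro x
    induction x using QuotientGroup.induction_on with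
    | H s => rw [fieldAutPOm_mk, sigOm_one]; rfl
  map_mul' σ τ := by
    apply MulEquiv.ext
    intro x
    induction x using QuotientGroup.induction_on with
    | H s =>
      rw [MulAut.mul_apply, fieldAutPOm_mk, fieldAutPOm_mk, fieldAutPOm_mk, sigOm_sigOm]

theorem fieldAutHom_apply (σ : ↥(QAut Q)) : fieldAutHom Q σ = fieldAutPOm Q σ := rfl

theorem fieldAutPOm_mul (σ τ : ↥(QAut Q)) :
    fieldAutPOm Q (σ * τ) = fieldAutPOm Q σ * fieldAutPOm Q τ := map_mul (fieldAutHom Q) σ τ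

theorem fieldAutPOm_one : fieldAutPOm Q 1 = 1 := map_one (fieldAutHom Q)

theorem fieldAutPOm_inv (σ : ↥(QAut Q)) :
    fieldAutPOm Q σ⁻¹ = (fieldAutPOm Q σ)⁻¹ := map_inv (fieldAutHom Q) σ

theorem fieldAutPOm_pow (σ : ↥(QAut Q)) (k : ℕ) :
    fieldAutPOm Q (σ ^ k) = fieldAutPOm Q σ ^ k := map_pow (fieldAutHom Q) σ k

/-- `φ` is the field automorphism attached to `σ` iff `φ = fieldAutPOm σ` -/
theorem isFieldAutOf_iff (σ : ↥(QAut Q)) (φ : Cfsg.POmega F Q ≃* Cfsg.POmega F Q) :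
    Cfsg.IsFieldAutPOmegaOf Q σ.1 φ ↔ φ = fieldAutPOm Q σ := by
  constructor
  · intro h
    apply MulEquiv.ext
    intro x
    induction x using QuotientGroup.induction_on with
    | H s =>
      rw [fieldAutPOm_mk]
      exact h s (sigOm Q σ s) rfl
  · rintro rfl s s' hs'
    rw [fieldAutPOm_mk]
    congr 1
    apply Subtype.ext
    apply Subtype.ext
    apply Units.ext
    rw [hs']
    rfl

/-! ### the action on the normalizer and the semidirect relation -/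

/-- `σ` on the normalizer of `O(Q)` -/
def sigmaNO (σ : ↥(QAut Q)) : ↥(NO Q) →* ↥(NO Q) :=
  ((mapGL σ.1).comp (NO Q).subtype).codRestrict (NO Q) (fun g => mapGL_mem_NO Q σ.2 g.2)

theorem sigmaNO_coe (σ : ↥(QAut Q)) (g : ↥(NO Q)) :
    ((sigmaNO Q σ g : ↥(NO Q)) : GL ι F) = mapGL σ.1 g.1 := rfl

theorem sigOm_conjOm (σ : ↥(QAut Q)) (g : ↥(NO Q)) (s : ↥(Cfsg.Omega F Q)) :
    sigOm Q σ (conjOm Q g s) = conjOm Q (sigmaNO Q σ g) (sigOm Q σ s) := by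
  apply Subtype.ext
  apply Subtype.ext
  rw [sigOm_coe, conjOm_apply, conjOm_apply, sigOm_coe, sigmaNO_coe, map_mul, map_mul, map_inv]

theorem fieldAutPOm_mul_Phi (σ : ↥(QAut Q)) (g : ↥(NO Q)) :
    fieldAutPOm Q σ * Phi Q g = Phi Q (sigmaNO Q σ g) * fieldAutPOm Q σ := by
  apply MulEquiv.ext
  intro x
  induction x using QuotientGroup.induction_on with
  | H s =>
    rw [MulAut.mul_apply, MulAut.mul_apply, Phi_mk, fieldAutPOm_mk, fieldAutPOm_mk, Phi_mk,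
      sigOm_conjOm]

theorem fieldAutPOm_conj_Phi (σ : ↥(QAut Q)) (g : ↥(NO Q)) :
    fieldAutPOm Q σ * Phi Q g * (fieldAutPOm Q σ)⁻¹ = Phi Q (sigmaNO Q σ g) := by
  rw [fieldAutPOm_mul_Phi, mul_assoc, mul_inv_cancel, mul_one]

/-- `β` is induced by `v ↦ g σ(v)` iff `β = Phi g * fieldAutPOm σ` -/
theorem semilinear_iff (g : ↥(NO Q)) (σ : ↥(QAut Q)) (β : Cfsg.POmega F Q ≃* Cfsg.POmega F Q) :
    Cfsg.IsInducedBySemilinearPOmega Q g.1 σ.1 β ↔ β = Phi Q g * fieldAutPOm Q σ := by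
  constructor
  · intro h
    apply MulEquiv.ext
    intro x
    induction x using QuotientGroup.induction_on with
    | H s =>
      rw [MulAut.mul_apply, fieldAutPOm_mk, Phi_mk]
      apply h s (conjOm Q g (sigOm Q σ s))
      rw [conjOm_apply, sigOm_coe, Units.val_mul, Units.val_mul, mapGL_coe]
  · rintro rfl s s' hs'
    rw [MulAut.mul_apply, fieldAutPOm_mk, Phi_mk]
    congr 1
    apply Subtype.ext
    apply Subtype.ext
    apply Units.ext
    rw [conjOm_apply, sigOm_coe, Units.val_mul, Units.val_mul, mapGL_coe, hs']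

/-! ### the conformal group -/

set_option quotPrecheck false in
local notation "GOQ" => Cfsg.Geo.quadSimilarityGroup (F := F) Q

/-- `Phi` restricted to the similarity group -/
noncomputable def PhiGO : ↥(GOQ) →* MulAut (Cfsg.POmega F Q) :=
  (Phi Q).comp (Subgroup.inclusion (sim_le_NO Q))

theorem PhiGO_apply (g : ↥(GOQ)) : PhiGO Q g = Phi Q ⟨g.1, sim_le_NO Q g.2⟩ := rfl

/-- `σ` on the similarity group -/
def sigmaGO (σ : ↥(QAut Q)) : ↥(GOQ) →* ↥(GOQ) :=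
  ((mapGL σ.1).comp (GOQ).subtype).codRestrict (GOQ) (fun g => mapGL_mem_sim Q σ.2 g.2)

theorem sigmaGO_coe (σ : ↥(QAut Q)) (g : ↥(GOQ)) :
    ((sigmaGO Q σ g : ↥(GOQ)) : GL ι F) = mapGL σ.1 g.1 := rfl

theorem fieldAutPOm_mul_PhiGO (σ : ↥(QAut Q)) (g : ↥(GOQ)) :
    fieldAutPOm Q σ * PhiGO Q g = PhiGO Q (sigmaGO Q σ g) * fieldAutPOm Q σ := by
  rw [PhiGO_apply, fieldAutPOm_mul_Phi]
  rfl

theorem fieldAutPOm_conj_PhiGO (σ : ↥(QAut Q)) (g : ↥(GOQ)) :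
    fieldAutPOm Q σ * PhiGO Q g * (fieldAutPOm Q σ)⁻¹ = PhiGO Q (sigmaGO Q σ g) := by
  rw [fieldAutPOm_mul_PhiGO, mul_assoc, mul_inv_cancel, mul_one]

theorem similarityInduced_iff (β : Cfsg.POmega F Q ≃* Cfsg.POmega F Q) :
    Cfsg.IsSimilarityInducedAutPOmega Q β ↔ ∃ g : ↥(GOQ), β = PhiGO Q g := by
  constructor
  · rintro ⟨g, hg, h⟩
    exact ⟨⟨g, hg⟩, (induced_iff Q ⟨g, sim_le_NO Q hg⟩ β).1 h⟩
  · rintro ⟨g, rfl⟩
    exact ⟨g.1, g.2, (induced_iff Q ⟨g.1, sim_le_NO Q g.2⟩ _).2 rfl⟩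

theorem pgoAut_eq_range : Cfsg.pgoAut F Q = (PhiGO Q).range := by
  have hset : {β : MulAut (Cfsg.POmega F Q) | Cfsg.IsSimilarityInducedAutPOmega Q β} =
      (((PhiGO Q).range : Subgroup (MulAut (Cfsg.POmega F Q))) :
        Set (MulAut (Cfsg.POmega F Q))) := by
    ext β
    rw [Set.mem_ofPred_eq, similarityInduced_iff]
    constructor
    · rintro ⟨g, rfl⟩
      exact ⟨g, rfl⟩
    · rintro ⟨g, rfl⟩
      exact ⟨g, rfl⟩
  unfold Cfsg.pgoAut Cfsg.autSubgroupOf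
  rw [hset, Subgroup.closure_eq]

theorem mem_pgoAut_iff (β : MulAut (Cfsg.POmega F Q)) :
    β ∈ Cfsg.pgoAut F Q ↔ ∃ g : ↥(GOQ), β = PhiGO Q g := by
  rw [pgoAut_eq_range]
  constructor
  · rintro ⟨g, rfl⟩
    exact ⟨g, rfl⟩
  · rintro ⟨g, rfl⟩
    exact ⟨g, rfl⟩

/-! ### forms whose coefficients lie in the prime field -/

section Std

variable (hQA : ∀ σ : F ≃+* F, σ ∈ QAut Q)

/-- every field automorphism, as an element of `QAut Q` -/
def toQAut : (F ≃+* F) →* ↥(QAut Q) where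
  toFun σ := ⟨σ, hQA σ⟩
  map_one' := rfl
  map_mul' _ _ := rfl

theorem toQAut_coe (σ : F ≃+* F) : ((toQAut Q hQA σ : ↥(QAut Q)) : F ≃+* F) = σ := rfl

/-- the standard field automorphisms, as a homomorphism from all of `Aut F` -/
noncomputable def fieldAutStd : (F ≃+* F) →* MulAut (Cfsg.POmega F Q) :=
  (fieldAutHom Q).comp (toQAut Q hQA)

theorem fieldAutStd_apply (σ : F ≃+* F) :
    fieldAutStd Q hQA σ = fieldAutPOm Q (toQAut Q hQA σ) := rfl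

theorem fieldAutStd_mk (σ : F ≃+* F) (s : ↥(Cfsg.Omega F Q)) :
    fieldAutStd Q hQA σ (QuotientGroup.mk s : Cfsg.POmega F Q) =
      QuotientGroup.mk (sigOm Q (toQAut Q hQA σ) s) := rfl

theorem isFieldAutOf_iff_std (σ : F ≃+* F) (φ : Cfsg.POmega F Q ≃* Cfsg.POmega F Q) :
    Cfsg.IsFieldAutPOmegaOf Q σ φ ↔ φ = fieldAutStd Q hQA σ :=
  isFieldAutOf_iff Q (toQAut Q hQA σ) φ

theorem fieldAutStd_mul_PhiGO (σ : F ≃+* F) (g : ↥(GOQ)) :
    fieldAutStd Q hQA σ * PhiGO Q g =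
      PhiGO Q (sigmaGO Q (toQAut Q hQA σ) g) * fieldAutStd Q hQA σ :=
  fieldAutPOm_mul_PhiGO Q _ g

theorem fieldAutStd_conj_PhiGO (σ : F ≃+* F) (g : ↥(GOQ)) :
    fieldAutStd Q hQA σ * PhiGO Q g * (fieldAutStd Q hQA σ)⁻¹ =
      PhiGO Q (sigmaGO Q (toQAut Q hQA σ) g) :=
  fieldAutPOm_conj_PhiGO Q _ g

include hQA in
theorem semisim_iff (g : GL ι F) (σ : F ≃+* F) :
    Cfsg.IsSemisimilarityPair Q g σ ↔ g ∈ GOQ := by
  constructor
  · rintro ⟨c, hc⟩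
    refine ⟨c, ?_⟩
    intro u
    obtain ⟨v, rfl⟩ := exists_sigma_eq σ u
    rw [hc, hQA σ v]
  · rintro ⟨c, hc⟩
    refine ⟨c, ?_⟩
    intro v
    rw [hc, hQA σ v]

theorem semilinear_iff_std (g : ↥(GOQ)) (σ : F ≃+* F)
    (β : Cfsg.POmega F Q ≃* Cfsg.POmega F Q) :
    Cfsg.IsInducedBySemilinearPOmega Q g.1 σ β ↔ β = PhiGO Q g * fieldAutStd Q hQA σ :=
  semilinear_iff Q ⟨g.1, sim_le_NO Q g.2⟩ (toQAut Q hQA σ) β

/-- the structure hypothesis for `Aut(PΩ(Q))` -/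
def StructO : Prop :=
  ∀ β : MulAut (Cfsg.POmega F Q), ∃ (g : ↥(GOQ)) (σ : F ≃+* F),
    β = PhiGO Q g * fieldAutStd Q hQA σ

/-- the set of products `PhiGO g * fieldAutStd σ` as a subgroup -/
noncomputable def gammaSub : Subgroup (MulAut (Cfsg.POmega F Q)) where
  carrier := {β | ∃ (g : ↥(GOQ)) (σ : F ≃+* F), β = PhiGO Q g * fieldAutStd Q hQA σ}
  mul_mem' := by
    rintro _ _ ⟨g, σ, rfl⟩ ⟨h, τ, rfl⟩
    refine ⟨g * sigmaGO Q (toQAut Q hQA σ) h, σ * τ, ?_⟩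
    rw [map_mul, map_mul, mul_assoc, ← mul_assoc (fieldAutStd Q hQA σ), fieldAutStd_mul_PhiGO]
    simp only [mul_assoc]
  one_mem' := ⟨1, 1, by rw [map_one, map_one, one_mul]⟩
  inv_mem' := by
    rintro _ ⟨g, σ, rfl⟩
    refine ⟨sigmaGO Q (toQAut Q hQA σ⁻¹) g⁻¹, σ⁻¹, ?_⟩
    rw [_root_.mul_inv_rev, ← map_inv, ← map_inv, fieldAutStd_mul_PhiGO]

theorem mem_gammaSub (β : MulAut (Cfsg.POmega F Q)) :
    β ∈ gammaSub Q hQA ↔ ∃ (g : ↥(GOQ)) (σ : F ≃+* F),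
      β = PhiGO Q g * fieldAutStd Q hQA σ := Iff.rfl

theorem gammaPOmega_eq_gammaSub : Cfsg.gammaPOmega F Q = gammaSub Q hQA := by
  have hset : {β : MulAut (Cfsg.POmega F Q) | ∃ (g : GL ι F) (σ : F ≃+* F),
      Cfsg.IsSemisimilarityPair Q g σ ∧ Cfsg.IsInducedBySemilinearPOmega Q g σ β} =
      ((gammaSub Q hQA : Subgroup (MulAut (Cfsg.POmega F Q))) :
        Set (MulAut (Cfsg.POmega F Q))) := by
    ext β
    constructor
    · rintro ⟨g, σ, hg, hβ⟩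
      have hg' := (semisim_iff Q hQA g σ).1 hg
      exact ⟨⟨g, hg'⟩, σ, (semilinear_iff_std Q hQA ⟨g, hg'⟩ σ β).1 hβ⟩
    · rintro ⟨g, σ, rfl⟩
      exact ⟨g.1, σ, (semisim_iff Q hQA g.1 σ).2 g.2, (semilinear_iff_std Q hQA g σ _).2 rfl⟩
  unfold Cfsg.gammaPOmega Cfsg.autSubgroupOf
  rw [hset, Subgroup.closure_eq]

theorem gamma_eq_top_iff : Cfsg.gammaPOmega F Q = ⊤ ↔ StructO Q hQA := by
  rw [gammaPOmega_eq_gammaSub Q hQA]
  constructor
  · intro h β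
    have : β ∈ gammaSub Q hQA := by rw [h]; exact Subgroup.mem_top β
    exact this
  · intro h
    rw [eq_top_iff]
    intro β _
    exact h β

include hQA in
theorem pgoAut_le_gamma : Cfsg.pgoAut F Q ≤ Cfsg.gammaPOmega F Q := by
  rw [gammaPOmega_eq_gammaSub Q hQA]
  intro β hβ
  obtain ⟨g, rfl⟩ := (mem_pgoAut_iff Q β).1 hβ
  exact ⟨g, 1, by rw [map_one, mul_one]⟩

/-- under the structure hypothesis the image of the conformal group is normal in `Aut` -/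
theorem range_normal (hS : StructO Q hQA) : ((PhiGO Q).range).Normal := by
  constructor
  rintro _ ⟨h, rfl⟩ β
  obtain ⟨g, σ, rfl⟩ := hS β
  refine ⟨g * sigmaGO Q (toQAut Q hQA σ) h * g⁻¹, ?_⟩
  rw [map_mul, map_mul, ← fieldAutStd_conj_PhiGO, map_inv, _root_.mul_inv_rev]
  simp only [mul_assoc]

theorem pgoAut_normal (hS : StructO Q hQA) : (Cfsg.pgoAut F Q).Normal := by
  rw [pgoAut_eq_range]
  exact range_normal Q hQA hS

end Std

/-! ### the standard forms -/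

theorem qaut_odd (m : ℕ) (σ : F ≃+* F) : σ ∈ QAut (Cfsg.quadFormOdd m F) := by
  intro v
  unfold Cfsg.quadFormOdd
  simp only [map_add, map_pow, map_sum, map_mul]

theorem qaut_plus (m : ℕ) (σ : F ≃+* F) : σ ∈ QAut (Cfsg.quadFormPlus m F) := by
  intro v
  unfold Cfsg.quadFormPlus
  simp only [map_sum, map_mul]

theorem qaut_minus (m : ℕ) (a b : F) (σ : F ≃+* F) (ha : σ a = a) (hb : σ b = b) :
    σ ∈ QAut (Cfsg.quadFormMinus m F a b) := by
  intro v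
  unfold Cfsg.quadFormMinus
  simp only [map_add, map_pow, map_sum, map_mul, ha, hb]

end Cfsg.Agent.Helper40.AutPOm
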