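import Mathlib
import Cfsg.Agent.Lib.Helper40.AutPOmBasic
import Cfsg.Agent.Lib.Helper5.OrthAut3

/-!
# Rigidity of field automorphisms of `PΩ(Q)`

If conjugation by an element of the normalizer of `O(Q)` induces on `PΩ(Q)` the same automorphism
as a field automorphism `σ`, then `σ = 1`.  Consequences: `fieldAutStd` is injective, orders are
preserved, and the image of the conformal group meets the field automorphisms trivially.
-/

set_option autoImplicit false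
set_option linter.unusedSectionVars false
set_option linter.unusedSimpArgs false
set_option linter.unusedVariables false

namespace Cfsg.Agent.Helper40.AutPOm

open Matrix QuadraticMap Cfsg.Agent.Helper5.OrthAut Cfsg.Agent.Helper13 Cfsg.Agent.S0794

variable {F : Type*} [Field F] {ι : Type} [Fintype ι] [DecidableEq ι]
  (Q : QuadraticForm F (ι → F))

theorem omat_mul (s t : ↥(Cfsg.Omega F ⇑Q)) : omat (⇑Q) (s * t) = omat (⇑Q) s * omat (⇑Q) t := rfl

/-- `σ` is compatible with the polar form -/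
theorem polar_sigma {σ : F ≃+* F} (hσ : σ ∈ QAut (⇑Q)) (a b : ι → F) :
    polar (⇑Q) (fun i => σ (a i)) (fun i => σ (b i)) = σ (polar (⇑Q) a b) := by
  unfold polar
  have h1 : (fun i => σ (a i)) + (fun i => σ (b i)) = fun i => σ ((a + b) i) := by
    funext i
    simp
  rw [h1, hσ, hσ, hσ, map_sub, map_sub]

/-- the nilpotent part of the Eichler transformations `E(u, c w)` -/
def eN (u w : ι → F) : Matrix ι ι F := eichM Q u w - 1

theorem eN_mulVec (u w : ι → F) (hw : Q w = 0) (x : ι → F) :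
    eN Q u w *ᵥ x = polar (⇑Q) u x • w - polar (⇑Q) w x • u := by
  unfold eN
  rw [Matrix.sub_mulVec, Matrix.one_mulVec, eichM_mulVec, hw, zero_mul, zero_smul, sub_zero]
  abel

theorem eichM_smul_eq (u w : ι → F) (hw : Q w = 0) (c : F) :
    eichM Q u (c • w) = 1 + c • eN Q u w := by
  apply mat_ext_mulVec
  intro x
  have hcw : Q (c • w) = 0 := by rw [QuadraticMap.map_smul, hw, smul_zero]
  rw [eichM_mulVec, hcw, zero_mul, zero_smul, sub_zero, Matrix.add_mulVec, Matrix.one_mulVec,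
    Matrix.smul_mulVec, eN_mulVec Q u w hw, polar_smul_left, smul_eq_mul, smul_sub, smul_smul,
    smul_smul, smul_smul]
  module

theorem eN_map {σ : F ≃+* F} (hσ : σ ∈ QAut (⇑Q)) (u w : ι → F) (hw : Q w = 0)
    (hσu : (fun i => σ (u i)) = u) (hσw : (fun i => σ (w i)) = w) :
    (eN Q u w).map σ = eN Q u w := by
  apply mat_ext_mulVec
  intro x
  obtain ⟨v, rfl⟩ := exists_sigma_eq σ x
  rw [map_mulVec_sigma, eN_mulVec Q u w hw, eN_mulVec Q u w hw]
  funext i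
  simp only [Pi.sub_apply, Pi.smul_apply, smul_eq_mul, map_sub, map_mul]
  rw [← polar_sigma Q hσ, ← polar_sigma Q hσ, hσu, hσw]
  have h1 : σ (u i) = u i := congrFun hσu i
  have h2 : σ (w i) = w i := congrFun hσw i
  rw [h1, h2]

theorem one_add_smul_map (σ : F ≃+* F) (c : F) (N : Matrix ι ι F) :
    (1 + c • N).map σ = 1 + σ c • N.map σ := by
  ext i j
  simp only [Matrix.map_apply, Matrix.add_apply, Matrix.smul_apply, smul_eq_mul, map_add, map_mul,
    Matrix.one_apply]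
  split_ifs <;> simp

/-- **Rigidity.** -/
theorem rigidity
    (hcent : ∀ Z : Matrix ι ι F, (∀ s : ↥(Cfsg.Omega F ⇑Q), Z * omat (⇑Q) s = omat (⇑Q) s * Z) →
      ∃ c : F, Z = c • (1 : Matrix ι ι F))
    (hEK : ∀ (u w : ι → F) (hu : Q u = 0) (huw : polar (⇑Q) u w = 0),
      eichO Q u w hu huw ∈ Cfsg.Omega F ⇑Q)
    (u w t : ι → F) (hu : Q u = 0) (hw : Q w = 0) (huw : polar (⇑Q) u w = 0)
    (hut : polar (⇑Q) u t = 1) (hwt : polar (⇑Q) w t = 0) (hw0 : w ≠ 0)
    (σ : ↥(QAut (⇑Q))) (hσu : (fun i => σ.1 (u i)) = u) (hσw : (fun i => σ.1 (w i)) = w)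
    (g : ↥(NO (⇑Q))) (h : Phi (⇑Q) g = fieldAutPOm (⇑Q) σ) : σ.1 = 1 := by
  set N := eN Q u w with hN
  have hNx : ∀ x, N *ᵥ x = polar (⇑Q) u x • w - polar (⇑Q) w x • u := eN_mulVec Q u w hw
  have hu0 : u ≠ 0 := by
    rintro rfl
    rw [polar_zero_left] at hut
    exact zero_ne_one hut
  have huu : polar (⇑Q) u u = 0 := by
    have := QuadraticMap.polar_self Q u
    rw [this, hu, smul_zero]
  have hwu : polar (⇑Q) w u = 0 := by rw [polar_comm]; exact huw
  have hww : polar (⇑Q) w w = 0 := by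
    have := QuadraticMap.polar_self Q w
    rw [this, hw, smul_zero]
  have hNu : N *ᵥ u = 0 := by rw [hNx, huu, hwu, zero_smul, zero_smul, sub_zero]
  have hNN : ∀ x, N *ᵥ (N *ᵥ x) = 0 := by
    intro x
    rw [hNx (N *ᵥ x), hNx x, polar_sub_right, polar_sub_right, polar_smul_right, polar_smul_right,
      polar_smul_right, polar_smul_right, huw, huu, hww, hwu]
    simp
  have hNt : N *ᵥ t = w := by rw [hNx, hut, hwt, one_smul, zero_smul, sub_zero]
  have hN0 : N ≠ 0 := by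
    intro h0
    rw [h0, Matrix.zero_mulVec] at hNt
    exact hw0 hNt.symm
  have hNσ : N.map σ.1 = N := eN_map Q σ.2 u w hw hσu hσw
  set G : Matrix ι ι F := ((g : GL ι F) : Matrix ι ι F) with hG
  set G' : Matrix ι ι F := (((g : GL ι F)⁻¹ : GL ι F) : Matrix ι ι F) with hG'
  have hGG' : G * G' = 1 := by rw [hG, hG', ← Units.val_mul, mul_inv_cancel, Units.val_one]
  have hG'G : G' * G = 1 := by rw [hG, hG', ← Units.val_mul, inv_mul_cancel, Units.val_one]
  -- the key relation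
  have key : ∀ c : F, ∃ l : F, (1 + σ.1 c • N) = l • (G * (1 + c • N) * G') := by
    intro c
    have hcw : polar (⇑Q) u (c • w) = 0 := by rw [polar_smul_right, huw, smul_zero]
    let s : ↥(Cfsg.Omega F ⇑Q) := ⟨eichO Q u (c • w) hu hcw, hEK u (c • w) hu hcw⟩
    have hs : omat (⇑Q) s = 1 + c • N := eichM_smul_eq Q u w hw c
    have h1 : Phi (⇑Q) g (QuotientGroup.mk s) = fieldAutPOm (⇑Q) σ (QuotientGroup.mk s) := by
      rw [h]
    rw [Phi_mk, fieldAutPOm_mk] at h1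
    have h2 : (conjOm (⇑Q) g s)⁻¹ * sigOm (⇑Q) σ s ∈ Subgroup.center ↥(Cfsg.Omega F ⇑Q) :=
      QuotientGroup.eq.1 h1
    set z := (conjOm (⇑Q) g s)⁻¹ * sigOm (⇑Q) σ s with hz
    obtain ⟨l, hl⟩ := hcent (omat (⇑Q) z) (by
      intro s'
      rw [← omat_mul, ← omat_mul, Subgroup.mem_center_iff.1 h2 s'])
    have h3 : sigOm (⇑Q) σ s = conjOm (⇑Q) g s * z := by rw [hz]; group
    have h4 := congrArg (omat (⇑Q)) h3
    rw [omat_mul, hl, sigOm_mat, hs, one_add_smul_map, hNσ] at h4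
    have h5 : omat (⇑Q) (conjOm (⇑Q) g s) = G * (1 + c • N) * G' := by
      rw [← hs]
      show (((conjOm (⇑Q) g s : ↥(Cfsg.Omega F ⇑Q)) : ↥(Cfsg.isometryGroup F ⇑Q)) : GL ι F).1 = _
      rw [conjOm_apply, Units.val_mul, Units.val_mul]
      rfl
    rw [h5, Matrix.mul_smul, Matrix.mul_one] at h4
    exact ⟨l, h4⟩
  -- the scalar is one
  have hl1 : ∀ c : F, (1 + σ.1 c • N) = G * (1 + c • N) * G' := by
    intro c
    obtain ⟨l, hl⟩ := key c
    have hy0 : G *ᵥ u ≠ 0 := by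
      intro h0
      have : G' *ᵥ (G *ᵥ u) = G' *ᵥ 0 := by rw [h0]
      rw [Matrix.mulVec_mulVec, hG'G, Matrix.one_mulVec, Matrix.mulVec_zero] at this
      exact hu0 this
    have e1 : (1 + σ.1 c • N) *ᵥ (G *ᵥ u) = (l • (G * (1 + c • N) * G')) *ᵥ (G *ᵥ u) := by
      rw [hl]
    have e2 : (G * (1 + c • N) * G') *ᵥ (G *ᵥ u) = G *ᵥ u := by
      rw [Matrix.mulVec_mulVec, Matrix.mul_assoc, Matrix.mul_assoc, hG'G, Matrix.mul_one,
        ← Matrix.mulVec_mulVec, Matrix.add_mulVec, Matrix.one_mulVec, Matrix.smul_mulVec, hNu,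
        smul_zero, add_zero]
    rw [Matrix.smul_mulVec, e2, Matrix.add_mulVec, Matrix.one_mulVec, Matrix.smul_mulVec] at e1
    -- e1 : G u + σ c • N (G u) = l • G u
    have e3 : N *ᵥ (G *ᵥ u + σ.1 c • N *ᵥ (G *ᵥ u)) = N *ᵥ (l • G *ᵥ u) := by
      rw [e1]
    rw [Matrix.mulVec_add, Matrix.mulVec_smul, hNN, smul_zero, add_zero, Matrix.mulVec_smul] at e3
    -- e3 : N (G u) = l • N (G u)
    have hl' : l = 1 := by
      by_contra hne
      have h6 : (1 - l) • (N *ᵥ (G *ᵥ u)) = 0 := by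
        rw [sub_smul, one_smul, ← e3, sub_self]
      have h7 : N *ᵥ (G *ᵥ u) = 0 :=
        (smul_eq_zero.mp h6).resolve_left (sub_ne_zero.mpr (Ne.symm hne))
      rw [h7, smul_zero, add_zero] at e1
      have h8 : (1 - l) • (G *ᵥ u) = 0 := by
        rw [sub_smul, one_smul, ← e1, sub_self]
      exact hy0 ((smul_eq_zero.mp h8).resolve_left (sub_ne_zero.mpr (Ne.symm hne)))
    rw [hl', one_smul] at hl
    exact hl
  -- conclusion
  have hA : ∀ c : F, σ.1 c • N = c • (G * N * G') := by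
    intro c
    have := hl1 c
    rw [Matrix.mul_add, Matrix.add_mul, Matrix.mul_one, hGG', Matrix.mul_smul,
      Matrix.smul_mul] at this
    exact add_left_cancel this
  have hA1 : N = G * N * G' := by
    have := hA 1
    rwa [map_one, one_smul, one_smul] at this
  apply RingEquiv.ext
  intro c
  have h9 := hA c
  rw [← hA1] at h9
  have h10 : (σ.1 c - c) • N = 0 := by rw [sub_smul, h9, sub_self]
  exact sub_eq_zero.mp ((smul_eq_zero.mp h10).resolve_right hN0)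

/-- the data needed for rigidity -/
structure RigData (Q : QuadraticForm F (ι → F)) : Prop where
  hcent : ∀ Z : Matrix ι ι F, (∀ s : ↥(Cfsg.Omega F ⇑Q), Z * omat (⇑Q) s = omat (⇑Q) s * Z) →
      ∃ c : F, Z = c • (1 : Matrix ι ι F)
  hEK : ∀ (u w : ι → F) (hu : Q u = 0) (huw : polar (⇑Q) u w = 0),
      eichO Q u w hu huw ∈ Cfsg.Omega F ⇑Q
  ex : ∃ u w t : ι → F, Q u = 0 ∧ Q w = 0 ∧ polar (⇑Q) u w = 0 ∧ polar (⇑Q) u t = 1 ∧
      polar (⇑Q) w t = 0 ∧ w ≠ 0 ∧ (∀ σ : F ≃+* F, (fun i => σ (u i)) = u) ∧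
      (∀ σ : F ≃+* F, (fun i => σ (w i)) = w)

theorem RigData.rigid {Q : QuadraticForm F (ι → F)} (D : RigData Q) (σ : ↥(QAut (⇑Q)))
    (g : ↥(NO (⇑Q))) (h : Phi (⇑Q) g = fieldAutPOm (⇑Q) σ) : σ = 1 := by
  obtain ⟨u, w, t, hu, hw, huw, hut, hwt, hw0, hσu, hσw⟩ := D.ex
  apply Subtype.ext
  exact rigidity Q D.hcent D.hEK u w t hu hw huw hut hwt hw0 σ (hσu σ.1) (hσw σ.1) g h

section Std

variable {Q} (hQA : ∀ σ : F ≃+* F, σ ∈ QAut (⇑Q)) (D : RigData Q)

include D in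
theorem PhiGO_eq_fieldAutStd {g : ↥(Cfsg.Geo.quadSimilarityGroup (F := F) ⇑Q)} {σ : F ≃+* F}
    (h : PhiGO (⇑Q) g = fieldAutStd (⇑Q) hQA σ) : σ = 1 := by
  have := D.rigid (toQAut (⇑Q) hQA σ) ⟨g.1, sim_le_NO (⇑Q) g.2⟩ h
  exact congrArg Subtype.val this

include D in
theorem fieldAutStd_injective : Function.Injective (fieldAutStd (⇑Q) hQA) := by
  rw [injective_iff_map_eq_one]
  intro σ hσ
  apply PhiGO_eq_fieldAutStd hQA D (g := 1)
  rw [map_one, hσ]

include D in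
theorem orderOf_fieldAutStd (σ : F ≃+* F) :
    orderOf (fieldAutStd (⇑Q) hQA σ) = orderOf σ :=
  orderOf_injective _ (fieldAutStd_injective hQA D) σ

include D in
theorem mul_eq_mul {g g' : ↥(Cfsg.Geo.quadSimilarityGroup (F := F) ⇑Q)} {σ σ' : F ≃+* F}
    (h : PhiGO (⇑Q) g * fieldAutStd (⇑Q) hQA σ = PhiGO (⇑Q) g' * fieldAutStd (⇑Q) hQA σ') :
    σ = σ' ∧ PhiGO (⇑Q) g = PhiGO (⇑Q) g' := by
  have h1 : PhiGO (⇑Q) (g'⁻¹ * g) = fieldAutStd (⇑Q) hQA (σ' * σ⁻¹) := by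
    rw [map_mul, map_mul, map_inv, map_inv, inv_mul_eq_iff_eq_mul, ← mul_assoc, ← h, mul_assoc,
      mul_inv_cancel, mul_one]
  have h2 := PhiGO_eq_fieldAutStd hQA D h1
  have h3 : σ = σ' := (mul_inv_eq_one.mp h2).symm
  refine ⟨h3, ?_⟩
  rw [h3] at h
  exact mul_right_cancel h

include D in
theorem range_inf_range :
    (PhiGO (⇑Q)).range ⊓ (fieldAutStd (⇑Q) hQA).range = ⊥ := by
  rw [eq_bot_iff]
  rintro β ⟨⟨g, rfl⟩, ⟨σ, hσ⟩⟩
  have := PhiGO_eq_fieldAutStd hQA D hσ.symm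
  rw [Subgroup.mem_bot, ← hσ, this, map_one]

include D in
/-- the elements of `gammaSub` are uniquely `a * fieldAutStd σ` with `a` in the image of `GO` -/
theorem card_gammaSub [Finite F] :
    Nat.card ↥(gammaSub (⇑Q) hQA) = Nat.card ↥(PhiGO (⇑Q)).range * Nat.card (F ≃+* F) := by
  rw [← Nat.card_prod]
  symm
  apply Nat.card_congr
  refine Equiv.ofBijective
    (fun p : ↥(PhiGO (⇑Q)).range × (F ≃+* F) =>
      (⟨p.1.1 * fieldAutStd (⇑Q) hQA p.2, by
        obtain ⟨g, hg⟩ := p.1.2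
        exact ⟨g, p.2, by rw [hg]⟩⟩ : ↥(gammaSub (⇑Q) hQA))) ⟨?_, ?_⟩
  · rintro ⟨⟨a, g, rfl⟩, σ⟩ ⟨⟨a', g', rfl⟩, σ'⟩ h
    have h1 := congrArg Subtype.val h
    simp only at h1
    obtain ⟨e1, e2⟩ := mul_eq_mul hQA D h1
    apply Prod.ext
    · exact Subtype.ext e2
    · exact e1
  · rintro ⟨β, g, σ, rfl⟩
    exact ⟨⟨⟨PhiGO (⇑Q) g, g, rfl⟩, σ⟩, rfl⟩

end Std

/-! ### the kernel of `PhiGO` -/

theorem PhiGO_eq_one_iff (hperf : commutator ↥(Cfsg.Omega F ⇑Q) = ⊤)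
    (hcent : ∀ Z : Matrix ι ι F, (∀ s : ↥(Cfsg.Omega F ⇑Q), Z * omat (⇑Q) s = omat (⇑Q) s * Z) →
      ∃ c : F, Z = c • (1 : Matrix ι ι F))
    (g : ↥(Cfsg.Geo.quadSimilarityGroup (F := F) ⇑Q)) :
    PhiGO (⇑Q) g = 1 ↔ g.1 ∈ Cfsg.Geo.scalars ι F := by
  have h := ker_Phi (⇑Q) hperf hcent
  have h1 : PhiGO (⇑Q) g = 1 ↔ (⟨g.1, sim_le_NO (⇑Q) g.2⟩ : ↥(NO (⇑Q))) ∈ (Phi (⇑Q)).ker := by
    rw [MonoidHom.mem_ker]
    rfl
  rw [h1, h, Subgroup.mem_subgroupOf]

/-! ### the standard odd-dimensional form -/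

section Odd

open Cfsg.Agent.Helper43

theorem rigData_odd [Fintype F] (h2 : (2 : F) ≠ 0) {m : ℕ} (hm : 3 ≤ m) :
    RigData (stdOdd F m) := by
  have hfam := stdOdd_isHypFamily F m
  have hnd := stdOdd_nondegenerate F m h2
  have hcard : Fintype.card (Unit ⊕ (Fin m ⊕ Fin m)) = 2 * m + 1 := by
    simp; ring
  have hΩ := omega_eq_EK (stdOdd F m) hnd _ _ hfam hm (by rw [hcard]; omega)
  refine ⟨hcent_of_hyp (stdOdd F m) hfam hm (Cfsg.Agent.Lead.POmegaCard.hspan_odd m), ?_, ?_⟩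
  · intro u w hu huw
    rw [hΩ]
    exact eichO_mem_EK _ u w hu huw
  · have i0 : Fin m := ⟨0, by omega⟩
    have i1 : Fin m := ⟨1, by omega⟩
    refine ⟨Pi.single (Sum.inr (Sum.inl ⟨0, by omega⟩)) 1,
      Pi.single (Sum.inr (Sum.inl ⟨1, by omega⟩)) 1,
      Pi.single (Sum.inr (Sum.inr ⟨0, by omega⟩)) 1, hfam.qe _, hfam.qe _, hfam.ee _ _, ?_, ?_,
      ?_, ?_, ?_⟩
    · rw [hfam.ef, if_pos rfl]
    · rw [hfam.ef, if_neg]
      intro h
      have := congrArg Fin.val h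
      simp at this
    · intro h
      have := congrFun h (Sum.inr (Sum.inl ⟨1, by omega⟩))
      simp at this
    · intro σ
      funext i
      by_cases hi : i = Sum.inr (Sum.inl ⟨0, by omega⟩)
      · rw [hi, Pi.single_eq_same, map_one]
      · rw [Pi.single_eq_of_ne hi, map_zero]
    · intro σ
      funext i
      by_cases hi : i = Sum.inr (Sum.inl ⟨1, by omega⟩)
      · rw [hi, Pi.single_eq_same, map_one]
      · rw [Pi.single_eq_of_ne hi, map_zero]

end Odd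

/-! ### the standard plus-type form -/

section Plus

open Cfsg.Agent.Helper43

theorem rigData_plus [Fintype F] {m : ℕ} (hm : 3 ≤ m) :
    RigData (stdPlus F m) := by
  have hfam := stdPlus_isHypFamily F m
  have hnd := stdPlus_nondegenerate F m
  have hcard : Fintype.card (Fin m ⊕ Fin m) = 2 * m := by
    simp; ring
  have hΩ := omega_eq_EK (stdPlus F m) hnd _ _ hfam hm (by rw [hcard]; omega)
  refine ⟨hcent_of_hyp (stdPlus F m) hfam hm (Cfsg.Agent.Lead.POmegaCard.hspan_plus m), ?_, ?_⟩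
  · intro u w hu huw
    rw [hΩ]
    exact eichO_mem_EK _ u w hu huw
  · refine ⟨Pi.single (Sum.inl ⟨0, by omega⟩) 1,
      Pi.single (Sum.inl ⟨1, by omega⟩) 1,
      Pi.single (Sum.inr ⟨0, by omega⟩) 1, hfam.qe _, hfam.qe _, hfam.ee _ _, ?_, ?_,
      ?_, ?_, ?_⟩
    · rw [hfam.ef, if_pos rfl]
    · rw [hfam.ef, if_neg]
      intro h
      have := congrArg Fin.val h
      simp at this
    · intro h
      have := congrFun h (Sum.inl ⟨1, by omega⟩)
      simp at this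
    · intro σ
      funext i
      by_cases hi : i = Sum.inl ⟨0, by omega⟩
      · rw [hi, Pi.single_eq_same, map_one]
      · rw [Pi.single_eq_of_ne hi, map_zero]
    · intro σ
      funext i
      by_cases hi : i = Sum.inl ⟨1, by omega⟩
      · rw [hi, Pi.single_eq_same, map_one]
      · rw [Pi.single_eq_of_ne hi, map_zero]

end Plus

end Cfsg.Agent.Helper40.AutPOm
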