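import Mathlib

/-!
# Hilbert 90 for `GL_n` over a cyclic extension, in elementary form

`σ : F ≃+* F` of order `r`; `g ∈ GL_n(F)` with `g σ(g) ⋯ σ^{r-1}(g) = 1`.  Then `g = h σ(h)⁻¹`
for some `h ∈ GL_n(F)` (Galois descent via Dedekind's independence of characters).
-/

set_option autoImplicit false
set_option linter.unusedSectionVars false
set_option linter.unusedSimpArgs false
set_option linter.unusedVariables false

namespace Cfsg.Agent.Helper40.H90

open Matrix

variable {F : Type*} [Field F] {n : ℕ}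

local notation "Mn" => Matrix (Fin n) (Fin n) F
local notation "V" => Fin n → F

/-- entrywise application of `σ` to a vector -/
def sv (σ : F ≃+* F) (v : V) : V := fun i => σ (v i)

/-- entrywise application of `σ` to a matrix -/
def sm (σ : F ≃+* F) (A : Mn) : Mn := A.map σ

theorem sm_mul (σ : F ≃+* F) (A B : Mn) : sm σ (A * B) = sm σ A * sm σ B :=
  map_mul (σ : F →+* F).mapMatrix A B

theorem sm_one (σ : F ≃+* F) : sm σ (1 : Mn) = 1 :=
  map_one (σ : F →+* F).mapMatrix

theorem sv_mulVec (σ : F ≃+* F) (A : Mn) (v : V) : sv σ (A *ᵥ v) = sm σ A *ᵥ sv σ v := by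
  funext i
  show σ (∑ j, A i j * v j) = ∑ j, σ (A i j) * σ (v j)
  rw [map_sum]
  exact Finset.sum_congr rfl (fun j _ => map_mul σ _ _)

theorem sv_add (σ : F ≃+* F) (u v : V) : sv σ (u + v) = sv σ u + sv σ v := by
  funext i
  exact map_add σ _ _

theorem sv_smul (σ : F ≃+* F) (a : F) (v : V) : sv σ (a • v) = σ a • sv σ v := by
  funext i
  exact map_mul σ _ _

theorem sv_mul (σ τ : F ≃+* F) (v : V) : sv (σ * τ) v = sv σ (sv τ v) := rfl

theorem sv_one (v : V) : sv (1 : F ≃+* F) v = v := rfl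

theorem sm_mul' (σ τ : F ≃+* F) (A : Mn) : sm (σ * τ) A = sm σ (sm τ A) := rfl

/-- the partial norms `g σ(g) ⋯ σ^{k-1}(g)` -/
def nrm (σ : F ≃+* F) (g : Mn) : ℕ → Mn
  | 0 => 1
  | k + 1 => g * sm σ (nrm σ g k)

/-- the semilinear map `v ↦ g σ(v)` -/
def T (σ : F ≃+* F) (g : Mn) (v : V) : V := g *ᵥ sv σ v

theorem T_add (σ : F ≃+* F) (g : Mn) (u v : V) : T σ g (u + v) = T σ g u + T σ g v := by
  unfold T
  rw [sv_add, Matrix.mulVec_add]

theorem T_smul (σ : F ≃+* F) (g : Mn) (a : F) (v : V) : T σ g (a • v) = σ a • T σ g v := by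
  unfold T
  rw [sv_smul, Matrix.mulVec_smul]

theorem T_zero (σ : F ≃+* F) (g : Mn) : T σ g 0 = 0 := by
  unfold T
  have : sv σ (0 : V) = 0 := by funext i; exact map_zero σ
  rw [this, Matrix.mulVec_zero]

theorem T_sum (σ : F ≃+* F) (g : Mn) {ι : Type*} (s : Finset ι) (f : ι → V) :
    T σ g (∑ i ∈ s, f i) = ∑ i ∈ s, T σ g (f i) := by
  classical
  induction s using Finset.induction_on with
  | empty => simp [T_zero]
  | insert a s ha ih => rw [Finset.sum_insert ha, Finset.sum_insert ha, T_add, ih]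

theorem T_iterate (σ : F ≃+* F) (g : Mn) (k : ℕ) (v : V) :
    (T σ g)^[k] v = nrm σ g k *ᵥ sv (σ ^ k) v := by
  induction k generalizing v with
  | zero => simp [nrm, sv_one]
  | succ k ih =>
    rw [Function.iterate_succ_apply', ih]
    show g *ᵥ sv σ (nrm σ g k *ᵥ sv (σ ^ k) v) = (g * sm σ (nrm σ g k)) *ᵥ sv (σ ^ (k + 1)) v
    rw [sv_mulVec, ← Matrix.mulVec_mulVec, pow_succ', sv_mul]

theorem T_iterate_smul (σ : F ≃+* F) (g : Mn) (k : ℕ) (a : F) (v : V) :
    (T σ g)^[k] (a • v) = (σ ^ k) a • (T σ g)^[k] v := by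
  induction k with
  | zero => simp
  | succ k ih =>
    rw [Function.iterate_succ_apply', ih, T_smul, Function.iterate_succ_apply', pow_succ']
    rfl

/-- Galois descent: the fixed vectors of `T` span `V`. -/
theorem span_fixed_eq_top (σ : F ≃+* F) (g : Mn) {r : ℕ} (hr : 0 < r) (hσ : orderOf σ = r)
    (hN : nrm σ g r = 1) :
    Submodule.span F {u : V | T σ g u = u} = ⊤ := by
  have hTr : ∀ v : V, (T σ g)^[r] v = v := by
    intro v
    rw [T_iterate, hN, Matrix.one_mulVec, ← hσ, pow_orderOf_eq_one, sv_one]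
  -- the averaged vectors
  have hfix : ∀ (a : F) (v : V), T σ g (∑ i ∈ Finset.range r, (T σ g)^[i] (a • v)) =
      ∑ i ∈ Finset.range r, (T σ g)^[i] (a • v) := by
    intro a v
    rw [T_sum]
    have h1 : ∑ i ∈ Finset.range r, T σ g ((T σ g)^[i] (a • v)) =
        ∑ i ∈ Finset.range r, (T σ g)^[i + 1] (a • v) :=
      Finset.sum_congr rfl (fun i _ => (Function.iterate_succ_apply' _ _ _).symm)
    rw [h1]
    have h2 := Finset.sum_range_succ' (fun i => (T σ g)^[i] (a • v)) r
    have h3 := Finset.sum_range_succ (fun i => (T σ g)^[i] (a • v)) r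
    rw [h2] at h3
    rw [hTr] at h3
    simp only [Function.iterate_zero, id_eq] at h3
    exact add_right_cancel h3
  by_contra hne
  have hlt : Submodule.span F {u : V | T σ g u = u} < ⊤ := lt_top_iff_ne_top.2 hne
  obtain ⟨ℓ, hℓ0, hℓ⟩ := Submodule.exists_le_ker_of_lt_top _ hlt
  apply hℓ0
  apply LinearMap.ext
  intro v
  have hzero : ∀ a : F, ∑ i ∈ Finset.range r, (σ ^ i) a * ℓ ((T σ g)^[i] v) = 0 := by
    intro a
    have h1 : ∑ i ∈ Finset.range r, (T σ g)^[i] (a • v) ∈
        Submodule.span F {u : V | T σ g u = u} := Submodule.subset_span (hfix a v)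
    have h2 := hℓ h1
    rw [LinearMap.mem_ker, map_sum] at h2
    rw [← h2]
    apply Finset.sum_congr rfl
    intro i _
    rw [T_iterate_smul, map_smul, smul_eq_mul]
  -- Dedekind
  have hli := linearIndependent_monoidHom F F
  have hinj : Function.Injective (fun i : Fin r => (((σ ^ (i : ℕ) : F ≃+* F) : F →+* F) : F →* F)) := by
    intro i j hij
    have h1 : (σ ^ (i : ℕ) : F ≃+* F) = σ ^ (j : ℕ) := by
      ext x
      exact DFunLike.congr_fun hij x
    have h2 := (pow_inj_mod (x := σ)).1 h1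
    rw [hσ, Nat.mod_eq_of_lt i.2, Nat.mod_eq_of_lt j.2] at h2
    exact Fin.ext h2
  have hli2 := hli.comp _ hinj
  rw [Fintype.linearIndependent_iff] at hli2
  have h3 := hli2 (fun i : Fin r => ℓ ((T σ g)^[(i : ℕ)] v)) (by
    funext a
    have h4 := hzero a
    rw [← Fin.sum_univ_eq_sum_range (fun i => (σ ^ i) a * ℓ ((T σ g)^[i] v)) r] at h4
    rw [Finset.sum_apply, Pi.zero_apply, ← h4]
    apply Finset.sum_congr rfl
    intro i _
    rw [Pi.smul_apply, smul_eq_mul, mul_comm]
    rfl)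
  have h5 := h3 ⟨0, hr⟩
  simpa using h5

/-- Hilbert 90 for `GL_n`: matrix form -/
theorem hilbert90_matrix (σ : F ≃+* F) (g : Mn) {r : ℕ} (hr : 0 < r) (hσ : orderOf σ = r)
    (hN : nrm σ g r = 1) :
    ∃ h h' : Mn, h * h' = 1 ∧ h' * h = 1 ∧ g * sm σ h = h := by
  have hspan := span_fixed_eq_top σ g hr hσ hN
  obtain ⟨b, hbS, hbspan, hbli⟩ := exists_linearIndependent F {u : V | T σ g u = u}
  rw [hspan] at hbspan
  let B : Module.Basis b F V := Module.Basis.mk hbli (by
    rw [Subtype.range_coe_subtype, Set.ofPred_mem_eq, hbspan])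
  have hfin : Finite b := (Module.Finite.finite_basis B)
  have hcard : Nat.card b = n := by
    have h1 := Module.finrank_eq_nat_card_basis B
    rw [Module.finrank_fin_fun] at h1
    exact h1.symm
  let e : b ≃ Fin n := Finite.equivFinOfCardEq hcard
  let B' : Module.Basis (Fin n) F V := B.reindex e
  have hB'fix : ∀ j, T σ g (B' j) = B' j := by
    intro j
    have h1 : B' j = ((e.symm j : b) : V) := by
      show (B.reindex e) j = _
      rw [Module.Basis.reindex_apply, Module.Basis.mk_apply]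
    rw [h1]
    exact hbS (e.symm j).2
  let E := Pi.basisFun F (Fin n)
  refine ⟨E.toMatrix B', B'.toMatrix E, Module.Basis.toMatrix_mul_toMatrix_flip E B',
    Module.Basis.toMatrix_mul_toMatrix_flip B' E, ?_⟩
  ext i j
  have h2 := congrFun (hB'fix j) i
  have h3 : ∀ i j, E.toMatrix B' i j = B' j i := by
    intro i j
    rw [Module.Basis.toMatrix_apply]
    rfl
  rw [h3, ← h2]
  show ∑ k, g i k * σ (E.toMatrix B' k j) = ∑ k, g i k * σ (B' j k)
  apply Finset.sum_congr rfl
  intro k _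
  rw [h3]

end Cfsg.Agent.Helper40.H90
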