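import Mathlib
import Cfsg.Prelude.Def_LieTypeDatum
import Cfsg.Agent.Lib.Helper13.PSLAut
import Cfsg.Agent.Lib.Helper13.GraphAutPSL

/-!
# Field automorphisms of `PSL_n(F)`

`fieldAutPSL σ`: the standard field automorphism of `PSL_n(F)` attached to `σ : F ≃+* F`, as a
homomorphism `RingAut F →* MulAut (PSL_n F)`, with the rules for commuting it past `PhiL g` and the
inverse-transpose automorphism.
-/

set_option autoImplicit false
set_option linter.unusedSectionVars false
set_option linter.unusedSimpArgs false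
set_option linter.unusedVariables false

namespace Cfsg.Agent.Helper40.OutPSL

open Matrix Cfsg.Agent.Helper13.PSLAut Cfsg.Agent.Helper13.GraphAutPSL

variable {F : Type*} [Field F] {n : ℕ}

local notation "SLn" => Matrix.SpecialLinearGroup (Fin n) F
local notation "PSLn" => Matrix.ProjectiveSpecialLinearGroup (Fin n) F
local notation "Mn" => Matrix (Fin n) (Fin n) F

/-- entrywise application of a field automorphism, on `SL_n` -/
def mapSL (σ : F ≃+* F) : SLn ≃* SLn where
  toFun := Matrix.SpecialLinearGroup.map (σ : F →+* F)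
  invFun := Matrix.SpecialLinearGroup.map (σ.symm : F →+* F)
  left_inv s := by
    apply Subtype.ext
    ext i j
    show σ.symm (σ ((s : Mn) i j)) = (s : Mn) i j
    exact σ.symm_apply_apply _
  right_inv s := by
    apply Subtype.ext
    ext i j
    show σ (σ.symm ((s : Mn) i j)) = (s : Mn) i j
    exact σ.apply_symm_apply _
  map_mul' := map_mul _

theorem mapSL_coe (σ : F ≃+* F) (s : SLn) :
    ((mapSL σ s : SLn) : Mn) = (s : Mn).map σ := rfl

theorem mapSL_apply (σ : F ≃+* F) (s : SLn) (i j : Fin n) :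
    ((mapSL σ s : SLn) : Mn) i j = σ ((s : Mn) i j) := rfl

/-- the standard field automorphism of `PSL_n(F)` attached to `σ` -/
noncomputable def fieldAutPSL (σ : F ≃+* F) : MulAut PSLn :=
  QuotientGroup.congr (Subgroup.center SLn) (Subgroup.center SLn) (mapSL σ)
    (Subgroup.characteristic_iff_map_eq.mp Subgroup.centerCharacteristic (mapSL σ))

theorem fieldAutPSL_mk (σ : F ≃+* F) (s : SLn) :
    fieldAutPSL σ (QuotientGroup.mk s : PSLn) = QuotientGroup.mk (mapSL σ s) := rfl

theorem isStd_fieldAutPSL (σ : F ≃+* F) :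
    Cfsg.IsStdFieldAutPSL σ (fieldAutPSL (n := n) σ) := by
  intro s s' hs'
  rw [fieldAutPSL_mk]
  congr 1
  apply Subtype.ext
  rw [hs', mapSL_coe]

theorem eq_fieldAutPSL {σ : F ≃+* F} {φ : MulAut PSLn} (h : Cfsg.IsStdFieldAutPSL σ φ) :
    φ = fieldAutPSL σ := by
  apply MulEquiv.ext
  intro x
  induction x using QuotientGroup.induction_on with
  | H s =>
    rw [fieldAutPSL_mk]
    exact h s (mapSL σ s) (mapSL_coe σ s)

theorem mapSL_mul (σ τ : F ≃+* F) (s : SLn) : mapSL (σ * τ) s = mapSL σ (mapSL τ s) := by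
  apply Subtype.ext
  ext i j
  rw [mapSL_apply, mapSL_apply, mapSL_apply]
  rfl

theorem mapSL_one (s : SLn) : mapSL (1 : F ≃+* F) s = s := by
  apply Subtype.ext
  ext i j
  rw [mapSL_apply]
  rfl

/-- `σ ↦ fieldAutPSL σ` as a homomorphism -/
noncomputable def fieldAutHom : (F ≃+* F) →* MulAut PSLn where
  toFun σ := fieldAutPSL σ
  map_one' := by
    apply MulEquiv.ext
    intro x
    induction x using QuotientGroup.induction_on with
    | H s => rw [fieldAutPSL_mk, mapSL_one]; rfl
  map_mul' σ τ := by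
    apply MulEquiv.ext
    intro x
    induction x using QuotientGroup.induction_on with
    | H s => rw [fieldAutPSL_mk, mapSL_mul, MulAut.mul_apply, fieldAutPSL_mk, fieldAutPSL_mk]

theorem fieldAutHom_apply (σ : F ≃+* F) : fieldAutHom (n := n) σ = fieldAutPSL σ := rfl

/-- entrywise application of a field automorphism, on `GL_n` -/
def mapGL (σ : F ≃+* F) : GL (Fin n) F →* GL (Fin n) F :=
  Matrix.GeneralLinearGroup.map (σ : F →+* F)

theorem mapGL_coe (σ : F ≃+* F) (g : GL (Fin n) F) :
    ((mapGL σ g : GL (Fin n) F) : Mn) = (g : Mn).map σ := rfl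

theorem mapGL_inv_coe (σ : F ≃+* F) (g : GL (Fin n) F) :
    (((mapGL σ g)⁻¹ : GL (Fin n) F) : Mn) = ((g⁻¹ : GL (Fin n) F) : Mn).map σ := by
  rw [← map_inv]
  rfl

theorem mapSL_conjSL (σ : F ≃+* F) (g : GL (Fin n) F) (s : SLn) :
    mapSL σ (conjSL g s) = conjSL (mapGL σ g) (mapSL σ s) := by
  apply Subtype.ext
  rw [mapSL_coe, conjSL_coe, conjSL_coe, mapGL_coe, mapGL_inv_coe, mapSL_coe]
  have h1 : ∀ A B : Mn, (A * B).map σ = A.map σ * B.map σ := fun A B =>
    map_mul (σ : F →+* F).mapMatrix A B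
  rw [h1, h1]

theorem fieldAutPSL_mul_PhiL (σ : F ≃+* F) (g : GL (Fin n) F) :
    fieldAutPSL σ * PhiL g = PhiL (mapGL σ g) * fieldAutPSL σ := by
  apply MulEquiv.ext
  intro x
  induction x using QuotientGroup.induction_on with
  | H s =>
    rw [MulAut.mul_apply, MulAut.mul_apply, PhiL_mk, fieldAutPSL_mk, fieldAutPSL_mk, PhiL_mk,
      mapSL_conjSL]

theorem mapSL_sInvT (σ : F ≃+* F) (s : SLn) : mapSL σ (sInvT s) = sInvT (mapSL σ s) := by
  apply Subtype.ext
  rw [mapSL_coe, sInvT_coe, sInvT_coe, ← map_inv, mapSL_coe]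
  rfl

theorem fieldAutPSL_mul_iota (σ : F ≃+* F) :
    fieldAutPSL (n := n) σ * iotaAut = iotaAut * fieldAutPSL σ := by
  apply MulEquiv.ext
  intro x
  induction x using QuotientGroup.induction_on with
  | H s =>
    rw [MulAut.mul_apply, MulAut.mul_apply, iotaAut_mk, fieldAutPSL_mk, fieldAutPSL_mk, iotaAut_mk,
      mapSL_sInvT]

end Cfsg.Agent.Helper40.OutPSL
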