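import Mathlib
import Cfsg.Agent.Lib.Helper40.OutPSLField

/-!
# Uniqueness of the decomposition `PhiL g * fieldAutPSL σ * iotaAut ^ e`

For `n ≥ 3`: `fieldAutPSL σ * iotaAut` is never of the form `PhiL g`, and `fieldAutPSL σ = PhiL g`
forces `σ = 1`.
-/

set_option autoImplicit false
set_option linter.unusedSectionVars false
set_option linter.unusedSimpArgs false
set_option linter.unusedVariables false

namespace Cfsg.Agent.Helper40.OutPSL

open Matrix Cfsg.Agent.Helper13.PSLAut Cfsg.Agent.Helper13.GraphAutPSL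

variable {F : Type*} [Field F] {n : ℕ}

local notation "SLn" => Matrix.SpecialLinearGroup (Fin n) F
local notation "PSLn" => Matrix.ProjectiveSpecialLinearGroup (Fin n) F
local notation "Mn" => Matrix (Fin n) (Fin n) F

/-- equality of classes in `PSL_n`: the matrices differ by a scalar -/
theorem exists_smul_of_mk_eq {s t : SLn} (h : (QuotientGroup.mk s : PSLn) = QuotientGroup.mk t) :
    ∃ r : F, (t : Mn) = r • (s : Mn) := by
  have h2 := QuotientGroup.eq.1 h
  obtain ⟨r, -, hr⟩ := Matrix.SpecialLinearGroup.mem_center_iff.1 h2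
  refine ⟨r, ?_⟩
  have h3 : t = s * (s⁻¹ * t) := by group
  calc (t : Mn) = ((s * (s⁻¹ * t) : SLn) : Mn) := congrArg (fun x : SLn => (x : Mn)) h3
    _ = (s : Mn) * ((s⁻¹ * t : SLn) : Mn) := Matrix.SpecialLinearGroup.coe_mul _ _
    _ = (s : Mn) * Matrix.scalar (Fin n) r := by rw [hr]
    _ = r • (s : Mn) := by rw [Matrix.scalar_apply, Matrix.smul_eq_mul_diagonal]

/-- if `G (1 + A) G⁻¹ = r (1 + B)` with `A² = 0 = B²` then `r = 1` and `G A = B G` -/
theorem conj_nilpotent_rel (hn : 0 < n) {G G' A B : Mn} (h1 : G * G' = 1) (h2 : G' * G = 1)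
    (hA : A * A = 0) (hB : B * B = 0) {r : F} (h : G * (1 + A) * G' = r • (1 + B)) :
    G * A = B * G := by
  have hA' : (G * A * G') * (G * A * G') = 0 := by
    calc _ = G * (A * (G' * G) * A) * G' := by simp only [Matrix.mul_assoc]
      _ = 0 := by rw [h2, Matrix.mul_one, hA, Matrix.mul_zero, Matrix.zero_mul]
  have key : G * A * G' = (r - 1) • (1 : Mn) + r • B := by
    have h3 : G * (1 + A) * G' = 1 + G * A * G' := by
      rw [Matrix.mul_add, Matrix.add_mul, Matrix.mul_one, h1]
    rw [h3] at h
    have h' : G * A * G' = r • (1 + B) - 1 := by rw [← h]; abel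
    rw [h', smul_add, sub_smul, one_smul]; abel
  have hcomm : Commute (G * A * G') (r • B) := by
    rw [key]
    show ((r - 1) • (1 : Mn) + r • B) * (r • B) = (r • B) * ((r - 1) • (1 : Mn) + r • B)
    rw [Matrix.add_mul, Matrix.mul_add]
    simp [smul_comm r (r - 1) B]
  have hnil1 : IsNilpotent (G * A * G') := ⟨2, by rw [pow_two]; exact hA'⟩
  have hnil2 : IsNilpotent (r • B) := ⟨2, by
    rw [pow_two, Matrix.smul_mul, Matrix.mul_smul, hB, smul_zero, smul_zero]⟩
  have hnil : IsNilpotent ((r - 1) • (1 : Mn)) := by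
    have h4 := hcomm.isNilpotent_sub hnil1 hnil2
    have h5 : G * A * G' - r • B = (r - 1) • (1 : Mn) := by rw [key]; abel
    rwa [h5] at h4
  have hr : r = 1 := by
    obtain ⟨k, hk⟩ := hnil
    rw [smul_pow, one_pow] at hk
    have h6 := congrFun (congrFun hk ⟨0, hn⟩) ⟨0, hn⟩
    rw [Matrix.smul_apply, Matrix.one_apply_eq, Matrix.zero_apply, smul_eq_mul, mul_one] at h6
    exact sub_eq_zero.1 (pow_eq_zero_iff (n := k) (by
      rintro rfl
      simp at h6) |>.1 h6)
  rw [hr, one_smul] at h
  have h3 : G * (1 + A) = (1 + B) * G := by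
    calc G * (1 + A) = G * (1 + A) * (G' * G) := by rw [h2, Matrix.mul_one]
      _ = (G * (1 + A) * G') * G := by simp only [Matrix.mul_assoc]
      _ = _ := by rw [h]
  rw [Matrix.mul_add, Matrix.add_mul, Matrix.mul_one, Matrix.one_mul] at h3
  exact add_left_cancel h3

theorem single_sq {i j : Fin n} (hij : i ≠ j) (c : F) :
    Matrix.single i j c * Matrix.single i j c = (0 : Mn) :=
  Matrix.single_mul_single_of_ne (c := c) i j i (Ne.symm hij) c

theorem mapSL_transvection (σ : F ≃+* F) {i j : Fin n} (hij : i ≠ j) (c : F) :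
    mapSL σ (Matrix.SpecialLinearGroup.transvection hij c) =
      Matrix.SpecialLinearGroup.transvection hij (σ c) := by
  apply Subtype.ext
  ext a b
  rw [mapSL_apply, Matrix.SpecialLinearGroup.transvection_coe,
    Matrix.SpecialLinearGroup.transvection_coe]
  simp only [Matrix.add_apply, Matrix.one_apply, Matrix.single_apply, map_add]
  split_ifs <;> simp

theorem sInvT_transvection {i j : Fin n} (hij : i ≠ j) (c : F) :
    sInvT (Matrix.SpecialLinearGroup.transvection hij c) =
      Matrix.SpecialLinearGroup.transvection hij.symm (-c) := by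
  have hinv : (Matrix.SpecialLinearGroup.transvection hij c : SLn)⁻¹ =
      Matrix.SpecialLinearGroup.transvection hij (-c) := by
    apply inv_eq_of_mul_eq_one_right
    apply Subtype.ext
    rw [Matrix.SpecialLinearGroup.coe_mul]
    show Matrix.transvection i j c * Matrix.transvection i j (-c) = 1
    rw [Matrix.transvection_mul_transvection_same i j hij, add_neg_cancel,
      Matrix.transvection_zero]
  apply Subtype.ext
  rw [sInvT_coe, hinv, Matrix.SpecialLinearGroup.transvection_coe,
    Matrix.SpecialLinearGroup.transvection_coe, Matrix.transpose_add, Matrix.transpose_one,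
    Matrix.transpose_single]

/-- `fieldAutPSL σ = PhiL g` forces `σ = 1` (for `n ≥ 2`) -/
theorem fieldAut_eq_PhiL (hn : 2 ≤ n) {σ : F ≃+* F} {g : GL (Fin n) F}
    (h : fieldAutPSL σ = PhiL g) : σ = 1 := by
  have hn0 : 0 < n := by omega
  have hrel : ∀ (i j : Fin n) (hij : i ≠ j) (c : F),
      (g : Mn) * Matrix.single i j c = Matrix.single i j (σ c) * (g : Mn) := by
    intro i j hij c
    have h1 : fieldAutPSL σ (QuotientGroup.mk (Matrix.SpecialLinearGroup.transvection hij c) : PSLn) =
        PhiL g (QuotientGroup.mk (Matrix.SpecialLinearGroup.transvection hij c)) := by rw [h]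
    rw [fieldAutPSL_mk, PhiL_mk, mapSL_transvection] at h1
    obtain ⟨r, hr⟩ := exists_smul_of_mk_eq h1
    rw [conjSL_coe, Matrix.SpecialLinearGroup.transvection_coe,
      Matrix.SpecialLinearGroup.transvection_coe] at hr
    exact conj_nilpotent_rel hn0 (coe_mul_inv g) (coe_inv_mul g) (single_sq hij c)
      (single_sq hij (σ c)) hr
  -- entries
  have hent : ∀ (i j : Fin n) (hij : i ≠ j) (c : F) (a b : Fin n),
      (g : Mn) a i * (if j = b then c else 0) = (if i = a then σ c else 0) * (g : Mn) j b := by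
    intro i j hij c a b
    have h1 := congrFun (congrFun (hrel i j hij c) a) b
    rw [Matrix.mul_apply, Matrix.mul_apply] at h1
    simp only [Matrix.single_apply] at h1
    rw [Finset.sum_eq_single i, Finset.sum_eq_single j] at h1
    · by_cases hjb : j = b <;> by_cases hia : i = a <;> simpa [hjb, hia] using h1
    · intro k _ hk
      rw [if_neg (fun hh => hk hh.2.symm), zero_mul]
    · intro hh; exact absurd (Finset.mem_univ _) hh
    · intro k _ hk
      rw [if_neg (fun hh => hk hh.1.symm), mul_zero]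
    · intro hh; exact absurd (Finset.mem_univ _) hh
  -- off-diagonal entries vanish
  have hoff : ∀ a i : Fin n, a ≠ i → (g : Mn) a i = 0 := by
    intro a i hai
    obtain ⟨j, hj⟩ : ∃ j : Fin n, i ≠ j := by
      by_cases hi0 : i = ⟨0, hn0⟩
      · exact ⟨⟨1, by omega⟩, by rw [hi0]; simp [Fin.ext_iff]⟩
      · exact ⟨⟨0, hn0⟩, hi0⟩
    have h1 := hent i j hj 1 a j
    rw [if_pos rfl, if_neg (Ne.symm hai), mul_one, zero_mul] at h1
    exact h1
  -- diagonal entries
  have hdiag : ∀ (i j : Fin n), i ≠ j → ∀ c : F, (g : Mn) i i * c = σ c * (g : Mn) j j := by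
    intro i j hij c
    have h1 := hent i j hij c i j
    rwa [if_pos rfl, if_pos rfl] at h1
  -- nonvanishing diagonal
  have hne : ∀ i : Fin n, (g : Mn) i i ≠ 0 := by
    intro i hi
    have h1 := congrFun (congrFun (coe_inv_mul g) i) i
    rw [Matrix.mul_apply, Matrix.one_apply_eq] at h1
    have h2 : ∀ k ∈ Finset.univ, ((g⁻¹ : GL (Fin n) F) : Mn) i k * (g : Mn) k i = 0 := by
      intro k _
      by_cases hk : k = i
      · rw [hk, hi, mul_zero]
      · rw [hoff k i hk, mul_zero]
    rw [Finset.sum_eq_zero h2] at h1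
    exact zero_ne_one h1
  ext c
  obtain ⟨i, j, hij⟩ : ∃ i j : Fin n, i ≠ j :=
    ⟨⟨0, hn0⟩, ⟨1, by omega⟩, by simp [Fin.ext_iff]⟩
  have h1 := hdiag i j hij 1
  rw [mul_one, map_one, one_mul] at h1
  have h2 := hdiag i j hij c
  rw [h1, mul_comm] at h2
  have h3 := mul_right_cancel₀ (hne j) h2
  rw [RingAut.one_apply]
  exact h3.symm

/-- `fieldAutPSL σ * iotaAut` is not inner-diagonal, for `n ≥ 3` -/
theorem fieldAut_mul_iota_ne_PhiL (hn : 3 ≤ n) (σ : F ≃+* F) (g : GL (Fin n) F) :
    fieldAutPSL σ * iotaAut ≠ PhiL g := by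
  intro h
  have hn0 : 0 < n := by omega
  have hrel : ∀ (i j : Fin n) (hij : i ≠ j),
      (g : Mn) * Matrix.single i j (1 : F) = Matrix.single j i (σ (-1)) * (g : Mn) := by
    intro i j hij
    have h1 : (fieldAutPSL σ * iotaAut : MulAut PSLn)
        (QuotientGroup.mk (Matrix.SpecialLinearGroup.transvection hij (1 : F)) : PSLn) =
        PhiL g (QuotientGroup.mk (Matrix.SpecialLinearGroup.transvection hij 1)) := by rw [h]
    rw [MulAut.mul_apply, iotaAut_mk, fieldAutPSL_mk, PhiL_mk, sInvT_transvection,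
      mapSL_transvection] at h1
    obtain ⟨r, hr⟩ := exists_smul_of_mk_eq h1
    rw [conjSL_coe, Matrix.SpecialLinearGroup.transvection_coe,
      Matrix.SpecialLinearGroup.transvection_coe] at hr
    exact conj_nilpotent_rel hn0 (coe_mul_inv g) (coe_inv_mul g) (single_sq hij 1)
      (single_sq hij.symm (σ (-1))) hr
  have hzero : ∀ a i : Fin n, (g : Mn) a i = 0 := by
    intro a i
    obtain ⟨j, hji, hja⟩ : ∃ j : Fin n, j ≠ i ∧ j ≠ a := by
      by_contra hcon
      push_neg at hcon
      have hsub : (Finset.univ : Finset (Fin n)) ⊆ {i, a} := by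
        intro j _
        by_cases hji : j = i
        · rw [hji]; exact Finset.mem_insert_self _ _
        · rw [hcon j hji]; exact Finset.mem_insert_of_mem (Finset.mem_singleton_self _)
      have hc := Finset.card_le_card hsub
      rw [Finset.card_univ, Fintype.card_fin] at hc
      have := Finset.card_le_two (a := i) (b := a)
      omega
    have h1 := congrFun (congrFun (hrel i j hji.symm) a) j
    rw [Matrix.mul_apply, Matrix.mul_apply] at h1
    simp only [Matrix.single_apply] at h1
    rw [Finset.sum_eq_single i, Finset.sum_eq_zero] at h1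
    · simpa using h1
    · intro k _
      rw [if_neg (fun hh => hja hh.1), zero_mul]
    · intro k _ hk; simp [hk.symm]
    · intro hh; exact absurd (Finset.mem_univ _) hh
  have h1 := congrFun (congrFun (coe_mul_inv g) ⟨0, hn0⟩) ⟨0, hn0⟩
  rw [Matrix.mul_apply, Matrix.one_apply_eq] at h1
  simp only [hzero, zero_mul, Finset.sum_const_zero] at h1
  exact zero_ne_one h1

end Cfsg.Agent.Helper40.OutPSL
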