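import Mathlib
import Cfsg.Prelude.Def_KGroupFacts
import Cfsg.Agent.Lib.Helper40.OutPSLUniq
import Cfsg.Agent.Lib.Helper41.RingAutFin

/-!
# The structure of `Out(PSL_n(F))`, `n ≥ 3`, from the description of `Aut(PSL_n(F))`

Given that every automorphism of `PSL_n(F)` is `PhiL g * fieldAutPSL σ * ι^e`, we construct the
surjection `Out(PSL_n(F)) →* C_f × C_2` with cyclic kernel of order `gcd(n, q - 1)`.
-/

set_option autoImplicit false
set_option linter.unusedSectionVars false
set_option linter.unusedSimpArgs false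
set_option linter.unusedVariables false

namespace Cfsg.Agent.Helper40.OutPSL

open Matrix Cfsg.Agent.Helper13.PSLAut Cfsg.Agent.Helper13.GraphAutPSL

/-- A normal subgroup `D` with a "complement" `j : K →* A` (every element is `d * j k`, and
`j k ∈ D` only for `k = 1`) is the kernel of a surjection onto `K`. -/
theorem exists_hom_of_complement {A K : Type*} [Group A] [Group K] (D : Subgroup A) [D.Normal]
    (j : K →* A) (hsurj : ∀ a : A, ∃ d ∈ D, ∃ k : K, a = d * j k)
    (hinj : ∀ k : K, j k ∈ D → k = 1) :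
    ∃ θ : A →* K, Function.Surjective θ ∧ θ.ker = D := by
  let q : K →* A ⧸ D := (QuotientGroup.mk' D).comp j
  have hqinj : Function.Injective q := by
    rw [injective_iff_map_eq_one]
    intro k hk
    apply hinj
    exact (QuotientGroup.eq_one_iff (j k)).1 hk
  have hqsurj : Function.Surjective q := by
    intro x
    induction x using QuotientGroup.induction_on with
    | H a =>
      obtain ⟨d, hd, k, rfl⟩ := hsurj a
      refine ⟨k, ?_⟩
      show (QuotientGroup.mk (j k) : A ⧸ D) = QuotientGroup.mk (d * j k)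
      rw [QuotientGroup.mk_mul, (QuotientGroup.eq_one_iff d).2 hd, one_mul]
  let e : K ≃* A ⧸ D := MulEquiv.ofBijective q ⟨hqinj, hqsurj⟩
  refine ⟨e.symm.toMonoidHom.comp (QuotientGroup.mk' D), ?_, ?_⟩
  · exact e.symm.surjective.comp (QuotientGroup.mk'_surjective D)
  · ext a
    rw [MonoidHom.mem_ker]
    show e.symm (QuotientGroup.mk a) = 1 ↔ a ∈ D
    rw [MulEquiv.map_eq_one_iff, QuotientGroup.eq_one_iff]

variable {F : Type*} [Field F] {n : ℕ}

local notation "SLn" => Matrix.SpecialLinearGroup (Fin n) F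
local notation "PSLn" => Matrix.ProjectiveSpecialLinearGroup (Fin n) F
local notation "Mn" => Matrix (Fin n) (Fin n) F

/-- the structure hypothesis: every automorphism is inner-diagonal times field times
(identity or inverse-transpose) -/
def Struct (n : ℕ) (F : Type*) [Field F] : Prop :=
  ∀ β : MulAut (Matrix.ProjectiveSpecialLinearGroup (Fin n) F), ∃ (g : GL (Fin n) F) (σ : F ≃+* F),
    β = PhiL g * fieldAutPSL σ ∨ β = PhiL g * fieldAutPSL σ * iotaAut

theorem conjSL_toGL (s t : SLn) :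
    conjSL (Matrix.SpecialLinearGroup.toGL s) t = s * t * s⁻¹ := by
  apply Subtype.ext
  rw [conjSL_coe, Matrix.SpecialLinearGroup.coe_mul, Matrix.SpecialLinearGroup.coe_mul]
  have h2 : (((Matrix.SpecialLinearGroup.toGL s)⁻¹ : GL (Fin n) F) : Mn) = ((s⁻¹ : SLn) : Mn) := by
    rw [← map_inv]; rfl
  rw [h2]
  rfl

theorem PhiL_toGL (s : SLn) :
    PhiL (Matrix.SpecialLinearGroup.toGL s) = MulAut.conj (QuotientGroup.mk s : PSLn) := by
  apply MulEquiv.ext
  intro x
  induction x using QuotientGroup.induction_on with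
  | H t =>
    rw [PhiL_mk, MulAut.conj_apply, conjSL_toGL]
    rfl

theorem inn_le_range : Cfsg.Inn PSLn ≤ (PhiL (F := F) (n := n)).range := by
  rintro _ ⟨x, rfl⟩
  induction x using QuotientGroup.induction_on with
  | H s => exact ⟨Matrix.SpecialLinearGroup.toGL s, PhiL_toGL s⟩

theorem range_normal (hS : Struct n F) : ((PhiL (F := F) (n := n)).range).Normal := by
  constructor
  rintro _ ⟨h, rfl⟩ β
  have hf : ∀ (σ : F ≃+* F) (h : GL (Fin n) F),
      fieldAutPSL σ * PhiL h * (fieldAutPSL σ)⁻¹ = PhiL (mapGL σ h) := by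
    intro σ h
    rw [fieldAutPSL_mul_PhiL, mul_assoc, mul_inv_cancel, mul_one]
  have hi : iotaAut * PhiL h * (iotaAut)⁻¹ = PhiL (invT h) := by
    rw [iotaAut_mul_PhiL, mul_assoc, mul_inv_cancel, mul_one]
  obtain ⟨g, σ, hβ | hβ⟩ := hS β
  · refine ⟨g * mapGL σ h * g⁻¹, ?_⟩
    rw [hβ, map_mul, map_mul, ← hf σ h, map_inv]
    group
  · refine ⟨g * mapGL σ (invT h) * g⁻¹, ?_⟩
    rw [hβ, map_mul, map_mul, ← hf σ (invT h), ← hi, map_inv]
    group

theorem iotaAut_ne_one (hn : 3 ≤ n) : (iotaAut : MulAut PSLn) ≠ 1 := by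
  intro h
  apply iotaAut_ne_PhiL hn (1 : GL (Fin n) F)
  rw [h, map_one]

theorem iotaAut_inv : (iotaAut : MulAut PSLn)⁻¹ = iotaAut :=
  inv_eq_of_mul_eq_one_right iotaAut_mul_self

theorem mem_zpowers_iota {z : MulAut PSLn} (hz : z ∈ Subgroup.zpowers (iotaAut : MulAut PSLn)) :
    z = 1 ∨ z = iotaAut := by
  obtain ⟨k, rfl⟩ := hz
  rcases Int.even_or_odd' k with ⟨m, rfl | rfl⟩
  · left
    show iotaAut ^ (2 * m) = 1
    rw [_root_.zpow_mul, zpow_two, iotaAut_mul_self, _root_.one_zpow]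
  · right
    show iotaAut ^ (2 * m + 1) = iotaAut
    rw [_root_.zpow_add, _root_.zpow_mul, zpow_two, iotaAut_mul_self, _root_.one_zpow, one_mul, zpow_one]

theorem orderOf_iota (hn : 3 ≤ n) : orderOf (iotaAut : MulAut PSLn) = 2 := by
  apply orderOf_eq_prime
  · rw [pow_two]; exact iotaAut_mul_self
  · exact iotaAut_ne_one hn

/-- the complement `RingAut F × ⟨ι⟩ → Aut(PSL_n)` -/
noncomputable def jHom : (F ≃+* F) × Subgroup.zpowers (iotaAut : MulAut PSLn) →* MulAut PSLn :=
  MonoidHom.noncommCoprod (fieldAutHom (n := n)) (Subgroup.zpowers (iotaAut : MulAut PSLn)).subtype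
    (by
      rintro σ ⟨z, hz⟩
      rcases mem_zpowers_iota hz with rfl | rfl
      · exact Commute.one_right _
      · exact fieldAutPSL_mul_iota σ)

theorem jHom_apply (σ : F ≃+* F) (z : Subgroup.zpowers (iotaAut : MulAut PSLn)) :
    jHom (σ, z) = fieldAutPSL σ * (z : MulAut PSLn) := rfl

/-- the main surjection `Aut(PSL_n) → RingAut F × ⟨ι⟩` with kernel the inner-diagonal group -/
theorem exists_theta (hn : 3 ≤ n) (hS : Struct n F) :
    ∃ θ : MulAut PSLn →* (F ≃+* F) × Subgroup.zpowers (iotaAut : MulAut PSLn),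
      Function.Surjective θ ∧ θ.ker = (PhiL (F := F) (n := n)).range := by
  have := range_normal hS
  apply exists_hom_of_complement _ jHom
  · intro β
    obtain ⟨g, σ, hβ | hβ⟩ := hS β
    · exact ⟨PhiL g, ⟨g, rfl⟩, (σ, 1), by rw [jHom_apply, hβ]; simp⟩
    · exact ⟨PhiL g, ⟨g, rfl⟩, (σ, ⟨iotaAut, Subgroup.mem_zpowers _⟩), by
        rw [jHom_apply, hβ, mul_assoc]⟩
  · rintro ⟨σ, ⟨z, hz⟩⟩ ⟨g, hg⟩
    rw [jHom_apply] at hg
    rcases mem_zpowers_iota hz with rfl | rfl
    · have h1 : fieldAutPSL σ = PhiL g := by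
        rw [hg]; simp
      have h2 := fieldAut_eq_PhiL (by omega) h1
      rw [h2]
      rfl
    · exact absurd hg.symm (fieldAut_mul_iota_ne_PhiL hn σ g)

/-! ### The diagonal part -/

/-- `diag(a, 1, …, 1)` -/
noncomputable def dg1 (hn : 0 < n) : Fˣ →* GL (Fin n) F where
  toFun a := Matrix.GeneralLinearGroup.mkOfDetNeZero
    (Matrix.diagonal (fun i : Fin n => if i = ⟨0, hn⟩ then (a : F) else 1)) (by
      rw [Matrix.det_diagonal, Finset.prod_ite_eq' Finset.univ (⟨0, hn⟩ : Fin n) (fun _ => (a : F))]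
      simp)
  map_one' := by
    apply Units.ext
    show Matrix.diagonal (fun i : Fin n => if i = ⟨0, hn⟩ then ((1 : Fˣ) : F) else 1) = 1
    simp
  map_mul' a b := by
    apply Units.ext
    show Matrix.diagonal (fun i : Fin n => if i = ⟨0, hn⟩ then ((a * b : Fˣ) : F) else 1) =
      Matrix.diagonal (fun i : Fin n => if i = ⟨0, hn⟩ then (a : F) else 1) *
        Matrix.diagonal (fun i : Fin n => if i = ⟨0, hn⟩ then (b : F) else 1)
    rw [Matrix.diagonal_mul_diagonal]
    congr 1
    funext i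
    split_ifs <;> simp

theorem dg1_coe (hn : 0 < n) (a : Fˣ) :
    ((dg1 hn a : GL (Fin n) F) : Mn) =
      Matrix.diagonal (fun i : Fin n => if i = ⟨0, hn⟩ then (a : F) else 1) := rfl

theorem det_dg1 (hn : 0 < n) (a : Fˣ) : ((dg1 hn a : GL (Fin n) F) : Mn).det = (a : F) := by
  rw [dg1_coe, Matrix.det_diagonal, Finset.prod_ite_eq' Finset.univ (⟨0, hn⟩ : Fin n) (fun _ => (a : F))]
  simp

end Cfsg.Agent.Helper40.OutPSL
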