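import Mathlib
import Cfsg.Agent.Lib.Helper40.OutPSLMain
import Cfsg.Agent.Lib.Helper40.Hilbert90GL

/-!
# Norms for `σ`-twisted conjugacy in `GL_n(F)`, and the field-automorphism coset

`(PhiL g * fieldAutPSL σ)^k = PhiL (nrmGL σ g k) * fieldAutPSL (σ^k)`; norm surjectivity on a
finite field; and: if `(PhiL g * fieldAutPSL σ)^r = 1` with `σ` of order `r`, then
`PhiL g * fieldAutPSL σ` is conjugate to `fieldAutPSL σ` under `PhiL (GL_n)`.
-/

set_option autoImplicit false
set_option linter.unusedSectionVars false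
set_option linter.unusedSimpArgs false
set_option linter.unusedVariables false

namespace Cfsg.Agent.Helper40.AutPSLNorm

open Matrix Cfsg.Agent.Helper13.PSLAut Cfsg.Agent.Helper13.GraphAutPSL Cfsg.Agent.Helper40.OutPSL
  Cfsg.Agent.Helper40.H90

variable {F : Type*} [Field F] {n : ℕ}

local notation "SLn" => Matrix.SpecialLinearGroup (Fin n) F
local notation "PSLn" => Matrix.ProjectiveSpecialLinearGroup (Fin n) F
local notation "Mn" => Matrix (Fin n) (Fin n) F

/-! ### Norms of units -/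

/-- partial norms `λ σ(λ) ⋯ σ^{k-1}(λ)` of a unit -/
def nrmU (σ : F ≃+* F) (l : Fˣ) : ℕ → Fˣ
  | 0 => 1
  | k + 1 => l * Units.map (σ : F →* F) (nrmU σ l k)

theorem nrmU_mul (σ : F ≃+* F) (l m : Fˣ) (k : ℕ) : nrmU σ (l * m) k = nrmU σ l k * nrmU σ m k := by
  induction k with
  | zero => simp [nrmU]
  | succ k ih =>
    show l * m * Units.map (σ : F →* F) (nrmU σ (l * m) k) =
      (l * Units.map (σ : F →* F) (nrmU σ l k)) * (m * Units.map (σ : F →* F) (nrmU σ m k))
    rw [ih, map_mul]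
    exact mul_mul_mul_comm _ _ _ _

theorem nrmU_one (σ : F ≃+* F) (k : ℕ) : nrmU σ (1 : Fˣ) k = 1 := by
  induction k with
  | zero => rfl
  | succ k ih =>
    show 1 * Units.map (σ : F →* F) (nrmU σ 1 k) = 1
    rw [ih, map_one, one_mul]

/-- the norm as a homomorphism -/
def nrmHom (σ : F ≃+* F) (r : ℕ) : Fˣ →* Fˣ where
  toFun l := nrmU σ l r
  map_one' := nrmU_one σ r
  map_mul' l m := nrmU_mul σ l m r

theorem nrmU_map (σ : F ≃+* F) (l : Fˣ) (k : ℕ) :
    nrmU σ (Units.map (σ : F →* F) l) k = Units.map (σ : F →* F) (nrmU σ l k) := by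
  induction k with
  | zero => simp [nrmU]
  | succ k ih =>
    show Units.map (σ : F →* F) l * Units.map (σ : F →* F) (nrmU σ (Units.map (σ : F →* F) l) k) =
      Units.map (σ : F →* F) (l * Units.map (σ : F →* F) (nrmU σ l k))
    rw [ih, map_mul]

theorem nrmU_succ' (σ : F ≃+* F) (l : Fˣ) (k : ℕ) :
    nrmU σ l (k + 1) = nrmU σ l k * Units.map ((σ ^ k : F ≃+* F) : F →* F) l := by
  induction k with
  | zero =>
    show l * Units.map (σ : F →* F) 1 = 1 * Units.map ((1 : F ≃+* F) : F →* F) l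
    rw [map_one, mul_one, one_mul]
    apply Units.ext
    rfl
  | succ k ih =>
    show l * Units.map (σ : F →* F) (nrmU σ l (k + 1)) = _
    rw [ih, map_mul, ← mul_assoc]
    show nrmU σ l (k + 1) * _ = _
    congr 1
    apply Units.ext
    rw [pow_succ']
    rfl

theorem nrmU_fixed (σ : F ≃+* F) {r : ℕ} (hσ : σ ^ r = 1) (l : Fˣ) :
    Units.map (σ : F →* F) (nrmU σ l r) = nrmU σ l r := by
  have h1 : nrmU σ l (r + 1) = l * Units.map (σ : F →* F) (nrmU σ l r) := rfl
  have h2 := nrmU_succ' σ l r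
  rw [hσ] at h2
  have h3 : Units.map (((1 : F ≃+* F) : F ≃+* F) : F →* F) l = l := by
    apply Units.ext; rfl
  rw [h3, h1, mul_comm] at h2
  exact mul_right_cancel h2

/-! ### Norms of matrices -/

theorem nrm_smul (σ : F ≃+* F) (l : Fˣ) (g : Mn) (k : ℕ) :
    nrm σ ((l : F) • g) k = ((nrmU σ l k : Fˣ) : F) • nrm σ g k := by
  induction k with
  | zero => simp [nrm, nrmU]
  | succ k ih =>
    show ((l : F) • g) * sm σ (nrm σ ((l : F) • g) k) =
      (((l * Units.map (σ : F →* F) (nrmU σ l k) : Fˣ)) : F) • (g * sm σ (nrm σ g k))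
    rw [ih]
    have h1 : sm σ (((nrmU σ l k : Fˣ) : F) • nrm σ g k) =
        (σ ((nrmU σ l k : Fˣ) : F)) • sm σ (nrm σ g k) := by
      ext i j
      show σ (((nrmU σ l k : Fˣ) : F) * nrm σ g k i j) = σ ((nrmU σ l k : Fˣ) : F) * σ (nrm σ g k i j)
      exact map_mul σ _ _
    rw [h1, Matrix.smul_mul, Matrix.mul_smul, smul_smul]
    rfl

theorem nrm_succ' (σ : F ≃+* F) (g : Mn) (k : ℕ) :
    nrm σ g (k + 1) = nrm σ g k * sm (σ ^ k) g := by
  induction k with
  | zero =>
    show g * sm σ 1 = 1 * sm (1 : F ≃+* F) g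
    rw [sm_one, Matrix.mul_one, Matrix.one_mul]
    rfl
  | succ k ih =>
    show g * sm σ (nrm σ g (k + 1)) = _
    rw [ih, sm_mul, ← Matrix.mul_assoc]
    show nrm σ g (k + 1) * _ = _
    congr 1
    rw [pow_succ']
    rfl

/-- partial norms in `GL_n` -/
def nrmGL (σ : F ≃+* F) (g : GL (Fin n) F) : ℕ → GL (Fin n) F
  | 0 => 1
  | k + 1 => g * mapGL σ (nrmGL σ g k)

theorem nrmGL_coe (σ : F ≃+* F) (g : GL (Fin n) F) (k : ℕ) :
    ((nrmGL σ g k : GL (Fin n) F) : Mn) = nrm σ (g : Mn) k := by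
  induction k with
  | zero => rfl
  | succ k ih =>
    show ((g * mapGL σ (nrmGL σ g k) : GL (Fin n) F) : Mn) = (g : Mn) * sm σ (nrm σ (g : Mn) k)
    rw [Units.val_mul, mapGL_coe, ih]
    rfl

theorem pow_PhiL_mul_field (σ : F ≃+* F) (g : GL (Fin n) F) (k : ℕ) :
    (PhiL g * fieldAutPSL σ : MulAut PSLn) ^ k = PhiL (nrmGL σ g k) * fieldAutPSL (σ ^ k) := by
  induction k with
  | zero =>
    show (1 : MulAut PSLn) = PhiL 1 * fieldAutPSL (1 : F ≃+* F)
    rw [map_one, one_mul]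
    exact (map_one (fieldAutHom (F := F) (n := n))).symm
  | succ k ih =>
    rw [pow_succ', ih]
    show PhiL g * fieldAutPSL σ * (PhiL (nrmGL σ g k) * fieldAutPSL (σ ^ k)) =
      PhiL (g * mapGL σ (nrmGL σ g k)) * fieldAutPSL (σ ^ (k + 1))
    rw [map_mul, mul_assoc, ← mul_assoc (fieldAutPSL σ), fieldAutPSL_mul_PhiL, mul_assoc, mul_assoc]
    congr 2
    rw [pow_succ']
    exact (map_mul (fieldAutHom (F := F) (n := n)) σ (σ ^ k)).symm

theorem fieldAutHom_injective (hn : 2 ≤ n) : Function.Injective (fieldAutHom (F := F) (n := n)) := by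
  rw [injective_iff_map_eq_one]
  intro σ hσ
  apply fieldAut_eq_PhiL hn (g := 1)
  rw [map_one]
  exact hσ

theorem orderOf_fieldAutPSL (hn : 2 ≤ n) (σ : F ≃+* F) :
    orderOf (fieldAutPSL (n := n) σ) = orderOf σ :=
  orderOf_injective (fieldAutHom (F := F) (n := n)) (fieldAutHom_injective hn) σ

end Cfsg.Agent.Helper40.AutPSLNorm
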