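import Mathlib
import Cfsg.Agent.Lib.Helper40.AutPSLNorm

/-!
# Elements of order `r` in the coset `Inndiag · φ_σ` are `Inndiag`-conjugate to `φ_σ`
-/

set_option autoImplicit false
set_option linter.unusedSectionVars false
set_option linter.unusedSimpArgs false
set_option linter.unusedVariables false

namespace Cfsg.Agent.Helper40.AutPSLNorm

open Matrix Cfsg.Agent.Helper13.PSLAut Cfsg.Agent.Helper13.GraphAutPSL Cfsg.Agent.Helper40.OutPSL
  Cfsg.Agent.Helper40.H90

variable {F : Type*} [Field F] {n : ℕ}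

local notation "SLn" => Matrix.SpecialLinearGroup (Fin n) F
local notation "PSLn" => Matrix.ProjectiveSpecialLinearGroup (Fin n) F
local notation "Mn" => Matrix (Fin n) (Fin n) F

theorem nrm_one (σ : F ≃+* F) (k : ℕ) : nrm σ (1 : Mn) k = 1 := by
  induction k with
  | zero => rfl
  | succ k ih =>
    show (1 : Mn) * sm σ (nrm σ 1 k) = 1
    rw [ih, sm_one, Matrix.one_mul]

/-- Hilbert 90 for units -/
theorem h90_units (σ : F ≃+* F) {r : ℕ} (hr : 0 < r) (hσ : orderOf σ = r) (l : Fˣ)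
    (hN : nrmU σ l r = 1) : ∃ m : Fˣ, l = m * (Units.map (σ : F →* F) m)⁻¹ := by
  have h1 : nrm σ ((l : F) • (1 : Matrix (Fin 1) (Fin 1) F)) r = 1 := by
    rw [nrm_smul, hN, nrm_one, Units.val_one, one_smul]
  obtain ⟨h, h', hh1, hh2, hh3⟩ := hilbert90_matrix σ _ hr hσ h1
  have h2 : h 0 0 * h' 0 0 = 1 := by
    have := congrFun (congrFun hh1 0) 0
    rw [Matrix.mul_apply, Fin.sum_univ_one, Matrix.one_apply_eq] at this
    exact this
  have h3 : (l : F) * σ (h 0 0) = h 0 0 := by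
    have := congrFun (congrFun hh3 0) 0
    rw [Matrix.mul_apply, Fin.sum_univ_one, Matrix.smul_apply, Matrix.one_apply_eq, smul_eq_mul,
      mul_one] at this
    exact this
  have hμ0 : h 0 0 ≠ 0 := left_ne_zero_of_mul_eq_one h2
  refine ⟨Units.mk0 (h 0 0) hμ0, ?_⟩
  rw [eq_mul_inv_iff_mul_eq]
  apply Units.ext
  exact h3

/-- the norm is onto the fixed units, over a finite field -/
theorem nrm_surj [Finite F] (σ : F ≃+* F) {r : ℕ} (hr : 0 < r) (hσ : orderOf σ = r) (c : Fˣ)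
    (hc : Units.map (σ : F →* F) c = c) : ∃ l : Fˣ, nrmU σ l r = c := by
  have hσr : σ ^ r = 1 := by rw [← hσ]; exact pow_orderOf_eq_one σ
  -- ν μ = μ / σ μ
  let ν : Fˣ →* Fˣ :=
    { toFun := fun m => m * (Units.map (σ : F →* F) m)⁻¹
      map_one' := by simp
      map_mul' := fun a b => by
        rw [map_mul, mul_inv]
        exact mul_mul_mul_comm _ _ _ _ }
  have hker : (nrmHom σ r).ker = ν.range := by
    ext l
    constructor
    · intro hl
      obtain ⟨m, hm⟩ := h90_units σ hr hσ l hl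
      exact ⟨m, hm.symm⟩
    · rintro ⟨m, rfl⟩
      show nrmU σ (m * (Units.map (σ : F →* F) m)⁻¹) r = 1
      have h1 : nrmU σ (m * (Units.map (σ : F →* F) m)⁻¹) r =
          nrmU σ m r * (nrmU σ (Units.map (σ : F →* F) m) r)⁻¹ := by
        have := map_mul (nrmHom σ r) m (Units.map (σ : F →* F) m)⁻¹
        rw [map_inv] at this
        exact this
      rw [h1, nrmU_map, nrmU_fixed σ hσr, mul_inv_cancel]
  have hrange : (nrmHom σ r).range ≤ ν.ker := by
    rintro _ ⟨l, rfl⟩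
    show nrmU σ l r * (Units.map (σ : F →* F) (nrmU σ l r))⁻¹ = 1
    rw [nrmU_fixed σ hσr, mul_inv_cancel]
  have hcard : Nat.card (nrmHom σ r).range = Nat.card ν.ker := by
    have h1 := Subgroup.card_mul_index (nrmHom σ r).ker
    have h2 := Subgroup.card_mul_index ν.ker
    rw [Subgroup.index_ker] at h1 h2
    rw [hker] at h1
    have h3 : 0 < Nat.card ν.range := Nat.card_pos
    have h4 : Nat.card ν.range * Nat.card (nrmHom σ r).range = Nat.card ν.range * Nat.card ν.ker := by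
      rw [h1, mul_comm, h2]
    exact Nat.eq_of_mul_eq_mul_left h3 h4
  have heq : (nrmHom σ r).range = ν.ker :=
    Subgroup.eq_of_le_of_card_ge hrange (le_of_eq hcard.symm)
  have hcmem : c ∈ ν.ker := by
    show c * (Units.map (σ : F →* F) c)⁻¹ = 1
    rw [hc, mul_inv_cancel]
  rw [← heq] at hcmem
  exact hcmem

/-- scalar matrices in `GL_n` -/
noncomputable def scGL (l : Fˣ) : GL (Fin n) F :=
  ⟨(l : F) • (1 : Mn), ((l⁻¹ : Fˣ) : F) • (1 : Mn), by
    rw [Matrix.smul_mul, Matrix.mul_smul, Matrix.one_mul, smul_smul, ← Units.val_mul, mul_inv_cancel,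
      Units.val_one, one_smul], by
    rw [Matrix.smul_mul, Matrix.mul_smul, Matrix.one_mul, smul_smul, ← Units.val_mul, inv_mul_cancel,
      Units.val_one, one_smul]⟩

theorem scGL_coe (l : Fˣ) : ((scGL l : GL (Fin n) F) : Mn) = (l : F) • (1 : Mn) := rfl

theorem PhiL_scGL (hn : 0 < n) (l : Fˣ) : PhiL (scGL (n := n) l) = 1 := by
  rw [PhiL_eq_one_iff hn, Cfsg.Geo.mem_scalars_iff]
  exact ⟨l, rfl⟩

/-- the field-automorphism coset: elements of order dividing `r` are conjugate to `φ_σ` -/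
theorem field_coset_conj [Finite F] (hn : 0 < n) (σ : F ≃+* F) {r : ℕ} (hr : 0 < r)
    (hσ : orderOf σ = r) (g : GL (Fin n) F)
    (hpow : (PhiL g * fieldAutPSL σ : MulAut PSLn) ^ r = 1) :
    ∃ h : GL (Fin n) F, PhiL g * fieldAutPSL σ = PhiL h * fieldAutPSL σ * (PhiL h)⁻¹ := by
  have hσr : σ ^ r = 1 := by rw [← hσ]; exact pow_orderOf_eq_one σ
  rw [pow_PhiL_mul_field, hσr] at hpow
  have h1 : fieldAutPSL (n := n) (1 : F ≃+* F) = 1 := map_one (fieldAutHom (F := F) (n := n))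
  rw [h1, mul_one, PhiL_eq_one_iff hn, Cfsg.Geo.mem_scalars_iff] at hpow
  obtain ⟨c, hc⟩ := hpow
  rw [nrmGL_coe] at hc
  -- `c` is fixed by `σ`
  have hcfix : Units.map (σ : F →* F) c = c := by
    have h2 : nrm σ (g : Mn) (r + 1) = (g : Mn) * sm σ (nrm σ (g : Mn) r) := rfl
    have h3 := nrm_succ' σ (g : Mn) r
    rw [hσr] at h3
    have h4 : sm (1 : F ≃+* F) (g : Mn) = (g : Mn) := rfl
    rw [h4, h2, hc] at h3
    have h5 : sm σ ((c : F) • (1 : Mn)) = (σ (c : F)) • (1 : Mn) := by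
      ext i j
      show σ ((c : F) * (1 : Mn) i j) = σ (c : F) * (1 : Mn) i j
      rw [map_mul]
      congr 1
      by_cases hij : i = j
      · rw [hij, Matrix.one_apply_eq, map_one]
      · rw [Matrix.one_apply_ne hij, map_zero]
    rw [h5, Matrix.mul_smul, Matrix.mul_one, Matrix.smul_mul, Matrix.one_mul] at h3
    -- σ c • g = c • g
    have h6 : (σ (c : F) - (c : F)) • (g : Mn) = 0 := by rw [sub_smul, h3, sub_self]
    have h7 : (σ (c : F) - (c : F)) • ((g : Mn) * ((g⁻¹ : GL (Fin n) F) : Mn)) = 0 := by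
      rw [← Matrix.smul_mul, h6, Matrix.zero_mul]
    rw [coe_mul_inv] at h7
    have h8 := congrFun (congrFun h7 ⟨0, hn⟩) ⟨0, hn⟩
    rw [Matrix.smul_apply, Matrix.one_apply_eq, smul_eq_mul, mul_one, Matrix.zero_apply] at h8
    apply Units.ext
    exact sub_eq_zero.1 h8
  have hcfix' : Units.map (σ : F →* F) c⁻¹ = c⁻¹ := by rw [map_inv, hcfix]
  obtain ⟨l, hl⟩ := nrm_surj σ hr hσ c⁻¹ hcfix'
  have hN : nrm σ ((l : F) • (g : Mn)) r = 1 := by
    rw [nrm_smul, hl, hc, smul_smul, ← Units.val_mul, inv_mul_cancel, Units.val_one, one_smul]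
  obtain ⟨h, h', hh1, hh2, hh3⟩ := hilbert90_matrix σ _ hr hσ hN
  let H : GL (Fin n) F := ⟨h, h', hh1, hh2⟩
  have hH : scGL l * g * mapGL σ H = H := by
    apply Units.ext
    rw [Units.val_mul, Units.val_mul, scGL_coe, mapGL_coe, Matrix.smul_mul, Matrix.one_mul]
    exact hh3
  refine ⟨H, ?_⟩
  have h9 : PhiL g = PhiL H * (PhiL (mapGL σ H))⁻¹ := by
    have h10 : PhiL (scGL l * g * mapGL σ H) = PhiL H := by rw [hH]
    rw [map_mul, map_mul, PhiL_scGL hn, one_mul] at h10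
    rw [← h10, mul_inv_cancel_right]
  have h11 : fieldAutPSL σ * (PhiL H)⁻¹ = (PhiL (mapGL σ H))⁻¹ * fieldAutPSL σ := by
    rw [eq_inv_mul_iff_mul_eq, ← mul_assoc, ← fieldAutPSL_mul_PhiL, mul_assoc, mul_inv_cancel, mul_one]
  rw [mul_assoc (PhiL H), h11, ← mul_assoc, ← h9]

end Cfsg.Agent.Helper40.AutPSLNorm
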