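import Mathlib

set_option autoImplicit false

namespace Cfsg.Agent.Helper40.Iso

variable {E : Type*} [Field E]

/-- Hilbert 90 for an involution of a field -/
theorem hilbert90 (σ : E →+* E) (hσ : ∀ x, σ (σ x) = x) (hne : ∃ z, σ z ≠ z) (c : E)
    (hc : c * σ c = 1) : ∃ d, d ≠ 0 ∧ c * σ d = d := by
  have hex : ∃ z, z + c * σ z ≠ 0 := by
    by_contra hall
    push Not at hall
    have h1 := hall 1
    rw [map_one, mul_one] at h1
    have hc1 : c = -1 := by linear_combination h1
    obtain ⟨z, hz⟩ := hne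
    apply hz
    have h2 := hall z
    rw [hc1] at h2
    linear_combination -h2
  obtain ⟨z, hz⟩ := hex
  refine ⟨z + c * σ z, hz, ?_⟩
  rw [map_add, map_mul, hσ, mul_add, ← mul_assoc, hc, one_mul, add_comm]

/-- surjectivity of the norm of an involution of a finite field -/
theorem exists_norm_eq [Finite E] (σ : E →+* E) (hσ : ∀ x, σ (σ x) = x) (hne : ∃ z, σ z ≠ z)
    (y : E) (hy : σ y = y) (hy0 : y ≠ 0) : ∃ c, c * σ c = y := by
  classical
  let s : Eˣ →* Eˣ := Units.map (σ : E →* E)
  have hs : ∀ d : Eˣ, ((s d : Eˣ) : E) = σ d := fun d => rfl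
  have hss : ∀ d : Eˣ, s (s d) = d := by
    intro d
    apply Units.ext
    rw [hs, hs, hσ]
  let Nm : Eˣ →* Eˣ := MonoidHom.id Eˣ * s
  let Hm : Eˣ →* Eˣ := MonoidHom.id Eˣ / s
  have hNm : ∀ d, Nm d = d * s d := fun d => rfl
  have hHm : ∀ d, Hm d = d / s d := fun d => rfl
  -- range Hm = ker Nm
  have hA : Hm.range = Nm.ker := by
    ext c
    rw [MonoidHom.mem_range, MonoidHom.mem_ker]
    constructor
    · rintro ⟨d, rfl⟩
      rw [hNm, hHm, map_div, hss, div_mul_div_comm, mul_comm d, div_self']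
    · intro hc
      rw [hNm] at hc
      have hc' : (c : E) * σ c = 1 := by
        have := congrArg Units.val hc
        simpa [hs] using this
      obtain ⟨d, hd0, hd⟩ := hilbert90 σ hσ hne c hc'
      refine ⟨Units.mk0 d hd0, ?_⟩
      rw [hHm, div_eq_iff_eq_mul]
      apply Units.ext
      rw [Units.val_mul, hs, Units.val_mk0, hd]
  -- range Nm ≤ ker Hm
  have hB : Nm.range ≤ Hm.ker := by
    rintro _ ⟨d, rfl⟩
    rw [MonoidHom.mem_ker, hHm, hNm, map_mul, hss, mul_comm, div_self']
  have h1 : Nat.card Hm.ker * Nat.card Hm.range = Nat.card Eˣ := by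
    rw [← Subgroup.index_ker]
    exact Subgroup.card_mul_index _
  have h2 : Nat.card Nm.ker * Nat.card Nm.range = Nat.card Eˣ := by
    rw [← Subgroup.index_ker]
    exact Subgroup.card_mul_index _
  have hpos : 0 < Nat.card Nm.ker := Nat.card_pos
  have h3 : Nat.card Hm.ker = Nat.card Nm.range := by
    rw [hA] at h1
    have : Nat.card Nm.ker * Nat.card Hm.ker = Nat.card Nm.ker * Nat.card Nm.range := by
      rw [h2, mul_comm, h1]
    exact Nat.eq_of_mul_eq_mul_left hpos this
  have h4 : Nm.range = Hm.ker := Subgroup.eq_of_le_of_card_ge hB h3.le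
  have hyk : Units.mk0 y hy0 ∈ Hm.ker := by
    rw [MonoidHom.mem_ker, hHm, div_eq_one]
    apply Units.ext
    rw [hs, Units.val_mk0, hy]
  rw [← h4] at hyk
  obtain ⟨c, hc⟩ := hyk
  refine ⟨c, ?_⟩
  have := congrArg Units.val hc
  simpa [hNm, hs] using this

end Cfsg.Agent.Helper40.Iso
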