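import Mathlib
import Cfsg.Agent.Lib.Helper40.AutPSLField
import Cfsg.Agent.Lib.Helper40.IsoField
import Cfsg.Agent.Lib.Helper43.UnitaryConj2

/-!
# Involutions in the coset `Inndiag · φ_σ ι` are `Inndiag`-conjugate to `φ_σ ι`
(`σ` an involution of the finite field `F`.)
-/

set_option autoImplicit false
set_option linter.unusedSectionVars false
set_option linter.unusedSimpArgs false
set_option linter.unusedVariables false

namespace Cfsg.Agent.Helper40.AutPSLNorm

open Matrix Cfsg.Agent.Helper13.PSLAut Cfsg.Agent.Helper13.GraphAutPSL Cfsg.Agent.Helper40.OutPSL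
  Cfsg.Agent.Helper40.H90 Cfsg.Agent.Helper43.UnitaryConj

variable {F : Type*} [Field F] {n : ℕ}

local notation "SLn" => Matrix.SpecialLinearGroup (Fin n) F
local notation "PSLn" => Matrix.ProjectiveSpecialLinearGroup (Fin n) F
local notation "Mn" => Matrix (Fin n) (Fin n) F

/-- the twisted "norm" for the graph-field coset -/
theorem sq_PhiL_mul_gf (σ : F ≃+* F) (g : GL (Fin n) F) :
    (PhiL g * fieldAutPSL σ * iotaAut : MulAut PSLn) ^ 2 =
      PhiL (g * mapGL σ (invT g)) * fieldAutPSL (σ * σ) := by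
  rw [pow_two]
  have h1 : (iotaAut : MulAut PSLn) * PhiL g = PhiL (invT g) * iotaAut := iotaAut_mul_PhiL g
  have h2 := fieldAutPSL_mul_PhiL (n := n) σ (invT g)
  have h3 := fieldAutPSL_mul_iota (n := n) σ
  have h4 : (iotaAut : MulAut PSLn) * iotaAut = 1 := iotaAut_mul_self
  have h5 : fieldAutPSL (n := n) (σ * σ) = fieldAutPSL σ * fieldAutPSL σ :=
    map_mul (fieldAutHom (F := F) (n := n)) σ σ
  rw [map_mul, h5]
  calc PhiL g * fieldAutPSL σ * iotaAut * (PhiL g * fieldAutPSL σ * iotaAut)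
      = PhiL g * fieldAutPSL σ * (iotaAut * PhiL g) * fieldAutPSL σ * iotaAut := by
        simp only [mul_assoc]
    _ = PhiL g * (fieldAutPSL σ * PhiL (invT g)) * (iotaAut * fieldAutPSL σ) * iotaAut := by
        rw [h1]; simp only [mul_assoc]
    _ = PhiL g * (PhiL (mapGL σ (invT g)) * fieldAutPSL σ) * (fieldAutPSL σ * iotaAut) * iotaAut := by
        rw [h2, h3]
    _ = PhiL g * PhiL (mapGL σ (invT g)) * (fieldAutPSL σ * fieldAutPSL σ) * (iotaAut * iotaAut) := by
        simp only [mul_assoc]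
    _ = _ := by rw [h4, mul_one]

theorem starM_smul (σ : F →+* F) (c : F) (A : Mn) : starM σ (c • A) = σ c • starM σ A := by
  ext i j
  show σ (c * A j i) = σ c * σ (A j i)
  exact map_mul σ _ _

/-- the graph-field coset: involutions are conjugate to `φ_σ ι` -/
theorem gf_coset_conj [Finite F] (hn : 0 < n) (σ : F ≃+* F) (hσ2 : σ * σ = 1) (hσ1 : σ ≠ 1)
    (g : GL (Fin n) F)
    (hpow : (PhiL g * fieldAutPSL σ * iotaAut : MulAut PSLn) ^ 2 = 1) :
    ∃ h : GL (Fin n) F, PhiL g * fieldAutPSL σ * iotaAut =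
      PhiL h * (fieldAutPSL σ * iotaAut) * (PhiL h)⁻¹ := by
  classical
  let τ : F →+* F := (σ : F →+* F)
  have hτ : ∀ x, τ (τ x) = x := by
    intro x
    have := DFunLike.congr_fun hσ2 x
    exact this
  have hne : ∃ z, τ z ≠ z := by
    by_contra hcon
    push Not at hcon
    apply hσ1
    ext x
    exact hcon x
  have hnorm : ∀ a, τ a = a → a ≠ 0 → ∃ l, l * τ l = a := fun a ha ha0 =>
    Cfsg.Agent.Helper40.Iso.exists_norm_eq τ hτ hne a ha ha0
  rw [sq_PhiL_mul_gf, hσ2] at hpow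
  have h1 : fieldAutPSL (n := n) (1 : F ≃+* F) = 1 := map_one (fieldAutHom (F := F) (n := n))
  rw [h1, mul_one, PhiL_eq_one_iff hn, Cfsg.Geo.mem_scalars_iff] at hpow
  obtain ⟨c, hc⟩ := hpow
  -- `g = c • g*`
  have hgs : (g : Mn) = (c : F) • starM τ (g : Mn) := by
    have h2 : ((mapGL σ (invT g) : GL (Fin n) F) : Mn) * starM τ (g : Mn) = 1 := by
      rw [mapGL_coe, invT_coe]
      show (((g⁻¹ : GL (Fin n) F) : Mn)ᵀ).map σ * (((g : Mn).map σ))ᵀ = 1
      have h3 : (((g⁻¹ : GL (Fin n) F) : Mn)ᵀ).map σ = ((((g⁻¹ : GL (Fin n) F) : Mn)).map σ)ᵀ :=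
        (Matrix.transpose_map).symm
      rw [h3, ← Matrix.transpose_mul]
      have h4 : (g : Mn).map σ * ((g⁻¹ : GL (Fin n) F) : Mn).map σ = 1 := by
        have := sm_mul σ (g : Mn) ((g⁻¹ : GL (Fin n) F) : Mn)
        rw [coe_mul_inv, sm_one] at this
        exact this.symm
      rw [h4, Matrix.transpose_one]
    have h5 : ((g * mapGL σ (invT g) : GL (Fin n) F) : Mn) * starM τ (g : Mn) =
        ((c : F) • (1 : Mn)) * starM τ (g : Mn) := by rw [hc]
    rw [Units.val_mul, Matrix.mul_assoc, h2, Matrix.mul_one, Matrix.smul_mul, Matrix.one_mul] at h5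
    exact h5
  have hgU : IsUnit (g : Mn) := ⟨g, rfl⟩
  -- `c σ(c) = 1`
  have hcc : (c : F) * τ (c : F) = 1 := by
    have h6 : starM τ (g : Mn) = τ (c : F) • (g : Mn) := by
      conv_lhs => rw [hgs]
      rw [starM_smul, starM_starM τ hτ]
    have h7 : (g : Mn) = ((c : F) * τ (c : F)) • (g : Mn) := by
      conv_lhs => rw [hgs, h6]
      rw [smul_smul]
    have h8 : ((c : F) * τ (c : F) - 1) • (g : Mn) = 0 := by
      rw [sub_smul, one_smul, ← h7, sub_self]
    have h9 : ((c : F) * τ (c : F) - 1) • ((g : Mn) * ((g⁻¹ : GL (Fin n) F) : Mn)) = 0 := by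
      rw [← Matrix.smul_mul, h8, Matrix.zero_mul]
    rw [coe_mul_inv] at h9
    have h10 := congrFun (congrFun h9 ⟨0, hn⟩) ⟨0, hn⟩
    rw [Matrix.smul_apply, Matrix.one_apply_eq, smul_eq_mul, mul_one, Matrix.zero_apply] at h10
    exact sub_eq_zero.1 h10
  obtain ⟨d, hd0, hd⟩ := Cfsg.Agent.Helper40.Iso.hilbert90 τ hτ hne (c : F) hcc
  -- the hermitian matrix `G = σ(d) • g`
  have hτd0 : τ d ≠ 0 := by
    intro h0
    apply hd0
    have := congrArg τ h0
    rw [hτ, map_zero] at this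
    exact this
  let G : Mn := τ d • (g : Mn)
  have hGs : starM τ G = G := by
    show starM τ (τ d • (g : Mn)) = τ d • (g : Mn)
    rw [starM_smul, hτ]
    have h6 : starM τ (g : Mn) = ((c : F))⁻¹ • (g : Mn) := by
      conv_rhs => rw [hgs]
      rw [smul_smul, inv_mul_cancel₀ c.ne_zero, one_smul]
    rw [h6, smul_smul]
    congr 1
    -- d * c⁻¹ = τ d
    have hc0 : (c : F) ≠ 0 := c.ne_zero
    calc d * (c : F)⁻¹ = ((c : F) * τ d) * (c : F)⁻¹ := by rw [hd]
      _ = τ d := by field_simp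
  have hGU : IsUnit G := by
    have : G = (τ d • (1 : Mn)) * (g : Mn) := by
      show τ d • (g : Mn) = _
      rw [Matrix.smul_mul, Matrix.one_mul]
    rw [this]
    refine IsUnit.mul ?_ hgU
    exact ⟨scGL (Units.mk0 (τ d) hτd0), rfl⟩
  obtain ⟨m, hmU, hm⟩ := exists_factor τ hτ hne hnorm G hGU hGs
  -- `H = m*`
  have hHU : IsUnit (starM τ m) := isUnit_starM τ hmU
  obtain ⟨H, hH⟩ := hHU
  refine ⟨H, ?_⟩
  -- compute the conjugate
  have h11 : (iotaAut : MulAut PSLn) * (PhiL H)⁻¹ = PhiL (invT H⁻¹) * iotaAut := by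
    rw [← map_inv]
    exact iotaAut_mul_PhiL H⁻¹
  have h12 : PhiL H * (fieldAutPSL σ * iotaAut) * (PhiL H)⁻¹ =
      PhiL (H * mapGL σ (invT H⁻¹)) * fieldAutPSL σ * iotaAut := by
    calc PhiL H * (fieldAutPSL σ * iotaAut) * (PhiL H)⁻¹
        = PhiL H * fieldAutPSL σ * (iotaAut * (PhiL H)⁻¹) := by simp only [mul_assoc]
      _ = PhiL H * (fieldAutPSL σ * PhiL (invT H⁻¹)) * iotaAut := by
          rw [h11]; simp only [mul_assoc]
      _ = PhiL H * (PhiL (mapGL σ (invT H⁻¹)) * fieldAutPSL σ) * iotaAut := by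
          rw [fieldAutPSL_mul_PhiL]
      _ = _ := by rw [map_mul]; simp only [mul_assoc]
  rw [h12]
  congr 2
  -- `PhiL g = PhiL (H * σ(Hᵀ))`
  have h13 : H * mapGL σ (invT H⁻¹) = scGL (Units.mk0 (τ d) hτd0) * g := by
    apply Units.ext
    rw [Units.val_mul, Units.val_mul, mapGL_coe, invT_inv_val, scGL_coe, Matrix.smul_mul,
      Matrix.one_mul, hH]
    show starM τ m * ((starM τ m)ᵀ).map σ = τ d • (g : Mn)
    have h14 : ((starM τ m)ᵀ).map σ = starM τ (starM τ m) := by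
      show ((starM τ m)ᵀ).map σ = ((starM τ m).map τ)ᵀ
      rw [Matrix.transpose_map]
      rfl
    rw [h14, starM_starM τ hτ]
    exact hm
  rw [h13, map_mul, PhiL_scGL hn, one_mul]

end Cfsg.Agent.Helper40.AutPSLNorm
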