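import Mathlib
import Cfsg.Agent.Lib.Helper40.AutPSLGraphField

/-!
# S2697 from the structure hypothesis: in the coset `Inndiag · x` of a field or graph-field
automorphism `x` of prime order `r`, the elements of order `r` are the `Inndiag`-conjugates of `x`.
-/

set_option autoImplicit false
set_option linter.unusedSectionVars false
set_option linter.unusedSimpArgs false
set_option linter.unusedVariables false

namespace Cfsg.Agent.Helper40.AutPSLNorm

open Matrix Cfsg.Agent.Helper13.PSLAut Cfsg.Agent.Helper13.GraphAutPSL Cfsg.Agent.Helper40.OutPSL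
  Cfsg.Agent.Helper40.H90

variable {F : Type*} [Field F] {n : ℕ}

local notation "SLn" => Matrix.SpecialLinearGroup (Fin n) F
local notation "PSLn" => Matrix.ProjectiveSpecialLinearGroup (Fin n) F
local notation "Mn" => Matrix (Fin n) (Fin n) F

/-- transport of a conjugacy statement along an automorphism normalizing `D` -/
theorem transport_conj {A : Type*} [Group A] (D : Subgroup A) [hD : D.Normal] (α x δ x₀ : A)
    (hx₀ : α * x * α⁻¹ = x₀) (hδ : δ ∈ D)
    (h : ∀ d ∈ D, orderOf (d * x₀) = orderOf x₀ → ∃ k ∈ D, d * x₀ = k * x₀ * k⁻¹)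
    (hord : orderOf (δ * x) = orderOf x) :
    ∃ k ∈ D, δ * x = k * x * k⁻¹ := by
  have h1 : α * (δ * x) * α⁻¹ = (α * δ * α⁻¹) * x₀ := by rw [← hx₀]; group
  have h2 : α * δ * α⁻¹ ∈ D := hD.conj_mem δ hδ α
  have h3 : orderOf (α * (δ * x) * α⁻¹) = orderOf (δ * x) := by
    have := orderOf_injective (MulAut.conj α).toMonoidHom (MulAut.conj α).injective (δ * x)
    simpa [MulAut.conj_apply] using this
  have h4 : orderOf x₀ = orderOf x := by
    rw [← hx₀]
    have := orderOf_injective (MulAut.conj α).toMonoidHom (MulAut.conj α).injective x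
    simpa [MulAut.conj_apply] using this
  obtain ⟨k, hk, hkx⟩ := h (α * δ * α⁻¹) h2 (by rw [← h1, h3, hord, h4])
  refine ⟨α⁻¹ * k * α, ?_, ?_⟩
  · have := hD.conj_mem k hk α⁻¹
    rwa [inv_inv] at this
  · have h5 : δ * x = α⁻¹ * (α * (δ * x) * α⁻¹) * α := by group
    rw [h5, h1, hkx, ← hx₀]
    group

theorem range_PhiL_normal_of_struct (hS : Struct n F) :
    (Cfsg.inndiagPSL n F).Normal := by
  rw [inndiagPSL_eq_range]
  exact range_normal hS

/-- S2697 from the structure hypothesis -/
theorem coset_main [Finite F] (hn : 2 ≤ n) (hS : Struct n F)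
    (x δ : MulAut PSLn) (hx : Cfsg.IsFieldAutClassPSL x ∨ Cfsg.IsGraphFieldAutClassPSL x)
    {r : ℕ} (hr : r.Prime) (hxr : orderOf x = r) (hδ : δ ∈ Cfsg.inndiagPSL n F) :
    orderOf (δ * x) = r ↔ Cfsg.IsConjUnder (Cfsg.inndiagPSL n F) x (δ * x) := by
  have hn0 : 0 < n := by omega
  have hD : (Cfsg.inndiagPSL n F).Normal := range_PhiL_normal_of_struct hS
  constructor
  · intro hord
    rcases hx with ⟨α, σ, hσ, hstd⟩ | ⟨hn3, α, φ, γ, σ, hσ, hφ, hγ, hαx⟩
    · -- field automorphism
      have hx₀ : α * x * α⁻¹ = fieldAutPSL σ := eq_fieldAutPSL hstd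
      have hordφ : orderOf (fieldAutPSL (n := n) σ) = r := by
        rw [← hx₀, ← hxr]
        have := orderOf_injective (MulAut.conj α).toMonoidHom (MulAut.conj α).injective x
        simpa [MulAut.conj_apply] using this
      have hσr : orderOf σ = r := by rw [← orderOf_fieldAutPSL hn]; exact hordφ
      obtain ⟨k, hk, hkx⟩ := transport_conj (Cfsg.inndiagPSL n F) α x δ (fieldAutPSL σ) hx₀ hδ
        (by
          intro d hd hdord
          rw [inndiagPSL_eq_range] at hd
          obtain ⟨g, rfl⟩ := hd
          have hpow : (PhiL g * fieldAutPSL σ : MulAut PSLn) ^ r = 1 := by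
            rw [← hordφ, ← hdord]
            exact pow_orderOf_eq_one _
          obtain ⟨h, hh⟩ := field_coset_conj hn0 σ hr.pos hσr g hpow
          refine ⟨PhiL h, ?_, hh⟩
          rw [inndiagPSL_eq_range]
          exact ⟨h, rfl⟩)
        (by rw [hord, hxr])
      exact ⟨k, hk, hkx⟩
    · -- graph-field automorphism
      have hφ' : φ = fieldAutPSL σ := eq_fieldAutPSL hφ
      have hγ' : γ = iotaAut := eq_iotaAut hγ
      have hx₀ : α * x * α⁻¹ = fieldAutPSL σ * iotaAut := by rw [hαx, hφ', hγ']
      have hordφ : orderOf (fieldAutPSL (n := n) σ * iotaAut) = r := by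
        rw [← hx₀, ← hxr]
        have := orderOf_injective (MulAut.conj α).toMonoidHom (MulAut.conj α).injective x
        simpa [MulAut.conj_apply] using this
      -- the square
      have hsq : (fieldAutPSL (n := n) σ * iotaAut) ^ 2 = fieldAutPSL (σ * σ) := by
        have := sq_PhiL_mul_gf (n := n) σ (1 : GL (Fin n) F)
        rw [map_one, one_mul] at this
        rw [this]
        have h1 : (1 : GL (Fin n) F) * mapGL σ (invT 1) = 1 := by
          rw [invT_one, map_one, one_mul]
        rw [h1, map_one, one_mul]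
      -- r = 2
      have hr2 : r = 2 := by
        by_contra hne2
        have hodd : Odd r := hr.odd_of_ne_two hne2
        obtain ⟨k, hk⟩ := hodd
        have hpow : (fieldAutPSL (n := n) σ * iotaAut) ^ r = 1 := by
          rw [← hordφ]; exact pow_orderOf_eq_one _
        rw [hk, pow_succ, pow_mul, hsq] at hpow
        have h2 : (fieldAutPSL (n := n) (σ * σ)) ^ k = fieldAutPSL ((σ * σ) ^ k) :=
          (map_pow (fieldAutHom (F := F) (n := n)) (σ * σ) k).symm
        have h3 : fieldAutPSL (n := n) ((σ * σ) ^ k) * fieldAutPSL σ = fieldAutPSL ((σ * σ) ^ k * σ) :=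
          (map_mul (fieldAutHom (F := F) (n := n)) _ _).symm
        rw [h2, ← mul_assoc, h3] at hpow
        apply fieldAut_mul_iota_ne_PhiL hn3 ((σ * σ) ^ k * σ) (1 : GL (Fin n) F)
        rw [hpow, map_one]
      have hσ2 : σ * σ = 1 := by
        have hpow : (fieldAutPSL (n := n) σ * iotaAut) ^ 2 = 1 := by
          rw [← hr2, ← hordφ]; exact pow_orderOf_eq_one _
        rw [hsq] at hpow
        have h1 : fieldAutHom (F := F) (n := n) (σ * σ) = 1 := hpow
        exact (injective_iff_map_eq_one _).1 (fieldAutHom_injective hn) _ h1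
      obtain ⟨k, hk, hkx⟩ := transport_conj (Cfsg.inndiagPSL n F) α x δ
        (fieldAutPSL σ * iotaAut) hx₀ hδ
        (by
          intro d hd hdord
          rw [inndiagPSL_eq_range] at hd
          obtain ⟨g, rfl⟩ := hd
          have hpow : (PhiL g * fieldAutPSL σ * iotaAut : MulAut PSLn) ^ 2 = 1 := by
            rw [← hr2, ← hordφ, ← hdord, mul_assoc]
            exact pow_orderOf_eq_one _
          obtain ⟨h, hh⟩ := gf_coset_conj hn0 σ hσ2 hσ g hpow
          refine ⟨PhiL h, ?_, ?_⟩
          · rw [inndiagPSL_eq_range]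
            exact ⟨h, rfl⟩
          · rw [← hh, mul_assoc])
        (by rw [hord, hxr])
      exact ⟨k, hk, hkx⟩
  · rintro ⟨k, hk, hkx⟩
    rw [hkx, ← hxr]
    have := orderOf_injective (MulAut.conj k).toMonoidHom (MulAut.conj k).injective x
    simpa [MulAut.conj_apply] using this

end Cfsg.Agent.Helper40.AutPSLNorm
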