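import Mathlib

/-!
# The fixed subfield of an automorphism of a finite field

`fixK σ` is the subfield `{a | σ a = a}`; for `|F| = p ^ f` and `orderOf σ = r` it has `p ^ (f / r)`
elements and `r ∣ f`.
-/

set_option autoImplicit false

namespace Cfsg.Agent.Helper40.FixK

variable {F : Type*} [Field F]

/-- the fixed subfield of `σ` -/
def fixK (σ : F ≃+* F) : Subfield F where
  carrier := {a | σ a = a}
  mul_mem' {a b} ha hb := by
    show σ (a * b) = a * b
    rw [map_mul, ha, hb]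
  one_mem' := map_one σ
  add_mem' {a b} ha hb := by
    show σ (a + b) = a + b
    rw [map_add, ha, hb]
  zero_mem' := map_zero σ
  neg_mem' {a} ha := by
    show σ (-a) = -a
    rw [map_neg, ha]
  inv_mem' a ha := by
    show σ a⁻¹ = a⁻¹
    rw [map_inv₀, ha]

theorem mem_fixK (σ : F ≃+* F) (a : F) : a ∈ fixK σ ↔ σ a = a := Iff.rfl

theorem pow_fixed (σ : F ≃+* F) {a : F} (ha : σ a = a) (k : ℕ) : (σ ^ k) a = a := by
  induction k with
  | zero => rfl
  | succ k ih =>
    rw [pow_succ]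
    show (σ ^ k) (σ a) = a
    rw [ha, ih]

theorem zpow_fixed (σ : F ≃+* F) {a : F} (ha : σ a = a) (k : ℤ) : (σ ^ k) a = a := by
  have hinv : ∀ m : ℕ, ((σ ^ m)⁻¹ : F ≃+* F) a = a := by
    intro m
    have h1 := pow_fixed σ ha m
    have h2 : ((σ ^ m)⁻¹ : F ≃+* F) ((σ ^ m) a) = a := by
      show ((σ ^ m)⁻¹ * (σ ^ m) : F ≃+* F) a = a
      rw [inv_mul_cancel]
      rfl
    rw [h1] at h2
    exact h2
  cases k with
  | ofNat m => rw [Int.ofNat_eq_natCast, zpow_natCast]; exact pow_fixed σ ha m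
  | negSucc m => rw [zpow_negSucc]; exact hinv (m + 1)

theorem fixK_eq (σ : F ≃+* F) : fixK σ = FixedPoints.subfield (Subgroup.zpowers σ) F := by
  ext a
  constructor
  · intro ha
    rintro ⟨τ, k, rfl⟩
    exact zpow_fixed σ ha k
  · intro ha
    exact ha ⟨σ, Subgroup.mem_zpowers σ⟩

theorem finrank_fixK [Finite F] (σ : F ≃+* F) :
    Module.finrank (fixK σ) F = orderOf σ := by
  classical
  have hfin : Finite (F ≃+* F) := Finite.of_injective (fun e : F ≃+* F => (e : F → F))
    (fun a b h => RingEquiv.ext (congrFun h))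
  have : Fintype (Subgroup.zpowers σ) := Fintype.ofFinite _
  have h1 := FixedPoints.finrank_eq_card (Subgroup.zpowers σ) F
  rw [Fintype.card_eq_nat_card, Nat.card_zpowers] at h1
  rw [← h1]
  have h2 := fixK_eq σ
  rw [h2]

theorem card_fixK [Fintype F] (σ : F ≃+* F) {p f r : ℕ} (hp : p.Prime)
    (hF : Fintype.card F = p ^ f) (hσ : orderOf σ = r) (hr : 0 < r) :
    r ∣ f ∧ Nat.card (fixK σ) = p ^ (f / r) := by
  classical
  have : Fintype (fixK σ) := Fintype.ofFinite _
  have h1 : Fintype.card F = Fintype.card (fixK σ) ^ Module.finrank (fixK σ) F :=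
    Module.card_eq_pow_finrank
  rw [finrank_fixK, hσ, hF] at h1
  have h2 : Fintype.card (fixK σ) ∣ p ^ f := by
    rw [h1]
    exact dvd_pow_self _ (by omega)
  obtain ⟨k, -, hk⟩ := (Nat.dvd_prime_pow hp).1 h2
  rw [hk, ← pow_mul] at h1
  have h3 : f = k * r := Nat.pow_right_injective hp.two_le h1
  refine ⟨⟨k, by rw [h3, mul_comm]⟩, ?_⟩
  rw [Nat.card_eq_fintype_card, hk, h3, Nat.mul_div_cancel _ hr]

end Cfsg.Agent.Helper40.FixK
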