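import Mathlib
import Cfsg.Agent.Lib.Helper40.AutPSLField
import Cfsg.Agent.Lib.Helper40.FixedSubfield
import Cfsg.Agent.Lib.Helper43.GraphAutCongr

/-!
# A Lang-type lemma for similarities of a symmetric form in odd dimension and a field automorphism

`B` symmetric invertible with `σ`-fixed entries on an index type of odd cardinality, odd
characteristic.  `G` with `Gᵀ B G = μ B` and `N_σ(G) = 1`: then `G σ(H) = H` for some invertible `H`
with `Hᵀ B H = ν B`.
-/

set_option autoImplicit false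
set_option linter.unusedSectionVars false
set_option linter.unusedSimpArgs false
set_option linter.unusedVariables false

namespace Cfsg.Agent.Helper40.LangO

open Matrix Cfsg.Agent.Helper40.H90 Cfsg.Agent.Helper40.AutPSLNorm Cfsg.Agent.Helper40.FixK

variable {F : Type*} [Field F] {ι : Type*} [Fintype ι] [DecidableEq ι]

local notation "Mι" => Matrix ι ι F

/-- entrywise application of `σ` -/
def smI (σ : F ≃+* F) (A : Mι) : Mι := A.map σ

theorem smI_mul (σ : F ≃+* F) (A B : Mι) : smI σ (A * B) = smI σ A * smI σ B :=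
  map_mul (σ : F →+* F).mapMatrix A B

theorem smI_one (σ : F ≃+* F) : smI σ (1 : Mι) = 1 :=
  map_one (σ : F →+* F).mapMatrix

theorem smI_smul (σ : F ≃+* F) (c : F) (A : Mι) : smI σ (c • A) = σ c • smI σ A := by
  ext i j
  show σ (c * A i j) = σ c * σ (A i j)
  exact map_mul σ _ _

theorem smI_transpose (σ : F ≃+* F) (A : Mι) : smI σ Aᵀ = (smI σ A)ᵀ := rfl

theorem smI_mul' (σ τ : F ≃+* F) (A : Mι) : smI (σ * τ) A = smI σ (smI τ A) := rfl

theorem smI_one' (A : Mι) : smI (1 : F ≃+* F) A = A := rfl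

theorem smI_smul_one (σ : F ≃+* F) (c : F) : smI σ (c • (1 : Mι)) = σ c • (1 : Mι) := by
  rw [smI_smul, smI_one]

/-- the partial norms `g σ(g) ⋯ σ^{k-1}(g)` -/
def nrmI (σ : F ≃+* F) (g : Mι) : ℕ → Mι
  | 0 => 1
  | k + 1 => g * smI σ (nrmI σ g k)

theorem nrmI_smul (σ : F ≃+* F) (l : Fˣ) (g : Mι) (k : ℕ) :
    nrmI σ ((l : F) • g) k = ((nrmU σ l k : Fˣ) : F) • nrmI σ g k := by
  induction k with
  | zero => simp [nrmI, nrmU]
  | succ k ih =>
    show ((l : F) • g) * smI σ (nrmI σ ((l : F) • g) k) =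
      (((l * Units.map (σ : F →* F) (nrmU σ l k) : Fˣ)) : F) • (g * smI σ (nrmI σ g k))
    rw [ih, smI_smul, Matrix.smul_mul, Matrix.mul_smul, smul_smul]
    rfl

theorem nrmI_succ' (σ : F ≃+* F) (g : Mι) (k : ℕ) :
    nrmI σ g (k + 1) = nrmI σ g k * smI (σ ^ k) g := by
  induction k with
  | zero =>
    show g * smI σ 1 = 1 * smI (1 : F ≃+* F) g
    rw [smI_one, Matrix.mul_one, Matrix.one_mul]
    rfl
  | succ k ih =>
    show g * smI σ (nrmI σ g (k + 1)) = _
    rw [ih, smI_mul, ← Matrix.mul_assoc]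
    show nrmI σ g (k + 1) * _ = _
    congr 1
    rw [pow_succ']
    rfl

/-! ### reindexing to `Fin n` -/

section Reindex

variable {n : ℕ} (e : ι ≃ Fin n)

/-- reindex to `Fin n` -/
def rx (A : Mι) : Matrix (Fin n) (Fin n) F := A.submatrix e.symm e.symm

/-- reindex back -/
def rxInv (B : Matrix (Fin n) (Fin n) F) : Mι := B.submatrix e e

theorem rxInv_rx (A : Mι) : rxInv e (rx e A) = A := by
  ext i j
  simp [rx, rxInv]

theorem rx_mul (A B : Mι) : rx e (A * B) = rx e A * rx e B := by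
  unfold rx
  rw [Matrix.submatrix_mul_equiv]

theorem rxInv_mul (A B : Matrix (Fin n) (Fin n) F) :
    rxInv e (A * B) = rxInv e A * rxInv e B := by
  unfold rxInv
  rw [Matrix.submatrix_mul_equiv]

theorem rx_one : rx e (1 : Mι) = 1 := by
  unfold rx
  rw [Matrix.submatrix_one_equiv]

theorem rxInv_one : rxInv e (1 : Matrix (Fin n) (Fin n) F) = (1 : Mι) := by
  unfold rxInv
  rw [Matrix.submatrix_one_equiv]

theorem rx_sm (σ : F ≃+* F) (A : Mι) : rx e (smI σ A) = sm σ (rx e A) := rfl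

theorem rxInv_sm (σ : F ≃+* F) (B : Matrix (Fin n) (Fin n) F) :
    rxInv e (sm σ B) = smI σ (rxInv e B) := rfl

theorem rx_nrm (σ : F ≃+* F) (g : Mι) (k : ℕ) : rx e (nrmI σ g k) = nrm σ (rx e g) k := by
  induction k with
  | zero => exact rx_one e
  | succ k ih =>
    show rx e (g * smI σ (nrmI σ g k)) = rx e g * sm σ (nrm σ (rx e g) k)
    rw [rx_mul, rx_sm, ih]

end Reindex

/-- Hilbert 90 for `GL` on an arbitrary finite index set -/
theorem hilbert90_I (σ : F ≃+* F) (g : Mι) {r : ℕ} (hr : 0 < r) (hσ : orderOf σ = r)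
    (hN : nrmI σ g r = 1) :
    ∃ h h' : Mι, h * h' = 1 ∧ h' * h = 1 ∧ g * smI σ h = h := by
  let e := Fintype.equivFin ι
  have hN' : nrm σ (rx e g) r = 1 := by rw [← rx_nrm, hN, rx_one]
  obtain ⟨h, h', h1, h2, h3⟩ := hilbert90_matrix σ (rx e g) hr hσ hN'
  refine ⟨rxInv e h, rxInv e h', ?_, ?_, ?_⟩
  · rw [← rxInv_mul, h1, rxInv_one]
  · rw [← rxInv_mul, h2, rxInv_one]
  · have := congrArg (rxInv e) h3
    rw [rxInv_mul, rxInv_rx, rxInv_sm] at this
    exact this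

/-! ### the Lang-type lemma -/

theorem smul_inj_of_ne {B : Mι} (hB : B ≠ 0) {a b : F} (h : a • B = b • B) : a = b := by
  have h1 : (a - b) • B = 0 := by rw [sub_smul, h, sub_self]
  exact sub_eq_zero.mp ((smul_eq_zero.mp h1).resolve_right hB)

/-- the multiplier of the partial norms -/
theorem mult_nrm (σ : F ≃+* F) (B : Mι) (hBσ : smI σ B = B) (G : Mι) (μ : Fˣ)
    (hG : Gᵀ * B * G = (μ : F) • B) (k : ℕ) :
    (nrmI σ G k)ᵀ * B * nrmI σ G k = ((nrmU σ μ k : Fˣ) : F) • B := by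
  induction k with
  | zero =>
    show (1 : Mι)ᵀ * B * (1 : Mι) = ((1 : Fˣ) : F) • B
    rw [Matrix.transpose_one, Matrix.one_mul, Matrix.mul_one, Units.val_one, one_smul]
  | succ k ih =>
    show (G * smI σ (nrmI σ G k))ᵀ * B * (G * smI σ (nrmI σ G k)) =
      ((μ * Units.map (σ : F →* F) (nrmU σ μ k) : Fˣ) : F) • B
    have h1 : (G * smI σ (nrmI σ G k))ᵀ * B * (G * smI σ (nrmI σ G k)) =
        (smI σ (nrmI σ G k))ᵀ * (Gᵀ * B * G) * smI σ (nrmI σ G k) := by
      rw [Matrix.transpose_mul]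
      simp only [Matrix.mul_assoc]
    rw [h1, hG, Matrix.mul_smul, Matrix.smul_mul]
    have h2 : (smI σ (nrmI σ G k))ᵀ * B * smI σ (nrmI σ G k) =
        smI σ ((nrmI σ G k)ᵀ * B * nrmI σ G k) := by
      rw [smI_mul, smI_mul, hBσ, smI_transpose]
    rw [h2, ih, smI_smul, hBσ, smul_smul, Units.val_mul]
    rfl

/-- two `σ`-fixed symmetric invertible matrices in odd dimension are `σ`-rationally congruent up to
a `σ`-fixed scalar -/
theorem exists_congr_fixed_sym [Finite F] (h2 : (2 : F) ≠ 0) (hodd : Odd (Fintype.card ι))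
    (σ : F ≃+* F) (S B : Mι) (hSσ : smI σ S = S) (hBσ : smI σ B = B) (hSs : Sᵀ = S) (hBs : Bᵀ = B)
    (hSdet : S.det ≠ 0) (hBdet : B.det ≠ 0) :
    ∃ D E : Mι, D * E = 1 ∧ E * D = 1 ∧ smI σ D = D ∧ smI σ E = E ∧
      ∃ d : Fˣ, σ (d : F) = d ∧ Dᵀ * S * D = (d : F) • B := by
  classical
  let K := fixK σ
  have : Fintype ↥K := Fintype.ofFinite _
  let e := Fintype.equivFin ι
  set n := Fintype.card ι with hn
  let SK : Matrix (Fin n) (Fin n) ↥K := fun i j => ⟨S (e.symm i) (e.symm j), by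
    have := congrFun (congrFun hSσ (e.symm i)) (e.symm j)
    exact this⟩
  let BK : Matrix (Fin n) (Fin n) ↥K := fun i j => ⟨B (e.symm i) (e.symm j), by
    have := congrFun (congrFun hBσ (e.symm i)) (e.symm j)
    exact this⟩
  have hSK : SK.map K.subtype = rx e S := by
    ext i j; rfl
  have hBK : BK.map K.subtype = rx e B := by
    ext i j; rfl
  have hrxdet : ∀ A : Mι, (rx e A).det = A.det := by
    intro A
    unfold rx
    rw [Matrix.det_submatrix_equiv_self]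
  have hSKdet : SK.det ≠ 0 := by
    intro h0
    have h1 : K.subtype SK.det = (SK.map K.subtype).det := RingHom.map_det _ _
    rw [h0, map_zero, hSK, hrxdet] at h1
    exact hSdet h1.symm
  have hBKdet : BK.det ≠ 0 := by
    intro h0
    have h1 : K.subtype BK.det = (BK.map K.subtype).det := RingHom.map_det _ _
    rw [h0, map_zero, hBK, hrxdet] at h1
    exact hBdet h1.symm
  have hSKs : SKᵀ = SK := by
    ext i j
    exact congrFun (congrFun hSs (e.symm i)) (e.symm j)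
  have hBKs : BKᵀ = BK := by
    ext i j
    exact congrFun (congrFun hBs (e.symm i)) (e.symm j)
  have h2K : (2 : ↥K) ≠ 0 := by
    intro h0
    apply h2
    have h3 : K.subtype (2 : ↥K) = K.subtype (0 : ↥K) := by rw [h0]
    rw [map_ofNat, map_zero] at h3
    exact h3
  obtain ⟨P, c, hP⟩ := Cfsg.Agent.Helper43.GraphAutCongr.exists_congr_odd h2K hodd
    (Matrix.GeneralLinearGroup.mkOfDetNeZero SK hSKdet)
    (Matrix.GeneralLinearGroup.mkOfDetNeZero BK hBKdet) hSKs hBKs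
  have hP' : (P : Matrix (Fin n) (Fin n) ↥K) * SK * ((P : Matrix (Fin n) (Fin n) ↥K))ᵀ =
      (c : ↥K) • BK := hP
  set PM : Matrix (Fin n) (Fin n) ↥K := (P : Matrix (Fin n) (Fin n) ↥K) with hPM
  set QM : Matrix (Fin n) (Fin n) ↥K :=
    ((P⁻¹ : GL (Fin n) ↥K) : Matrix (Fin n) (Fin n) ↥K) with hQM
  have hPQ : PM * QM = 1 := by
    rw [hPM, hQM, ← Units.val_mul, mul_inv_cancel, Units.val_one]
  have hQP : QM * PM = 1 := by
    rw [hPM, hQM, ← Units.val_mul, inv_mul_cancel, Units.val_one]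
  have hmapmul : ∀ A B : Matrix (Fin n) (Fin n) ↥K,
      (A * B).map K.subtype = A.map K.subtype * B.map K.subtype := fun A B =>
    Matrix.map_mul (f := K.subtype)
  have hmapone : (1 : Matrix (Fin n) (Fin n) ↥K).map K.subtype = 1 :=
    Matrix.map_one _ (map_zero _) (map_one _)
  have hc0 : ((c : ↥K) : F) ≠ 0 := by
    intro h0
    exact c.ne_zero (Subtype.ext h0)
  refine ⟨(rxInv e (PM.map K.subtype))ᵀ, (rxInv e (QM.map K.subtype))ᵀ, ?_, ?_, ?_, ?_,
    Units.mk0 ((c : ↥K) : F) hc0, (c : ↥K).2, ?_⟩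
  · rw [← Matrix.transpose_mul, ← rxInv_mul, ← hmapmul, hQP, hmapone, rxInv_one,
      Matrix.transpose_one]
  · rw [← Matrix.transpose_mul, ← rxInv_mul, ← hmapmul, hPQ, hmapone, rxInv_one,
      Matrix.transpose_one]
  · ext i j
    exact (PM (e j) (e i)).2
  · ext i j
    exact (QM (e j) (e i)).2
  · rw [Matrix.transpose_transpose]
    have h3 : S = rxInv e (SK.map K.subtype) := by rw [hSK, rxInv_rx]
    have h4 : B = rxInv e (BK.map K.subtype) := by rw [hBK, rxInv_rx]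
    have h5 : (rxInv e (PM.map K.subtype))ᵀ = rxInv e ((PMᵀ).map K.subtype) := rfl
    rw [h5]
    conv_lhs => rw [h3]
    rw [← rxInv_mul, ← rxInv_mul, ← hmapmul, ← hmapmul, hP']
    conv_rhs => rw [h4]
    ext i j
    rfl

/-- the Lang-type lemma -/
theorem lang_orth [Finite F] (h2 : (2 : F) ≠ 0) (hodd : Odd (Fintype.card ι))
    (B : Mι) (hBs : Bᵀ = B) (hBdet : B.det ≠ 0)
    (σ : F ≃+* F) (hBσ : smI σ B = B) {r : ℕ} (hr : 0 < r) (hσ : orderOf σ = r)
    (G : Mι) (μ : Fˣ) (hG : Gᵀ * B * G = (μ : F) • B) (hN : nrmI σ G r = 1) :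
    ∃ H H' : Mι, H * H' = 1 ∧ H' * H = 1 ∧ G * smI σ H = H ∧
      ∃ ν : Fˣ, Hᵀ * B * H = (ν : F) • B := by
  have hB0 : B ≠ 0 := by
    intro h0
    rw [h0] at hBdet
    have hne : Nonempty ι := by
      by_contra hcon
      rw [not_nonempty_iff] at hcon
      have : Fintype.card ι = 0 := Fintype.card_eq_zero
      rw [this] at hodd
      exact (by decide : ¬ Odd 0) hodd
    exact hBdet Matrix.det_zero
  -- the multiplier has norm one
  have hNμ : nrmU σ μ r = 1 := by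
    have h1 := mult_nrm σ B hBσ G μ hG r
    rw [hN, Matrix.transpose_one, Matrix.one_mul, Matrix.mul_one] at h1
    have h2' : (1 : F) • B = ((nrmU σ μ r : Fˣ) : F) • B := by rw [one_smul]; exact h1
    exact Units.ext (smul_inj_of_ne hB0 h2').symm
  obtain ⟨ν, hν⟩ := h90_units σ hr hσ μ hNμ
  have hν' : σ (ν : F) * (μ : F) = (ν : F) := by
    rw [hν, Units.val_mul]
    have h6 : ((Units.map (σ : F →* F) ν : Fˣ) : F) = σ (ν : F) := rfl
    rw [← h6, mul_comm (ν : F), ← mul_assoc, ← Units.val_mul, mul_inv_cancel, Units.val_one, one_mul]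
  obtain ⟨H, H', hH1, hH2, hH3⟩ := hilbert90_I σ G hr hσ hN
  -- the Gram matrix
  have hS1 : Hᵀ * B * H = (μ : F) • smI σ (Hᵀ * B * H) := by
    conv_lhs => rw [← hH3]
    have h1 : (G * smI σ H)ᵀ * B * (G * smI σ H) = (smI σ H)ᵀ * (Gᵀ * B * G) * smI σ H := by
      rw [Matrix.transpose_mul]
      simp only [Matrix.mul_assoc]
    rw [h1, hG, Matrix.mul_smul, Matrix.smul_mul, smI_mul, smI_mul, hBσ, smI_transpose]
  have hHdet : H.det ≠ 0 := by
    intro h0
    have := congrArg Matrix.det hH1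
    rw [Matrix.det_mul, h0, zero_mul, Matrix.det_one] at this
    exact zero_ne_one this
  have hS3 : (Hᵀ * B * H).det ≠ 0 := by
    rw [Matrix.det_mul, Matrix.det_mul, Matrix.det_transpose]
    exact mul_ne_zero (mul_ne_zero hHdet hBdet) hHdet
  have hν0 : (ν : F) ≠ 0 := ν.ne_zero
  have hT1 : smI σ (((ν⁻¹ : Fˣ) : F) • (Hᵀ * B * H)) = ((ν⁻¹ : Fˣ) : F) • (Hᵀ * B * H) := by
    rw [smI_smul]
    conv_rhs => rw [hS1]
    rw [smul_smul]
    congr 1
    rw [Units.val_inv_eq_inv_val, map_inv₀]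
    have h1 : σ (ν : F) ≠ 0 := by rw [Ne, map_eq_zero_iff σ σ.injective]; exact hν0
    field_simp
    exact hν'.symm
  have hT2 : (((ν⁻¹ : Fˣ) : F) • (Hᵀ * B * H))ᵀ = ((ν⁻¹ : Fˣ) : F) • (Hᵀ * B * H) := by
    rw [Matrix.transpose_smul, Matrix.transpose_mul, Matrix.transpose_mul,
      Matrix.transpose_transpose, hBs, Matrix.mul_assoc]
  have hT3 : (((ν⁻¹ : Fˣ) : F) • (Hᵀ * B * H)).det ≠ 0 := by
    rw [Matrix.det_smul]
    exact mul_ne_zero (pow_ne_zero _ (ν⁻¹).ne_zero) hS3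
  obtain ⟨D, E, hDE, hED, hDσ, hEσ, d, hdσ, hDgram⟩ :=
    exists_congr_fixed_sym h2 hodd σ _ B hT1 hBσ hT2 hBs hT3 hBdet
  refine ⟨H * D, E * H', ?_, ?_, ?_, ν * d, ?_⟩
  · rw [Matrix.mul_assoc, ← Matrix.mul_assoc D, hDE, Matrix.one_mul, hH1]
  · rw [Matrix.mul_assoc, ← Matrix.mul_assoc H', hH2, Matrix.one_mul, hED]
  · rw [smI_mul, hDσ, ← Matrix.mul_assoc, hH3]
  · have h1 : (H * D)ᵀ * B * (H * D) = Dᵀ * (Hᵀ * B * H) * D := by
      rw [Matrix.transpose_mul]
      simp only [Matrix.mul_assoc]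
    have h2' : Hᵀ * B * H = (ν : F) • (((ν⁻¹ : Fˣ) : F) • (Hᵀ * B * H)) := by
      rw [smul_smul, ← Units.val_mul, mul_inv_cancel, Units.val_one, one_smul]
    rw [h1, h2', Matrix.mul_smul, Matrix.smul_mul, hDgram, smul_smul, Units.val_mul]

end Cfsg.Agent.Helper40.LangO
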