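import Mathlib
import Cfsg.Agent.Lib.Helper40.AutPOmKer
import Cfsg.Agent.Lib.Helper40.LangOrth
import Cfsg.Agent.Lib.Helper40.AutPSLCoset

/-!
# `PΩ(Q)` in odd dimension: elements of order `r` in the coset `PGO · φ_σ` are `PGO`-conjugate
to `φ_σ`
-/

set_option autoImplicit false
set_option linter.unusedSectionVars false
set_option linter.unusedSimpArgs false
set_option linter.unusedVariables false

namespace Cfsg.Agent.Helper40.AutPOm

open Matrix QuadraticMap Cfsg.Agent.Helper5.OrthAut Cfsg.Agent.Helper40.H90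
  Cfsg.Agent.Helper40.AutPSLNorm Cfsg.Agent.Helper40.FixK Cfsg.Agent.Helper40.LangO

variable {F : Type*} [Field F] {ι : Type} [Fintype ι] [DecidableEq ι]
  (Q : QuadraticForm F (ι → F))

local notation "Mι" => Matrix ι ι F

/-! ### the Gram matrix and the similarity group -/

theorem gram_symm : (gram Q)ᵀ = gram Q := by
  ext i j
  have h1 : gram Q j i = polar (⇑Q) (Pi.single j 1) (Pi.single i 1) := by
    rw [polar_eq_gram, Matrix.mulVec_single_one, single_one_dotProduct]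
    rfl
  have h2 : gram Q i j = polar (⇑Q) (Pi.single i 1) (Pi.single j 1) := by
    rw [polar_eq_gram, Matrix.mulVec_single_one, single_one_dotProduct]
    rfl
  rw [Matrix.transpose_apply, h1, h2, polar_comm]

theorem gram_sigma {σ : F ≃+* F} (hσ : σ ∈ QAut (⇑Q)) : smI σ (gram Q) = gram Q := by
  ext i j
  have h2 : ∀ i j, gram Q i j = polar (⇑Q) (Pi.single i 1) (Pi.single j 1) := by
    intro i j
    rw [polar_eq_gram, Matrix.mulVec_single_one, single_one_dotProduct]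
    rfl
  show σ (gram Q i j) = gram Q i j
  rw [h2, ← polar_sigma Q hσ]
  have h3 : ∀ a : ι, (fun k => σ ((Pi.single a 1 : ι → F) k)) = Pi.single a 1 := by
    intro a
    funext k
    by_cases hk : k = a
    · rw [hk, Pi.single_eq_same, map_one]
    · rw [Pi.single_eq_of_ne hk, map_zero]
  rw [h3, h3]

theorem two_mul_Q (v : ι → F) : 2 * Q v = v ⬝ᵥ (gram Q *ᵥ v) := by
  rw [← polar_eq_gram, QuadraticMap.polar_self]
  simp

theorem mem_GO_of_gram (h2 : (2 : F) ≠ 0) (g : GL ι F) (c : Fˣ)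
    (hg : (g : Mι)ᵀ * gram Q * (g : Mι) = (c : F) • gram Q) : g ∈ GO Q := by
  refine ⟨c, fun v => ?_⟩
  have h1 : 2 * Q ((g : Mι) *ᵥ v) = 2 * ((c : F) * Q v) := by
    rw [two_mul_Q, ← mul_assoc, mul_comm 2 (c : F), mul_assoc, two_mul_Q,
      Cfsg.Agent.Helper43.GraphAutCongr.quad_transform, hg, Matrix.smul_mulVec, dotProduct_smul,
      smul_eq_mul]
  exact mul_left_cancel₀ h2 h1

/-- an invertible matrix with `Hᵀ B H = ν B` as an element of `GO` -/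
noncomputable def mkGO (h2 : (2 : F) ≠ 0) (H H' : Mι) (h1 : H * H' = 1) (h1' : H' * H = 1) (ν : Fˣ)
    (hν : Hᵀ * gram Q * H = (ν : F) • gram Q) : ↥(GO Q) :=
  ⟨⟨H, H', h1, h1'⟩, mem_GO_of_gram Q h2 _ ν hν⟩

theorem mkGO_coe (h2 : (2 : F) ≠ 0) (H H' : Mι) (h1 : H * H' = 1) (h1' : H' * H = 1) (ν : Fˣ)
    (hν : Hᵀ * gram Q * H = (ν : F) • gram Q) :
    (((mkGO Q h2 H H' h1 h1' ν hν : ↥(GO Q)) : GL ι F) : Mι) = H := rfl

/-- scalar matrices in `GO` -/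
noncomputable def scGO (c : Fˣ) : ↥(GO Q) := ⟨sclHom c, sclHom_mem_GO Q c⟩

theorem scGO_coe (c : Fˣ) : (((scGO Q c : ↥(GO Q)) : GL ι F) : Mι) = (c : F) • (1 : Mι) :=
  sclHom_coe c

section Std

variable (hQA : ∀ σ : F ≃+* F, σ ∈ QAut (⇑Q))

/-- partial norms in `GO` -/
noncomputable def nrmGO (σ : F ≃+* F) (g : ↥(GO Q)) : ℕ → ↥(GO Q)
  | 0 => 1
  | k + 1 => g * sigmaGO (⇑Q) (toQAut (⇑Q) hQA σ) (nrmGO σ g k)

theorem nrmGO_coe (σ : F ≃+* F) (g : ↥(GO Q)) (k : ℕ) :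
    (((nrmGO Q hQA σ g k : ↥(GO Q)) : GL ι F) : Mι) = nrmI σ ((g.1 : GL ι F) : Mι) k := by
  induction k with
  | zero => rfl
  | succ k ih =>
    show (((g * sigmaGO (⇑Q) (toQAut (⇑Q) hQA σ) (nrmGO Q hQA σ g k) : ↥(GO Q)) : GL ι F) : Mι) =
      ((g.1 : GL ι F) : Mι) * smI σ (nrmI σ ((g.1 : GL ι F) : Mι) k)
    rw [← ih]
    rfl

theorem pow_PhiGO_mul_field (σ : F ≃+* F) (g : ↥(GO Q)) (k : ℕ) :
    (PhiGO (⇑Q) g * fieldAutStd (⇑Q) hQA σ : MulAut (Cfsg.POmega F ⇑Q)) ^ k =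
      PhiGO (⇑Q) (nrmGO Q hQA σ g k) * fieldAutStd (⇑Q) hQA (σ ^ k) := by
  induction k with
  | zero =>
    show (1 : MulAut (Cfsg.POmega F ⇑Q)) =
      PhiGO (⇑Q) (1 : ↥(GO Q)) * fieldAutStd (⇑Q) hQA (1 : F ≃+* F)
    rw [map_one, map_one, mul_one]
  | succ k ih =>
    rw [pow_succ', ih, pow_succ', map_mul]
    show PhiGO (⇑Q) g * fieldAutStd (⇑Q) hQA σ *
        (PhiGO (⇑Q) (nrmGO Q hQA σ g k) * fieldAutStd (⇑Q) hQA (σ ^ k)) =
      PhiGO (⇑Q) (g * sigmaGO (⇑Q) (toQAut (⇑Q) hQA σ) (nrmGO Q hQA σ g k)) *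
        (fieldAutStd (⇑Q) hQA σ * fieldAutStd (⇑Q) hQA (σ ^ k))
    rw [map_mul]
    calc PhiGO (⇑Q) g * fieldAutStd (⇑Q) hQA σ *
          (PhiGO (⇑Q) (nrmGO Q hQA σ g k) * fieldAutStd (⇑Q) hQA (σ ^ k))
        = PhiGO (⇑Q) g * (fieldAutStd (⇑Q) hQA σ * PhiGO (⇑Q) (nrmGO Q hQA σ g k)) *
            fieldAutStd (⇑Q) hQA (σ ^ k) := by
          simp only [mul_assoc]
      _ = PhiGO (⇑Q) g * (PhiGO (⇑Q) (sigmaGO (⇑Q) (toQAut (⇑Q) hQA σ) (nrmGO Q hQA σ g k)) *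
            fieldAutStd (⇑Q) hQA σ) * fieldAutStd (⇑Q) hQA (σ ^ k) := by
          rw [fieldAutStd_mul_PhiGO]
      _ = _ := by simp only [mul_assoc]

variable (hperf : commutator ↥(Cfsg.Omega F ⇑Q) = ⊤)
  (hcent : ∀ Z : Matrix ι ι F, (∀ s : ↥(Cfsg.Omega F ⇑Q), Z * omat (⇑Q) s = omat (⇑Q) s * Z) →
      ∃ c : F, Z = c • (1 : Matrix ι ι F))

include hperf hcent in
theorem PhiGO_scGO (c : Fˣ) : PhiGO (⇑Q) (scGO Q c) = 1 := by
  rw [PhiGO_eq_one_iff Q hperf hcent]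
  exact sclHom_mem c

include hperf hcent in
/-- the field-automorphism coset of `PΩ(Q)` in odd dimension: elements of order dividing `r` are
conjugate to `φ_σ` -/
theorem field_coset_conj_O [Finite F] (h2 : (2 : F) ≠ 0) (hodd : Odd (Fintype.card ι))
    (hnd : (polarBilin Q).Nondegenerate) (σ : F ≃+* F) {r : ℕ} (hr : 0 < r)
    (hσ : orderOf σ = r) (g : ↥(GO Q))
    (hpow : (PhiGO (⇑Q) g * fieldAutStd (⇑Q) hQA σ : MulAut (Cfsg.POmega F ⇑Q)) ^ r = 1) :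
    ∃ h : ↥(GO Q), PhiGO (⇑Q) g * fieldAutStd (⇑Q) hQA σ =
      PhiGO (⇑Q) h * fieldAutStd (⇑Q) hQA σ * (PhiGO (⇑Q) h)⁻¹ := by
  have hne : Nonempty ι := by
    by_contra hcon
    rw [not_nonempty_iff] at hcon
    have : Fintype.card ι = 0 := Fintype.card_eq_zero
    rw [this] at hodd
    exact (by decide : ¬ Odd 0) hodd
  obtain ⟨i0⟩ := hne
  have hσr : σ ^ r = 1 := by rw [← hσ]; exact pow_orderOf_eq_one σ
  rw [pow_PhiGO_mul_field, hσr, map_one, mul_one, PhiGO_eq_one_iff Q hperf hcent,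
    Cfsg.Geo.mem_scalars_iff] at hpow
  obtain ⟨c, hc⟩ := hpow
  rw [nrmGO_coe] at hc
  set gM : Mι := ((g.1 : GL ι F) : Mι) with hgM
  have hgg' : gM * (((g.1)⁻¹ : GL ι F) : Mι) = 1 := by
    rw [hgM, ← Units.val_mul, mul_inv_cancel, Units.val_one]
  -- `c` is fixed by `σ`
  have hcfix : Units.map (σ : F →* F) c = c := by
    have h2' : nrmI σ gM (r + 1) = gM * smI σ (nrmI σ gM r) := rfl
    have h3 := nrmI_succ' σ gM r
    rw [hσr] at h3
    have h4 : smI (1 : F ≃+* F) gM = gM := rfl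
    rw [h4, h2', hc, smI_smul_one, Matrix.mul_smul, Matrix.mul_one, Matrix.smul_mul, Matrix.one_mul]
      at h3
    have h6 : (σ (c : F) - (c : F)) • gM = 0 := by rw [sub_smul, h3, sub_self]
    have h7 : (σ (c : F) - (c : F)) • (gM * (((g.1)⁻¹ : GL ι F) : Mι)) = 0 := by
      rw [← Matrix.smul_mul, h6, Matrix.zero_mul]
    rw [hgg'] at h7
    have h8 := congrFun (congrFun h7 i0) i0
    rw [Matrix.smul_apply, Matrix.one_apply_eq, smul_eq_mul, mul_one, Matrix.zero_apply] at h8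
    apply Units.ext
    exact sub_eq_zero.1 h8
  have hcfix' : Units.map (σ : F →* F) c⁻¹ = c⁻¹ := by rw [map_inv, hcfix]
  obtain ⟨l, hl⟩ := nrm_surj σ hr hσ c⁻¹ hcfix'
  have hN : nrmI σ ((l : F) • gM) r = 1 := by
    rw [nrmI_smul, hl, hc, smul_smul, ← Units.val_mul, inv_mul_cancel, Units.val_one, one_smul]
  -- the multiplier of `l • g`
  have hcg := gram_sim Q g
  have hG : ((l : F) • gM)ᵀ * gram Q * ((l : F) • gM) = ((l * l * mult Q g : Fˣ) : F) • gram Q := by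
    rw [Matrix.transpose_smul, Matrix.smul_mul, Matrix.smul_mul, Matrix.mul_smul, hgM, hcg,
      smul_smul, smul_smul, Units.val_mul, Units.val_mul]
  obtain ⟨H, H', hH1, hH2, hH3, ν, hν⟩ := lang_orth h2 hodd (gram Q) (gram_symm Q)
    (gram_det_ne_zero Q hnd) σ (gram_sigma Q (hQA σ)) hr hσ _ _ hG hN
  let HC : ↥(GO Q) := mkGO Q h2 H H' hH1 hH2 ν hν
  refine ⟨HC, ?_⟩
  have h1 : g * sigmaGO (⇑Q) (toQAut (⇑Q) hQA σ) HC * scGO Q l = HC := by
    apply Subtype.ext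
    apply Units.ext
    show gM * smI σ H * (((scGO Q l : ↥(GO Q)) : GL ι F) : Mι) = H
    rw [scGO_coe, Matrix.mul_smul, Matrix.mul_one, ← Matrix.smul_mul]
    exact hH3
  have h9 : PhiGO (⇑Q) g = PhiGO (⇑Q) HC *
      (PhiGO (⇑Q) (sigmaGO (⇑Q) (toQAut (⇑Q) hQA σ) HC))⁻¹ := by
    have h2' := congrArg (PhiGO (⇑Q)) h1
    rw [map_mul, map_mul, PhiGO_scGO Q hperf hcent, mul_one] at h2'
    rw [← h2']
    group
  have h11 : fieldAutStd (⇑Q) hQA σ * (PhiGO (⇑Q) HC)⁻¹ =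
      (PhiGO (⇑Q) (sigmaGO (⇑Q) (toQAut (⇑Q) hQA σ) HC))⁻¹ * fieldAutStd (⇑Q) hQA σ := by
    rw [eq_inv_mul_iff_mul_eq, ← mul_assoc, ← fieldAutStd_mul_PhiGO, mul_assoc, mul_inv_cancel,
      mul_one]
  rw [mul_assoc (PhiGO (⇑Q) HC), h11, ← mul_assoc, ← h9]

include hperf hcent in
/-- the coset theorem from the structure hypothesis -/
theorem coset_main_O [Finite F] (D : RigData Q) (h2 : (2 : F) ≠ 0)
    (hodd : Odd (Fintype.card ι)) (hnd : (polarBilin Q).Nondegenerate)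
    (hS : StructO (⇑Q) hQA)
    (x δ : MulAut (Cfsg.POmega F ⇑Q)) (hx : Cfsg.IsFieldAutClassPOmega (⇑Q) x)
    {r : ℕ} (hr : r.Prime) (hxr : orderOf x = r) (hδ : δ ∈ Cfsg.pgoAut F ⇑Q) :
    orderOf (δ * x) = r ↔ Cfsg.IsConjUnder (Cfsg.pgoAut F ⇑Q) x (δ * x) := by
  have hD : (Cfsg.pgoAut F ⇑Q).Normal := pgoAut_normal (⇑Q) hQA hS
  constructor
  · intro hord
    obtain ⟨α, φ, σ, hσ1, hstd, hx₀⟩ := hx
    rw [isFieldAutOf_iff_std (⇑Q) hQA] at hstd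
    subst hstd
    have hordφ : orderOf (fieldAutStd (⇑Q) hQA σ) = r := by
      rw [← hx₀, ← hxr]
      have := orderOf_injective (MulAut.conj α).toMonoidHom (MulAut.conj α).injective x
      simpa [MulAut.conj_apply] using this
    have hσr : orderOf σ = r := by rw [← orderOf_fieldAutStd hQA D]; exact hordφ
    obtain ⟨k, hk, hkx⟩ := Cfsg.Agent.Helper40.AutPSLNorm.transport_conj (Cfsg.pgoAut F ⇑Q)
      α x δ (fieldAutStd (⇑Q) hQA σ) hx₀ hδ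
      (by
        intro d hd hdord
        obtain ⟨g, rfl⟩ := (mem_pgoAut_iff (⇑Q) d).1 hd
        have hpow : (PhiGO (⇑Q) g * fieldAutStd (⇑Q) hQA σ : MulAut (Cfsg.POmega F ⇑Q)) ^ r = 1 := by
          rw [← hordφ, ← hdord]
          exact pow_orderOf_eq_one _
        obtain ⟨h, hh⟩ := field_coset_conj_O Q hQA hperf hcent h2 hodd hnd σ hr.pos hσr g hpow
        exact ⟨PhiGO (⇑Q) h, (mem_pgoAut_iff (⇑Q) _).2 ⟨h, rfl⟩, hh⟩)
      (by rw [hord, hxr])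
    exact ⟨k, hk, hkx⟩
  · rintro ⟨k, -, hk⟩
    rw [hk, ← hxr]
    have := orderOf_injective (MulAut.conj k).toMonoidHom (MulAut.conj k).injective x
    simpa [MulAut.conj_apply] using this

end Std

/-- the coset theorem for a form given as a plain function -/
theorem coset_main_O' [Finite F] (Q₀ : (ι → F) → F) (hQ₀ : ⇑Q = Q₀)
    (hQA : ∀ σ : F ≃+* F, σ ∈ QAut Q₀)
    (hperf : commutator ↥(Cfsg.Omega F ⇑Q) = ⊤)
    (hcent : ∀ Z : Matrix ι ι F, (∀ s : ↥(Cfsg.Omega F ⇑Q), Z * omat (⇑Q) s = omat (⇑Q) s * Z) →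
      ∃ c : F, Z = c • (1 : Matrix ι ι F))
    (D : RigData Q) (h2 : (2 : F) ≠ 0)
    (hodd : Odd (Fintype.card ι)) (hnd : (polarBilin Q).Nondegenerate)
    (hS : Cfsg.gammaPOmega F Q₀ = ⊤)
    (x δ : MulAut (Cfsg.POmega F Q₀)) (hx : Cfsg.IsFieldAutClassPOmega Q₀ x)
    {r : ℕ} (hr : r.Prime) (hxr : orderOf x = r) (hδ : δ ∈ Cfsg.pgoAut F Q₀) :
    orderOf (δ * x) = r ↔ Cfsg.IsConjUnder (Cfsg.pgoAut F Q₀) x (δ * x) := by
  subst hQ₀
  exact coset_main_O Q hQA hperf hcent D h2 hodd hnd ((gamma_eq_top_iff (⇑Q) hQA).1 hS)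
    x δ hx hr hxr hδ

end Cfsg.Agent.Helper40.AutPOm
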