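import Mathlib
import Cfsg.Agent.Lib.Helper40.AutPOmCoset

/-!
# The centralizer in `PGO(Q)` of a standard field automorphism of `PΩ(Q)` (odd characteristic)

Base change along an embedding `emb : F₀ →+* F` whose image is the fixed field of `σ`:
`PGO(Q) ⊓ C(φ_σ)` is the image of `GO(Q₀)`, isomorphic to `PGO(Q₀)`.
-/

set_option autoImplicit false
set_option linter.unusedSectionVars false
set_option linter.unusedSimpArgs false
set_option linter.unusedVariables false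

namespace Cfsg.Agent.Helper40.AutPOm

open Matrix QuadraticMap Cfsg.Agent.Helper5.OrthAut Cfsg.Agent.Helper40.H90
  Cfsg.Agent.Helper40.AutPSLNorm Cfsg.Agent.Helper40.FixK Cfsg.Agent.Helper40.LangO

/-! ### base change of plain functions -/

section BaseChange

variable {F₀ : Type*} [Field F₀] {F : Type*} [Field F] {ι : Type} [Fintype ι] [DecidableEq ι]
  (emb : F₀ →+* F)

/-- entrywise image of a vector -/
def mapV (v : ι → F₀) : ι → F := fun i => emb (v i)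

theorem mapV_apply (v : ι → F₀) (i : ι) : mapV emb v i = emb (v i) := rfl

theorem mapV_add (u v : ι → F₀) : mapV emb (u + v) = mapV emb u + mapV emb v := by
  funext i
  exact map_add emb _ _

theorem mapV_single (j : ι) : mapV emb (Pi.single j 1 : ι → F₀) = Pi.single j 1 := by
  funext i
  by_cases hi : i = j
  · rw [hi, mapV_apply, Pi.single_eq_same, Pi.single_eq_same, map_one]
  · rw [mapV_apply, Pi.single_eq_of_ne hi, Pi.single_eq_of_ne hi, map_zero]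

theorem mapV_mulVec (A : Matrix ι ι F₀) (v : ι → F₀) :
    mapV emb (A *ᵥ v) = A.map emb *ᵥ mapV emb v := by
  funext i
  exact RingHom.map_mulVec emb A v i

variable (Q₀ : (ι → F₀) → F₀) (Q : (ι → F) → F)

/-- `Q` is the base change of `Q₀` -/
def IsBC : Prop := ∀ v : ι → F₀, Q (mapV emb v) = emb (Q₀ v)

variable {emb Q₀ Q}

theorem IsBC.polar (hB : IsBC emb Q₀ Q) (u v : ι → F₀) :
    polar Q (mapV emb u) (mapV emb v) = emb (polar Q₀ u v) := by
  unfold QuadraticMap.polar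
  rw [← mapV_add, hB, hB, hB, map_sub, map_sub]

theorem IsBC.polarVec (hB : IsBC emb Q₀ Q) (v : ι → F₀) (j : ι) :
    Cfsg.polarVec Q (mapV emb v) j = emb (Cfsg.polarVec Q₀ v j) := by
  unfold Cfsg.polarVec
  rw [← mapV_single emb j, hB.polar]

theorem IsBC.reflectionMatrix (hB : IsBC emb Q₀ Q) (w : ι → F₀) :
    (Cfsg.reflectionMatrix Q₀ w).map emb = Cfsg.reflectionMatrix Q (mapV emb w) := by
  ext i j
  unfold Cfsg.reflectionMatrix
  rw [Matrix.map_apply, Matrix.sub_apply, Matrix.sub_apply, Matrix.smul_apply, Matrix.smul_apply,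
    Matrix.vecMulVec_apply, Matrix.vecMulVec_apply, hB.polarVec, hB, map_sub, smul_eq_mul,
    smul_eq_mul, map_mul, map_mul, map_inv₀, mapV_apply]
  congr 1
  by_cases hij : i = j
  · rw [hij, Matrix.one_apply_eq, Matrix.one_apply_eq, map_one]
  · rw [Matrix.one_apply_ne hij, Matrix.one_apply_ne hij, map_zero]

end BaseChange

/-! ### base change of quadratic forms: Gram matrices, `GO`, `O` -/

section BCForm

variable {F₀ : Type*} [Field F₀] {F : Type*} [Field F] {ι : Type} [Fintype ι] [DecidableEq ι]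
  {emb : F₀ →+* F} (Q₀ : QuadraticForm F₀ (ι → F₀)) (Q : QuadraticForm F (ι → F))

local notation "Mι" => Matrix ι ι F
local notation "Mι₀" => Matrix ι ι F₀

theorem gram_apply' (i j : ι) : gram Q i j = polar (⇑Q) (Pi.single i 1) (Pi.single j 1) := by
  rw [polar_eq_gram, Matrix.mulVec_single_one, single_one_dotProduct]
  rfl

variable {Q₀ Q}

theorem gram_bc (hB : IsBC emb ⇑Q₀ ⇑Q) : (gram Q₀).map emb = gram Q := by
  ext i j
  rw [Matrix.map_apply, gram_apply', gram_apply', ← mapV_single emb i, ← mapV_single emb j,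
    hB.polar]

theorem map_inj_I (hemb : Function.Injective emb) (A B : Mι₀) (h : A.map emb = B.map emb) :
    A = B := by
  ext i j
  have := congrFun (congrFun h i) j
  exact hemb this

theorem map_smul_I (c : F₀) (A : Mι₀) : (c • A).map emb = emb c • A.map emb := by
  ext i j
  show emb (c * A i j) = emb c * emb (A i j)
  exact map_mul emb _ _

theorem mem_iso_of_gram (h2 : (2 : F) ≠ 0) (g : GL ι F)
    (hg : (g : Mι)ᵀ * gram Q * (g : Mι) = gram Q) : g ∈ Cfsg.isometryGroup F ⇑Q := by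
  rw [mem_iso_iff]
  intro v
  have h1 : 2 * Q ((g : Mι) *ᵥ v) = 2 * Q v := by
    rw [two_mul_Q, two_mul_Q, Cfsg.Agent.Helper43.GraphAutCongr.quad_transform, hg]
  exact mul_left_cancel₀ h2 h1

theorem gram_iso (g : GL ι F) (hg : g ∈ Cfsg.isometryGroup F ⇑Q) :
    (g : Mι)ᵀ * gram Q * (g : Mι) = gram Q := by
  have hiso := (mem_iso_iff (⇑Q) g).1 hg
  have key : ∀ u v : ι → F, u ⬝ᵥ (((g : Mι)ᵀ * gram Q * (g : Mι)) *ᵥ v) =
      u ⬝ᵥ (gram Q *ᵥ v) := by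
    intro u v
    have h1 : polar (⇑Q) ((g : Mι) *ᵥ u) ((g : Mι) *ᵥ v) = polar (⇑Q) u v := by
      unfold QuadraticMap.polar
      rw [← Matrix.mulVec_add, hiso, hiso, hiso]
    rw [polar_eq_gram, polar_eq_gram] at h1
    rw [← h1, ← Matrix.mulVec_mulVec, ← Matrix.mulVec_mulVec, Matrix.dotProduct_mulVec,
      Matrix.vecMul_transpose]
  ext i j
  have := key (Pi.single i 1) (Pi.single j 1)
  simpa using this

theorem emb_mem_GO (hB : IsBC emb ⇑Q₀ ⇑Q) (h2 : (2 : F) ≠ 0) (g₀ : GL ι F₀) (hg₀ : g₀ ∈ GO Q₀) :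
    Matrix.GeneralLinearGroup.map emb g₀ ∈ GO Q := by
  have h1 := gram_sim Q₀ ⟨g₀, hg₀⟩
  apply mem_GO_of_gram Q h2 _ (Units.map (emb : F₀ →* F) (mult Q₀ ⟨g₀, hg₀⟩))
  have hcoe : ((Matrix.GeneralLinearGroup.map emb g₀ : GL ι F) : Mι) = (g₀ : Mι₀).map emb := rfl
  rw [hcoe, ← gram_bc hB, ← Matrix.transpose_map, ← Matrix.map_mul, ← Matrix.map_mul]
  have h3 : (((g₀ : Mι₀))ᵀ * gram Q₀ * (g₀ : Mι₀)).map emb =
      (((mult Q₀ ⟨g₀, hg₀⟩ : F₀ˣ) : F₀) • gram Q₀).map emb := by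
    rw [← h1]
  rw [h3, map_smul_I]
  rfl

theorem emb_mem_iso (hB : IsBC emb ⇑Q₀ ⇑Q) (h2 : (2 : F) ≠ 0) (g₀ : GL ι F₀)
    (hg₀ : g₀ ∈ Cfsg.isometryGroup F₀ ⇑Q₀) :
    Matrix.GeneralLinearGroup.map emb g₀ ∈ Cfsg.isometryGroup F ⇑Q := by
  have h1 := gram_iso g₀ hg₀
  apply mem_iso_of_gram h2
  have hcoe : ((Matrix.GeneralLinearGroup.map emb g₀ : GL ι F) : Mι) = (g₀ : Mι₀).map emb := rfl
  rw [hcoe, ← gram_bc hB, ← Matrix.transpose_map, ← Matrix.map_mul, ← Matrix.map_mul, h1]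

/-- the embedding `GO(Q₀) → GO(Q)` -/
noncomputable def embGO (hB : IsBC emb ⇑Q₀ ⇑Q) (h2 : (2 : F) ≠ 0) : ↥(GO Q₀) →* ↥(GO Q) :=
  ((Matrix.GeneralLinearGroup.map emb).comp (GO Q₀).subtype).codRestrict (GO Q)
    (fun g => emb_mem_GO hB h2 g.1 g.2)

theorem embGO_val (hB : IsBC emb ⇑Q₀ ⇑Q) (h2 : (2 : F) ≠ 0) (g : ↥(GO Q₀)) :
    ((embGO hB h2 g : ↥(GO Q)) : GL ι F) = Matrix.GeneralLinearGroup.map emb g.1 := rfl

theorem embGO_coe (hB : IsBC emb ⇑Q₀ ⇑Q) (h2 : (2 : F) ≠ 0) (g : ↥(GO Q₀)) :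
    (((embGO hB h2 g : ↥(GO Q)) : GL ι F) : Mι) = ((g.1 : GL ι F₀) : Mι₀).map emb := rfl

end BCForm

/-! ### the centralizer condition -/

section Cent

variable {F : Type*} [Field F] {ι : Type} [Fintype ι] [DecidableEq ι]
  (Q : QuadraticForm F (ι → F)) (hQA : ∀ σ : F ≃+* F, σ ∈ QAut (⇑Q))
  (hperf : commutator ↥(Cfsg.Omega F ⇑Q) = ⊤)
  (hcent : ∀ Z : Matrix ι ι F, (∀ s : ↥(Cfsg.Omega F ⇑Q), Z * omat (⇑Q) s = omat (⇑Q) s * Z) →
      ∃ c : F, Z = c • (1 : Matrix ι ι F))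

local notation "Mι" => Matrix ι ι F

include hperf hcent in
theorem PhiGO_eq_iff (g h : ↥(GO Q)) :
    PhiGO (⇑Q) g = PhiGO (⇑Q) h ↔ (h.1 : GL ι F)⁻¹ * g.1 ∈ Cfsg.Geo.scalars ι F := by
  have h1 : PhiGO (⇑Q) g = PhiGO (⇑Q) h ↔ PhiGO (⇑Q) (h⁻¹ * g) = 1 := by
    rw [map_mul, map_inv, inv_mul_eq_one]
    exact eq_comm
  rw [h1, PhiGO_eq_one_iff Q hperf hcent]
  rfl

include hperf hcent in
theorem PhiGO_mem_centralizer_iff (σ : F ≃+* F) (g : ↥(GO Q)) :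
    PhiGO (⇑Q) g ∈ Subgroup.centralizer {fieldAutStd (⇑Q) hQA σ} ↔
      ((sigmaGO (⇑Q) (toQAut (⇑Q) hQA σ) g : ↥(GO Q)) : GL ι F)⁻¹ * g.1 ∈
        Cfsg.Geo.scalars ι F := by
  rw [Subgroup.mem_centralizer_iff]
  have h1 : (∀ h ∈ ({fieldAutStd (⇑Q) hQA σ} : Set (MulAut (Cfsg.POmega F ⇑Q))),
      h * PhiGO (⇑Q) g = PhiGO (⇑Q) g * h) ↔
      fieldAutStd (⇑Q) hQA σ * PhiGO (⇑Q) g = PhiGO (⇑Q) g * fieldAutStd (⇑Q) hQA σ := by
    constructor
    · intro h; exact h _ rfl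
    · intro h k hk; rw [Set.mem_singleton_iff.1 hk]; exact h
  rw [h1, fieldAutStd_mul_PhiGO, mul_left_inj, ← PhiGO_eq_iff Q hperf hcent]
  exact eq_comm

/-- iterating `σ(g) = l g` -/
theorem smI_pow_of_rel (σ : F ≃+* F) (g : Mι) (l : Fˣ) (hl : smI σ g = (l : F) • g) (k : ℕ) :
    smI (σ ^ k) g = ((nrmU σ l k : Fˣ) : F) • g := by
  induction k with
  | zero =>
    show smI (1 : F ≃+* F) g = _
    rw [smI_one']
    show g = ((1 : Fˣ) : F) • g
    rw [Units.val_one, one_smul]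
  | succ k ih =>
    rw [pow_succ', smI_mul', ih, smI_smul, hl, smul_smul]
    congr 1
    show σ ((nrmU σ l k : Fˣ) : F) * (l : F) = ((l * Units.map (σ : F →* F) (nrmU σ l k) : Fˣ) : F)
    rw [Units.val_mul, mul_comm]
    rfl

theorem GL_coe_ne_zero [Nonempty ι] (g : GL ι F) : (g : Mι) ≠ 0 := by
  intro h0
  obtain ⟨i⟩ := ‹Nonempty ι›
  have h1 : (g : Mι) * ((g⁻¹ : GL ι F) : Mι) = 1 := by
    rw [← Units.val_mul, mul_inv_cancel, Units.val_one]
  rw [h0, Matrix.zero_mul] at h1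
  have h2 := congrFun (congrFun h1 i) i
  rw [Matrix.zero_apply, Matrix.one_apply_eq] at h2
  exact zero_ne_one h2

/-- if `σ(g) = l g` then a scalar multiple of `g` is fixed by `σ` -/
theorem exists_fixed_smul_I [Nonempty ι] (σ : F ≃+* F) {r : ℕ} (hr : 0 < r) (hσ : orderOf σ = r)
    (g : GL ι F) (l : Fˣ) (hl : smI σ (g : Mι) = (l : F) • (g : Mι)) :
    ∃ c : Fˣ, smI σ ((c : F) • (g : Mι)) = (c : F) • (g : Mι) := by
  have hσr : σ ^ r = 1 := by rw [← hσ]; exact pow_orderOf_eq_one σ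
  have h1 := smI_pow_of_rel σ (g : Mι) l hl r
  rw [hσr, smI_one'] at h1
  have h3 : ((nrmU σ l r : Fˣ) : F) = 1 := by
    apply smul_inj_of_ne (GL_coe_ne_zero g)
    rw [← h1, one_smul]
  have h4 : nrmU σ l r = 1 := Units.ext h3
  obtain ⟨c, hc⟩ := h90_units σ hr hσ l h4
  refine ⟨c, ?_⟩
  rw [smI_smul, hl, smul_smul]
  congr 1
  rw [hc, Units.val_mul]
  have h6 : ((Units.map (σ : F →* F) c : Fˣ) : F) = σ (c : F) := rfl
  rw [← h6, mul_comm (c : F), ← mul_assoc, ← Units.val_mul, mul_inv_cancel, Units.val_one, one_mul]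

end Cent

/-! ### the image of `GO(Q₀)` -/

section Theta

variable {F₀ : Type*} [Field F₀] {F : Type*} [Field F] {ι : Type} [Fintype ι] [DecidableEq ι]
  {emb : F₀ →+* F} {Q₀ : QuadraticForm F₀ (ι → F₀)} {Q : QuadraticForm F (ι → F)}
  (hB : IsBC emb ⇑Q₀ ⇑Q) (h2 : (2 : F) ≠ 0)
  (hQA : ∀ σ : F ≃+* F, σ ∈ QAut (⇑Q))
  (hperf : commutator ↥(Cfsg.Omega F ⇑Q) = ⊤)
  (hcent : ∀ Z : Matrix ι ι F, (∀ s : ↥(Cfsg.Omega F ⇑Q), Z * omat (⇑Q) s = omat (⇑Q) s * Z) →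
      ∃ c : F, Z = c • (1 : Matrix ι ι F))

local notation "Mι" => Matrix ι ι F
local notation "Mι₀" => Matrix ι ι F₀

omit [Fintype ι] [DecidableEq ι] in
theorem two_ne_zero_of_emb (emb : F₀ →+* F) (h2 : (2 : F) ≠ 0) : (2 : F₀) ≠ 0 := by
  intro h
  apply h2
  have := congrArg emb h
  rwa [map_ofNat, map_zero] at this

/-- the homomorphism `GO(Q₀) → Aut(PΩ(Q))` -/
noncomputable def ThetaGO : ↥(GO Q₀) →* MulAut (Cfsg.POmega F ⇑Q) :=
  (PhiGO (⇑Q)).comp (embGO hB h2)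

theorem ThetaGO_apply (g : ↥(GO Q₀)) : ThetaGO hB h2 g = PhiGO (⇑Q) (embGO hB h2 g) := rfl

theorem emb_mem_scalars_iff_I [Nonempty ι] (g₀ : GL ι F₀) :
    Matrix.GeneralLinearGroup.map emb g₀ ∈ Cfsg.Geo.scalars ι F ↔
      g₀ ∈ Cfsg.Geo.scalars ι F₀ := by
  obtain ⟨i0⟩ := ‹Nonempty ι›
  rw [Cfsg.Geo.mem_scalars_iff, Cfsg.Geo.mem_scalars_iff]
  constructor
  · rintro ⟨c, hc⟩
    have hent : ∀ i j, emb ((g₀ : Mι₀) i j) = ((c : F) • (1 : Mι)) i j := by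
      intro i j
      have := congrFun (congrFun hc i) j
      exact this
    have h00 : emb ((g₀ : Mι₀) i0 i0) = (c : F) := by
      rw [hent, Matrix.smul_apply, Matrix.one_apply_eq, smul_eq_mul, mul_one]
    have hne : (g₀ : Mι₀) i0 i0 ≠ 0 := by
      intro h0
      rw [h0, map_zero] at h00
      exact c.ne_zero h00.symm
    refine ⟨Units.mk0 _ hne, ?_⟩
    ext i j
    apply emb.injective
    rw [hent, Units.val_mk0, Matrix.smul_apply, Matrix.smul_apply, smul_eq_mul, smul_eq_mul, map_mul,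
      h00]
    by_cases hij : i = j
    · rw [hij, Matrix.one_apply_eq, Matrix.one_apply_eq, map_one]
    · rw [Matrix.one_apply_ne hij, Matrix.one_apply_ne hij, map_zero]
  · rintro ⟨c, hc⟩
    have hc0 : emb (c : F₀) ≠ 0 := by
      rw [Ne, map_eq_zero_iff emb emb.injective]; exact c.ne_zero
    refine ⟨Units.mk0 _ hc0, ?_⟩
    ext i j
    show emb ((g₀ : Mι₀) i j) = _
    rw [hc, Units.val_mk0, Matrix.smul_apply, Matrix.smul_apply, smul_eq_mul, smul_eq_mul, map_mul]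
    by_cases hij : i = j
    · rw [hij, Matrix.one_apply_eq, Matrix.one_apply_eq, map_one]
    · rw [Matrix.one_apply_ne hij, Matrix.one_apply_ne hij, map_zero]

include hperf hcent in
theorem ker_ThetaGO [Nonempty ι] :
    (ThetaGO hB h2).ker = (Cfsg.Geo.scalars ι F₀).subgroupOf (GO Q₀) := by
  ext g
  rw [MonoidHom.mem_ker, ThetaGO_apply, PhiGO_eq_one_iff Q hperf hcent, embGO_val,
    emb_mem_scalars_iff_I, Subgroup.mem_subgroupOf]

include hperf hcent in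
/-- the range of `ThetaGO` is `PGO ⊓ C(φ_σ)` -/
theorem range_ThetaGO [Nonempty ι] (hnd : (polarBilin Q).Nondegenerate)
    (σ : F ≃+* F) {r : ℕ} (hr : 0 < r) (hσ : orderOf σ = r)
    (hι1 : ∀ x, σ (emb x) = emb x) (hι2 : ∀ a, σ a = a → ∃ x, emb x = a) :
    (ThetaGO hB h2).range =
      (PhiGO (⇑Q)).range ⊓ Subgroup.centralizer {fieldAutStd (⇑Q) hQA σ} := by
  classical
  ext β
  constructor
  · rintro ⟨g₀, rfl⟩
    refine Subgroup.mem_inf.2 ⟨⟨_, rfl⟩, ?_⟩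
    rw [ThetaGO_apply, PhiGO_mem_centralizer_iff Q hQA hperf hcent]
    have h1 : ((sigmaGO (⇑Q) (toQAut (⇑Q) hQA σ) (embGO hB h2 g₀) : ↥(GO Q)) : GL ι F) =
        (embGO hB h2 g₀).1 := by
      apply Units.ext
      rw [sigmaGO_coe, embGO_val]
      ext i j
      exact hι1 _
    rw [h1, inv_mul_cancel]
    exact Subgroup.one_mem _
  · intro hβ
    obtain ⟨⟨g, rfl⟩, hc⟩ := Subgroup.mem_inf.1 hβ
    rw [PhiGO_mem_centralizer_iff Q hQA hperf hcent, Cfsg.Geo.mem_scalars_iff] at hc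
    obtain ⟨c, hc⟩ := hc
    set gM : Mι := ((g.1 : GL ι F) : Mι) with hgM
    -- `σ(g) = c⁻¹ g`
    have hrel : smI σ gM = ((c⁻¹ : Fˣ) : F) • gM := by
      rw [Units.val_mul] at hc
      have h1 : ((sigmaGO (⇑Q) (toQAut (⇑Q) hQA σ) g : ↥(GO Q)) : GL ι F).val *
          ((((sigmaGO (⇑Q) (toQAut (⇑Q) hQA σ) g : ↥(GO Q)) : GL ι F)⁻¹ : GL ι F).val * gM) =
          ((sigmaGO (⇑Q) (toQAut (⇑Q) hQA σ) g : ↥(GO Q)) : GL ι F).val *
            ((c : F) • (1 : Mι)) := by rw [hc]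
      rw [← Matrix.mul_assoc, ← Units.val_mul, mul_inv_cancel, Units.val_one, Matrix.one_mul,
        Matrix.mul_smul, Matrix.mul_one, sigmaGO_coe] at h1
      show gM.map σ = _
      have h1' : gM = (c : F) • gM.map σ := h1
      conv_rhs => rw [h1']
      rw [smul_smul, ← Units.val_mul, inv_mul_cancel, Units.val_one, one_smul]
    obtain ⟨d, hd⟩ := exists_fixed_smul_I σ hr hσ g.1 c⁻¹ hrel
    -- the multiplier of `d • g`
    have hcg := gram_sim Q g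
    set g₂ : Mι := (d : F) • gM with hg₂
    have hμ₁ : g₂ᵀ * gram Q * g₂ = ((d * d * mult Q g : Fˣ) : F) • gram Q := by
      rw [hg₂, Matrix.transpose_smul, Matrix.smul_mul, Matrix.smul_mul, Matrix.mul_smul, hgM, hcg,
        smul_smul, smul_smul, Units.val_mul, Units.val_mul]
    have hB0 : gram Q ≠ 0 := by
      intro h0
      have := gram_det_ne_zero Q hnd
      rw [h0, Matrix.det_zero] at this
      exact this rfl
    have hμ₁σ : σ ((d * d * mult Q g : Fˣ) : F) = ((d * d * mult Q g : Fˣ) : F) := by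
      have h3 := congrArg (smI σ) hμ₁
      rw [smI_mul, smI_mul, smI_transpose, gram_sigma Q (hQA σ), hd, hμ₁, smI_smul,
        gram_sigma Q (hQA σ)] at h3
      exact (smul_inj_of_ne hB0 h3).symm
    obtain ⟨c₀, hc₀⟩ := hι2 _ hμ₁σ
    have hc₀0 : c₀ ≠ 0 := by
      rintro rfl
      rw [map_zero] at hc₀
      exact (d * d * mult Q g).ne_zero hc₀.symm
    -- descend to `F₀`
    choose G₀ hG₀ using fun i j => hι2 (g₂ i j) (congrFun (congrFun hd i) j)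
    have hG₀map : (Matrix.of G₀ : Mι₀).map emb = g₂ := by
      ext i j
      exact hG₀ i j
    have hgMdet : gM.det ≠ 0 := by
      intro h0
      have h1 : gM * ((g.1⁻¹ : GL ι F) : Mι) = 1 := by
        rw [hgM, ← Units.val_mul, mul_inv_cancel, Units.val_one]
      have := congrArg Matrix.det h1
      rw [Matrix.det_mul, h0, zero_mul, Matrix.det_one] at this
      exact zero_ne_one this
    have hg₂det : g₂.det ≠ 0 := by
      rw [hg₂, Matrix.det_smul]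
      exact mul_ne_zero (pow_ne_zero _ d.ne_zero) hgMdet
    have hG₀det : (Matrix.of G₀ : Mι₀).det ≠ 0 := by
      intro h0
      have h1 : emb (Matrix.of G₀ : Mι₀).det = ((Matrix.of G₀ : Mι₀).map emb).det :=
        RingHom.map_det _ _
      rw [h0, map_zero, hG₀map] at h1
      exact hg₂det h1.symm
    let g₀ : GL ι F₀ := Matrix.GeneralLinearGroup.mkOfDetNeZero (Matrix.of G₀) hG₀det
    have hg₀coe : ((Matrix.GeneralLinearGroup.map emb g₀ : GL ι F) : Mι) = g₂ := hG₀map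
    have hg₀GO : g₀ ∈ GO Q₀ := by
      apply mem_GO_of_gram Q₀ (two_ne_zero_of_emb emb h2) g₀ (Units.mk0 c₀ hc₀0)
      apply map_inj_I emb.injective
      rw [Matrix.map_mul, Matrix.map_mul, Matrix.transpose_map, map_smul_I, gram_bc hB]
      show ((Matrix.of G₀ : Mι₀).map emb)ᵀ * gram Q * (Matrix.of G₀ : Mι₀).map emb =
        emb c₀ • gram Q
      rw [hG₀map, hμ₁, hc₀]
    refine ⟨⟨g₀, hg₀GO⟩, ?_⟩
    rw [ThetaGO_apply]
    have h5 : embGO hB h2 ⟨g₀, hg₀GO⟩ = g * scGO Q d := by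
      apply Subtype.ext
      apply Units.ext
      show ((Matrix.GeneralLinearGroup.map emb g₀ : GL ι F) : Mι) =
        gM * (((scGO Q d : ↥(GO Q)) : GL ι F) : Mι)
      rw [hg₀coe, scGO_coe, Matrix.mul_smul, Matrix.mul_one]
    rw [h5, map_mul, PhiGO_scGO Q hperf hcent, mul_one]

include hB h2 hperf hcent in
/-- `PGO(Q) ⊓ C(φ_σ) ≃* PGO(Q₀)` -/
theorem cent_equiv_pgo [Nonempty ι] (hnd : (polarBilin Q).Nondegenerate)
    (hperf₀ : commutator ↥(Cfsg.Omega F₀ ⇑Q₀) = ⊤)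
    (hcent₀ : ∀ Z : Matrix ι ι F₀,
      (∀ s : ↥(Cfsg.Omega F₀ ⇑Q₀), Z * omat (⇑Q₀) s = omat (⇑Q₀) s * Z) →
      ∃ c : F₀, Z = c • (1 : Matrix ι ι F₀))
    (σ : F ≃+* F) {r : ℕ} (hr : 0 < r) (hσ : orderOf σ = r)
    (hι1 : ∀ x, σ (emb x) = emb x) (hι2 : ∀ a, σ a = a → ∃ x, emb x = a) :
    Nonempty (↥((PhiGO (⇑Q)).range ⊓ Subgroup.centralizer {fieldAutStd (⇑Q) hQA σ}) ≃*
      ↥(PhiGO (⇑Q₀)).range) := by
  have e1 := QuotientGroup.quotientKerEquivRange (ThetaGO hB h2)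
  have e0 := QuotientGroup.quotientKerEquivRange (PhiGO (⇑Q₀))
  have hker : (ThetaGO hB h2).ker = (PhiGO (⇑Q₀)).ker := by
    rw [ker_ThetaGO hB h2 hperf hcent]
    ext g
    rw [MonoidHom.mem_ker, PhiGO_eq_one_iff Q₀ hperf₀ hcent₀, Subgroup.mem_subgroupOf]
  have e2 : ↥(GO Q₀) ⧸ (ThetaGO hB h2).ker ≃* ↥(GO Q₀) ⧸ (PhiGO (⇑Q₀)).ker :=
    QuotientGroup.quotientMulEquivOfEq hker
  have e3 := MulEquiv.subgroupCongr (range_ThetaGO hB h2 hQA hperf hcent hnd σ hr hσ hι1 hι2)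
  exact ⟨((e3.symm.trans e1.symm).trans e2).trans e0⟩

end Theta

end Cfsg.Agent.Helper40.AutPOm
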