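import Mathlib
import Cfsg.Agent.Lib.Helper40.AutPSLField
import Cfsg.Agent.Lib.Helper40.FixedSubfield

/-!
# The centralizer in `Inndiag(PSL_n(F))` of a standard field automorphism

`Inndiag ⊓ C(φ_σ)` is the image of `GL_n(K)`, `K` the fixed field of `σ`, and is isomorphic to
`PGL_n(K)`.
-/

set_option autoImplicit false
set_option linter.unusedSectionVars false
set_option linter.unusedSimpArgs false
set_option linter.unusedVariables false

namespace Cfsg.Agent.Helper40.FieldCent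

open Matrix Cfsg.Agent.Helper13.PSLAut Cfsg.Agent.Helper13.GraphAutPSL Cfsg.Agent.Helper40.OutPSL
  Cfsg.Agent.Helper40.H90 Cfsg.Agent.Helper40.AutPSLNorm Cfsg.Agent.Helper40.FixK

variable {F : Type*} [Field F] {n : ℕ}

local notation "SLn" => Matrix.SpecialLinearGroup (Fin n) F
local notation "PSLn" => Matrix.ProjectiveSpecialLinearGroup (Fin n) F
local notation "Mn" => Matrix (Fin n) (Fin n) F

/-- inclusion `GL_n(K) → GL_n(F)` -/
def inclGL (K : Subfield F) : GL (Fin n) K →* GL (Fin n) F :=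
  Matrix.GeneralLinearGroup.map K.subtype

theorem inclGL_apply (K : Subfield F) (g : GL (Fin n) K) (i j : Fin n) :
    ((inclGL K g : GL (Fin n) F) : Mn) i j = ((g : Matrix (Fin n) (Fin n) K) i j : F) := rfl

theorem inclGL_injective (K : Subfield F) : Function.Injective (inclGL (n := n) K) := by
  intro g h hgh
  apply Units.ext
  ext i j
  have := congrFun (congrFun (congrArg (fun t : GL (Fin n) F => (t : Mn)) hgh) i) j
  exact this

/-- `σ` fixes `GL_n(K)` -/
theorem mapGL_inclGL (σ : F ≃+* F) (g : GL (Fin n) (fixK σ)) :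
    mapGL σ (inclGL (fixK σ) g) = inclGL (fixK σ) g := by
  apply Units.ext
  ext i j
  rw [mapGL_coe]
  show σ (((g : Matrix (Fin n) (Fin n) (fixK σ)) i j : F)) = _
  exact ((g : Matrix (Fin n) (Fin n) (fixK σ)) i j).2

/-- a `σ`-fixed invertible matrix comes from `GL_n(K)` -/
theorem exists_lift (σ : F ≃+* F) (g : GL (Fin n) F) (hg : (g : Mn).map σ = (g : Mn)) :
    ∃ g₀ : GL (Fin n) (fixK σ), inclGL (fixK σ) g₀ = g := by
  let M₀ : Matrix (Fin n) (Fin n) (fixK σ) := fun i j => ⟨(g : Mn) i j, by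
    have := congrFun (congrFun hg i) j
    exact this⟩
  have hM : M₀.map (fixK σ).subtype = (g : Mn) := by
    ext i j
    rfl
  have hdet : M₀.det ≠ 0 := by
    intro h0
    have h1 : (fixK σ).subtype M₀.det = (M₀.map (fixK σ).subtype).det := RingHom.map_det _ _
    rw [h0, map_zero, hM] at h1
    have h2 : IsUnit (g : Mn).det := (Matrix.isUnit_iff_isUnit_det _).1 ⟨g, rfl⟩
    exact h2.ne_zero h1.symm
  refine ⟨Matrix.GeneralLinearGroup.mkOfDetNeZero M₀ hdet, ?_⟩
  apply Units.ext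
  ext i j
  rfl

/-- the homomorphism `GL_n(K) → Aut(PSL_n(F))` -/
noncomputable def Theta (K : Subfield F) : GL (Fin n) K →* MulAut PSLn :=
  (PhiL (F := F) (n := n)).comp (inclGL K)

theorem Theta_apply (K : Subfield F) (g : GL (Fin n) K) : Theta K g = PhiL (inclGL K g) := rfl

/-- `PhiL g` commutes with `φ_σ` iff `σ(g)` is a scalar multiple of `g` -/
theorem comm_iff (hn : 0 < n) (σ : F ≃+* F) (g : GL (Fin n) F) :
    PhiL g * fieldAutPSL σ = fieldAutPSL σ * PhiL g ↔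
      ∃ l : Fˣ, (g : Mn).map σ = (l : F) • (g : Mn) := by
  rw [fieldAutPSL_mul_PhiL, mul_left_inj, PhiL_eq_iff hn, Cfsg.Geo.mem_scalars_iff]
  constructor
  · rintro ⟨c, hc⟩
    refine ⟨c, ?_⟩
    rw [Units.val_mul, mapGL_coe] at hc
    have h1 : (g : Mn) * (((g⁻¹ : GL (Fin n) F) : Mn) * (g : Mn).map σ) =
        (g : Mn) * ((c : F) • (1 : Mn)) := by rw [hc]
    rw [← Matrix.mul_assoc, coe_mul_inv, Matrix.one_mul, Matrix.mul_smul, Matrix.mul_one] at h1
    exact h1
  · rintro ⟨l, hl⟩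
    refine ⟨l, ?_⟩
    rw [Units.val_mul, mapGL_coe, hl, Matrix.mul_smul, coe_inv_mul]

/-- iterating `σ(g) = l g` -/
theorem sm_pow_of_rel (σ : F ≃+* F) (g : Mn) (l : Fˣ) (hl : sm σ g = (l : F) • g) (k : ℕ) :
    sm (σ ^ k) g = ((nrmU σ l k : Fˣ) : F) • g := by
  induction k with
  | zero =>
    show sm (1 : F ≃+* F) g = _
    have : sm (1 : F ≃+* F) g = g := rfl
    rw [this]
    show g = ((1 : Fˣ) : F) • g
    rw [Units.val_one, one_smul]
  | succ k ih =>
    rw [pow_succ', sm_mul', ih]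
    have h1 : sm σ (((nrmU σ l k : Fˣ) : F) • g) = σ ((nrmU σ l k : Fˣ) : F) • sm σ g := by
      ext i j
      show σ (((nrmU σ l k : Fˣ) : F) * g i j) = σ ((nrmU σ l k : Fˣ) : F) * σ (g i j)
      exact map_mul σ _ _
    rw [h1, hl, smul_smul]
    congr 1
    show σ ((nrmU σ l k : Fˣ) : F) * (l : F) = ((l * Units.map (σ : F →* F) (nrmU σ l k) : Fˣ) : F)
    rw [Units.val_mul, mul_comm]
    rfl

theorem smul_eq_self_imp (hn : 0 < n) (g : GL (Fin n) F) (c : F) (h : c • (g : Mn) = (g : Mn)) :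
    c = 1 := by
  have h7 : c • ((g : Mn) * ((g⁻¹ : GL (Fin n) F) : Mn)) = (g : Mn) * ((g⁻¹ : GL (Fin n) F) : Mn) := by
    rw [← Matrix.smul_mul, h]
  rw [coe_mul_inv] at h7
  have h8 := congrFun (congrFun h7 ⟨0, hn⟩) ⟨0, hn⟩
  rw [Matrix.smul_apply, Matrix.one_apply_eq, smul_eq_mul, mul_one] at h8
  exact h8

/-- if `PhiL g` commutes with `φ_σ` then a scalar multiple of `g` is fixed by `σ` -/
theorem exists_fixed_smul (hn : 0 < n) (σ : F ≃+* F) {r : ℕ} (hr : 0 < r) (hσ : orderOf σ = r)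
    (g : GL (Fin n) F) (l : Fˣ) (hl : (g : Mn).map σ = (l : F) • (g : Mn)) :
    ∃ m : Fˣ, ((m : F) • (g : Mn)).map σ = (m : F) • (g : Mn) := by
  have hσr : σ ^ r = 1 := by rw [← hσ]; exact pow_orderOf_eq_one σ
  have h1 := sm_pow_of_rel σ (g : Mn) l hl r
  rw [hσr] at h1
  have h2 : sm (1 : F ≃+* F) (g : Mn) = (g : Mn) := rfl
  rw [h2] at h1
  have h3 : ((nrmU σ l r : Fˣ) : F) = 1 := smul_eq_self_imp hn g _ h1.symm
  have h4 : nrmU σ l r = 1 := Units.ext h3
  obtain ⟨m, hm⟩ := h90_units σ hr hσ l h4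
  refine ⟨m, ?_⟩
  have h5 : ((m : F) • (g : Mn)).map σ = σ (m : F) • (g : Mn).map σ := by
    ext i j
    show σ ((m : F) * (g : Mn) i j) = σ (m : F) * σ ((g : Mn) i j)
    exact map_mul σ _ _
  rw [h5, hl, smul_smul]
  congr 1
  rw [hm, Units.val_mul]
  have h6 : ((Units.map (σ : F →* F) m : Fˣ) : F) = σ (m : F) := rfl
  rw [← h6, mul_comm (m : F), ← mul_assoc, ← Units.val_mul, mul_inv_cancel, Units.val_one, one_mul]

/-- the range of `Theta` is `Inndiag ⊓ C(φ_σ)` -/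
theorem range_Theta (hn : 0 < n) (σ : F ≃+* F) {r : ℕ} (hr : 0 < r) (hσ : orderOf σ = r) :
    (Theta (n := n) (fixK σ)).range =
      (PhiL (F := F) (n := n)).range ⊓ Subgroup.centralizer {fieldAutPSL σ} := by
  ext β
  constructor
  · rintro ⟨g₀, rfl⟩
    refine Subgroup.mem_inf.2 ⟨⟨inclGL _ g₀, rfl⟩, ?_⟩
    rw [Subgroup.mem_centralizer_iff]
    intro y hy
    rw [Set.mem_singleton_iff.1 hy, Theta_apply, fieldAutPSL_mul_PhiL, mapGL_inclGL]
  · intro hβ
    obtain ⟨⟨g, rfl⟩, hc⟩ := Subgroup.mem_inf.1 hβ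
    have h1 : fieldAutPSL σ * PhiL g = PhiL g * fieldAutPSL σ :=
      Subgroup.mem_centralizer_iff.1 hc _ rfl
    obtain ⟨l, hl⟩ := (comm_iff hn σ g).1 h1.symm
    obtain ⟨m, hm⟩ := exists_fixed_smul hn σ hr hσ g l hl
    have h2 : ((scGL m * g : GL (Fin n) F) : Mn) = (m : F) • (g : Mn) := by
      rw [Units.val_mul, scGL_coe, Matrix.smul_mul, Matrix.one_mul]
    obtain ⟨g₀, hg₀⟩ := exists_lift σ (scGL m * g) (by rw [h2]; exact hm)
    refine ⟨g₀, ?_⟩
    rw [Theta_apply, hg₀, map_mul, PhiL_scGL hn, one_mul]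

/-- the kernel of `Theta` is the centre of `GL_n(K)` -/
theorem ker_Theta (hn : 0 < n) (K : Subfield F) :
    (Theta (n := n) K).ker = Subgroup.center (GL (Fin n) K) := by
  ext g
  rw [MonoidHom.mem_ker, Theta_apply, PhiL_eq_one_iff hn, Cfsg.Geo.mem_scalars_iff,
    Matrix.GeneralLinearGroup.center_eq_range_scalar]
  constructor
  · rintro ⟨c, hc⟩
    have h00 := congrFun (congrFun hc ⟨0, hn⟩) ⟨0, hn⟩
    rw [Matrix.smul_apply, Matrix.one_apply_eq, smul_eq_mul, mul_one, inclGL_apply] at h00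
    have hcK : (c : F) ∈ K := by rw [← h00]; exact SetLike.coe_mem _
    have hc0 : (⟨(c : F), hcK⟩ : K) ≠ 0 := by
      intro h0
      exact c.ne_zero (congrArg Subtype.val h0)
    refine ⟨Units.mk0 ⟨(c : F), hcK⟩ hc0, ?_⟩
    apply Units.ext
    ext i j
    have hij := congrFun (congrFun hc i) j
    rw [inclGL_apply] at hij
    rw [hij, Matrix.GeneralLinearGroup.coe_scalar, Matrix.smul_apply, smul_eq_mul]
    by_cases h : i = j
    · subst h
      simp
    · simp [h, Matrix.one_apply_ne h]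
  · rintro ⟨c, rfl⟩
    have hc0 : ((c : K) : F) ≠ 0 := by
      intro h0
      exact c.ne_zero (Subtype.ext h0)
    refine ⟨Units.mk0 ((c : K) : F) hc0, ?_⟩
    ext i j
    rw [inclGL_apply, Matrix.GeneralLinearGroup.coe_scalar, Matrix.smul_apply, smul_eq_mul]
    by_cases h : i = j
    · subst h
      simp
    · simp [h, Matrix.one_apply_ne h]

/-! ### `PGL_n` of ring-isomorphic fields, and the isomorphism -/

theorem map_center_equiv {G H : Type*} [Group G] [Group H] (e : G ≃* H) :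
    (Subgroup.center G).map e.toMonoidHom = Subgroup.center H := by
  ext h
  constructor
  · rintro ⟨g, hg, rfl⟩
    rw [Subgroup.mem_center_iff]
    intro y
    have h1 := Subgroup.mem_center_iff.1 hg (e.symm y)
    have h2 := congrArg e h1
    rw [map_mul, map_mul, MulEquiv.apply_symm_apply] at h2
    exact h2
  · intro hh
    refine ⟨e.symm h, ?_, e.apply_symm_apply h⟩
    have : e.symm h ∈ Subgroup.center G := by
      rw [Subgroup.mem_center_iff]
      intro y
      have h1 := Subgroup.mem_center_iff.1 hh (e y)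
      have h2 := congrArg e.symm h1
      rw [map_mul, map_mul, MulEquiv.symm_apply_apply] at h2
      exact h2
    exact this

/-- `G / Z(G)` for isomorphic groups -/
noncomputable def quotCenterCongr {G H : Type*} [Group G] [Group H] (e : G ≃* H) :
    G ⧸ Subgroup.center G ≃* H ⧸ Subgroup.center H :=
  QuotientGroup.congr (Subgroup.center G) (Subgroup.center H) e (map_center_equiv e)

/-- `GL_n` of ring-isomorphic rings -/
noncomputable def glCongr {K K' : Type*} [CommRing K] [CommRing K'] (e : K ≃+* K') :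
    GL (Fin n) K ≃* GL (Fin n) K' :=
  Units.mapEquiv (RingEquiv.mapMatrix e).toMulEquiv

/-- `PGL_n` of ring-isomorphic rings -/
noncomputable def pglCongr {K K' : Type*} [CommRing K] [CommRing K'] (e : K ≃+* K') :
    Matrix.ProjGenLinGroup (Fin n) K ≃* Matrix.ProjGenLinGroup (Fin n) K' :=
  quotCenterCongr (glCongr e)

/-- `Inndiag ⊓ C(φ_σ) ≃* PGL_n(K)` -/
theorem cent_equiv_pgl (hn : 0 < n) (σ : F ≃+* F) {r : ℕ} (hr : 0 < r) (hσ : orderOf σ = r) :
    Nonempty (↥((PhiL (F := F) (n := n)).range ⊓ Subgroup.centralizer {fieldAutPSL σ}) ≃*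
      Matrix.ProjGenLinGroup (Fin n) (fixK σ)) := by
  have e1 : GL (Fin n) (fixK σ) ⧸ (Theta (n := n) (fixK σ)).ker ≃* (Theta (n := n) (fixK σ)).range :=
    QuotientGroup.quotientKerEquivRange _
  have e2 : GL (Fin n) (fixK σ) ⧸ (Theta (n := n) (fixK σ)).ker ≃*
      GL (Fin n) (fixK σ) ⧸ Subgroup.center (GL (Fin n) (fixK σ)) :=
    QuotientGroup.quotientMulEquivOfEq (ker_Theta hn (fixK σ))
  have e3 : (Theta (n := n) (fixK σ)).range ≃*
      ↥((PhiL (F := F) (n := n)).range ⊓ Subgroup.centralizer {fieldAutPSL σ}) :=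
    MulEquiv.subgroupCongr (range_Theta hn σ hr hσ)
  exact ⟨(e3.symm.trans e1.symm).trans e2⟩

/-- conjugation transports `D ⊓ C(x)` -/
noncomputable def conjInfCentEquiv {A : Type*} [Group A] (D : Subgroup A) [hD : D.Normal] (α x : A) :
    ↥(D ⊓ Subgroup.centralizer {x}) ≃* ↥(D ⊓ Subgroup.centralizer {α * x * α⁻¹}) where
  toFun d := ⟨α * d.1 * α⁻¹, by
    obtain ⟨h1, h2⟩ := Subgroup.mem_inf.1 d.2
    refine Subgroup.mem_inf.2 ⟨hD.conj_mem _ h1 α, ?_⟩
    rw [Subgroup.mem_centralizer_iff]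
    intro y hy
    rw [Set.mem_singleton_iff.1 hy]
    have h3 : x * d.1 = d.1 * x := Subgroup.mem_centralizer_iff.1 h2 x rfl
    calc α * x * α⁻¹ * (α * d.1 * α⁻¹) = α * (x * d.1) * α⁻¹ := by group
      _ = α * (d.1 * x) * α⁻¹ := by rw [h3]
      _ = α * d.1 * α⁻¹ * (α * x * α⁻¹) := by group⟩
  invFun d := ⟨α⁻¹ * d.1 * α, by
    obtain ⟨h1, h2⟩ := Subgroup.mem_inf.1 d.2
    have h1' := hD.conj_mem _ h1 α⁻¹
    rw [inv_inv] at h1'
    refine Subgroup.mem_inf.2 ⟨h1', ?_⟩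
    rw [Subgroup.mem_centralizer_iff]
    intro y hy
    rw [Set.mem_singleton_iff.1 hy]
    have h3 : α * x * α⁻¹ * d.1 = d.1 * (α * x * α⁻¹) :=
      Subgroup.mem_centralizer_iff.1 h2 _ rfl
    calc x * (α⁻¹ * d.1 * α) = α⁻¹ * (α * x * α⁻¹ * d.1) * α := by group
      _ = α⁻¹ * (d.1 * (α * x * α⁻¹)) * α := by rw [h3]
      _ = α⁻¹ * d.1 * α * x := by group⟩
  left_inv d := by
    apply Subtype.ext
    show α⁻¹ * (α * d.1 * α⁻¹) * α = d.1
    group
  right_inv d := by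
    apply Subtype.ext
    show α * (α⁻¹ * d.1 * α) * α⁻¹ = d.1
    group
  map_mul' d e := by
    apply Subtype.ext
    show α * (d.1 * e.1) * α⁻¹ = α * d.1 * α⁻¹ * (α * e.1 * α⁻¹)
    group

end Cfsg.Agent.Helper40.FieldCent
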