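import Mathlib

/-!
# Subgroups of finite cyclic groups: index of a join

In a finite cyclic group every subgroup `A` is the group of `A.index`-th powers, and
`(A ⊔ B).index = gcd A.index B.index`.
-/

set_option autoImplicit false

namespace Cfsg.Agent.Helper40.CycIdx

variable {G : Type*} [CommGroup G]

theorem range_pow_sup (a b : ℕ) :
    (powMonoidHom a : G →* G).range ⊔ (powMonoidHom b : G →* G).range =
      (powMonoidHom (Nat.gcd a b) : G →* G).range := by
  apply le_antisymm
  · apply sup_le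
    · rintro _ ⟨g, rfl⟩
      obtain ⟨c, hc⟩ := Nat.gcd_dvd_left a b
      refine ⟨g ^ c, ?_⟩
      rw [powMonoidHom_apply, powMonoidHom_apply, ← pow_mul, mul_comm, ← hc]
    · rintro _ ⟨g, rfl⟩
      obtain ⟨c, hc⟩ := Nat.gcd_dvd_right a b
      refine ⟨g ^ c, ?_⟩
      rw [powMonoidHom_apply, powMonoidHom_apply, ← pow_mul, mul_comm, ← hc]
  · rintro _ ⟨g, rfl⟩
    rw [powMonoidHom_apply]
    have hb := Nat.gcd_eq_gcd_ab a b
    have h1 : g ^ (Nat.gcd a b) = (g ^ (Nat.gcdA a b)) ^ a * (g ^ (Nat.gcdB a b)) ^ b := by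
      rw [← zpow_natCast g (Nat.gcd a b), hb, zpow_add, zpow_mul, zpow_mul, zpow_natCast, zpow_natCast]
      congr 1
      · rw [← zpow_natCast (g ^ (Nat.gcdA a b)) a, ← zpow_mul, ← zpow_natCast g a, ← zpow_mul, mul_comm]
      · rw [← zpow_natCast (g ^ (Nat.gcdB a b)) b, ← zpow_mul, ← zpow_natCast g b, ← zpow_mul, mul_comm]
    rw [h1]
    exact Subgroup.mul_mem _ (Subgroup.mem_sup_left ⟨g ^ (Nat.gcdA a b), rfl⟩)
      (Subgroup.mem_sup_right ⟨g ^ (Nat.gcdB a b), rfl⟩)

theorem eq_range_pow_index [Finite G] [IsCyclic G] (A : Subgroup G) :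
    A = (powMonoidHom A.index : G →* G).range := by
  symm
  apply Subgroup.eq_of_le_of_card_ge
  · rintro _ ⟨g, rfl⟩
    rw [powMonoidHom_apply]
    exact Subgroup.pow_index_mem A g
  · have h1 : Nat.card (powMonoidHom A.index : G →* G).range = Nat.card G / A.index := by
      rw [IsCyclic.card_powMonoidHom_range, Nat.gcd_eq_right A.index_dvd_card]
    rw [h1, ← A.card_mul_index]
    rw [Nat.mul_div_cancel _ (Nat.pos_of_ne_zero Subgroup.index_ne_zero_of_finite)]

theorem index_sup [Finite G] [IsCyclic G] (A B : Subgroup G) :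
    (A ⊔ B).index = Nat.gcd A.index B.index := by
  conv_lhs => rw [eq_range_pow_index A, eq_range_pow_index B, range_pow_sup,
    IsCyclic.index_powMonoidHom_range]
  apply Nat.gcd_eq_right
  exact Dvd.dvd.trans (Nat.gcd_dvd_left _ _) A.index_dvd_card

end Cfsg.Agent.Helper40.CycIdx
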