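import Mathlib
import Cfsg.Agent.Lib.Helper40.OutPSLMain

/-!
# `Out(PSL_n(F))`: the final structure statement from the structure hypothesis
-/

set_option autoImplicit false
set_option linter.unusedSectionVars false
set_option linter.unusedSimpArgs false
set_option linter.unusedVariables false

namespace Cfsg.Agent.Helper40.OutPSL

open Matrix Cfsg.Agent.Helper13.PSLAut Cfsg.Agent.Helper13.GraphAutPSL

variable {F : Type*} [Field F] {n : ℕ}

local notation "SLn" => Matrix.SpecialLinearGroup (Fin n) F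
local notation "PSLn" => Matrix.ProjectiveSpecialLinearGroup (Fin n) F
local notation "Mn" => Matrix (Fin n) (Fin n) F

/-- the diagonal outer automorphisms: `a ↦ [PhiL (diag(a,1,…,1))]` -/
noncomputable def psiHom (hn : 0 < n) : Fˣ →* Cfsg.Out PSLn :=
  (QuotientGroup.mk' (Cfsg.Inn PSLn)).comp ((PhiL (F := F) (n := n)).comp (dg1 hn))

theorem psiHom_apply (hn : 0 < n) (a : Fˣ) :
    psiHom hn a = (QuotientGroup.mk (PhiL (dg1 hn a)) : Cfsg.Out PSLn) := rfl

/-- every `g ∈ GL_n` is `diag(det g, 1, …, 1)` times an element of `SL_n` -/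
theorem exists_dg1_mul (hn : 0 < n) (g : GL (Fin n) F) :
    ∃ (a : Fˣ) (s : SLn), g = dg1 hn a * Matrix.SpecialLinearGroup.toGL s := by
  let a : Fˣ := Matrix.GeneralLinearGroup.det g
  have ha : (a : F) = (g : Mn).det := rfl
  let M : GL (Fin n) F := (dg1 hn a)⁻¹ * g
  have hdet : (M : Mn).det = 1 := by
    have h1 : dg1 hn a * M = g := by
      show dg1 hn a * ((dg1 hn a)⁻¹ * g) = g
      group
    have h2 : ((dg1 hn a : GL (Fin n) F) : Mn).det * (M : Mn).det = (g : Mn).det := by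
      rw [← Matrix.det_mul, ← Units.val_mul, h1]
    rw [det_dg1, ← ha] at h2
    have ha0 : (a : F) ≠ 0 := a.ne_zero
    exact mul_left_cancel₀ ha0 (by rw [h2, mul_one])
  refine ⟨a, ⟨(M : Mn), hdet⟩, ?_⟩
  have h3 : Matrix.SpecialLinearGroup.toGL (⟨(M : Mn), hdet⟩ : SLn) = M := Units.ext rfl
  rw [h3]
  show g = dg1 hn a * ((dg1 hn a)⁻¹ * g)
  group

theorem mem_inn_iff (β : MulAut PSLn) :
    β ∈ Cfsg.Inn PSLn ↔ ∃ s : SLn, β = PhiL (Matrix.SpecialLinearGroup.toGL s) := by
  constructor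
  · rintro ⟨x, rfl⟩
    induction x using QuotientGroup.induction_on with
    | H s => exact ⟨s, (PhiL_toGL s).symm⟩
  · rintro ⟨s, rfl⟩
    exact ⟨QuotientGroup.mk s, (PhiL_toGL s).symm⟩

theorem psiHom_ker (hn : 0 < n) :
    (psiHom (F := F) (n := n) hn).ker = (powMonoidHom n : Fˣ →* Fˣ).range := by
  ext a
  rw [MonoidHom.mem_ker, psiHom_apply, QuotientGroup.eq_one_iff, mem_inn_iff]
  constructor
  · rintro ⟨s, hs⟩
    rw [PhiL_eq_iff hn, Cfsg.Geo.mem_scalars_iff] at hs
    obtain ⟨c, hc⟩ := hs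
    have h1 : (s : Mn) = (c : F) • ((dg1 hn a : GL (Fin n) F) : Mn) := by
      have h2 : ((dg1 hn a : GL (Fin n) F) : Mn) *
          (((dg1 hn a)⁻¹ * Matrix.SpecialLinearGroup.toGL s : GL (Fin n) F) : Mn) = (s : Mn) := by
        rw [← Units.val_mul, mul_inv_cancel_left]
        rfl
      rw [← h2, hc, Matrix.mul_smul, Matrix.mul_one]
    have h3 : (1 : F) = (c : F) ^ n * (a : F) := by
      have h4 := congrArg Matrix.det h1
      rw [s.2, Matrix.det_smul, Fintype.card_fin, det_dg1] at h4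
      exact h4
    refine ⟨c⁻¹, ?_⟩
    rw [powMonoidHom_apply]
    apply Units.ext
    rw [Units.val_pow_eq_pow_val, Units.val_inv_eq_inv_val, inv_pow]
    have hc0 : ((c : F) ^ n) ≠ 0 := pow_ne_zero _ c.ne_zero
    field_simp
    exact h3
  · rintro ⟨b, rfl⟩
    rw [powMonoidHom_apply]
    have hdet : (((b⁻¹ : Fˣ) : F) • ((dg1 hn (b ^ n) : GL (Fin n) F) : Mn)).det = 1 := by
      rw [Matrix.det_smul, Fintype.card_fin, det_dg1, Units.val_pow_eq_pow_val, ← mul_pow,
        ← Units.val_mul, inv_mul_cancel, Units.val_one, one_pow]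
    refine ⟨⟨_, hdet⟩, ?_⟩
    rw [PhiL_eq_iff hn, Cfsg.Geo.mem_scalars_iff]
    refine ⟨b⁻¹, ?_⟩
    rw [Units.val_mul]
    show (((dg1 hn (b ^ n))⁻¹ : GL (Fin n) F) : Mn) *
      (((b⁻¹ : Fˣ) : F) • ((dg1 hn (b ^ n) : GL (Fin n) F) : Mn)) = _
    rw [Matrix.mul_smul, coe_inv_mul]

/-- the final statement, from the structure hypothesis -/
theorem out_structure [Fintype F] (p f : ℕ) [Fact p.Prime] [CharP F p] (hf : 1 ≤ f)
    (hF : Fintype.card F = p ^ f) (hn : 3 ≤ n) (hS : Struct n F) :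
    ∃ φ : Cfsg.Out PSLn →* Multiplicative (ZMod f × ZMod 2),
      Function.Surjective φ ∧ IsCyclic φ.ker ∧ Nat.card φ.ker = Nat.gcd n (p ^ f - 1) := by
  have hn0 : 0 < n := by omega
  obtain ⟨θ, hθs, hθk⟩ := exists_theta hn hS
  obtain ⟨e1⟩ := Cfsg.Agent.Helper41.exists_ringAut_equiv_zmod (F := F) p f hf hF
  have hcard2 : Nat.card (Subgroup.zpowers (iotaAut : MulAut PSLn)) = 2 := by
    rw [Nat.card_zpowers, orderOf_iota hn]
  have e2 : Subgroup.zpowers (iotaAut : MulAut PSLn) ≃* Multiplicative (ZMod 2) := by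
    apply mulEquivOfCyclicCardEq
    rw [hcard2, Nat.card_eq_fintype_card, Fintype.card_multiplicative, ZMod.card]
  let E : (F ≃+* F) × Subgroup.zpowers (iotaAut : MulAut PSLn) ≃* Multiplicative (ZMod f × ZMod 2) :=
    (MulEquiv.prodCongr e1 e2).trans (MulEquiv.prodMultiplicative (G := ZMod f) (H := ZMod 2)).symm
  let θ' : MulAut PSLn →* Multiplicative (ZMod f × ZMod 2) := E.toMonoidHom.comp θ
  have hθ's : Function.Surjective θ' := E.surjective.comp hθs
  have hθ'k : θ'.ker = (PhiL (F := F) (n := n)).range := by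
    rw [← hθk]
    ext β
    rw [MonoidHom.mem_ker, MonoidHom.mem_ker]
    show E (θ β) = 1 ↔ θ β = 1
    exact MulEquiv.map_eq_one_iff E
  have hle : Cfsg.Inn PSLn ≤ θ'.ker := by
    rw [hθ'k]; exact inn_le_range
  let φ : Cfsg.Out PSLn →* Multiplicative (ZMod f × ZMod 2) :=
    QuotientGroup.lift (Cfsg.Inn PSLn) θ' hle
  have hφs : Function.Surjective φ := by
    intro y
    obtain ⟨β, rfl⟩ := hθ's y
    exact ⟨QuotientGroup.mk β, rfl⟩
  have hker : φ.ker = (psiHom (F := F) (n := n) hn0).range := by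
    ext x
    induction x using QuotientGroup.induction_on with
    | H β =>
      rw [MonoidHom.mem_ker]
      show θ' β = 1 ↔ _
      rw [← MonoidHom.mem_ker, hθ'k]
      constructor
      · rintro ⟨g, rfl⟩
        obtain ⟨a, s, rfl⟩ := exists_dg1_mul hn0 g
        refine ⟨a, ?_⟩
        rw [psiHom_apply, map_mul, QuotientGroup.mk_mul,
          (QuotientGroup.eq_one_iff (PhiL (Matrix.SpecialLinearGroup.toGL s))).2
            ((mem_inn_iff _).2 ⟨s, rfl⟩), mul_one]
      · rintro ⟨a, ha⟩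
        rw [psiHom_apply] at ha
        have h1 := QuotientGroup.eq.1 ha
        obtain ⟨s, hs⟩ := (mem_inn_iff _).1 h1
        refine ⟨dg1 hn0 a * Matrix.SpecialLinearGroup.toGL s, ?_⟩
        rw [map_mul, ← hs]
        group
  refine ⟨φ, hφs, ?_, ?_⟩
  · rw [hker]
    exact isCyclic_of_surjective (psiHom (F := F) (n := n) hn0).rangeRestrict
      (psiHom (F := F) (n := n) hn0).rangeRestrict_surjective
  · rw [hker, ← Subgroup.index_ker, psiHom_ker, IsCyclic.index_powMonoidHom_range,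
      Nat.card_units, Nat.card_eq_fintype_card, hF, Nat.gcd_comm]

end Cfsg.Agent.Helper40.OutPSL
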