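import Mathlib
import Cfsg.Prelude.Def_LieTypeDatum

/-!
# `splitClassCount H K x` as an index

For `K ≤ H` normalized by `H`: the number of `K`-classes in the `H`-class of `x` is the index of
`K · C_H(x)` in `H`.  Also: invariance under conjugation by elements normalizing `H` and `K`.
-/

set_option autoImplicit false
set_option linter.unusedSectionVars false
set_option linter.unusedSimpArgs false
set_option linter.unusedVariables false

namespace Cfsg.Agent.Helper40.SplitCount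

variable {X : Type*} [Group X]

/-- the subgroup `K · C_H(x)` -/
def MSub (H K : Subgroup X) (x : X) : Subgroup X := K ⊔ (H ⊓ Subgroup.centralizer {x})

theorem mem_MSub_iff (H K : Subgroup X) (hKH : K ≤ H)
    (hnorm : ∀ h ∈ H, ∀ k ∈ K, h * k * h⁻¹ ∈ K) (x : X) (m : X) :
    m ∈ MSub H K x ↔ ∃ k ∈ K, ∃ c ∈ H, c * x = x * c ∧ m = k * c := by
  constructor
  · intro hm
    unfold MSub at hm
    -- closure induction
    have key : ∀ m ∈ K ⊔ (H ⊓ Subgroup.centralizer {x}),
        ∃ k ∈ K, ∃ c ∈ H, c * x = x * c ∧ m = k * c := by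
      intro m hm
      rw [Subgroup.sup_eq_closure] at hm
      induction hm using Subgroup.closure_induction with
      | mem y hy =>
        rcases hy with hy | hy
        · exact ⟨y, hy, 1, H.one_mem, by simp, by simp⟩
        · refine ⟨1, K.one_mem, y, hy.1, ?_, by simp⟩
          have := Subgroup.mem_centralizer_iff.1 hy.2 x rfl
          exact this.symm
      | one => exact ⟨1, K.one_mem, 1, H.one_mem, by simp, by simp⟩
      | mul a b _ _ iha ihb =>
        obtain ⟨k1, hk1, c1, hc1, hcx1, rfl⟩ := iha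
        obtain ⟨k2, hk2, c2, hc2, hcx2, rfl⟩ := ihb
        refine ⟨k1 * (c1 * k2 * c1⁻¹), K.mul_mem hk1 (hnorm c1 hc1 k2 hk2), c1 * c2,
          H.mul_mem hc1 hc2, ?_, by group⟩
        rw [mul_assoc, hcx2, ← mul_assoc, hcx1, mul_assoc]
      | inv a _ iha =>
        obtain ⟨k1, hk1, c1, hc1, hcx1, rfl⟩ := iha
        refine ⟨c1⁻¹ * k1⁻¹ * c1⁻¹⁻¹, hnorm c1⁻¹ (H.inv_mem hc1) k1⁻¹ (K.inv_mem hk1), c1⁻¹,
          H.inv_mem hc1, ?_, by group⟩
        calc c1⁻¹ * x = c1⁻¹ * (x * c1) * c1⁻¹ := by group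
          _ = c1⁻¹ * (c1 * x) * c1⁻¹ := by rw [hcx1]
          _ = x * c1⁻¹ := by group
    exact key m hm
  · rintro ⟨k, hk, c, hc, hcx, rfl⟩
    have hcc : c ∈ Subgroup.centralizer ({x} : Set X) := by
      rw [Subgroup.mem_centralizer_iff]
      intro y hy
      rw [Set.mem_singleton_iff.1 hy]
      exact hcx.symm
    have hcm : c ∈ H ⊓ Subgroup.centralizer ({x} : Set X) := Subgroup.mem_inf.2 ⟨hc, hcc⟩
    exact Subgroup.mul_mem _ (Subgroup.mem_sup_left hk) (Subgroup.mem_sup_right hcm)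

/-- `splitClassCount` as a relative index -/
theorem splitClassCount_eq (H K : Subgroup X) (hKH : K ≤ H)
    (hnorm : ∀ h ∈ H, ∀ k ∈ K, h * k * h⁻¹ ∈ K) (x : X) :
    Cfsg.splitClassCount H K x = (MSub H K x).relIndex H := by
  classical
  unfold Cfsg.splitClassCount Subgroup.relIndex Subgroup.index
  let S := {y : X // Cfsg.IsConjUnder H x y}
  let rel : S → S → Prop := fun y z => Cfsg.IsConjUnder K y.1 z.1
  have hchoose : ∀ y : S, ∃ h : X, h ∈ H ∧ y.1 = h * x * h⁻¹ := fun y => y.2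
  let hy : S → X := fun y => Classical.choose (hchoose y)
  have hyH : ∀ y : S, hy y ∈ H := fun y => (Classical.choose_spec (hchoose y)).1
  have hyx : ∀ y : S, y.1 = hy y * x * (hy y)⁻¹ := fun y => (Classical.choose_spec (hchoose y)).2
  -- the comparison criterion
  have hcrit : ∀ (a b : X), a ∈ H → b ∈ H →
      ((∃ k ∈ K, b * x * b⁻¹ = k * (a * x * a⁻¹) * k⁻¹) ↔ a⁻¹ * b ∈ MSub H K x) := by
    intro a b ha hb
    rw [mem_MSub_iff H K hKH hnorm]
    constructor
    · rintro ⟨k, hk, hkx⟩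
      refine ⟨a⁻¹ * k * a⁻¹⁻¹, hnorm a⁻¹ (H.inv_mem ha) k hk, a⁻¹ * k⁻¹ * b,
        H.mul_mem (H.mul_mem (H.inv_mem ha) (hKH (K.inv_mem hk))) hb, ?_, by group⟩
      have h1 : a⁻¹ * k⁻¹ * (b * x * b⁻¹) * (k * a) = x := by rw [hkx]; group
      calc a⁻¹ * k⁻¹ * b * x = (a⁻¹ * k⁻¹ * (b * x * b⁻¹) * (k * a)) * (a⁻¹ * k⁻¹ * b) := by group
        _ = x * (a⁻¹ * k⁻¹ * b) := by rw [h1]
    · rintro ⟨k, hk, c, hc, hcx, hab⟩
      refine ⟨a * k * a⁻¹, hnorm a ha k hk, ?_⟩
      have hb' : b = a * k * c := by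
        calc b = a * (a⁻¹ * b) := by group
          _ = a * (k * c) := by rw [hab]
          _ = a * k * c := by group
      rw [hb']
      have h2 : c * x * c⁻¹ = x := by rw [hcx]; group
      calc a * k * c * x * (a * k * c)⁻¹ = a * k * (c * x * c⁻¹) * k⁻¹ * a⁻¹ := by group
        _ = a * k * x * k⁻¹ * a⁻¹ := by rw [h2]
        _ = _ := by group
  -- the map
  let Ψ : Quot rel → ↥H ⧸ (MSub H K x).subgroupOf H :=
    Quot.lift (fun y => (QuotientGroup.mk (⟨hy y, hyH y⟩ : ↥H))) (by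
      intro y z hyz
      obtain ⟨k, hk, hkz⟩ := hyz
      rw [QuotientGroup.eq, Subgroup.mem_subgroupOf]
      show (hy y)⁻¹ * hy z ∈ MSub H K x
      rw [← hcrit _ _ (hyH y) (hyH z)]
      refine ⟨k, hk, ?_⟩
      rw [← hyx z, ← hyx y]
      exact hkz)
  have hinj : Function.Injective Ψ := by
    intro a b hab
    induction a using Quot.inductionOn with
    | h y =>
      induction b using Quot.inductionOn with
      | h z =>
        have h1 : (QuotientGroup.mk (⟨hy y, hyH y⟩ : ↥H) : ↥H ⧸ (MSub H K x).subgroupOf H) =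
            QuotientGroup.mk (⟨hy z, hyH z⟩ : ↥H) := hab
        rw [QuotientGroup.eq, Subgroup.mem_subgroupOf] at h1
        have h2 : (hy y)⁻¹ * hy z ∈ MSub H K x := h1
        rw [← hcrit _ _ (hyH y) (hyH z)] at h2
        obtain ⟨k, hk, hkx⟩ := h2
        apply Quot.sound
        refine ⟨k, hk, ?_⟩
        rw [hyx z, hyx y]
        exact hkx
  have hsurj : Function.Surjective Ψ := by
    intro q
    induction q using QuotientGroup.induction_on with
    | H h =>
      let y : S := ⟨(h : X) * x * (h : X)⁻¹, (h : X), h.2, rfl⟩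
      refine ⟨Quot.mk rel y, ?_⟩
      show (QuotientGroup.mk (⟨hy y, hyH y⟩ : ↥H) : ↥H ⧸ (MSub H K x).subgroupOf H) =
        QuotientGroup.mk h
      rw [QuotientGroup.eq, Subgroup.mem_subgroupOf]
      show (hy y)⁻¹ * (h : X) ∈ MSub H K x
      rw [← hcrit _ _ (hyH y) h.2]
      refine ⟨1, K.one_mem, ?_⟩
      rw [one_mul, inv_one, mul_one]
      exact hyx y
  exact Nat.card_congr (Equiv.ofBijective Ψ ⟨hinj, hsurj⟩)

/-- invariance of `splitClassCount` under conjugation by an element normalizing `H` and `K` -/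
theorem splitClassCount_conj (H K : Subgroup X) (a : X)
    (hH : ∀ h, h ∈ H ↔ a * h * a⁻¹ ∈ H) (hK : ∀ k, k ∈ K ↔ a * k * a⁻¹ ∈ K) (x : X) :
    Cfsg.splitClassCount H K (a * x * a⁻¹) = Cfsg.splitClassCount H K x := by
  unfold Cfsg.splitClassCount
  symm
  let f : {y : X // Cfsg.IsConjUnder H x y} → {y : X // Cfsg.IsConjUnder H (a * x * a⁻¹) y} :=
    fun y => ⟨a * y.1 * a⁻¹, by
      obtain ⟨h, hh, hy⟩ := y.2
      refine ⟨a * h * a⁻¹, (hH h).1 hh, ?_⟩
      rw [hy]; group⟩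
  have hf : Function.Bijective f := by
    constructor
    · intro y z hyz
      have h1 : a * y.1 * a⁻¹ = a * z.1 * a⁻¹ := congrArg Subtype.val hyz
      apply Subtype.ext
      calc y.1 = a⁻¹ * (a * y.1 * a⁻¹) * a := by group
        _ = a⁻¹ * (a * z.1 * a⁻¹) * a := by rw [h1]
        _ = z.1 := by group
    · intro z
      obtain ⟨h, hh, hz⟩ := z.2
      have hh' : a⁻¹ * h * a ∈ H := by
        rw [hH]
        have : a * (a⁻¹ * h * a) * a⁻¹ = h := by group
        rw [this]; exact hh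
      refine ⟨⟨a⁻¹ * z.1 * a, a⁻¹ * h * a, hh', by rw [hz]; group⟩, ?_⟩
      apply Subtype.ext
      show a * (a⁻¹ * z.1 * a) * a⁻¹ = z.1
      group
  let e := Equiv.ofBijective f hf
  apply Nat.card_congr
  refine Quot.congr e ?_
  intro y z
  constructor
  · rintro ⟨k, hk, hkz⟩
    refine ⟨a * k * a⁻¹, (hK k).1 hk, ?_⟩
    show a * z.1 * a⁻¹ = a * k * a⁻¹ * (a * y.1 * a⁻¹) * (a * k * a⁻¹)⁻¹
    rw [hkz]; group
  · rintro ⟨k, hk, hkz⟩
    have hk' : a⁻¹ * k * a ∈ K := by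
      rw [hK]
      have : a * (a⁻¹ * k * a) * a⁻¹ = k := by group
      rw [this]; exact hk
    refine ⟨a⁻¹ * k * a, hk', ?_⟩
    have h1 : a * z.1 * a⁻¹ = k * (a * y.1 * a⁻¹) * k⁻¹ := hkz
    calc z.1 = a⁻¹ * (a * z.1 * a⁻¹) * a := by group
      _ = a⁻¹ * (k * (a * y.1 * a⁻¹) * k⁻¹) * a := by rw [h1]
      _ = _ := by group

end Cfsg.Agent.Helper40.SplitCount
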