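import Mathlib
import Cfsg.Agent.Lib.Helper40.AutPSLFieldCent
import Cfsg.Agent.Lib.Helper40.OutPSLKer
import Cfsg.Agent.Lib.Helper40.SplitCount
import Cfsg.Agent.Lib.Helper40.CyclicIndex

/-!
# The `Inndiag`-class of a standard field automorphism splits into `gcd(n, (q-1)/(q₀-1))` classes
under the inner automorphisms
-/

set_option autoImplicit false
set_option linter.unusedSectionVars false
set_option linter.unusedSimpArgs false
set_option linter.unusedVariables false

namespace Cfsg.Agent.Helper40.FieldCent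

open Matrix Cfsg.Agent.Helper13.PSLAut Cfsg.Agent.Helper13.GraphAutPSL Cfsg.Agent.Helper40.OutPSL
  Cfsg.Agent.Helper40.H90 Cfsg.Agent.Helper40.AutPSLNorm Cfsg.Agent.Helper40.FixK
  Cfsg.Agent.Helper40.SplitCount

variable {F : Type*} [Field F] {n : ℕ}

local notation "SLn" => Matrix.SpecialLinearGroup (Fin n) F
local notation "PSLn" => Matrix.ProjectiveSpecialLinearGroup (Fin n) F
local notation "Mn" => Matrix (Fin n) (Fin n) F

theorem inn_conj_mem (β k : MulAut PSLn) (hk : k ∈ Cfsg.Inn PSLn) : β * k * β⁻¹ ∈ Cfsg.Inn PSLn := by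
  obtain ⟨x, rfl⟩ := hk
  refine ⟨β x, ?_⟩
  apply MulEquiv.ext
  intro y
  show β x * y * (β x)⁻¹ = β (x * (β⁻¹ y) * x⁻¹)
  rw [map_mul, map_mul, map_inv]
  congr 2
  show y = β (β.symm y)
  rw [MulEquiv.apply_symm_apply]

/-- inclusion of unit groups -/
def unitsIncl (K : Subfield F) : Kˣ →* Fˣ := Units.map (K.subtype : K →* F)

theorem unitsIncl_coe (K : Subfield F) (a : Kˣ) : ((unitsIncl K a : Fˣ) : F) = ((a : K) : F) := rfl

theorem unitsIncl_injective (K : Subfield F) : Function.Injective (unitsIncl K) := by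
  intro a b hab
  apply Units.ext
  apply Subtype.ext
  have := congrArg (fun t : Fˣ => (t : F)) hab
  exact this

theorem det_inclGL (K : Subfield F) (g : GL (Fin n) K) :
    Matrix.GeneralLinearGroup.det (inclGL K g) = unitsIncl K (Matrix.GeneralLinearGroup.det g) :=
  Matrix.GeneralLinearGroup.map_det _ g

theorem det_scGL (w : Fˣ) : Matrix.GeneralLinearGroup.det (scGL (n := n) w) = w ^ n := by
  apply Units.ext
  show ((scGL (n := n) w : GL (Fin n) F) : Mn).det = ((w ^ n : Fˣ) : F)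
  rw [scGL_coe, Matrix.det_smul, Matrix.det_one, mul_one, Fintype.card_fin, Units.val_pow_eq_pow_val]

theorem det_toGL (s : SLn) : Matrix.GeneralLinearGroup.det (Matrix.SpecialLinearGroup.toGL s) = 1 := by
  apply Units.ext
  show (s : Mn).det = 1
  exact s.2

theorem det_dg1' (hn : 0 < n) (a : Fˣ) : Matrix.GeneralLinearGroup.det (dg1 hn a) = a := by
  apply Units.ext
  exact det_dg1 hn a

theorem det_surjective (hn : 0 < n) :
    Function.Surjective (Matrix.GeneralLinearGroup.det : GL (Fin n) F →* Fˣ) :=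
  fun a => ⟨dg1 hn a, det_dg1' hn a⟩

/-- the subgroup `Kˣ (Fˣ)^n` of `Fˣ` -/
def Bsub (K : Subfield F) (n : ℕ) : Subgroup Fˣ :=
  (unitsIncl K).range ⊔ (powMonoidHom n : Fˣ →* Fˣ).range

/-- membership in `Inn · C_{Inndiag}(φ_σ)` is detected by the determinant -/
theorem mem_MSub_iff_det (hn : 0 < n) (σ : F ≃+* F) {r : ℕ} (hr : 0 < r) (hσ : orderOf σ = r)
    (g : GL (Fin n) F) :
    PhiL g ∈ MSub (PhiL (F := F) (n := n)).range (Cfsg.Inn PSLn) (fieldAutPSL σ) ↔
      Matrix.GeneralLinearGroup.det g ∈ Bsub (fixK σ) n := by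
  constructor
  · intro hg
    rw [mem_MSub_iff _ _ inn_le_range (fun h _ k hk => inn_conj_mem h k hk)] at hg
    obtain ⟨k, hk, c, hc, hcx, hgk⟩ := hg
    obtain ⟨s, rfl⟩ := (mem_inn_iff k).1 hk
    have hc' : c ∈ (Theta (n := n) (fixK σ)).range := by
      rw [range_Theta hn σ hr hσ]
      refine Subgroup.mem_inf.2 ⟨hc, ?_⟩
      rw [Subgroup.mem_centralizer_iff]
      intro y hy
      rw [Set.mem_singleton_iff.1 hy]
      exact hcx.symm
    obtain ⟨g₀, rfl⟩ := hc'
    rw [Theta_apply, ← map_mul, PhiL_eq_iff hn, Cfsg.Geo.mem_scalars_iff] at hgk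
    obtain ⟨z, hz⟩ := hgk
    have h1 : g⁻¹ * (Matrix.SpecialLinearGroup.toGL s * inclGL (fixK σ) g₀) = scGL z :=
      Units.ext hz
    have h2 : g = Matrix.SpecialLinearGroup.toGL s * inclGL (fixK σ) g₀ * (scGL z)⁻¹ := by
      rw [← h1]; group
    rw [h2, map_mul, map_mul, det_toGL, one_mul, det_inclGL, map_inv, det_scGL]
    unfold Bsub
    refine Subgroup.mul_mem _ (Subgroup.mem_sup_left ⟨_, rfl⟩) (Subgroup.mem_sup_right ?_)
    exact Subgroup.inv_mem _ ⟨z, rfl⟩
  · intro hg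
    unfold Bsub at hg
    obtain ⟨u, ⟨k, rfl⟩, v, ⟨w, rfl⟩, huv⟩ := Subgroup.mem_sup.1 hg
    rw [powMonoidHom_apply] at huv
    let g₀ : GL (Fin n) (fixK σ) := dg1 hn k
    let g' : GL (Fin n) F := g * (inclGL (fixK σ) g₀)⁻¹ * (scGL w)⁻¹
    have hdet : Matrix.GeneralLinearGroup.det g' = 1 := by
      show Matrix.GeneralLinearGroup.det (g * (inclGL (fixK σ) g₀)⁻¹ * (scGL w)⁻¹) = 1
      rw [map_mul, map_mul, map_inv, map_inv, det_inclGL, det_scGL, det_dg1', ← huv]
      rw [mul_assoc, mul_assoc, mul_comm (w ^ n), mul_assoc, inv_mul_cancel, mul_one, mul_inv_cancel]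
    have hdet' : (g' : Mn).det = 1 := congrArg (fun t : Fˣ => (t : F)) hdet
    have hg' : Matrix.SpecialLinearGroup.toGL (⟨(g' : Mn), hdet'⟩ : SLn) = g' := Units.ext rfl
    have h3 : g = g' * scGL w * inclGL (fixK σ) g₀ := by
      show g = g * (inclGL (fixK σ) g₀)⁻¹ * (scGL w)⁻¹ * scGL w * inclGL (fixK σ) g₀
      group
    have h4 : PhiL g = PhiL g' * PhiL (inclGL (fixK σ) g₀) := by
      conv_lhs => rw [h3]
      rw [map_mul, map_mul, PhiL_scGL hn, mul_one]
    rw [h4]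
    unfold MSub
    refine Subgroup.mul_mem _ (Subgroup.mem_sup_left ?_) (Subgroup.mem_sup_right ?_)
    · rw [mem_inn_iff]
      exact ⟨⟨(g' : Mn), hdet'⟩, by rw [hg']⟩
    · rw [← range_Theta hn σ hr hσ]
      exact ⟨g₀, rfl⟩

/-- the splitting number as an index in `Fˣ` -/
theorem splitCount_eq_index (hn : 0 < n) (σ : F ≃+* F) {r : ℕ} (hr : 0 < r) (hσ : orderOf σ = r) :
    Cfsg.splitClassCount (PhiL (F := F) (n := n)).range (Cfsg.Inn PSLn) (fieldAutPSL σ) =
      (Bsub (fixK σ) n).index := by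
  rw [splitClassCount_eq _ _ inn_le_range (fun h _ k hk => inn_conj_mem h k hk)]
  have h1 : (MSub (PhiL (F := F) (n := n)).range (Cfsg.Inn PSLn) (fieldAutPSL σ)).comap PhiL =
      (Bsub (fixK σ) n).comap (Matrix.GeneralLinearGroup.det : GL (Fin n) F →* Fˣ) := by
    ext g
    rw [Subgroup.mem_comap, Subgroup.mem_comap]
    exact mem_MSub_iff_det hn σ hr hσ g
  rw [← Subgroup.index_comap_of_surjective (Bsub (fixK σ) n) (det_surjective hn), ← h1,
    Subgroup.index_comap]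

/-- the index of `Kˣ (Fˣ)^n` in `Fˣ` -/
theorem index_Bsub [Fintype F] (σ : F ≃+* F) {p f r : ℕ} (hp : p.Prime)
    (hF : Fintype.card F = p ^ f) (hσ : orderOf σ = r) (hr : 0 < r) (n : ℕ) :
    (Bsub (fixK σ) n).index = Nat.gcd n ((p ^ f - 1) / (p ^ (f / r) - 1)) := by
  classical
  obtain ⟨hrf, hK⟩ := card_fixK σ hp hF hσ hr
  unfold Bsub
  rw [CycIdx.index_sup, IsCyclic.index_powMonoidHom_range]
  have hcF : Nat.card Fˣ = p ^ f - 1 := by
    rw [Nat.card_units, Nat.card_eq_fintype_card, hF]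
  have hcK : Nat.card (unitsIncl (fixK σ)).range = p ^ (f / r) - 1 := by
    rw [← Nat.card_congr (MonoidHom.ofInjective (unitsIncl_injective (fixK σ))).toEquiv,
      Nat.card_units, hK]
  have h1 := (unitsIncl (fixK σ)).range.card_mul_index
  rw [hcK, hcF] at h1
  have hpos : 0 < p ^ (f / r) - 1 := by
    rcases Nat.eq_zero_or_pos (p ^ (f / r) - 1) with h0 | h0
    · rw [h0, zero_mul] at h1
      have h2 : 2 ≤ p ^ f := by
        rw [← hF]
        exact Fintype.one_lt_card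
      omega
    · exact h0
  have h2 : (unitsIncl (fixK σ)).range.index = (p ^ f - 1) / (p ^ (f / r) - 1) := by
    rw [← h1, Nat.mul_div_cancel_left _ hpos]
  rw [h2, hcF]
  have h3 : (p ^ f - 1) / (p ^ (f / r) - 1) ∣ p ^ f - 1 :=
    Nat.div_dvd_of_dvd ⟨_, h1.symm⟩
  rw [← Nat.gcd_assoc, Nat.gcd_eq_left h3, Nat.gcd_comm]

end Cfsg.Agent.Helper40.FieldCent
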