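import Mathlib
import Cfsg.Prelude.Def_LieTypeDatum
import Cfsg.Agent.Lib.Helper13.Symp
import Cfsg.Agent.Lib.Helper5.SpCenter

/-!
# Automorphisms of `PSp_{2m}(F)` induced by conformal symplectic matrices and field automorphisms

`PhiSp : ↥(GSp m F) →* MulAut (PSp m F)`, `fieldAutPSp σ`, the structure hypothesis `StructSp`.
-/

set_option autoImplicit false
set_option linter.unusedSectionVars false
set_option linter.unusedSimpArgs false
set_option linter.unusedVariables false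

namespace Cfsg.Agent.Helper40.AutPSp

open Matrix

variable {F : Type*} [Field F] {m : ℕ}

local notation "Mm" => Matrix (Fin m ⊕ Fin m) (Fin m ⊕ Fin m) F
local notation "Vm" => (Fin m ⊕ Fin m → F)
set_option quotPrecheck false in
local notation "Spm" => ↥(Matrix.symplecticGroup (Fin m) F)
local notation "GLm" => GL (Fin m ⊕ Fin m) F

/-! ### forms and matrices -/

theorem sympForm_mulVec_eq (A : Mm) (u v : Vm) :
    Cfsg.sympForm m F (A *ᵥ u) (A *ᵥ v) = u ⬝ᵥ ((Aᵀ * Matrix.J (Fin m) F * A) *ᵥ v) := by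
  unfold Cfsg.sympForm
  rw [Matrix.mulVec_mulVec, ← Matrix.vecMul_transpose, Matrix.dotProduct_mulVec,
    Matrix.vecMul_vecMul, ← Matrix.dotProduct_mulVec, ← Matrix.mul_assoc]

theorem mat_ext_of_form {M N : Mm} (h : ∀ u v : Vm, u ⬝ᵥ (M *ᵥ v) = u ⬝ᵥ (N *ᵥ v)) : M = N := by
  ext i j
  have h1 := h (Pi.single i 1) (Pi.single j 1)
  simpa [Matrix.mulVec_single_one, single_one_dotProduct] using h1

theorem mem_sp_of_preserves {A : Mm}
    (H : ∀ u v : Vm, Cfsg.sympForm m F (A *ᵥ u) (A *ᵥ v) = Cfsg.sympForm m F u v) :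
    A ∈ Matrix.symplecticGroup (Fin m) F := by
  rw [SymplecticGroup.mem_iff']
  apply mat_ext_of_form
  intro u v
  rw [← sympForm_mulVec_eq]
  exact H u v

theorem mem_GSp_iff (g : GLm) :
    g ∈ Cfsg.GSp m F ↔ ∃ c : Fˣ, ∀ u v : Vm,
      Cfsg.sympForm m F ((g : Mm) *ᵥ u) ((g : Mm) *ᵥ v) = (c : F) * Cfsg.sympForm m F u v :=
  Iff.rfl

theorem mem_GSp_iff_mat (g : GLm) :
    g ∈ Cfsg.GSp m F ↔ ∃ c : Fˣ, (g : Mm)ᵀ * Matrix.J (Fin m) F * (g : Mm) =
      (c : F) • Matrix.J (Fin m) F := by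
  rw [mem_GSp_iff]
  constructor
  · rintro ⟨c, hc⟩
    refine ⟨c, mat_ext_of_form ?_⟩
    intro u v
    rw [← sympForm_mulVec_eq, hc, Matrix.smul_mulVec, dotProduct_smul, smul_eq_mul]
    rfl
  · rintro ⟨c, hc⟩
    refine ⟨c, ?_⟩
    intro u v
    rw [sympForm_mulVec_eq, hc, Matrix.smul_mulVec, dotProduct_smul, smul_eq_mul]
    rfl

theorem coe_mul_inv' (g : GLm) : (g : Mm) * ((g⁻¹ : GLm) : Mm) = 1 := by
  rw [← Units.val_mul, mul_inv_cancel, Units.val_one]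

theorem coe_inv_mul' (g : GLm) : ((g⁻¹ : GLm) : Mm) * (g : Mm) = 1 := by
  rw [← Units.val_mul, inv_mul_cancel, Units.val_one]

theorem conj_mem_sp {g : GLm} (hg : g ∈ Cfsg.GSp m F) {s : Mm}
    (hs : s ∈ Matrix.symplecticGroup (Fin m) F) :
    (g : Mm) * s * ((g⁻¹ : GLm) : Mm) ∈ Matrix.symplecticGroup (Fin m) F := by
  obtain ⟨c, hc⟩ := hg
  apply mem_sp_of_preserves
  intro u v
  have key : ∀ w : Vm, ((g : Mm) * s * ((g⁻¹ : GLm) : Mm)) *ᵥ w =
      (g : Mm) *ᵥ (s *ᵥ (((g⁻¹ : GLm) : Mm) *ᵥ w)) := by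
    intro w
    rw [Matrix.mulVec_mulVec, Matrix.mulVec_mulVec]
  rw [key, key, hc, Cfsg.Agent.Helper13.sympForm_mulVec hs]
  have h1 := hc (((g⁻¹ : GLm) : Mm) *ᵥ u) (((g⁻¹ : GLm) : Mm) *ᵥ v)
  rw [Matrix.mulVec_mulVec, Matrix.mulVec_mulVec, coe_mul_inv', Matrix.one_mulVec,
    Matrix.one_mulVec] at h1
  exact h1.symm

/-! ### conjugation -/

/-- conjugation by `g ∈ GSp` on `Sp` -/
def cj (g : ↥(Cfsg.GSp m F)) (s : Spm) : Spm :=
  ⟨(g.1 : Mm) * (s : Mm) * (((g.1)⁻¹ : GLm) : Mm), conj_mem_sp g.2 s.2⟩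

theorem cj_val (g : ↥(Cfsg.GSp m F)) (s : Spm) :
    ((cj g s : Spm) : Mm) = (g.1 : Mm) * (s : Mm) * (((g.1)⁻¹ : GLm) : Mm) := rfl

theorem cj_mul (g h : ↥(Cfsg.GSp m F)) (s : Spm) : cj (g * h) s = cj g (cj h s) := by
  apply Subtype.ext
  rw [cj_val, cj_val, cj_val]
  have h1 : ((g * h : ↥(Cfsg.GSp m F)) : GLm) = g.1 * h.1 := rfl
  rw [h1, _root_.mul_inv_rev, Units.val_mul, Units.val_mul]
  simp only [Matrix.mul_assoc]

theorem cj_one (s : Spm) : cj (1 : ↥(Cfsg.GSp m F)) s = s := by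
  apply Subtype.ext
  rw [cj_val]
  have h1 : ((1 : ↥(Cfsg.GSp m F)) : GLm) = 1 := rfl
  rw [h1, inv_one, Units.val_one, Matrix.one_mul, Matrix.mul_one]

theorem cj_map_mul (g : ↥(Cfsg.GSp m F)) (s t : Spm) : cj g (s * t) = cj g s * cj g t := by
  apply Subtype.ext
  show (g.1 : Mm) * ((s : Mm) * (t : Mm)) * (((g.1)⁻¹ : GLm) : Mm) =
    ((g.1 : Mm) * (s : Mm) * (((g.1)⁻¹ : GLm) : Mm)) *
      ((g.1 : Mm) * (t : Mm) * (((g.1)⁻¹ : GLm) : Mm))
  have h1 : (((g.1)⁻¹ : GLm) : Mm) * ((g.1 : Mm) * ((t : Mm) * (((g.1)⁻¹ : GLm) : Mm))) =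
      (t : Mm) * (((g.1)⁻¹ : GLm) : Mm) := by
    rw [← Matrix.mul_assoc, coe_inv_mul', Matrix.one_mul]
  simp only [Matrix.mul_assoc]
  rw [h1]

/-- conjugation by `g ∈ GSp` as an automorphism of `Sp` -/
def conjSp (g : ↥(Cfsg.GSp m F)) : Spm ≃* Spm where
  toFun := cj g
  invFun := cj g⁻¹
  left_inv s := by rw [← cj_mul, inv_mul_cancel, cj_one]
  right_inv s := by rw [← cj_mul, mul_inv_cancel, cj_one]
  map_mul' := cj_map_mul g

theorem conjSp_apply (g : ↥(Cfsg.GSp m F)) (s : Spm) : conjSp g s = cj g s := rfl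

theorem conjSp_val (g : ↥(Cfsg.GSp m F)) (s : Spm) :
    ((conjSp g s : Spm) : Mm) = (g.1 : Mm) * (s : Mm) * (((g.1)⁻¹ : GLm) : Mm) := rfl

theorem conjSp_center (g : ↥(Cfsg.GSp m F)) :
    (Subgroup.center Spm).map (conjSp g).toMonoidHom = Subgroup.center Spm :=
  (Subgroup.characteristic_iff_map_eq.1
    (inferInstance : (Subgroup.center Spm).Characteristic)) (conjSp g)

/-- the automorphism of `PSp` induced by conjugation by `g` -/
noncomputable def phiFun (g : ↥(Cfsg.GSp m F)) : Cfsg.PSp m F ≃* Cfsg.PSp m F :=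
  QuotientGroup.congr (Subgroup.center Spm) (Subgroup.center Spm) (conjSp g) (conjSp_center g)

theorem phiFun_mk (g : ↥(Cfsg.GSp m F)) (s : Spm) :
    phiFun g (QuotientGroup.mk s) = QuotientGroup.mk (conjSp g s) := rfl

/-- The homomorphism `GSp_{2m}(F) → Aut(PSp_{2m}(F))`. -/
noncomputable def PhiSp : ↥(Cfsg.GSp m F) →* MulAut (Cfsg.PSp m F) where
  toFun g := phiFun g
  map_one' := by
    apply MulEquiv.ext
    intro x
    induction x using QuotientGroup.induction_on with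
    | H s => rw [phiFun_mk, conjSp_apply, cj_one]; rfl
  map_mul' g h := by
    apply MulEquiv.ext
    intro x
    induction x using QuotientGroup.induction_on with
    | H s =>
      rw [phiFun_mk, conjSp_apply, cj_mul, MulAut.mul_apply, phiFun_mk, phiFun_mk]
      rfl

theorem PhiSp_mk (g : ↥(Cfsg.GSp m F)) (s : Spm) :
    PhiSp g (QuotientGroup.mk s) = QuotientGroup.mk (conjSp g s) := rfl

/-! ### field automorphisms -/

theorem map_mul_sigma (σ : F ≃+* F) (A B : Mm) : (A * B).map σ = A.map σ * B.map σ :=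
  Matrix.map_mul (f := σ.toRingHom)

theorem map_J_sigma (σ : F ≃+* F) : (Matrix.J (Fin m) F).map σ = Matrix.J (Fin m) F :=
  Matrix.map_J (Fin m) σ

theorem map_mem_sp (σ : F ≃+* F) {A : Mm} (hA : A ∈ Matrix.symplecticGroup (Fin m) F) :
    A.map σ ∈ Matrix.symplecticGroup (Fin m) F := by
  rw [SymplecticGroup.mem_iff] at hA ⊢
  have h1 : (A * Matrix.J (Fin m) F * Aᵀ).map σ = (Matrix.J (Fin m) F).map σ := by rw [hA]
  rw [map_mul_sigma, map_mul_sigma, map_J_sigma, Matrix.transpose_map] at h1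
  exact h1

/-- `σ` applied entrywise on `Sp` -/
def sigmaSp (σ : F ≃+* F) (s : Spm) : Spm :=
  ⟨(s : Mm).map σ, map_mem_sp σ s.2⟩

theorem sigmaSp_val (σ : F ≃+* F) (s : Spm) : ((sigmaSp σ s : Spm) : Mm) = (s : Mm).map σ := rfl

theorem sigmaSp_mul (σ : F ≃+* F) (s t : Spm) : sigmaSp σ (s * t) = sigmaSp σ s * sigmaSp σ t := by
  apply Subtype.ext
  exact map_mul_sigma σ _ _

theorem sigmaSp_sigmaSp (σ τ : F ≃+* F) (s : Spm) :
    sigmaSp σ (sigmaSp τ s) = sigmaSp (τ.trans σ) s := by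
  apply Subtype.ext
  rw [sigmaSp_val, sigmaSp_val, sigmaSp_val]
  ext i j
  simp only [Matrix.map_apply, RingEquiv.trans_apply]

theorem sigmaSp_refl (s : Spm) : sigmaSp (RingEquiv.refl F) s = s := by
  apply Subtype.ext
  rw [sigmaSp_val]
  ext i j
  simp only [Matrix.map_apply, RingEquiv.refl_apply]

/-- `σ` applied entrywise as an automorphism of `Sp` -/
def sigmaSpEquiv (σ : F ≃+* F) : Spm ≃* Spm where
  toFun := sigmaSp σ
  invFun := sigmaSp σ.symm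
  left_inv s := by rw [sigmaSp_sigmaSp, RingEquiv.self_trans_symm, sigmaSp_refl]
  right_inv s := by rw [sigmaSp_sigmaSp, RingEquiv.symm_trans_self, sigmaSp_refl]
  map_mul' := sigmaSp_mul σ

theorem sigmaSpEquiv_center (σ : F ≃+* F) :
    (Subgroup.center Spm).map (sigmaSpEquiv σ).toMonoidHom = Subgroup.center Spm :=
  (Subgroup.characteristic_iff_map_eq.1
    (inferInstance : (Subgroup.center Spm).Characteristic)) (sigmaSpEquiv σ)

/-- the standard field automorphism of `PSp` attached to `σ` -/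
noncomputable def fieldAutPSp (σ : F ≃+* F) : MulAut (Cfsg.PSp m F) :=
  QuotientGroup.congr (Subgroup.center Spm) (Subgroup.center Spm)
    (sigmaSpEquiv σ) (sigmaSpEquiv_center σ)

theorem fieldAutPSp_mk (σ : F ≃+* F) (s : Spm) :
    fieldAutPSp σ (QuotientGroup.mk s : Cfsg.PSp m F) = QuotientGroup.mk (sigmaSp σ s) := rfl

theorem isStd_fieldAutPSp (σ : F ≃+* F) : Cfsg.IsStdFieldAutPSp σ (fieldAutPSp (m := m) σ) := by
  intro s s' hs'
  rw [fieldAutPSp_mk]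
  congr 1
  apply Subtype.ext
  rw [sigmaSp_val, hs']

theorem eq_fieldAutPSp {σ : F ≃+* F} {φ : MulAut (Cfsg.PSp m F)}
    (hφ : Cfsg.IsStdFieldAutPSp σ φ) : φ = fieldAutPSp σ := by
  apply MulEquiv.ext
  intro x
  induction x using QuotientGroup.induction_on with
  | H s => rw [fieldAutPSp_mk]; exact hφ s (sigmaSp σ s) (sigmaSp_val σ s)

theorem fieldAutPSp_mul (σ τ : F ≃+* F) :
    fieldAutPSp (m := m) σ * fieldAutPSp τ = fieldAutPSp (τ.trans σ) := by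
  apply MulEquiv.ext
  intro x
  induction x using QuotientGroup.induction_on with
  | H s => rw [MulAut.mul_apply, fieldAutPSp_mk, fieldAutPSp_mk, fieldAutPSp_mk, sigmaSp_sigmaSp]

theorem fieldAutPSp_refl : fieldAutPSp (m := m) (RingEquiv.refl F) = 1 := by
  apply MulEquiv.ext
  intro x
  induction x using QuotientGroup.induction_on with
  | H s => rw [fieldAutPSp_mk, sigmaSp_refl]; rfl

/-- the standard field automorphisms as a homomorphism -/
noncomputable def fieldAutHomSp : (F ≃+* F) →* MulAut (Cfsg.PSp m F) where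
  toFun σ := fieldAutPSp σ
  map_one' := fieldAutPSp_refl
  map_mul' σ τ := (fieldAutPSp_mul σ τ).symm

theorem fieldAutHomSp_apply (σ : F ≃+* F) : fieldAutHomSp (m := m) σ = fieldAutPSp σ := rfl

theorem fieldAutPSp_one : fieldAutPSp (m := m) (1 : F ≃+* F) = 1 := fieldAutPSp_refl

theorem fieldAutPSp_mul' (σ τ : F ≃+* F) :
    fieldAutPSp (m := m) (σ * τ) = fieldAutPSp σ * fieldAutPSp τ :=
  map_mul (fieldAutHomSp (m := m)) σ τ

theorem fieldAutPSp_pow (σ : F ≃+* F) (k : ℕ) :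
    fieldAutPSp (m := m) (σ ^ k) = fieldAutPSp σ ^ k :=
  map_pow (fieldAutHomSp (m := m)) σ k

theorem fieldAutPSp_inv (σ : F ≃+* F) :
    fieldAutPSp (m := m) σ⁻¹ = (fieldAutPSp σ)⁻¹ :=
  map_inv (fieldAutHomSp (m := m)) σ

/-! ### `σ` on `GSp` -/

theorem sympForm_comp (σ : F ≃+* F) (u v : Vm) :
    Cfsg.sympForm m F (σ ∘ u) (σ ∘ v) = σ (Cfsg.sympForm m F u v) := by
  unfold Cfsg.sympForm
  have h1 : Matrix.J (Fin m) F *ᵥ (σ ∘ v) = σ ∘ (Matrix.J (Fin m) F *ᵥ v) := by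
    have h2 : (Matrix.J (Fin m) F).map σ.toRingHom = Matrix.J (Fin m) F :=
      Matrix.map_J (Fin m) σ.toRingHom
    ext i
    have h3 := (RingHom.map_mulVec σ.toRingHom (Matrix.J (Fin m) F) v i)
    rw [h2] at h3
    exact h3.symm
  rw [h1]
  simp only [dotProduct, map_sum, map_mul, Function.comp]

theorem map_mulVec_comp (σ : F ≃+* F) (A : Mm) (w : Vm) :
    (A.map σ) *ᵥ (σ ∘ w) = σ ∘ (A *ᵥ w) := by
  ext i
  exact (RingHom.map_mulVec σ.toRingHom A w i).symm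

theorem exists_comp (σ : F ≃+* F) (u : Vm) : ∃ u' : Vm, u = σ ∘ u' :=
  ⟨σ.symm ∘ u, by ext i; simp⟩

theorem map_mem_GSp (σ : F ≃+* F) (g : GLm) (hg : g ∈ Cfsg.GSp m F) :
    Matrix.GeneralLinearGroup.map σ.toRingHom g ∈ Cfsg.GSp m F := by
  obtain ⟨c, hc⟩ := hg
  refine ⟨Units.map σ.toRingHom.toMonoidHom c, ?_⟩
  intro u v
  obtain ⟨u', rfl⟩ := exists_comp σ u
  obtain ⟨v', rfl⟩ := exists_comp σ v
  have e : ((Matrix.GeneralLinearGroup.map σ.toRingHom g : GLm) : Mm) = (g : Mm).map σ := rfl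
  rw [e, map_mulVec_comp, map_mulVec_comp, sympForm_comp, sympForm_comp, hc, map_mul]
  rfl

/-- `σ` applied entrywise, on `GSp` -/
def sigmaGSp (σ : F ≃+* F) : ↥(Cfsg.GSp m F) →* ↥(Cfsg.GSp m F) :=
  ((Matrix.GeneralLinearGroup.map σ.toRingHom).comp (Cfsg.GSp m F).subtype).codRestrict
    (Cfsg.GSp m F) (fun g => map_mem_GSp σ g.1 g.2)

theorem sigmaGSp_coe (σ : F ≃+* F) (g : ↥(Cfsg.GSp m F)) :
    (((sigmaGSp σ g : ↥(Cfsg.GSp m F)) : GLm) : Mm) = (g.1 : Mm).map σ := rfl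

theorem sigmaGSp_val (σ : F ≃+* F) (g : ↥(Cfsg.GSp m F)) :
    ((sigmaGSp σ g : ↥(Cfsg.GSp m F)) : GLm) = Matrix.GeneralLinearGroup.map σ.toRingHom g.1 := rfl

theorem sigmaSp_conjSp (σ : F ≃+* F) (g : ↥(Cfsg.GSp m F)) (s : Spm) :
    sigmaSp σ (conjSp g s) = conjSp (sigmaGSp σ g) (sigmaSp σ s) := by
  apply Subtype.ext
  rw [sigmaSp_val, conjSp_val, conjSp_val, sigmaSp_val, sigmaGSp_coe]
  have h1 : ((((sigmaGSp σ g : ↥(Cfsg.GSp m F)) : GLm))⁻¹ : GLm) =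
      Matrix.GeneralLinearGroup.map σ.toRingHom (g.1)⁻¹ := by
    rw [sigmaGSp_val, map_inv]
  have h2 : ((Matrix.GeneralLinearGroup.map σ.toRingHom (g.1)⁻¹ : GLm) : Mm) =
      (((g.1)⁻¹ : GLm) : Mm).map σ := rfl
  rw [h1, h2, map_mul_sigma, map_mul_sigma]

theorem fieldAutPSp_mul_PhiSp (σ : F ≃+* F) (g : ↥(Cfsg.GSp m F)) :
    fieldAutPSp σ * PhiSp g = PhiSp (sigmaGSp σ g) * fieldAutPSp σ := by
  apply MulEquiv.ext
  intro x
  induction x using QuotientGroup.induction_on with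
  | H s =>
    rw [MulAut.mul_apply, MulAut.mul_apply, PhiSp_mk, fieldAutPSp_mk, fieldAutPSp_mk, PhiSp_mk,
      sigmaSp_conjSp]

/-! ### the predicates of the statements -/

/-- `β` is induced by `v ↦ g σ(v)` iff `β = PhiSp g * fieldAutPSp σ` -/
theorem semilinear_iff (g : ↥(Cfsg.GSp m F)) (σ : F ≃+* F) (β : Cfsg.PSp m F ≃* Cfsg.PSp m F) :
    Cfsg.IsInducedBySemilinearPSp g.1 σ β ↔ β = PhiSp g * fieldAutPSp σ := by
  constructor
  · intro h
    apply MulEquiv.ext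
    intro x
    induction x using QuotientGroup.induction_on with
    | H s =>
      rw [MulAut.mul_apply, fieldAutPSp_mk, PhiSp_mk]
      exact h s (conjSp g (sigmaSp σ s)) (by rw [conjSp_val, sigmaSp_val])
  · rintro rfl s s' hs'
    rw [MulAut.mul_apply, fieldAutPSp_mk, PhiSp_mk]
    congr 1
    apply Subtype.ext
    rw [conjSp_val, sigmaSp_val, hs']

theorem map_refl (A : Mm) : A.map (RingEquiv.refl F) = A := by
  ext i j
  rfl

theorem induced_iff (g : ↥(Cfsg.GSp m F)) (β : Cfsg.PSp m F ≃* Cfsg.PSp m F) :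
    Cfsg.IsInducedBySemilinearPSp g.1 (RingEquiv.refl F) β ↔ β = PhiSp g := by
  rw [semilinear_iff, fieldAutPSp_refl, mul_one]

theorem innerDiagonal_iff (β : Cfsg.PSp m F ≃* Cfsg.PSp m F) :
    Cfsg.IsInnerDiagonalAutPSp β ↔ ∃ g : ↥(Cfsg.GSp m F), β = PhiSp g := by
  constructor
  · rintro ⟨g, hg, h⟩
    exact ⟨⟨g, hg⟩, (induced_iff ⟨g, hg⟩ β).1 h⟩
  · rintro ⟨g, h⟩
    exact ⟨g.1, g.2, (induced_iff g β).2 h⟩

theorem inndiagPSp_eq_range :
    Cfsg.inndiagPSp m F = (PhiSp (F := F) (m := m)).range := by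
  have hset : {β : MulAut (Cfsg.PSp m F) | Cfsg.IsInnerDiagonalAutPSp β} =
      (((PhiSp (F := F) (m := m)).range : Subgroup (MulAut (Cfsg.PSp m F))) :
        Set (MulAut (Cfsg.PSp m F))) := by
    ext β
    constructor
    · intro h
      obtain ⟨g, hβ⟩ := (innerDiagonal_iff β).1 h
      exact ⟨g, hβ.symm⟩
    · rintro ⟨g, rfl⟩
      exact (innerDiagonal_iff _).2 ⟨g, rfl⟩
  unfold Cfsg.inndiagPSp Cfsg.autSubgroupOf
  rw [hset, Subgroup.closure_eq]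

theorem mem_inndiagPSp_iff (x : MulAut (Cfsg.PSp m F)) :
    x ∈ Cfsg.inndiagPSp m F ↔ ∃ g : ↥(Cfsg.GSp m F), x = PhiSp g := by
  rw [inndiagPSp_eq_range]
  constructor
  · rintro ⟨g, rfl⟩
    exact ⟨g, rfl⟩
  · rintro ⟨g, rfl⟩
    exact ⟨g, rfl⟩

theorem PhiSp_mem_inndiag (g : ↥(Cfsg.GSp m F)) : PhiSp g ∈ Cfsg.inndiagPSp m F :=
  (mem_inndiagPSp_iff _).2 ⟨g, rfl⟩

/-- the structure hypothesis for `Aut(PSp_{2m}(F))` -/
def StructSp (m : ℕ) (F : Type*) [Field F] : Prop :=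
  ∀ β : MulAut (Cfsg.PSp m F), ∃ (g : ↥(Cfsg.GSp m F)) (σ : F ≃+* F), β = PhiSp g * fieldAutPSp σ

/-- the set of products `PhiSp g * fieldAutPSp σ` as a subgroup -/
noncomputable def gammaSub (m : ℕ) (F : Type*) [Field F] : Subgroup (MulAut (Cfsg.PSp m F)) where
  carrier := {β | ∃ (g : ↥(Cfsg.GSp m F)) (σ : F ≃+* F), β = PhiSp g * fieldAutPSp σ}
  mul_mem' := by
    rintro _ _ ⟨g, σ, rfl⟩ ⟨h, τ, rfl⟩
    refine ⟨g * sigmaGSp σ h, σ * τ, ?_⟩
    rw [map_mul, fieldAutPSp_mul']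
    calc PhiSp g * fieldAutPSp σ * (PhiSp h * fieldAutPSp τ)
        = PhiSp g * (fieldAutPSp σ * PhiSp h) * fieldAutPSp τ := by simp only [mul_assoc]
      _ = PhiSp g * (PhiSp (sigmaGSp σ h) * fieldAutPSp σ) * fieldAutPSp τ := by
          rw [fieldAutPSp_mul_PhiSp]
      _ = _ := by simp only [mul_assoc]
  one_mem' := ⟨1, 1, by rw [map_one, fieldAutPSp_one, mul_one]⟩
  inv_mem' := by
    rintro _ ⟨g, σ, rfl⟩
    refine ⟨sigmaGSp σ⁻¹ g⁻¹, σ⁻¹, ?_⟩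
    rw [_root_.mul_inv_rev, ← fieldAutPSp_mul_PhiSp, fieldAutPSp_inv, map_inv]

theorem mem_gammaSub (β : MulAut (Cfsg.PSp m F)) :
    β ∈ gammaSub m F ↔ ∃ (g : ↥(Cfsg.GSp m F)) (σ : F ≃+* F), β = PhiSp g * fieldAutPSp σ :=
  Iff.rfl

theorem gammaPSp_eq_gammaSub : Cfsg.gammaPSp m F = gammaSub m F := by
  have hset : {β : MulAut (Cfsg.PSp m F) | ∃ (g : GLm) (σ : F ≃+* F),
      g ∈ Cfsg.GSp m F ∧ Cfsg.IsInducedBySemilinearPSp g σ β} =
      ((gammaSub m F : Subgroup (MulAut (Cfsg.PSp m F))) : Set (MulAut (Cfsg.PSp m F))) := by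
    ext β
    constructor
    · rintro ⟨g, σ, hg, h⟩
      exact ⟨⟨g, hg⟩, σ, (semilinear_iff ⟨g, hg⟩ σ β).1 h⟩
    · rintro ⟨g, σ, h⟩
      exact ⟨g.1, σ, g.2, (semilinear_iff g σ β).2 h⟩
  unfold Cfsg.gammaPSp Cfsg.autSubgroupOf
  rw [hset, Subgroup.closure_eq]

theorem gammaPSp_eq_top_iff : Cfsg.gammaPSp m F = ⊤ ↔ StructSp m F := by
  rw [gammaPSp_eq_gammaSub]
  constructor
  · intro h β
    have : β ∈ gammaSub m F := by rw [h]; exact Subgroup.mem_top β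
    exact this
  · intro h
    rw [eq_top_iff]
    intro β _
    exact h β

theorem range_normal (hS : StructSp m F) : ((PhiSp (F := F) (m := m)).range).Normal := by
  constructor
  rintro _ ⟨h, rfl⟩ β
  obtain ⟨g, σ, rfl⟩ := hS β
  refine ⟨g * sigmaGSp σ h * g⁻¹, ?_⟩
  rw [map_mul, map_mul, map_inv]
  have h1 := fieldAutPSp_mul_PhiSp (m := m) σ h
  calc PhiSp g * PhiSp (sigmaGSp σ h) * (PhiSp g)⁻¹
      = PhiSp g * (PhiSp (sigmaGSp σ h) * fieldAutPSp σ) * (fieldAutPSp σ)⁻¹ * (PhiSp g)⁻¹ := by group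
    _ = PhiSp g * (fieldAutPSp σ * PhiSp h) * (fieldAutPSp σ)⁻¹ * (PhiSp g)⁻¹ := by rw [h1]
    _ = PhiSp g * fieldAutPSp σ * PhiSp h * (PhiSp g * fieldAutPSp σ)⁻¹ := by group

theorem inndiag_normal (hS : StructSp m F) : (Cfsg.inndiagPSp m F).Normal := by
  rw [inndiagPSp_eq_range]
  exact range_normal hS

end Cfsg.Agent.Helper40.AutPSp
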