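import Mathlib
import Cfsg.Agent.Lib.Helper40.AutPSpBasic

/-!
# The kernel of `PhiSp` and injectivity of the field automorphisms of `PSp_{2m}(F)`
-/

set_option autoImplicit false
set_option linter.unusedSectionVars false
set_option linter.unusedSimpArgs false
set_option linter.unusedVariables false

namespace Cfsg.Agent.Helper40.AutPSp

open Matrix Cfsg.Agent.Helper5

variable {F : Type*} [Field F] {m : ℕ}

local notation "Mm" => Matrix (Fin m ⊕ Fin m) (Fin m ⊕ Fin m) F
local notation "Vm" => (Fin m ⊕ Fin m → F)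
set_option quotPrecheck false in
local notation "Spm" => ↥(Matrix.symplecticGroup (Fin m) F)
local notation "GLm" => GL (Fin m ⊕ Fin m) F

/-- the transvection `t_u(a)` as an element of `Sp` -/
def tvSp (u : Vm) (a : F) : Spm := ⟨spTv u a, spTv_mem u a⟩

theorem tvSp_val (u : Vm) (a : F) : ((tvSp u a : Spm) : Mm) = spTv u a := rfl

theorem spTv_sub_one_sq (u : Vm) (a : F) : (spTv u a - 1) * (spTv u a - 1) = 0 := by
  have h1 : spTv u a - 1 = a • vecMulVec u (Matrix.J (Fin m) F *ᵥ u) := by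
    unfold spTv
    rw [add_sub_cancel_left]
  rw [h1, Matrix.smul_mul, Matrix.mul_smul, Matrix.vecMulVec_mul_vecMulVec]
  have h2 : (Matrix.J (Fin m) F *ᵥ u) ⬝ᵥ u = 0 := by
    rw [dotProduct_comm]
    exact dotProduct_J_mulVec_self u
  rw [h2, zero_smul, Matrix.vecMulVec_zero, smul_zero, smul_zero]

theorem spTv_sq (u : Vm) (a : F) : spTv u a * spTv u a = 2 • spTv u a - 1 := by
  have h := spTv_sub_one_sq u a
  have h2 : (spTv u a - 1) * (spTv u a - 1) = spTv u a * spTv u a - 2 • spTv u a + 1 := by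
    rw [Matrix.sub_mul, Matrix.mul_sub, Matrix.mul_one, Matrix.one_mul, two_smul]
    abel
  rw [h2] at h
  calc spTv u a * spTv u a
      = (spTv u a * spTv u a - 2 • spTv u a + 1) + (2 • spTv u a - 1) := by abel
    _ = 2 • spTv u a - 1 := by rw [h, zero_add]

/-- the centre of `Sp` consists of `±1` -/
theorem center_val (hm : 1 ≤ m) (z : Spm) (hz : z ∈ Subgroup.center Spm) :
    (z : Mm) = 1 ∨ (z : Mm) = -1 := by
  have : Nonempty (Fin m) := ⟨⟨0, hm⟩⟩
  rcases center_sp_subset z hz with h | h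
  · left; rw [h]; rfl
  · right; rw [h]; rfl

/-- if `g t g⁻¹ ≡ t` modulo the centre for a transvection `t`, then `g t = t g` -/
theorem commute_tv_of_mk_eq (hm : 1 ≤ m) (g : ↥(Cfsg.GSp m F)) (u : Vm) (a : F)
    (h : (QuotientGroup.mk (conjSp g (tvSp u a)) : Cfsg.PSp m F) = QuotientGroup.mk (tvSp u a)) :
    (g.1 : Mm) * spTv u a = spTv u a * (g.1 : Mm) := by
  have h1 := QuotientGroup.eq.1 h
  have h2 := center_val hm _ h1
  set G : Mm := (g.1 : Mm) with hG
  set G' : Mm := (((g.1)⁻¹ : GLm) : Mm) with hG'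
  set T : Mm := spTv u a with hT
  have hGG' : G * G' = 1 := coe_mul_inv' g.1
  have hG'G : G' * G = 1 := coe_inv_mul' g.1
  have hc : ((conjSp g (tvSp u a) : Spm) : Mm) = G * T * G' := rfl
  -- `(c)⁻¹ * t = ±1` gives `t = ± c`
  have h3 : T = G * T * G' ∨ T = -(G * T * G') := by
    have hmul : ∀ z : Spm, (conjSp g (tvSp u a))⁻¹ * tvSp u a = z →
        T = (G * T * G') * (z : Mm) := by
      intro z hz
      have h4 : tvSp u a = conjSp g (tvSp u a) * z := by rw [← hz]; group
      have h5 := congrArg (fun s : Spm => (s : Mm)) h4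
      exact h5
    rcases h2 with h2 | h2
    · left
      have := hmul _ rfl
      rw [h2, Matrix.mul_one] at this
      exact this
    · right
      have := hmul _ rfl
      rw [h2, Matrix.mul_neg, Matrix.mul_one] at this
      exact this
  have hfin : T = G * T * G' := by
    rcases h3 with h3 | h3
    · exact h3
    · -- then `4 T = 0`
      have hsq : (G * T * G' - 1) * (G * T * G' - 1) = 0 := by
        have e1 : G * T * G' - 1 = G * (T - 1) * G' := by
          rw [Matrix.mul_sub, Matrix.sub_mul, Matrix.mul_one, hGG']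
        rw [e1]
        calc G * (T - 1) * G' * (G * (T - 1) * G')
            = G * ((T - 1) * (G' * G) * (T - 1)) * G' := by simp only [Matrix.mul_assoc]
          _ = 0 := by
            rw [hG'G, Matrix.mul_one, spTv_sub_one_sq, Matrix.mul_zero, Matrix.zero_mul]
      have e2 : G * T * G' = -T := neg_eq_iff_eq_neg.1 h3.symm
      rw [e2] at hsq
      have e3 : (-T - 1) * (-T - 1) = T * T + 2 • T + 1 := by
        rw [Matrix.sub_mul, Matrix.mul_sub, Matrix.mul_sub, Matrix.neg_mul, Matrix.mul_neg,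
          Matrix.one_mul, Matrix.mul_one, Matrix.mul_one, two_smul]
        abel
      rw [e3, spTv_sq] at hsq
      have e4 : (4 : F) • T = 0 := by
        have : 2 • T - 1 + 2 • T + 1 = (4 : F) • T := by
          rw [two_smul]
          have : (4 : F) • T = T + T + T + T := by
            rw [show (4 : F) = 1 + 1 + 1 + 1 by norm_num, add_smul, add_smul, add_smul, one_smul]
          rw [this]
          abel
        rw [← this]
        exact hsq
      have e5 : (4 : F) = 0 := by
        have hTi : T * spTv u (-a) = 1 := by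
          have := congrArg (fun s : Spm => (s : Mm))
            (mul_inv_cancel (tvSp u a))
          have hinv : ((tvSp u a)⁻¹ : Spm) = tvSp u (-a) := by
            rw [inv_eq_iff_mul_eq_one]
            apply Subtype.ext
            show spTv u a * spTv u (-a) = 1
            apply Matrix.mulVec_injective
            funext x
            rw [← Matrix.mulVec_mulVec, spTv_mulVec, spTv_mulVec, Matrix.one_mulVec,
              dotProduct_add, dotProduct_smul,
              (by rw [dotProduct_comm]; exact dotProduct_J_mulVec_self u :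
                (Matrix.J (Fin m) F *ᵥ u) ⬝ᵥ u = 0)]
            module
          rw [hinv] at this
          exact this
        have e6 : (4 : F) • (T * spTv u (-a)) = 0 := by
          rw [← Matrix.smul_mul, e4, Matrix.zero_mul]
        rw [hTi] at e6
        have : Nonempty (Fin m) := ⟨⟨0, hm⟩⟩
        have e7 := congrFun (congrFun e6 (Sum.inl ⟨0, hm⟩)) (Sum.inl ⟨0, hm⟩)
        rw [Matrix.smul_apply, Matrix.one_apply_eq, smul_eq_mul, mul_one, Matrix.zero_apply] at e7
        exact e7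
      have e8 : (2 : F) = 0 := by
        have : (2 : F) * 2 = 0 := by rw [← e5]; norm_num
        exact mul_self_eq_zero.1 this
      have e9 : -(G * T * G') = G * T * G' := by
        have : (2 : F) • (G * T * G') = 0 := by rw [e8, zero_smul]
        rw [show (2 : F) = 1 + 1 by norm_num, add_smul, one_smul] at this
        exact neg_eq_of_add_eq_zero_left this
      rw [e9] at h3
      exact h3
  calc G * T = G * T * (G' * G) := by rw [hG'G, Matrix.mul_one]
    _ = (G * T * G') * G := by simp only [Matrix.mul_assoc]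
    _ = T * G := by rw [← hfin]

theorem scalar_commute {g : GLm} (hg : g ∈ Cfsg.Geo.scalars (Fin m ⊕ Fin m) F) (A : Mm) :
    (g : Mm) * A = A * (g : Mm) := by
  obtain ⟨c, hc⟩ := (Cfsg.Geo.mem_scalars_iff g).1 hg
  rw [hc, Matrix.smul_mul, Matrix.mul_smul, Matrix.one_mul, Matrix.mul_one]

/-- the kernel of `PhiSp` consists of the scalars -/
theorem PhiSp_eq_one_iff (hm : 1 ≤ m) (g : ↥(Cfsg.GSp m F)) :
    PhiSp g = 1 ↔ g.1 ∈ Cfsg.Geo.scalars (Fin m ⊕ Fin m) F := by
  constructor
  · intro h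
    have hcomm : ∀ u : Vm, (g.1 : Mm) * spTv u 1 = spTv u 1 * (g.1 : Mm) := by
      intro u
      apply commute_tv_of_mk_eq hm g u 1
      have h1 : PhiSp g (QuotientGroup.mk (tvSp u 1)) = QuotientGroup.mk (tvSp u 1) := by
        rw [h]; rfl
      rw [PhiSp_mk] at h1
      exact h1
    obtain ⟨c, hc⟩ := eq_smul_one_of_commute_spTv (g.1 : Mm) hcomm
    have hc0 : c ≠ 0 := by
      rintro rfl
      rw [zero_smul] at hc
      have h2 := coe_mul_inv' g.1
      rw [hc, Matrix.zero_mul] at h2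
      have : Nonempty (Fin m) := ⟨⟨0, hm⟩⟩
      have h3 := congrFun (congrFun h2 (Sum.inl ⟨0, hm⟩)) (Sum.inl ⟨0, hm⟩)
      rw [Matrix.zero_apply, Matrix.one_apply_eq] at h3
      exact zero_ne_one h3
    rw [Cfsg.Geo.mem_scalars_iff]
    exact ⟨Units.mk0 c hc0, hc⟩
  · intro h
    apply MulEquiv.ext
    intro x
    induction x using QuotientGroup.induction_on with
    | H s =>
      rw [PhiSp_mk]
      show (QuotientGroup.mk (conjSp g s) : Cfsg.PSp m F) = QuotientGroup.mk s
      congr 1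
      apply Subtype.ext
      rw [conjSp_val, scalar_commute h, Matrix.mul_assoc, coe_mul_inv', Matrix.mul_one]

theorem PhiSp_eq_iff (hm : 1 ≤ m) (g h : ↥(Cfsg.GSp m F)) :
    PhiSp g = PhiSp h ↔ (g.1)⁻¹ * h.1 ∈ Cfsg.Geo.scalars (Fin m ⊕ Fin m) F := by
  have h1 : PhiSp g = PhiSp h ↔ PhiSp (g⁻¹ * h) = 1 := by
    rw [map_mul, map_inv, inv_mul_eq_one]
  rw [h1, PhiSp_eq_one_iff hm]
  rfl

/-- the scalar matrix `l • 1` as an element of `GSp` -/
noncomputable def scGSp (l : Fˣ) : ↥(Cfsg.GSp m F) :=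
  ⟨⟨(l : F) • 1, ((l⁻¹ : Fˣ) : F) • 1, by
      rw [Matrix.smul_mul, Matrix.mul_smul, Matrix.mul_one, smul_smul, ← Units.val_mul,
        mul_inv_cancel, Units.val_one, one_smul], by
      rw [Matrix.smul_mul, Matrix.mul_smul, Matrix.mul_one, smul_smul, ← Units.val_mul,
        inv_mul_cancel, Units.val_one, one_smul]⟩, by
    refine ⟨l * l, fun u v => ?_⟩
    show Cfsg.sympForm m F (((l : F) • (1 : Mm)) *ᵥ u) (((l : F) • (1 : Mm)) *ᵥ v) = _
    rw [Matrix.smul_mulVec, Matrix.one_mulVec, Matrix.smul_mulVec, Matrix.one_mulVec,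
      Cfsg.Agent.Helper13.sympForm_smul_left, Cfsg.Agent.Helper13.sympForm_smul_right,
      Units.val_mul, mul_assoc]⟩

theorem scGSp_coe (l : Fˣ) : (((scGSp l : ↥(Cfsg.GSp m F)) : GLm) : Mm) = (l : F) • (1 : Mm) := rfl

theorem scGSp_mem_scalars (l : Fˣ) :
    ((scGSp l : ↥(Cfsg.GSp m F)) : GLm) ∈ Cfsg.Geo.scalars (Fin m ⊕ Fin m) F := by
  rw [Cfsg.Geo.mem_scalars_iff]
  exact ⟨l, rfl⟩

theorem PhiSp_scGSp (hm : 1 ≤ m) (l : Fˣ) : PhiSp (scGSp (F := F) (m := m) l) = 1 :=
  (PhiSp_eq_one_iff hm _).2 (scGSp_mem_scalars l)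

/-! ### injectivity of the field automorphisms -/

/-- the basis vector `e_1` -/
def e1 (hm : 1 ≤ m) : Vm := Pi.single (Sum.inl ⟨0, hm⟩) 1

theorem spTv_e1_apply (hm : 1 ≤ m) (a : F) :
    spTv (e1 (F := F) hm) a (Sum.inl ⟨0, hm⟩) (Sum.inr ⟨0, hm⟩) = a := by
  unfold spTv
  rw [Matrix.add_apply, Matrix.smul_apply, Matrix.vecMulVec_apply, Matrix.one_apply_ne (by simp),
    J_mulVec_inr, zero_add]
  simp [e1]

theorem fieldAutHomSp_injective (hm : 1 ≤ m) :
    Function.Injective (fieldAutHomSp (F := F) (m := m)) := by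
  rw [injective_iff_map_eq_one]
  intro σ hσ
  apply RingEquiv.ext
  intro a
  have h1 : fieldAutPSp σ (QuotientGroup.mk (tvSp (e1 hm) a) : Cfsg.PSp m F) =
      QuotientGroup.mk (tvSp (e1 hm) a) := by
    have : fieldAutPSp (m := m) σ = 1 := hσ
    rw [this]; rfl
  rw [fieldAutPSp_mk] at h1
  have h2 := QuotientGroup.eq.1 h1
  have h3 := center_val hm _ h2
  have hmul : ∀ z : Spm, (sigmaSp σ (tvSp (e1 hm) a))⁻¹ * tvSp (e1 hm) a = z →
      spTv (e1 hm) a = (spTv (e1 (F := F) hm) a).map σ * (z : Mm) := by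
    intro z hz
    have h4 : tvSp (e1 hm) a = sigmaSp σ (tvSp (e1 hm) a) * z := by rw [← hz]; group
    exact congrArg (fun s : Spm => (s : Mm)) h4
  have h5 := hmul _ rfl
  rcases h3 with h3 | h3
  · rw [h3, Matrix.mul_one] at h5
    have h6 := congrFun (congrFun h5 (Sum.inl ⟨0, hm⟩)) (Sum.inr ⟨0, hm⟩)
    rw [Matrix.map_apply, spTv_e1_apply] at h6
    exact h6.symm
  · rw [h3, Matrix.mul_neg, Matrix.mul_one] at h5
    have h6 := congrFun (congrFun h5 (Sum.inl ⟨0, hm⟩)) (Sum.inr ⟨0, hm⟩)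
    rw [Matrix.neg_apply, Matrix.map_apply, spTv_e1_apply] at h6
    have h7 := congrFun (congrFun h5 (Sum.inl ⟨0, hm⟩)) (Sum.inl ⟨0, hm⟩)
    have h8 : spTv (e1 (F := F) hm) a (Sum.inl ⟨0, hm⟩) (Sum.inl ⟨0, hm⟩) = 1 := by
      unfold spTv
      rw [Matrix.add_apply, Matrix.smul_apply, Matrix.vecMulVec_apply, Matrix.one_apply_eq,
        J_mulVec_inl]
      simp [e1]
    rw [Matrix.neg_apply, Matrix.map_apply, h8, map_one] at h7
    -- `1 = -1`
    have h10 : -σ a = σ a := by
      have : -σ a = (-1 : F) * σ a := by ring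
      rw [this, ← h7, one_mul]
    exact (h6.trans h10).symm

theorem orderOf_fieldAutPSp (hm : 1 ≤ m) (σ : F ≃+* F) :
    orderOf (fieldAutPSp (m := m) σ) = orderOf σ :=
  orderOf_injective (fieldAutHomSp (F := F) (m := m)) (fieldAutHomSp_injective hm) σ

end Cfsg.Agent.Helper40.AutPSp
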