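import Mathlib
import Cfsg.Agent.Lib.Helper40.AutPSLField
import Cfsg.Agent.Lib.Helper40.FixedSubfield
import Cfsg.Agent.Lib.Helper43.GraphAutEven2

/-!
# A Lang-type lemma for conformal symplectic matrices and a field automorphism

`G` with `Gᵀ J G = μ J` and `N_σ(G) = 1`: then `G σ(H) = H` for some invertible `H` with
`Hᵀ J H = ν J`.
-/

set_option autoImplicit false
set_option linter.unusedSectionVars false
set_option linter.unusedSimpArgs false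
set_option linter.unusedVariables false

namespace Cfsg.Agent.Helper40.LangSp

open Matrix Cfsg.Agent.Helper40.H90 Cfsg.Agent.Helper40.AutPSLNorm Cfsg.Agent.Helper40.FixK

variable {F : Type*} [Field F] {m : ℕ}

local notation "Mm" => Matrix (Fin m ⊕ Fin m) (Fin m ⊕ Fin m) F
local notation "Vm" => (Fin m ⊕ Fin m → F)
local notation "Jm" => Matrix.J (Fin m) F

/-- entrywise application of `σ` -/
def smS (σ : F ≃+* F) (A : Mm) : Mm := A.map σ

theorem smS_mul (σ : F ≃+* F) (A B : Mm) : smS σ (A * B) = smS σ A * smS σ B :=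
  map_mul (σ : F →+* F).mapMatrix A B

theorem smS_one (σ : F ≃+* F) : smS σ (1 : Mm) = 1 :=
  map_one (σ : F →+* F).mapMatrix

theorem smS_smul (σ : F ≃+* F) (c : F) (A : Mm) : smS σ (c • A) = σ c • smS σ A := by
  ext i j
  show σ (c * A i j) = σ c * σ (A i j)
  exact map_mul σ _ _

theorem smS_transpose (σ : F ≃+* F) (A : Mm) : smS σ Aᵀ = (smS σ A)ᵀ := rfl

theorem smS_J (σ : F ≃+* F) : smS σ Jm = Jm := Matrix.map_J (Fin m) σ

theorem smS_mul' (σ τ : F ≃+* F) (A : Mm) : smS (σ * τ) A = smS σ (smS τ A) := rfl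

theorem smS_one' (A : Mm) : smS (1 : F ≃+* F) A = A := rfl

theorem smS_smul_one (σ : F ≃+* F) (c : F) : smS σ (c • (1 : Mm)) = σ c • (1 : Mm) := by
  rw [smS_smul, smS_one]

/-- the partial norms `g σ(g) ⋯ σ^{k-1}(g)` -/
def nrmS (σ : F ≃+* F) (g : Mm) : ℕ → Mm
  | 0 => 1
  | k + 1 => g * smS σ (nrmS σ g k)

theorem nrmS_smul (σ : F ≃+* F) (l : Fˣ) (g : Mm) (k : ℕ) :
    nrmS σ ((l : F) • g) k = ((nrmU σ l k : Fˣ) : F) • nrmS σ g k := by
  induction k with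
  | zero => simp [nrmS, nrmU]
  | succ k ih =>
    show ((l : F) • g) * smS σ (nrmS σ ((l : F) • g) k) =
      (((l * Units.map (σ : F →* F) (nrmU σ l k) : Fˣ)) : F) • (g * smS σ (nrmS σ g k))
    rw [ih, smS_smul, Matrix.smul_mul, Matrix.mul_smul, smul_smul]
    rfl

theorem nrmS_succ' (σ : F ≃+* F) (g : Mm) (k : ℕ) :
    nrmS σ g (k + 1) = nrmS σ g k * smS (σ ^ k) g := by
  induction k with
  | zero =>
    show g * smS σ 1 = 1 * smS (1 : F ≃+* F) g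
    rw [smS_one, Matrix.mul_one, Matrix.one_mul]
    rfl
  | succ k ih =>
    show g * smS σ (nrmS σ g (k + 1)) = _
    rw [ih, smS_mul, ← Matrix.mul_assoc]
    show nrmS σ g (k + 1) * _ = _
    congr 1
    rw [pow_succ']
    rfl

/-! ### reindexing to `Fin (m + m)` -/

/-- reindex to `Fin (m + m)` -/
def rx (A : Mm) : Matrix (Fin (m + m)) (Fin (m + m)) F :=
  A.submatrix finSumFinEquiv.symm finSumFinEquiv.symm

/-- reindex back -/
def rxInv (B : Matrix (Fin (m + m)) (Fin (m + m)) F) : Mm :=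
  B.submatrix finSumFinEquiv finSumFinEquiv

theorem rxInv_rx (A : Mm) : rxInv (rx A) = A := by
  ext i j
  simp [rx, rxInv]

theorem rx_rxInv (B : Matrix (Fin (m + m)) (Fin (m + m)) F) : rx (rxInv B) = B := by
  ext i j
  simp [rx, rxInv]

theorem rx_mul (A B : Mm) : rx (A * B) = rx A * rx B := by
  unfold rx
  rw [Matrix.submatrix_mul_equiv]

theorem rxInv_mul (A B : Matrix (Fin (m + m)) (Fin (m + m)) F) :
    rxInv (A * B) = rxInv A * rxInv B := by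
  unfold rxInv
  rw [Matrix.submatrix_mul_equiv]

theorem rx_one : rx (1 : Mm) = 1 := by
  unfold rx
  rw [Matrix.submatrix_one_equiv]

theorem rxInv_one : rxInv (1 : Matrix (Fin (m + m)) (Fin (m + m)) F) = (1 : Mm) := by
  unfold rxInv
  rw [Matrix.submatrix_one_equiv]

theorem rx_sm (σ : F ≃+* F) (A : Mm) : rx (smS σ A) = sm σ (rx A) := rfl

theorem rxInv_sm (σ : F ≃+* F) (B : Matrix (Fin (m + m)) (Fin (m + m)) F) :
    rxInv (sm σ B) = smS σ (rxInv B) := rfl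

theorem rx_nrm (σ : F ≃+* F) (g : Mm) (k : ℕ) : rx (nrmS σ g k) = nrm σ (rx g) k := by
  induction k with
  | zero => exact rx_one
  | succ k ih =>
    show rx (g * smS σ (nrmS σ g k)) = rx g * sm σ (nrm σ (rx g) k)
    rw [rx_mul, rx_sm, ih]

/-- Hilbert 90 for `GL` on the index set `Fin m ⊕ Fin m` -/
theorem hilbert90_S (σ : F ≃+* F) (g : Mm) {r : ℕ} (hr : 0 < r) (hσ : orderOf σ = r)
    (hN : nrmS σ g r = 1) :
    ∃ h h' : Mm, h * h' = 1 ∧ h' * h = 1 ∧ g * smS σ h = h := by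
  have hN' : nrm σ (rx g) r = 1 := by rw [← rx_nrm, hN, rx_one]
  obtain ⟨h, h', h1, h2, h3⟩ := hilbert90_matrix σ (rx g) hr hσ hN'
  refine ⟨rxInv h, rxInv h', ?_, ?_, ?_⟩
  · rw [← rxInv_mul, h1, rxInv_one]
  · rw [← rxInv_mul, h2, rxInv_one]
  · have := congrArg rxInv h3
    rw [rxInv_mul, rxInv_rx, rxInv_sm] at this
    exact this

/-! ### the Lang-type lemma -/

theorem J_apply_ne (hm : 1 ≤ m) : Jm (Sum.inl ⟨0, hm⟩) (Sum.inr ⟨0, hm⟩) = -1 := by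
  simp [Matrix.J]

theorem smul_J_inj (hm : 1 ≤ m) {a b : F} (h : a • Jm = b • Jm) : a = b := by
  have h8 := congrFun (congrFun h (Sum.inl ⟨0, hm⟩)) (Sum.inr ⟨0, hm⟩)
  rw [Matrix.smul_apply, Matrix.smul_apply, J_apply_ne hm, smul_eq_mul, smul_eq_mul, mul_neg,
    mul_neg, mul_one, mul_one, neg_inj] at h8
  exact h8

/-- the multiplier of the partial norms -/
theorem mult_nrm (σ : F ≃+* F) (G : Mm) (μ : Fˣ) (hG : Gᵀ * Jm * G = (μ : F) • Jm) (k : ℕ) :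
    (nrmS σ G k)ᵀ * Jm * nrmS σ G k = ((nrmU σ μ k : Fˣ) : F) • Jm := by
  induction k with
  | zero =>
    show (1 : Mm)ᵀ * Jm * (1 : Mm) = ((1 : Fˣ) : F) • Jm
    rw [Matrix.transpose_one, Matrix.one_mul, Matrix.mul_one, Units.val_one, one_smul]
  | succ k ih =>
    show (G * smS σ (nrmS σ G k))ᵀ * Jm * (G * smS σ (nrmS σ G k)) =
      ((μ * Units.map (σ : F →* F) (nrmU σ μ k) : Fˣ) : F) • Jm
    have h1 : (G * smS σ (nrmS σ G k))ᵀ * Jm * (G * smS σ (nrmS σ G k)) =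
        (smS σ (nrmS σ G k))ᵀ * (Gᵀ * Jm * G) * smS σ (nrmS σ G k) := by
      rw [Matrix.transpose_mul]
      simp only [Matrix.mul_assoc]
    rw [h1, hG, Matrix.mul_smul, Matrix.smul_mul]
    have h2 : (smS σ (nrmS σ G k))ᵀ * Jm * smS σ (nrmS σ G k) =
        smS σ ((nrmS σ G k)ᵀ * Jm * nrmS σ G k) := by
      rw [smS_mul, smS_mul, smS_J, smS_transpose]
    rw [h2, ih, smS_smul, smS_J, smul_smul, Units.val_mul]
    rfl

theorem alt_of_congr (H : Mm) (v : Vm) : v ⬝ᵥ ((Hᵀ * Jm * H) *ᵥ v) = 0 := by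
  have h1 : (H *ᵥ v) ⬝ᵥ (Jm *ᵥ (H *ᵥ v)) = v ⬝ᵥ ((Hᵀ * Jm * H) *ᵥ v) := by
    rw [Matrix.mulVec_mulVec, ← Matrix.vecMul_transpose, Matrix.dotProduct_mulVec,
      Matrix.vecMul_vecMul, ← Matrix.dotProduct_mulVec, ← Matrix.mul_assoc]
  rw [← h1]
  exact Cfsg.Agent.Helper5.dotProduct_J_mulVec_self _

/-- a `σ`-fixed alternating invertible matrix is `σ`-rationally congruent to `J` -/
theorem exists_congr_fixed (σ : F ≃+* F) (S : Mm) (hSσ : smS σ S = S)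
    (hAlt : ∀ v : Vm, v ⬝ᵥ (S *ᵥ v) = 0) (hdet : S.det ≠ 0) :
    ∃ D E : Mm, D * E = 1 ∧ E * D = 1 ∧ smS σ D = D ∧ smS σ E = E ∧ Dᵀ * S * D = Jm := by
  classical
  let K := fixK σ
  let SK : Matrix (Fin m ⊕ Fin m) (Fin m ⊕ Fin m) ↥K := fun i j => ⟨S i j, by
    have := congrFun (congrFun hSσ i) j
    exact this⟩
  have hSK : SK.map K.subtype = S := by
    ext i j; rfl
  have hSKdet : SK.det ≠ 0 := by
    intro h0
    have h1 : K.subtype SK.det = (SK.map K.subtype).det := RingHom.map_det _ _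
    rw [h0, map_zero, hSK] at h1
    exact hdet h1.symm
  have hSKalt : ∀ v : Fin m ⊕ Fin m → ↥K, v ⬝ᵥ (SK *ᵥ v) = 0 := by
    intro v
    have h1 := hAlt (fun i => (v i : F))
    apply Subtype.ext
    have h2 : ((v ⬝ᵥ (SK *ᵥ v) : ↥K) : F) = (fun i => (v i : F)) ⬝ᵥ (S *ᵥ (fun i => (v i : F))) := by
      have h3 : K.subtype (v ⬝ᵥ (SK *ᵥ v)) =
          (K.subtype ∘ v) ⬝ᵥ ((SK.map K.subtype) *ᵥ (K.subtype ∘ v)) := by
        rw [RingHom.map_dotProduct]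
        congr 1
        funext i
        exact RingHom.map_mulVec K.subtype SK v i
      rw [hSK] at h3
      exact h3
    rw [h2, h1]
    rfl
  obtain ⟨P, hP⟩ := Cfsg.Agent.Helper43.GraphAutEven2.alt_normal_form
    (Matrix.GeneralLinearGroup.mkOfDetNeZero SK hSKdet) hSKalt
  have hP' : (P : Matrix (Fin m ⊕ Fin m) (Fin m ⊕ Fin m) ↥K) * SK *
      ((P : Matrix (Fin m ⊕ Fin m) (Fin m ⊕ Fin m) ↥K))ᵀ = Matrix.J (Fin m) ↥K := hP
  set PM : Matrix (Fin m ⊕ Fin m) (Fin m ⊕ Fin m) ↥K :=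
    (P : Matrix (Fin m ⊕ Fin m) (Fin m ⊕ Fin m) ↥K) with hPM
  set QM : Matrix (Fin m ⊕ Fin m) (Fin m ⊕ Fin m) ↥K :=
    ((P⁻¹ : GL (Fin m ⊕ Fin m) ↥K) : Matrix (Fin m ⊕ Fin m) (Fin m ⊕ Fin m) ↥K) with hQM
  have hPQ : PM * QM = 1 := by
    rw [hPM, hQM, ← Units.val_mul, mul_inv_cancel, Units.val_one]
  have hQP : QM * PM = 1 := by
    rw [hPM, hQM, ← Units.val_mul, inv_mul_cancel, Units.val_one]
  have hmapmul : ∀ A B : Matrix (Fin m ⊕ Fin m) (Fin m ⊕ Fin m) ↥K,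
      (A * B).map K.subtype = A.map K.subtype * B.map K.subtype := fun A B =>
    Matrix.map_mul (f := K.subtype)
  have hmapone : (1 : Matrix (Fin m ⊕ Fin m) (Fin m ⊕ Fin m) ↥K).map K.subtype = 1 :=
    Matrix.map_one _ (map_zero _) (map_one _)
  refine ⟨(PM.map K.subtype)ᵀ, (QM.map K.subtype)ᵀ, ?_, ?_, ?_, ?_, ?_⟩
  · rw [← Matrix.transpose_mul, ← hmapmul, hQP, hmapone, Matrix.transpose_one]
  · rw [← Matrix.transpose_mul, ← hmapmul, hPQ, hmapone, Matrix.transpose_one]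
  · ext i j
    exact (PM j i).2
  · ext i j
    exact (QM j i).2
  · rw [Matrix.transpose_transpose, ← hSK, ← hmapmul, ← Matrix.transpose_map, ← hmapmul, hP']
    exact Matrix.map_J (Fin m) K.subtype

/-- the Lang-type lemma -/
theorem lang_symp [Finite F] (hm : 1 ≤ m) (σ : F ≃+* F) {r : ℕ} (hr : 0 < r) (hσ : orderOf σ = r)
    (G : Mm) (μ : Fˣ) (hG : Gᵀ * Jm * G = (μ : F) • Jm) (hN : nrmS σ G r = 1) :
    ∃ H H' : Mm, H * H' = 1 ∧ H' * H = 1 ∧ G * smS σ H = H ∧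
      ∃ ν : Fˣ, Hᵀ * Jm * H = (ν : F) • Jm := by
  -- the multiplier has norm one
  have hNμ : nrmU σ μ r = 1 := by
    have h1 := mult_nrm σ G μ hG r
    rw [hN, Matrix.transpose_one, Matrix.one_mul, Matrix.mul_one] at h1
    have h2 : (1 : F) • Jm = ((nrmU σ μ r : Fˣ) : F) • Jm := by rw [one_smul]; exact h1
    exact Units.ext (smul_J_inj hm h2).symm
  obtain ⟨ν, hν⟩ := h90_units σ hr hσ μ hNμ
  have hν' : σ (ν : F) * (μ : F) = (ν : F) := by
    rw [hν, Units.val_mul]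
    have h6 : ((Units.map (σ : F →* F) ν : Fˣ) : F) = σ (ν : F) := rfl
    rw [← h6, mul_comm (ν : F), ← mul_assoc, ← Units.val_mul, mul_inv_cancel, Units.val_one, one_mul]
  obtain ⟨H, H', hH1, hH2, hH3⟩ := hilbert90_S σ G hr hσ hN
  -- the Gram matrix
  have hS1 : Hᵀ * Jm * H = (μ : F) • smS σ (Hᵀ * Jm * H) := by
    conv_lhs => rw [← hH3]
    have h1 : (G * smS σ H)ᵀ * Jm * (G * smS σ H) = (smS σ H)ᵀ * (Gᵀ * Jm * G) * smS σ H := by
      rw [Matrix.transpose_mul]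
      simp only [Matrix.mul_assoc]
    rw [h1, hG, Matrix.mul_smul, Matrix.smul_mul, smS_mul, smS_mul, smS_J, smS_transpose]
  have hHdet : H.det ≠ 0 := by
    intro h0
    have := congrArg Matrix.det hH1
    rw [Matrix.det_mul, h0, zero_mul, Matrix.det_one] at this
    exact zero_ne_one this
  have hJdet : (Jm).det ≠ 0 := (Matrix.isUnit_det_J (Fin m) F).ne_zero
  have hS3 : (Hᵀ * Jm * H).det ≠ 0 := by
    rw [Matrix.det_mul, Matrix.det_mul, Matrix.det_transpose]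
    exact mul_ne_zero (mul_ne_zero hHdet hJdet) hHdet
  have hν0 : (ν : F) ≠ 0 := ν.ne_zero
  have hT1 : smS σ (((ν⁻¹ : Fˣ) : F) • (Hᵀ * Jm * H)) = ((ν⁻¹ : Fˣ) : F) • (Hᵀ * Jm * H) := by
    rw [smS_smul]
    conv_rhs => rw [hS1]
    rw [smul_smul]
    congr 1
    rw [Units.val_inv_eq_inv_val, map_inv₀]
    have h1 : σ (ν : F) ≠ 0 := by rw [Ne, map_eq_zero_iff σ σ.injective]; exact hν0
    field_simp
    exact hν'.symm
  have hT2 : ∀ v : Vm, v ⬝ᵥ ((((ν⁻¹ : Fˣ) : F) • (Hᵀ * Jm * H)) *ᵥ v) = 0 := by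
    intro v
    rw [Matrix.smul_mulVec, dotProduct_smul, alt_of_congr, smul_zero]
  have hT3 : (((ν⁻¹ : Fˣ) : F) • (Hᵀ * Jm * H)).det ≠ 0 := by
    rw [Matrix.det_smul]
    exact mul_ne_zero (pow_ne_zero _ (ν⁻¹).ne_zero) hS3
  obtain ⟨D, E, hDE, hED, hDσ, hEσ, hDgram⟩ := exists_congr_fixed σ _ hT1 hT2 hT3
  refine ⟨H * D, E * H', ?_, ?_, ?_, ν, ?_⟩
  · rw [Matrix.mul_assoc, ← Matrix.mul_assoc D, hDE, Matrix.one_mul, hH1]
  · rw [Matrix.mul_assoc, ← Matrix.mul_assoc H', hH2, Matrix.one_mul, hED]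
  · rw [smS_mul, hDσ, ← Matrix.mul_assoc, hH3]
  · have h1 : (H * D)ᵀ * Jm * (H * D) = Dᵀ * (Hᵀ * Jm * H) * D := by
      rw [Matrix.transpose_mul]
      simp only [Matrix.mul_assoc]
    have h2 : Hᵀ * Jm * H = (ν : F) • (((ν⁻¹ : Fˣ) : F) • (Hᵀ * Jm * H)) := by
      rw [smul_smul, ← Units.val_mul, mul_inv_cancel, Units.val_one, one_smul]
    rw [h1, h2, Matrix.mul_smul, Matrix.smul_mul, hDgram]

end Cfsg.Agent.Helper40.LangSp
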