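import Mathlib
import Cfsg.Agent.Lib.Helper40.AutPSpKer
import Cfsg.Agent.Lib.Helper40.LangSymp
import Cfsg.Agent.Lib.Helper40.AutPSLCoset

/-!
# `PSp_{2m}(F)`: elements of order `r` in the coset `Inndiag · φ_σ` are `Inndiag`-conjugate to `φ_σ`
-/

set_option autoImplicit false
set_option linter.unusedSectionVars false
set_option linter.unusedSimpArgs false
set_option linter.unusedVariables false

namespace Cfsg.Agent.Helper40.AutPSp

open Matrix Cfsg.Agent.Helper40.H90 Cfsg.Agent.Helper40.AutPSLNorm Cfsg.Agent.Helper40.FixK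
  Cfsg.Agent.Helper40.LangSp

variable {F : Type*} [Field F] {m : ℕ}

local notation "Mm" => Matrix (Fin m ⊕ Fin m) (Fin m ⊕ Fin m) F
local notation "Vm" => (Fin m ⊕ Fin m → F)
local notation "GLm" => GL (Fin m ⊕ Fin m) F
local notation "Jm" => Matrix.J (Fin m) F

/-- partial norms in `GSp` -/
noncomputable def nrmGSp (σ : F ≃+* F) (g : ↥(Cfsg.GSp m F)) : ℕ → ↥(Cfsg.GSp m F)
  | 0 => 1
  | k + 1 => g * sigmaGSp σ (nrmGSp σ g k)

theorem nrmGSp_coe (σ : F ≃+* F) (g : ↥(Cfsg.GSp m F)) (k : ℕ) :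
    (((nrmGSp σ g k : ↥(Cfsg.GSp m F)) : GLm) : Mm) = nrmS σ ((g.1 : GLm) : Mm) k := by
  induction k with
  | zero => rfl
  | succ k ih =>
    show (((g * sigmaGSp σ (nrmGSp σ g k) : ↥(Cfsg.GSp m F)) : GLm) : Mm) =
      ((g.1 : GLm) : Mm) * smS σ (nrmS σ ((g.1 : GLm) : Mm) k)
    rw [← ih]
    rfl

theorem pow_PhiSp_mul_field (σ : F ≃+* F) (g : ↥(Cfsg.GSp m F)) (k : ℕ) :
    (PhiSp g * fieldAutPSp σ : MulAut (Cfsg.PSp m F)) ^ k =
      PhiSp (nrmGSp σ g k) * fieldAutPSp (σ ^ k) := by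
  induction k with
  | zero =>
    show (1 : MulAut (Cfsg.PSp m F)) = PhiSp (1 : ↥(Cfsg.GSp m F)) * fieldAutPSp (1 : F ≃+* F)
    rw [map_one, fieldAutPSp_one, mul_one]
  | succ k ih =>
    rw [pow_succ', ih, pow_succ', fieldAutPSp_mul']
    show PhiSp g * fieldAutPSp σ * (PhiSp (nrmGSp σ g k) * fieldAutPSp (σ ^ k)) =
      PhiSp (g * sigmaGSp σ (nrmGSp σ g k)) * (fieldAutPSp σ * fieldAutPSp (σ ^ k))
    rw [map_mul]
    calc PhiSp g * fieldAutPSp σ * (PhiSp (nrmGSp σ g k) * fieldAutPSp (σ ^ k))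
        = PhiSp g * (fieldAutPSp σ * PhiSp (nrmGSp σ g k)) * fieldAutPSp (σ ^ k) := by
          simp only [mul_assoc]
      _ = PhiSp g * (PhiSp (sigmaGSp σ (nrmGSp σ g k)) * fieldAutPSp σ) * fieldAutPSp (σ ^ k) := by
          rw [fieldAutPSp_mul_PhiSp]
      _ = _ := by simp only [mul_assoc]

theorem smul_one_inj_S (hm : 1 ≤ m) {a b : F} (h : a • (1 : Mm) = b • (1 : Mm)) : a = b := by
  have h8 := congrFun (congrFun h (Sum.inl ⟨0, hm⟩)) (Sum.inl ⟨0, hm⟩)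
  rw [Matrix.smul_apply, Matrix.smul_apply, Matrix.one_apply_eq, smul_eq_mul, mul_one, smul_eq_mul,
    mul_one] at h8
  exact h8

/-- an invertible matrix with `Hᵀ J H = ν J` as an element of `GSp` -/
noncomputable def mkGSp (H H' : Mm) (h1 : H * H' = 1) (h2 : H' * H = 1) (ν : Fˣ)
    (hν : Hᵀ * Jm * H = (ν : F) • Jm) : ↥(Cfsg.GSp m F) :=
  ⟨⟨H, H', h1, h2⟩, (mem_GSp_iff_mat _).2 ⟨ν, hν⟩⟩

theorem mkGSp_coe (H H' : Mm) (h1 : H * H' = 1) (h2 : H' * H = 1) (ν : Fˣ)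
    (hν : Hᵀ * Jm * H = (ν : F) • Jm) :
    (((mkGSp H H' h1 h2 ν hν : ↥(Cfsg.GSp m F)) : GLm) : Mm) = H := rfl

/-- the field-automorphism coset of `PSp_{2m}(F)`: elements of order dividing `r` are conjugate to
`φ_σ` -/
theorem field_coset_conj_Sp [Finite F] (hm : 1 ≤ m) (σ : F ≃+* F) {r : ℕ} (hr : 0 < r)
    (hσ : orderOf σ = r) (g : ↥(Cfsg.GSp m F))
    (hpow : (PhiSp g * fieldAutPSp σ : MulAut (Cfsg.PSp m F)) ^ r = 1) :
    ∃ h : ↥(Cfsg.GSp m F), PhiSp g * fieldAutPSp σ = PhiSp h * fieldAutPSp σ * (PhiSp h)⁻¹ := by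
  have hσr : σ ^ r = 1 := by rw [← hσ]; exact pow_orderOf_eq_one σ
  rw [pow_PhiSp_mul_field, hσr, fieldAutPSp_one, mul_one, PhiSp_eq_one_iff hm,
    Cfsg.Geo.mem_scalars_iff] at hpow
  obtain ⟨c, hc⟩ := hpow
  rw [nrmGSp_coe] at hc
  set gM : Mm := ((g.1 : GLm) : Mm) with hgM
  -- `c` is fixed by `σ`
  have hcfix : Units.map (σ : F →* F) c = c := by
    have h2 : nrmS σ gM (r + 1) = gM * smS σ (nrmS σ gM r) := rfl
    have h3 := nrmS_succ' σ gM r
    rw [hσr] at h3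
    have h4 : smS (1 : F ≃+* F) gM = gM := rfl
    rw [h4, h2, hc, smS_smul_one, Matrix.mul_smul, Matrix.mul_one, Matrix.smul_mul, Matrix.one_mul]
      at h3
    have h6 : (σ (c : F) - (c : F)) • gM = 0 := by rw [sub_smul, h3, sub_self]
    have h7 : (σ (c : F) - (c : F)) • (gM * (((g.1)⁻¹ : GLm) : Mm)) = 0 := by
      rw [← Matrix.smul_mul, h6, Matrix.zero_mul]
    rw [hgM, coe_mul_inv'] at h7
    have h8 := congrFun (congrFun h7 (Sum.inl ⟨0, hm⟩)) (Sum.inl ⟨0, hm⟩)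
    rw [Matrix.smul_apply, Matrix.one_apply_eq, smul_eq_mul, mul_one, Matrix.zero_apply] at h8
    apply Units.ext
    exact sub_eq_zero.1 h8
  have hcfix' : Units.map (σ : F →* F) c⁻¹ = c⁻¹ := by rw [map_inv, hcfix]
  obtain ⟨l, hl⟩ := nrm_surj σ hr hσ c⁻¹ hcfix'
  have hN : nrmS σ ((l : F) • gM) r = 1 := by
    rw [nrmS_smul, hl, hc, smul_smul, ← Units.val_mul, inv_mul_cancel, Units.val_one, one_smul]
  -- the multiplier of `l • g`
  obtain ⟨cg, hcg⟩ := (mem_GSp_iff_mat g.1).1 g.2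
  have hG : ((l : F) • gM)ᵀ * Jm * ((l : F) • gM) = ((l * l * cg : Fˣ) : F) • Jm := by
    rw [Matrix.transpose_smul, Matrix.smul_mul, Matrix.smul_mul, Matrix.mul_smul, hcg, smul_smul,
      smul_smul, Units.val_mul, Units.val_mul]
  obtain ⟨H, H', hH1, hH2, hH3, ν, hν⟩ := lang_symp hm σ hr hσ _ _ hG hN
  let HC : ↥(Cfsg.GSp m F) := mkGSp H H' hH1 hH2 ν hν
  refine ⟨HC, ?_⟩
  have h1 : g * sigmaGSp σ HC * scGSp l = HC := by
    apply Subtype.ext
    apply Units.ext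
    show gM * smS σ H * ((l : F) • (1 : Mm)) = H
    rw [Matrix.mul_smul, Matrix.mul_one, ← Matrix.smul_mul]
    exact hH3
  have h9 : PhiSp g = PhiSp HC * (PhiSp (sigmaGSp σ HC))⁻¹ := by
    have h2 := congrArg (PhiSp (F := F) (m := m)) h1
    rw [map_mul, map_mul, PhiSp_scGSp hm, mul_one] at h2
    rw [← h2]
    group
  have h11 : fieldAutPSp σ * (PhiSp HC)⁻¹ = (PhiSp (sigmaGSp σ HC))⁻¹ * fieldAutPSp σ := by
    rw [eq_inv_mul_iff_mul_eq, ← mul_assoc, ← fieldAutPSp_mul_PhiSp, mul_assoc, mul_inv_cancel,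
      mul_one]
  rw [mul_assoc (PhiSp HC), h11, ← mul_assoc, ← h9]

/-- S2713 from the structure hypothesis -/
theorem coset_main_Sp [Finite F] (hm : 1 ≤ m) (hS : StructSp m F)
    (x δ : MulAut (Cfsg.PSp m F)) (hx : Cfsg.IsFieldAutClassPSp x)
    {r : ℕ} (hr : r.Prime) (hxr : orderOf x = r) (hδ : δ ∈ Cfsg.inndiagPSp m F) :
    orderOf (δ * x) = r ↔ Cfsg.IsConjUnder (Cfsg.inndiagPSp m F) x (δ * x) := by
  have hD : (Cfsg.inndiagPSp m F).Normal := inndiag_normal hS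
  constructor
  · intro hord
    obtain ⟨α, σ, hσ1, hstd⟩ := hx
    have hx₀ : α * x * α⁻¹ = fieldAutPSp σ := eq_fieldAutPSp hstd
    have hordφ : orderOf (fieldAutPSp (m := m) σ) = r := by
      rw [← hx₀, ← hxr]
      have := orderOf_injective (MulAut.conj α).toMonoidHom (MulAut.conj α).injective x
      simpa [MulAut.conj_apply] using this
    have hσr : orderOf σ = r := by rw [← orderOf_fieldAutPSp hm]; exact hordφ
    obtain ⟨k, hk, hkx⟩ := Cfsg.Agent.Helper40.AutPSLNorm.transport_conj (Cfsg.inndiagPSp m F)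
      α x δ (fieldAutPSp σ) hx₀ hδ
      (by
        intro d hd hdord
        obtain ⟨g, rfl⟩ := (mem_inndiagPSp_iff d).1 hd
        have hpow : (PhiSp g * fieldAutPSp σ : MulAut (Cfsg.PSp m F)) ^ r = 1 := by
          rw [← hordφ, ← hdord]
          exact pow_orderOf_eq_one _
        obtain ⟨h, hh⟩ := field_coset_conj_Sp hm σ hr.pos hσr g hpow
        exact ⟨PhiSp h, PhiSp_mem_inndiag h, hh⟩)
      (by rw [hord, hxr])
    exact ⟨k, hk, hkx⟩
  · rintro ⟨k, -, hk⟩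
    rw [hk, ← hxr]
    have := orderOf_injective (MulAut.conj k).toMonoidHom (MulAut.conj k).injective x
    simpa [MulAut.conj_apply] using this

end Cfsg.Agent.Helper40.AutPSp
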