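import Mathlib
import Cfsg.Agent.Lib.Helper40.AutPSpCoset

/-!
# The centralizer in `Inndiag(PSp_{2m}(F))` of a standard field automorphism

`Inndiag ⊓ C(φ_σ)` is the image of `GSp_{2m}(F₀)` over the fixed field, isomorphic to `PGSp_{2m}(F₀)`.
The fixed field is presented by an embedding `ι : F₀ →+* F` with image the fixed points of `σ`.
Also: the multiplier homomorphism `GSp → Fˣ`.
-/

set_option autoImplicit false
set_option linter.unusedSectionVars false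
set_option linter.unusedSimpArgs false
set_option linter.unusedVariables false

namespace Cfsg.Agent.Helper40.AutPSp

open Matrix Cfsg.Agent.Helper40.H90 Cfsg.Agent.Helper40.AutPSLNorm Cfsg.Agent.Helper40.FixK
  Cfsg.Agent.Helper40.LangSp

variable {F : Type*} [Field F] {m : ℕ}

local notation "Mm" => Matrix (Fin m ⊕ Fin m) (Fin m ⊕ Fin m) F
local notation "Vm" => (Fin m ⊕ Fin m → F)
local notation "GLm" => GL (Fin m ⊕ Fin m) F
local notation "Jm" => Matrix.J (Fin m) F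
set_option quotPrecheck false in
local notation "Spm" => ↥(Matrix.symplecticGroup (Fin m) F)

/-! ### the multiplier -/

theorem exists_mult (g : ↥(Cfsg.GSp m F)) :
    ∃ c : Fˣ, ((g.1 : GLm) : Mm)ᵀ * Jm * ((g.1 : GLm) : Mm) = (c : F) • Jm :=
  (mem_GSp_iff_mat g.1).1 g.2

/-- the multiplier of a conformal symplectic matrix -/
noncomputable def multU (g : ↥(Cfsg.GSp m F)) : Fˣ := Classical.choose (exists_mult g)

theorem multU_spec (g : ↥(Cfsg.GSp m F)) :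
    ((g.1 : GLm) : Mm)ᵀ * Jm * ((g.1 : GLm) : Mm) = ((multU g : Fˣ) : F) • Jm :=
  Classical.choose_spec (exists_mult g)

theorem multU_unique (hm : 1 ≤ m) (g : ↥(Cfsg.GSp m F)) (c : Fˣ)
    (h : ((g.1 : GLm) : Mm)ᵀ * Jm * ((g.1 : GLm) : Mm) = (c : F) • Jm) : multU g = c := by
  apply Units.ext
  apply smul_J_inj hm
  rw [← multU_spec, h]

/-- the multiplier as a homomorphism -/
noncomputable def multSp (hm : 1 ≤ m) : ↥(Cfsg.GSp m F) →* Fˣ where
  toFun := multU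
  map_one' := by
    apply multU_unique hm
    show (1 : Mm)ᵀ * Jm * (1 : Mm) = ((1 : Fˣ) : F) • Jm
    rw [Matrix.transpose_one, Matrix.one_mul, Matrix.mul_one, Units.val_one, one_smul]
  map_mul' g h := by
    apply multU_unique hm
    show (((g.1 : GLm) : Mm) * ((h.1 : GLm) : Mm))ᵀ * Jm * (((g.1 : GLm) : Mm) * ((h.1 : GLm) : Mm)) =
      ((multU g * multU h : Fˣ) : F) • Jm
    have h1 : (((g.1 : GLm) : Mm) * ((h.1 : GLm) : Mm))ᵀ * Jm *
        (((g.1 : GLm) : Mm) * ((h.1 : GLm) : Mm)) =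
        ((h.1 : GLm) : Mm)ᵀ * (((g.1 : GLm) : Mm)ᵀ * Jm * ((g.1 : GLm) : Mm)) * ((h.1 : GLm) : Mm) := by
      rw [Matrix.transpose_mul]
      simp only [Matrix.mul_assoc]
    rw [h1, multU_spec, Matrix.mul_smul, Matrix.smul_mul, multU_spec, smul_smul, Units.val_mul]

theorem multSp_apply (hm : 1 ≤ m) (g : ↥(Cfsg.GSp m F)) : multSp hm g = multU g := rfl

theorem multSp_eq (hm : 1 ≤ m) (g : ↥(Cfsg.GSp m F)) (c : Fˣ)
    (h : ((g.1 : GLm) : Mm)ᵀ * Jm * ((g.1 : GLm) : Mm) = (c : F) • Jm) : multSp hm g = c :=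
  multU_unique hm g c h

theorem multSp_scGSp (hm : 1 ≤ m) (l : Fˣ) : multSp hm (scGSp (F := F) (m := m) l) = l * l := by
  apply multSp_eq
  rw [scGSp_coe, Matrix.transpose_smul, Matrix.transpose_one, Matrix.smul_mul, Matrix.one_mul,
    Matrix.mul_smul, Matrix.mul_one, smul_smul, Units.val_mul]

/-- `Sp → GSp` -/
def toGSp : Spm →* ↥(Cfsg.GSp m F) where
  toFun s := ⟨⟨(s : Mm), ((s⁻¹ : Spm) : Mm), by
      rw [← Submonoid.coe_mul, mul_inv_cancel, Submonoid.coe_one], by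
      rw [← Submonoid.coe_mul, inv_mul_cancel, Submonoid.coe_one]⟩, by
    rw [mem_GSp_iff_mat]
    refine ⟨1, ?_⟩
    show (s : Mm)ᵀ * Jm * (s : Mm) = ((1 : Fˣ) : F) • Jm
    rw [Units.val_one, one_smul]
    exact SymplecticGroup.mem_iff'.1 s.2⟩
  map_one' := by
    apply Subtype.ext
    apply Units.ext
    rfl
  map_mul' s t := by
    apply Subtype.ext
    apply Units.ext
    rfl

theorem toGSp_coe (s : Spm) : (((toGSp s : ↥(Cfsg.GSp m F)) : GLm) : Mm) = (s : Mm) := rfl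

theorem multSp_toGSp (hm : 1 ≤ m) (s : Spm) : multSp hm (toGSp s) = 1 := by
  apply multSp_eq
  rw [toGSp_coe, Units.val_one, one_smul]
  exact SymplecticGroup.mem_iff'.1 s.2

theorem exists_toGSp_of_mult_one (hm : 1 ≤ m) (g : ↥(Cfsg.GSp m F)) (h : multSp hm g = 1) :
    ∃ s : Spm, toGSp s = g := by
  have h1 := multU_spec g
  have h2 : multU g = 1 := h
  rw [h2, Units.val_one, one_smul] at h1
  refine ⟨⟨((g.1 : GLm) : Mm), SymplecticGroup.mem_iff'.2 h1⟩, ?_⟩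
  apply Subtype.ext
  apply Units.ext
  rfl

theorem PhiSp_toGSp (s : Spm) :
    PhiSp (toGSp s) = MulAut.conj (QuotientGroup.mk s : Cfsg.PSp m F) := by
  apply MulEquiv.ext
  intro x
  induction x using QuotientGroup.induction_on with
  | H t =>
    rw [PhiSp_mk, MulAut.conj_apply, ← QuotientGroup.mk_inv, ← QuotientGroup.mk_mul,
      ← QuotientGroup.mk_mul]
    have h1 : conjSp (toGSp s) t = s * t * s⁻¹ := by
      apply Subtype.ext
      rw [conjSp_val]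
      have h2 : ((((toGSp s : ↥(Cfsg.GSp m F)) : GLm)⁻¹ : GLm) : Mm) = ((s⁻¹ : Spm) : Mm) := rfl
      rw [h2, toGSp_coe]
      rfl
    rw [h1]

theorem inn_le_range_Sp : Cfsg.Inn (Cfsg.PSp m F) ≤ (PhiSp (F := F) (m := m)).range := by
  rintro _ ⟨x, rfl⟩
  induction x using QuotientGroup.induction_on with
  | H s => exact ⟨toGSp s, PhiSp_toGSp s⟩

theorem mem_inn_iff_Sp (β : MulAut (Cfsg.PSp m F)) :
    β ∈ Cfsg.Inn (Cfsg.PSp m F) ↔ ∃ s : Spm, β = PhiSp (toGSp s) := by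
  constructor
  · rintro ⟨x, rfl⟩
    induction x using QuotientGroup.induction_on with
    | H s => exact ⟨s, (PhiSp_toGSp s).symm⟩
  · rintro ⟨s, rfl⟩
    exact ⟨QuotientGroup.mk s, (PhiSp_toGSp s).symm⟩

/-- the diagonal matrix `diag(c, …, c, 1, …, 1)` in `GSp` -/
noncomputable def dgSp (c : Fˣ) : ↥(Cfsg.GSp m F) :=
  mkGSp (Matrix.fromBlocks ((c : F) • (1 : Matrix (Fin m) (Fin m) F)) 0 0 1)
    (Matrix.fromBlocks (((c⁻¹ : Fˣ) : F) • (1 : Matrix (Fin m) (Fin m) F)) 0 0 1)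
    (by
      rw [Matrix.fromBlocks_multiply]
      simp only [Matrix.smul_mul, Matrix.mul_smul, Matrix.one_mul, Matrix.mul_one, Matrix.mul_zero,
        Matrix.zero_mul, add_zero, zero_add, smul_smul, smul_zero, ← Units.val_mul, mul_inv_cancel,
        inv_mul_cancel, Units.val_one, one_smul, Matrix.fromBlocks_one])
    (by
      rw [Matrix.fromBlocks_multiply]
      simp only [Matrix.smul_mul, Matrix.mul_smul, Matrix.one_mul, Matrix.mul_one, Matrix.mul_zero,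
        Matrix.zero_mul, add_zero, zero_add, smul_smul, smul_zero, ← Units.val_mul, mul_inv_cancel,
        inv_mul_cancel, Units.val_one, one_smul, Matrix.fromBlocks_one])
    c
    (by
      unfold Matrix.J
      rw [Matrix.fromBlocks_transpose, Matrix.fromBlocks_multiply, Matrix.fromBlocks_multiply,
        Matrix.fromBlocks_smul]
      simp only [Matrix.transpose_smul, Matrix.transpose_one, Matrix.transpose_zero, Matrix.smul_mul,
        Matrix.mul_smul, Matrix.one_mul, Matrix.mul_one, Matrix.mul_zero, Matrix.zero_mul, add_zero,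
        zero_add, smul_zero, Matrix.mul_neg, Matrix.neg_mul, smul_neg, neg_zero])

theorem dgSp_coe (c : Fˣ) : (((dgSp (m := m) c : ↥(Cfsg.GSp m F)) : GLm) : Mm) =
    Matrix.fromBlocks ((c : F) • (1 : Matrix (Fin m) (Fin m) F)) 0 0 1 := rfl

theorem multSp_dgSp (hm : 1 ≤ m) (c : Fˣ) : multSp hm (dgSp (F := F) (m := m) c) = c := by
  apply multSp_eq
  rw [dgSp_coe]
  unfold Matrix.J
  rw [Matrix.fromBlocks_transpose, Matrix.fromBlocks_multiply, Matrix.fromBlocks_multiply,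
    Matrix.fromBlocks_smul]
  simp only [Matrix.transpose_smul, Matrix.transpose_one, Matrix.transpose_zero, Matrix.smul_mul,
    Matrix.mul_smul, Matrix.one_mul, Matrix.mul_one, Matrix.mul_zero, Matrix.zero_mul, add_zero,
    zero_add, smul_zero, Matrix.mul_neg, Matrix.neg_mul, smul_neg, neg_zero]

theorem multSp_surjective (hm : 1 ≤ m) : Function.Surjective (multSp (F := F) (m := m) hm) :=
  fun c => ⟨dgSp c, multSp_dgSp hm c⟩

/-! ### the centralizer -/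

theorem PhiSp_mem_centralizer_iff (hm : 1 ≤ m) (σ : F ≃+* F) (g : ↥(Cfsg.GSp m F)) :
    PhiSp g ∈ Subgroup.centralizer {fieldAutPSp (m := m) σ} ↔
      ((sigmaGSp σ g : ↥(Cfsg.GSp m F)) : GLm)⁻¹ * g.1 ∈ Cfsg.Geo.scalars (Fin m ⊕ Fin m) F := by
  rw [Subgroup.mem_centralizer_iff]
  have h1 : (∀ h ∈ ({fieldAutPSp (m := m) σ} : Set (MulAut (Cfsg.PSp m F))),
      h * PhiSp g = PhiSp g * h) ↔ fieldAutPSp σ * PhiSp g = PhiSp g * fieldAutPSp σ := by
    constructor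
    · intro h; exact h _ rfl
    · intro h k hk; rw [Set.mem_singleton_iff.1 hk]; exact h
  rw [h1, fieldAutPSp_mul_PhiSp, mul_left_inj, PhiSp_eq_iff hm]

/-- iterating `σ(g) = l g` -/
theorem smS_pow_of_rel (σ : F ≃+* F) (g : Mm) (l : Fˣ) (hl : smS σ g = (l : F) • g) (k : ℕ) :
    smS (σ ^ k) g = ((nrmU σ l k : Fˣ) : F) • g := by
  induction k with
  | zero =>
    show smS (1 : F ≃+* F) g = _
    rw [smS_one']
    show g = ((1 : Fˣ) : F) • g
    rw [Units.val_one, one_smul]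
  | succ k ih =>
    rw [pow_succ', smS_mul', ih, smS_smul, hl, smul_smul]
    congr 1
    show σ ((nrmU σ l k : Fˣ) : F) * (l : F) = ((l * Units.map (σ : F →* F) (nrmU σ l k) : Fˣ) : F)
    rw [Units.val_mul, mul_comm]
    rfl

theorem smul_eq_self_imp_S (hm : 1 ≤ m) (g : GLm) (c : F) (h : c • (g : Mm) = (g : Mm)) :
    c = 1 := by
  have h7 : c • ((g : Mm) * ((g⁻¹ : GLm) : Mm)) = (g : Mm) * ((g⁻¹ : GLm) : Mm) := by
    rw [← Matrix.smul_mul, h]
  rw [coe_mul_inv'] at h7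
  have h8 := congrFun (congrFun h7 (Sum.inl ⟨0, hm⟩)) (Sum.inl ⟨0, hm⟩)
  rw [Matrix.smul_apply, Matrix.one_apply_eq, smul_eq_mul, mul_one] at h8
  exact h8

/-- if `σ(g) = l g` then a scalar multiple of `g` is fixed by `σ` -/
theorem exists_fixed_smul_S (hm : 1 ≤ m) (σ : F ≃+* F) {r : ℕ} (hr : 0 < r) (hσ : orderOf σ = r)
    (g : GLm) (l : Fˣ) (hl : smS σ (g : Mm) = (l : F) • (g : Mm)) :
    ∃ c : Fˣ, smS σ ((c : F) • (g : Mm)) = (c : F) • (g : Mm) := by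
  have hσr : σ ^ r = 1 := by rw [← hσ]; exact pow_orderOf_eq_one σ
  have h1 := smS_pow_of_rel σ (g : Mm) l hl r
  rw [hσr, smS_one'] at h1
  have h3 : ((nrmU σ l r : Fˣ) : F) = 1 := smul_eq_self_imp_S hm g _ h1.symm
  have h4 : nrmU σ l r = 1 := Units.ext h3
  obtain ⟨c, hc⟩ := h90_units σ hr hσ l h4
  refine ⟨c, ?_⟩
  rw [smS_smul, hl, smul_smul]
  congr 1
  rw [hc, Units.val_mul]
  have h6 : ((Units.map (σ : F →* F) c : Fˣ) : F) = σ (c : F) := rfl
  rw [← h6, mul_comm (c : F), ← mul_assoc, ← Units.val_mul, mul_inv_cancel, Units.val_one, one_mul]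

variable {F₀ : Type*} [Field F₀] (ι : F₀ →+* F)

local notation "Mm₀" => Matrix (Fin m ⊕ Fin m) (Fin m ⊕ Fin m) F₀

theorem map_inj_S (A B : Mm₀) (h : A.map ι = B.map ι) : A = B := by
  ext i j
  have := congrFun (congrFun h i) j
  exact ι.injective this

theorem map_mul_iota (A B : Mm₀) : (A * B).map ι = A.map ι * B.map ι :=
  Matrix.map_mul (f := ι)

theorem map_J_iota : (Matrix.J (Fin m) F₀).map ι = Jm := Matrix.map_J (Fin m) ι

theorem map_smul_iota (c : F₀) (A : Mm₀) : (c • A).map ι = ι c • A.map ι := by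
  ext i j
  show ι (c * A i j) = ι c * ι (A i j)
  exact map_mul ι _ _

theorem emb_mem_GSp (g₀ : GL (Fin m ⊕ Fin m) F₀) (hg₀ : g₀ ∈ Cfsg.GSp m F₀) :
    Matrix.GeneralLinearGroup.map ι g₀ ∈ Cfsg.GSp m F := by
  obtain ⟨c, hc⟩ := (mem_GSp_iff_mat g₀).1 hg₀
  rw [mem_GSp_iff_mat]
  refine ⟨Units.map (ι : F₀ →* F) c, ?_⟩
  have hcoe : ((Matrix.GeneralLinearGroup.map ι g₀ : GLm) : Mm) = (g₀ : Mm₀).map ι := rfl
  rw [hcoe]
  have h1 : ((g₀ : Mm₀)ᵀ * Matrix.J (Fin m) F₀ * (g₀ : Mm₀)).map ι =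
      (((c : F₀)) • Matrix.J (Fin m) F₀).map ι := by rw [hc]
  rw [map_mul_iota, map_mul_iota, map_J_iota, map_smul_iota, map_J_iota, Matrix.transpose_map] at h1
  exact h1

/-- the embedding `GSp_{2m}(F₀) → GSp_{2m}(F)` -/
noncomputable def embSp : ↥(Cfsg.GSp m F₀) →* ↥(Cfsg.GSp m F) :=
  ((Matrix.GeneralLinearGroup.map ι).comp (Cfsg.GSp m F₀).subtype).codRestrict (Cfsg.GSp m F)
    (fun g => emb_mem_GSp ι g.1 g.2)

theorem embSp_val (g : ↥(Cfsg.GSp m F₀)) :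
    ((embSp ι g : ↥(Cfsg.GSp m F)) : GLm) = Matrix.GeneralLinearGroup.map ι g.1 := rfl

theorem embSp_coe (g : ↥(Cfsg.GSp m F₀)) :
    (((embSp ι g : ↥(Cfsg.GSp m F)) : GLm) : Mm) =
      ((g.1 : GL (Fin m ⊕ Fin m) F₀) : Mm₀).map ι := rfl

theorem multSp_embSp (hm : 1 ≤ m) (g : ↥(Cfsg.GSp m F₀)) :
    multSp hm (embSp ι g) = Units.map (ι : F₀ →* F) (multSp hm g) := by
  apply multSp_eq
  rw [embSp_coe]
  have hc := multU_spec g
  have h1 : (((g.1 : GL (Fin m ⊕ Fin m) F₀) : Mm₀)ᵀ * Matrix.J (Fin m) F₀ *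
      ((g.1 : GL (Fin m ⊕ Fin m) F₀) : Mm₀)).map ι =
      ((((multU g : F₀ˣ) : F₀)) • Matrix.J (Fin m) F₀).map ι := by rw [hc]
  rw [map_mul_iota, map_mul_iota, map_J_iota, map_smul_iota, map_J_iota, Matrix.transpose_map] at h1
  exact h1

/-- the homomorphism `GSp_{2m}(F₀) → Aut(PSp_{2m}(F))` -/
noncomputable def ThetaSp : ↥(Cfsg.GSp m F₀) →* MulAut (Cfsg.PSp m F) :=
  (PhiSp (F := F) (m := m)).comp (embSp ι)

theorem ThetaSp_apply (g : ↥(Cfsg.GSp m F₀)) : ThetaSp ι g = PhiSp (embSp ι g) := rfl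

theorem emb_mem_scalars_iff_S (hm : 1 ≤ m) (g₀ : GL (Fin m ⊕ Fin m) F₀) :
    Matrix.GeneralLinearGroup.map ι g₀ ∈ Cfsg.Geo.scalars (Fin m ⊕ Fin m) F ↔
      g₀ ∈ Cfsg.Geo.scalars (Fin m ⊕ Fin m) F₀ := by
  rw [Cfsg.Geo.mem_scalars_iff, Cfsg.Geo.mem_scalars_iff]
  constructor
  · rintro ⟨c, hc⟩
    have hent : ∀ i j, ι ((g₀ : Mm₀) i j) = ((c : F) • (1 : Mm)) i j := by
      intro i j
      have := congrFun (congrFun hc i) j
      exact this
    have h00 : ι ((g₀ : Mm₀) (Sum.inl ⟨0, hm⟩) (Sum.inl ⟨0, hm⟩)) = (c : F) := by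
      rw [hent, Matrix.smul_apply, Matrix.one_apply_eq, smul_eq_mul, mul_one]
    have hne : (g₀ : Mm₀) (Sum.inl ⟨0, hm⟩) (Sum.inl ⟨0, hm⟩) ≠ 0 := by
      intro h0
      rw [h0, map_zero] at h00
      exact c.ne_zero h00.symm
    refine ⟨Units.mk0 _ hne, ?_⟩
    ext i j
    apply ι.injective
    rw [hent, Units.val_mk0, Matrix.smul_apply, Matrix.smul_apply, smul_eq_mul, smul_eq_mul, map_mul,
      h00]
    by_cases hij : i = j
    · rw [hij, Matrix.one_apply_eq, Matrix.one_apply_eq, map_one]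
    · rw [Matrix.one_apply_ne hij, Matrix.one_apply_ne hij, map_zero]
  · rintro ⟨c, hc⟩
    have hc0 : ι (c : F₀) ≠ 0 := by
      rw [Ne, map_eq_zero_iff ι ι.injective]; exact c.ne_zero
    refine ⟨Units.mk0 _ hc0, ?_⟩
    ext i j
    show ι ((g₀ : Mm₀) i j) = _
    rw [hc, Units.val_mk0, Matrix.smul_apply, Matrix.smul_apply, smul_eq_mul, smul_eq_mul, map_mul]
    by_cases hij : i = j
    · rw [hij, Matrix.one_apply_eq, Matrix.one_apply_eq, map_one]
    · rw [Matrix.one_apply_ne hij, Matrix.one_apply_ne hij, map_zero]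

theorem ker_ThetaSp (hm : 1 ≤ m) :
    (ThetaSp (m := m) ι).ker =
      (Cfsg.Geo.scalars (Fin m ⊕ Fin m) F₀).subgroupOf (Cfsg.GSp m F₀) := by
  ext g
  rw [MonoidHom.mem_ker, ThetaSp_apply, PhiSp_eq_one_iff hm, embSp_val,
    emb_mem_scalars_iff_S ι hm, Subgroup.mem_subgroupOf]

/-- the range of `ThetaSp` is `Inndiag ⊓ C(φ_σ)` -/
theorem range_ThetaSp (hm : 1 ≤ m) (σ : F ≃+* F) {r : ℕ} (hr : 0 < r) (hσ : orderOf σ = r)
    (hι1 : ∀ x, σ (ι x) = ι x) (hι2 : ∀ a, σ a = a → ∃ x, ι x = a) :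
    (ThetaSp (m := m) ι).range =
      (PhiSp (F := F) (m := m)).range ⊓ Subgroup.centralizer {fieldAutPSp σ} := by
  classical
  ext β
  constructor
  · rintro ⟨g₀, rfl⟩
    refine Subgroup.mem_inf.2 ⟨⟨_, rfl⟩, ?_⟩
    rw [ThetaSp_apply, PhiSp_mem_centralizer_iff hm]
    have h1 : ((sigmaGSp σ (embSp ι g₀) : ↥(Cfsg.GSp m F)) : GLm) = (embSp ι g₀).1 := by
      apply Units.ext
      rw [sigmaGSp_coe, embSp_val]
      ext i j
      exact hι1 _
    rw [h1, inv_mul_cancel]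
    exact Subgroup.one_mem _
  · intro hβ
    obtain ⟨⟨g, rfl⟩, hc⟩ := Subgroup.mem_inf.1 hβ
    rw [PhiSp_mem_centralizer_iff hm, Cfsg.Geo.mem_scalars_iff] at hc
    obtain ⟨c, hc⟩ := hc
    set gM : Mm := ((g.1 : GLm) : Mm) with hgM
    -- `σ(g) = c⁻¹ g`
    have hrel : smS σ gM = ((c⁻¹ : Fˣ) : F) • gM := by
      rw [Units.val_mul] at hc
      have h1 : ((sigmaGSp σ g : ↥(Cfsg.GSp m F)) : GLm).val *
          ((((sigmaGSp σ g : ↥(Cfsg.GSp m F)) : GLm)⁻¹ : GLm).val * gM) =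
          ((sigmaGSp σ g : ↥(Cfsg.GSp m F)) : GLm).val * ((c : F) • (1 : Mm)) := by rw [hc]
      rw [← Matrix.mul_assoc, coe_mul_inv', Matrix.one_mul, Matrix.mul_smul, Matrix.mul_one,
        sigmaGSp_coe] at h1
      show gM.map σ = _
      conv_rhs => rw [h1]
      rw [smul_smul, ← Units.val_mul, inv_mul_cancel, Units.val_one, one_smul]
    obtain ⟨d, hd⟩ := exists_fixed_smul_S hm σ hr hσ g.1 c⁻¹ hrel
    -- the multiplier of `d • g`
    obtain ⟨cg, hcg⟩ := (mem_GSp_iff_mat g.1).1 g.2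
    set g₂ : Mm := (d : F) • gM with hg₂
    have hμ₁ : g₂ᵀ * Jm * g₂ = ((d * d * cg : Fˣ) : F) • Jm := by
      rw [hg₂, Matrix.transpose_smul, Matrix.smul_mul, Matrix.smul_mul, Matrix.mul_smul, hcg, smul_smul,
        smul_smul, Units.val_mul, Units.val_mul]
    have hμ₁σ : σ ((d * d * cg : Fˣ) : F) = ((d * d * cg : Fˣ) : F) := by
      have h2 := congrArg (smS σ) hμ₁
      rw [smS_mul, smS_mul, smS_transpose, smS_J, hd, hμ₁, smS_smul, smS_J] at h2
      exact (smul_J_inj hm h2).symm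
    obtain ⟨c₀, hc₀⟩ := hι2 _ hμ₁σ
    have hc₀0 : c₀ ≠ 0 := by
      rintro rfl
      rw [map_zero] at hc₀
      exact (d * d * cg).ne_zero hc₀.symm
    -- descend to `F₀`
    choose G₀ hG₀ using fun i j => hι2 (g₂ i j) (congrFun (congrFun hd i) j)
    have hG₀map : (Matrix.of G₀ : Mm₀).map ι = g₂ := by
      ext i j
      exact hG₀ i j
    have hgMdet : gM.det ≠ 0 := by
      intro h0
      have := congrArg Matrix.det (coe_mul_inv' g.1)
      rw [Matrix.det_mul, ← hgM, h0, zero_mul, Matrix.det_one] at this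
      exact zero_ne_one this
    have hg₂det : g₂.det ≠ 0 := by
      rw [hg₂, Matrix.det_smul]
      exact mul_ne_zero (pow_ne_zero _ d.ne_zero) hgMdet
    have hG₀det : (Matrix.of G₀ : Mm₀).det ≠ 0 := by
      intro h0
      have h1 : ι (Matrix.of G₀ : Mm₀).det = ((Matrix.of G₀ : Mm₀).map ι).det := RingHom.map_det _ _
      rw [h0, map_zero, hG₀map] at h1
      exact hg₂det h1.symm
    let g₀ : GL (Fin m ⊕ Fin m) F₀ := Matrix.GeneralLinearGroup.mkOfDetNeZero (Matrix.of G₀) hG₀det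
    have hg₀coe : ((Matrix.GeneralLinearGroup.map ι g₀ : GLm) : Mm) = g₂ := hG₀map
    have hg₀GSp : g₀ ∈ Cfsg.GSp m F₀ := by
      rw [mem_GSp_iff_mat]
      refine ⟨Units.mk0 c₀ hc₀0, ?_⟩
      apply map_inj_S ι
      rw [map_mul_iota, map_mul_iota, map_J_iota, map_smul_iota, map_J_iota, Matrix.transpose_map]
      show ((Matrix.of G₀ : Mm₀).map ι)ᵀ * Jm * (Matrix.of G₀ : Mm₀).map ι = ι c₀ • Jm
      rw [hG₀map, hμ₁, hc₀]
    refine ⟨⟨g₀, hg₀GSp⟩, ?_⟩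
    rw [ThetaSp_apply]
    have h5 : embSp ι ⟨g₀, hg₀GSp⟩ = g * scGSp d := by
      apply Subtype.ext
      apply Units.ext
      show ((Matrix.GeneralLinearGroup.map ι g₀ : GLm) : Mm) = gM * ((d : F) • (1 : Mm))
      rw [hg₀coe, Matrix.mul_smul, Matrix.mul_one]
    rw [h5, map_mul, PhiSp_scGSp hm, mul_one]

/-- `Inndiag ⊓ C(φ_σ) ≃* PGSp_{2m}(F₀)` -/
theorem cent_equiv_pgsp (hm : 1 ≤ m) (σ : F ≃+* F) {r : ℕ} (hr : 0 < r) (hσ : orderOf σ = r)
    (hι1 : ∀ x, σ (ι x) = ι x) (hι2 : ∀ a, σ a = a → ∃ x, ι x = a) :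
    Nonempty (↥((PhiSp (F := F) (m := m)).range ⊓ Subgroup.centralizer {fieldAutPSp σ}) ≃*
      Cfsg.PGSp m F₀) := by
  have e1 := QuotientGroup.quotientKerEquivRange (ThetaSp (m := m) ι)
  have e2 : ↥(Cfsg.GSp m F₀) ⧸ (ThetaSp (m := m) ι).ker ≃*
      ↥(Cfsg.GSp m F₀) ⧸ (Cfsg.Geo.scalars (Fin m ⊕ Fin m) F₀).subgroupOf (Cfsg.GSp m F₀) :=
    QuotientGroup.quotientMulEquivOfEq (ker_ThetaSp ι hm)
  have e3 := MulEquiv.subgroupCongr (range_ThetaSp (m := m) ι hm σ hr hσ hι1 hι2)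
  exact ⟨(e3.symm.trans e1.symm).trans e2⟩

end Cfsg.Agent.Helper40.AutPSp
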