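import Mathlib
import Cfsg.Agent.Lib.Helper40.AutPSpFieldCent
import Cfsg.Agent.Lib.Helper40.AutPSLFieldCount
import Cfsg.Agent.Lib.Helper40.SplitCount
import Cfsg.Agent.Lib.Helper40.CyclicIndex

/-!
# Field automorphisms of prime order of `PSp_{2m}(q)`: centralizer in `Inndiag` and splitting
-/

set_option autoImplicit false
set_option linter.unusedSectionVars false
set_option linter.unusedSimpArgs false
set_option linter.unusedVariables false

namespace Cfsg.Agent.Helper40.AutPSp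

open Matrix Cfsg.Agent.Helper40.H90 Cfsg.Agent.Helper40.AutPSLNorm Cfsg.Agent.Helper40.FixK
  Cfsg.Agent.Helper40.LangSp Cfsg.Agent.Helper40.SplitCount Cfsg.Agent.Helper40.FieldCent

theorem inn_conj_mem_gen {G : Type*} [Group G] (β k : MulAut G) (hk : k ∈ Cfsg.Inn G) :
    β * k * β⁻¹ ∈ Cfsg.Inn G := by
  obtain ⟨x, rfl⟩ := hk
  refine ⟨β x, ?_⟩
  apply MulEquiv.ext
  intro y
  show β x * y * (β x)⁻¹ = β (x * (β⁻¹ y) * x⁻¹)
  rw [map_mul, map_mul, map_inv]
  congr 2
  show y = β (β.symm y)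
  rw [MulEquiv.apply_symm_apply]

variable {F : Type*} [Field F] {m : ℕ}

local notation "Mm" => Matrix (Fin m ⊕ Fin m) (Fin m ⊕ Fin m) F
local notation "GLm" => GL (Fin m ⊕ Fin m) F
local notation "Jm" => Matrix.J (Fin m) F
set_option quotPrecheck false in
local notation "Spm" => ↥(Matrix.symplecticGroup (Fin m) F)

theorem fix_iota1 (σ : F ≃+* F) : ∀ x : ↥(fixK σ), σ ((fixK σ).subtype x) = (fixK σ).subtype x :=
  fun x => x.2

theorem fix_iota2 (σ : F ≃+* F) : ∀ a : F, σ a = a → ∃ x : ↥(fixK σ), (fixK σ).subtype x = a :=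
  fun a ha => ⟨⟨a, ha⟩, rfl⟩

/-- membership in `Inn · C_{Inndiag}(φ_σ)` is detected by the multiplier -/
theorem mem_MSub_iff_mult (hm : 1 ≤ m) (σ : F ≃+* F) {r : ℕ} (hr : 0 < r) (hσ : orderOf σ = r)
    (g : ↥(Cfsg.GSp m F)) :
    PhiSp g ∈ MSub (PhiSp (F := F) (m := m)).range (Cfsg.Inn (Cfsg.PSp m F)) (fieldAutPSp σ) ↔
      multSp hm g ∈ Bsub (fixK σ) 2 := by
  have hrange := range_ThetaSp (m := m) (fixK σ).subtype hm σ hr hσ (fix_iota1 σ) (fix_iota2 σ)
  constructor
  · intro hg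
    rw [mem_MSub_iff _ _ inn_le_range_Sp (fun h _ k hk => inn_conj_mem_gen h k hk)] at hg
    obtain ⟨k, hk, c, hc, hcx, hgk⟩ := hg
    obtain ⟨s, rfl⟩ := (mem_inn_iff_Sp k).1 hk
    have hc' : c ∈ (ThetaSp (m := m) (fixK σ).subtype).range := by
      rw [hrange]
      refine Subgroup.mem_inf.2 ⟨hc, ?_⟩
      rw [Subgroup.mem_centralizer_iff]
      intro y hy
      rw [Set.mem_singleton_iff.1 hy]
      exact hcx.symm
    obtain ⟨g₀, rfl⟩ := hc'
    rw [ThetaSp_apply, ← map_mul, PhiSp_eq_iff hm, Cfsg.Geo.mem_scalars_iff] at hgk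
    obtain ⟨z, hz⟩ := hgk
    have h1 : g⁻¹ * (toGSp s * embSp (fixK σ).subtype g₀) = scGSp z := by
      apply Subtype.ext
      apply Units.ext
      exact hz
    have h2 : g = toGSp s * embSp (fixK σ).subtype g₀ * (scGSp z)⁻¹ := by
      rw [← h1]; group
    rw [h2, map_mul, map_mul, multSp_toGSp, one_mul, multSp_embSp, map_inv, multSp_scGSp]
    unfold Bsub
    refine Subgroup.mul_mem _ (Subgroup.mem_sup_left ⟨multSp hm g₀, rfl⟩) (Subgroup.mem_sup_right ?_)
    refine Subgroup.inv_mem _ ⟨z, ?_⟩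
    rw [powMonoidHom_apply, pow_two]
  · intro hg
    unfold Bsub at hg
    obtain ⟨u, ⟨k, rfl⟩, v, ⟨w, rfl⟩, huv⟩ := Subgroup.mem_sup.1 hg
    rw [powMonoidHom_apply] at huv
    let g₀ : ↥(Cfsg.GSp m ↥(fixK σ)) := dgSp k
    let g' : ↥(Cfsg.GSp m F) := g * (embSp (fixK σ).subtype g₀)⁻¹ * (scGSp w)⁻¹
    have hmult : multSp hm g' = 1 := by
      show multSp hm (g * (embSp (fixK σ).subtype g₀)⁻¹ * (scGSp w)⁻¹) = 1
      rw [map_mul, map_mul, map_inv, map_inv, multSp_embSp, multSp_scGSp, multSp_dgSp, ← huv]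
      have : Units.map ((fixK σ).subtype : ↥(fixK σ) →* F) k = unitsIncl (fixK σ) k := rfl
      rw [this, pow_two]
      rw [mul_assoc, mul_assoc, mul_comm (w * w), mul_assoc, inv_mul_cancel, mul_one, mul_inv_cancel]
    obtain ⟨s, hs⟩ := exists_toGSp_of_mult_one hm g' hmult
    have h3 : g = g' * scGSp w * embSp (fixK σ).subtype g₀ := by
      show g = g * (embSp (fixK σ).subtype g₀)⁻¹ * (scGSp w)⁻¹ * scGSp w * embSp (fixK σ).subtype g₀
      group
    have h4 : PhiSp g = PhiSp g' * PhiSp (embSp (fixK σ).subtype g₀) := by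
      conv_lhs => rw [h3]
      rw [map_mul, map_mul, PhiSp_scGSp hm, mul_one]
    rw [h4]
    unfold MSub
    refine Subgroup.mul_mem _ (Subgroup.mem_sup_left ?_) (Subgroup.mem_sup_right ?_)
    · rw [mem_inn_iff_Sp]
      exact ⟨s, by rw [hs]⟩
    · rw [← hrange]
      exact ⟨g₀, rfl⟩

/-- the splitting number as an index in `Fˣ` -/
theorem splitCount_eq_index_Sp (hm : 1 ≤ m) (σ : F ≃+* F) {r : ℕ} (hr : 0 < r)
    (hσ : orderOf σ = r) :
    Cfsg.splitClassCount (PhiSp (F := F) (m := m)).range (Cfsg.Inn (Cfsg.PSp m F))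
        (fieldAutPSp σ) = (Bsub (fixK σ) 2).index := by
  rw [splitClassCount_eq _ _ inn_le_range_Sp (fun h _ k hk => inn_conj_mem_gen h k hk)]
  have h1 : (MSub (PhiSp (F := F) (m := m)).range (Cfsg.Inn (Cfsg.PSp m F))
      (fieldAutPSp σ)).comap PhiSp = (Bsub (fixK σ) 2).comap (multSp (F := F) (m := m) hm) := by
    ext g
    rw [Subgroup.mem_comap, Subgroup.mem_comap]
    exact mem_MSub_iff_mult hm σ hr hσ g
  rw [← Subgroup.index_comap_of_surjective (Bsub (fixK σ) 2) (multSp_surjective hm), ← h1,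
    Subgroup.index_comap]

/-! ### arithmetic -/

theorem geom_mod_two_odd (a : ℕ) (ha : a % 2 = 1) (r : ℕ) :
    (∑ i ∈ Finset.range r, a ^ i) % 2 = r % 2 := by
  induction r with
  | zero => simp
  | succ r ih =>
    rw [Finset.sum_range_succ, Nat.add_mod, ih, Nat.pow_mod, ha, one_pow]
    omega

theorem geom_mod_two_even (a : ℕ) (ha : a % 2 = 0) (r : ℕ) (hr : 0 < r) :
    (∑ i ∈ Finset.range r, a ^ i) % 2 = 1 := by
  obtain ⟨r', rfl⟩ : ∃ r', r = r' + 1 := ⟨r - 1, by omega⟩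
  rw [Finset.sum_range_succ']
  have h1 : ∑ i ∈ Finset.range r', a ^ (i + 1) = a * ∑ i ∈ Finset.range r', a ^ i := by
    rw [Finset.mul_sum]
    apply Finset.sum_congr rfl
    intro i _
    rw [pow_succ']
  rw [h1, pow_zero, Nat.add_mod, Nat.mul_mod, ha]
  simp

theorem gcd_two_geom {p f r : ℕ} (hp : p.Prime) (hr : 0 < r) (hrf : r ∣ f) (hf : 1 ≤ f) :
    Nat.gcd 2 ((p ^ f - 1) / (p ^ (f / r) - 1)) = Nat.gcd (Nat.gcd 2 (p ^ f - 1)) r := by
  obtain ⟨e, rfl⟩ := hrf
  have he : 1 ≤ e := by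
    rcases Nat.eq_zero_or_pos e with h | h
    · rw [h, mul_zero] at hf; omega
    · exact h
  rw [Nat.mul_div_cancel_left _ hr]
  set a := p ^ e with ha
  have ha2 : 2 ≤ a := by
    calc 2 ≤ p := hp.two_le
      _ = p ^ 1 := (pow_one p).symm
      _ ≤ p ^ e := Nat.pow_le_pow_right hp.pos he
  have hpow : p ^ (r * e) = a ^ r := by rw [ha, ← pow_mul, mul_comm]
  rw [hpow, ← Nat.geomSum_eq ha2 r]
  have hgcd2 : ∀ n : ℕ, Nat.gcd 2 n = if n % 2 = 0 then 2 else 1 := by
    intro n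
    rcases Nat.mod_two_eq_zero_or_one n with h | h
    · rw [if_pos h]
      exact Nat.gcd_eq_left (Nat.dvd_of_mod_eq_zero h)
    · rw [if_neg (by omega)]
      have : Nat.Coprime 2 n := by
        rw [Nat.coprime_two_left]
        exact Nat.odd_iff.2 h
      exact this
  have hapos : 1 ≤ a ^ r := Nat.one_le_pow _ _ (by omega)
  rcases Nat.mod_two_eq_zero_or_one a with hae | hao
  · -- `a` even
    have h1 := geom_mod_two_even a hae r hr
    have h2 : (a ^ r - 1) % 2 = 1 := by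
      have : a ^ r % 2 = 0 := by
        rw [Nat.pow_mod, hae, zero_pow (by omega)]
        rfl
      omega
    rw [hgcd2, hgcd2 (a ^ r - 1), if_neg (by omega), if_neg (by omega), Nat.gcd_one_left]
  · -- `a` odd
    have h1 := geom_mod_two_odd a hao r
    have h2 : (a ^ r - 1) % 2 = 0 := by
      have : a ^ r % 2 = 1 := by
        rw [Nat.pow_mod, hao, one_pow]
        rfl
      omega
    rw [hgcd2, hgcd2 (a ^ r - 1), if_pos h2, hgcd2 r, h1]

/-! ### characteristic two: `Inndiag = Inn` -/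

theorem range_PhiSp_eq_inn_of_char_two [Finite F] [CharP F 2] (hm : 1 ≤ m) :
    (PhiSp (F := F) (m := m)).range = Cfsg.Inn (Cfsg.PSp m F) := by
  apply le_antisymm
  · rintro _ ⟨g, rfl⟩
    have hchar : ringChar F = 2 := (ringChar.eq F 2)
    obtain ⟨d, hd⟩ := FiniteField.isSquare_of_char_two hchar ((multSp hm g : Fˣ) : F)
    have hd0 : d ≠ 0 := by
      rintro rfl
      rw [mul_zero] at hd
      exact (multSp hm g).ne_zero hd
    let w : Fˣ := Units.mk0 d hd0
    let g' : ↥(Cfsg.GSp m F) := g * (scGSp w)⁻¹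
    have hmult : multSp hm g' = 1 := by
      show multSp hm (g * (scGSp w)⁻¹) = 1
      rw [map_mul, map_inv, multSp_scGSp]
      have : multSp hm g = w * w := Units.ext hd
      rw [this, mul_inv_cancel]
    obtain ⟨s, hs⟩ := exists_toGSp_of_mult_one hm g' hmult
    have h3 : g = g' * scGSp w := by
      show g = g * (scGSp w)⁻¹ * scGSp w
      group
    rw [mem_inn_iff_Sp]
    refine ⟨s, ?_⟩
    rw [hs]
    conv_lhs => rw [h3]
    rw [map_mul, PhiSp_scGSp hm, mul_one]
  · exact inn_le_range_Sp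

theorem inndiag_normal_of_char_two [Finite F] [CharP F 2] (hm : 1 ≤ m) :
    (Cfsg.inndiagPSp m F).Normal := by
  rw [inndiagPSp_eq_range, range_PhiSp_eq_inn_of_char_two hm]
  infer_instance

/-! ### the main statements, from normality of `Inndiag` -/

/-- S2713 from normality of `Inndiag` -/
theorem coset_main_Sp' [Finite F] (hm : 1 ≤ m) (hD : (Cfsg.inndiagPSp m F).Normal)
    (x δ : MulAut (Cfsg.PSp m F)) (hx : Cfsg.IsFieldAutClassPSp x)
    {r : ℕ} (hr : r.Prime) (hxr : orderOf x = r) (hδ : δ ∈ Cfsg.inndiagPSp m F) :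
    orderOf (δ * x) = r ↔ Cfsg.IsConjUnder (Cfsg.inndiagPSp m F) x (δ * x) := by
  constructor
  · intro hord
    obtain ⟨α, σ, hσ1, hstd⟩ := hx
    have hx₀ : α * x * α⁻¹ = fieldAutPSp σ := eq_fieldAutPSp hstd
    have hordφ : orderOf (fieldAutPSp (m := m) σ) = r := by
      rw [← hx₀, ← hxr]
      have := orderOf_injective (MulAut.conj α).toMonoidHom (MulAut.conj α).injective x
      simpa [MulAut.conj_apply] using this
    have hσr : orderOf σ = r := by rw [← orderOf_fieldAutPSp hm]; exact hordφ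
    obtain ⟨k, hk, hkx⟩ := Cfsg.Agent.Helper40.AutPSLNorm.transport_conj (Cfsg.inndiagPSp m F)
      α x δ (fieldAutPSp σ) hx₀ hδ
      (by
        intro d hd hdord
        obtain ⟨g, rfl⟩ := (mem_inndiagPSp_iff d).1 hd
        have hpow : (PhiSp g * fieldAutPSp σ : MulAut (Cfsg.PSp m F)) ^ r = 1 := by
          rw [← hordφ, ← hdord]
          exact pow_orderOf_eq_one _
        obtain ⟨h, hh⟩ := field_coset_conj_Sp hm σ hr.pos hσr g hpow
        exact ⟨PhiSp h, PhiSp_mem_inndiag h, hh⟩)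
      (by rw [hord, hxr])
    exact ⟨k, hk, hkx⟩
  · rintro ⟨k, -, hk⟩
    rw [hk, ← hxr]
    have := orderOf_injective (MulAut.conj k).toMonoidHom (MulAut.conj k).injective x
    simpa [MulAut.conj_apply] using this

/-- S2712 from normality of `Inndiag` -/
theorem field_main_Sp [Fintype F] {p f : ℕ} (hp : p.Prime) (hF : Fintype.card F = p ^ f)
    (hf : 1 ≤ f) (hm : 1 ≤ m) (hD : (Cfsg.inndiagPSp m F).Normal)
    (x : MulAut (Cfsg.PSp m F)) (hx : Cfsg.IsFieldAutClassPSp x) {r : ℕ} (hr : r.Prime)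
    (hxr : orderOf x = r) (F₀ : Type*) [Field F₀] [Fintype F₀]
    (hF₀ : Fintype.card F₀ = p ^ (f / r)) :
    r ∣ f ∧ Nonempty (↥(Cfsg.inndiagPSp m F ⊓ Subgroup.centralizer {x}) ≃* Cfsg.PGSp m F₀) ∧
      Cfsg.splitClassCount (Cfsg.inndiagPSp m F) (Cfsg.Inn (Cfsg.PSp m F)) x =
        Nat.gcd (Nat.gcd 2 (p ^ f - 1)) r := by
  classical
  obtain ⟨α, σ, hσ1, hstd⟩ := hx
  have hφ : α * x * α⁻¹ = fieldAutPSp σ := eq_fieldAutPSp hstd
  have hσr : orderOf σ = r := by
    rw [← orderOf_fieldAutPSp (m := m) hm σ, ← hφ, ← hxr]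
    exact orderOf_injective (MulAut.conj α).toMonoidHom (MulAut.conj α).injective x
  have hr0 : 0 < r := hr.pos
  obtain ⟨hrf, hK⟩ := card_fixK σ hp hF hσr hr0
  refine ⟨hrf, ?_, ?_⟩
  · -- the isomorphism
    have e1 := conjInfCentEquiv (Cfsg.inndiagPSp m F) α x
    have heq : Cfsg.inndiagPSp m F ⊓ Subgroup.centralizer {α * x * α⁻¹} =
        (PhiSp (F := F) (m := m)).range ⊓ Subgroup.centralizer {fieldAutPSp σ} := by
      rw [hφ, inndiagPSp_eq_range]
    have e2 := MulEquiv.subgroupCongr heq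
    have : Fintype (fixK σ) := Fintype.ofFinite _
    have hcard : Fintype.card F₀ = Fintype.card (fixK σ) := by
      rw [hF₀, ← hK, Nat.card_eq_fintype_card]
    have e4 : F₀ ≃+* (fixK σ) := FiniteField.ringEquivOfCardEq hcard
    let ι : F₀ →+* F := (fixK σ).subtype.comp (e4 : F₀ →+* ↥(fixK σ))
    have hι1 : ∀ y, σ (ι y) = ι y := fun y => (e4 y).2
    have hι2 : ∀ a, σ a = a → ∃ y, ι y = a := by
      intro a ha
      refine ⟨e4.symm ⟨a, ha⟩, ?_⟩
      show ((e4 (e4.symm ⟨a, ha⟩) : ↥(fixK σ)) : F) = a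
      rw [RingEquiv.apply_symm_apply]
    obtain ⟨e3⟩ := cent_equiv_pgsp (m := m) ι hm σ hr0 hσr hι1 hι2
    exact ⟨(e1.trans e2).trans e3⟩
  · -- the count
    have h1 : Cfsg.splitClassCount (Cfsg.inndiagPSp m F) (Cfsg.Inn (Cfsg.PSp m F)) (α * x * α⁻¹) =
        Cfsg.splitClassCount (Cfsg.inndiagPSp m F) (Cfsg.Inn (Cfsg.PSp m F)) x := by
      apply splitClassCount_conj
      · intro h
        constructor
        · intro hh
          exact hD.conj_mem h hh α
        · intro hh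
          have := hD.conj_mem _ hh α⁻¹
          rw [inv_inv] at this
          have h2 : α⁻¹ * (α * h * α⁻¹) * α = h := by group
          rw [h2] at this
          exact this
      · intro k
        constructor
        · intro hk
          exact inn_conj_mem_gen α k hk
        · intro hk
          have := inn_conj_mem_gen α⁻¹ _ hk
          rw [inv_inv] at this
          have h2 : α⁻¹ * (α * k * α⁻¹) * α = k := by group
          rw [h2] at this
          exact this
    rw [← h1, hφ, inndiagPSp_eq_range, splitCount_eq_index_Sp hm σ hr0 hσr,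
      index_Bsub σ hp hF hσr hr0 2, gcd_two_geom hp hr0 hrf hf]

end Cfsg.Agent.Helper40.AutPSp
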