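import Mathlib
import Cfsg.Agent.Lib.Helper40.AutPOmFieldCent
import Cfsg.Agent.Lib.Helper40.AutPSpFieldMain
import Cfsg.Agent.Lib.Helper43.OGam5
import Cfsg.Agent.S0786

/-!
# Field automorphisms of prime order of `PΩ_{2m+1}(q)`: centralizer in `PGO` and splitting
-/

set_option autoImplicit false
set_option linter.unusedSectionVars false
set_option linter.unusedSimpArgs false
set_option linter.unusedVariables false

namespace Cfsg.Agent.Helper40.AutPOm

open Matrix QuadraticMap Cfsg.Agent.Helper5.OrthAut Cfsg.Agent.Helper40.H90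
  Cfsg.Agent.Helper40.AutPSLNorm Cfsg.Agent.Helper40.FixK Cfsg.Agent.Helper40.LangO
  Cfsg.Agent.Helper40.SplitCount Cfsg.Agent.Helper43

/-! ### odd dimension: similarities are scalars times special isometries -/

section OddDim

variable {F : Type*} [Field F] {ι : Type} [Fintype ι] [DecidableEq ι]
  (Q : QuadraticForm F (ι → F))

local notation "Mι" => Matrix ι ι F

theorem exists_scl_mul_SOG (hnd : (polarBilin Q).Nondegenerate) (k : ℕ)
    (hcard : Fintype.card ι = 2 * k + 1) (g : ↥(GO Q)) :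
    ∃ (c : Fˣ) (s : GL ι F), s ∈ SOG Q ∧ (g : GL ι F) = sclHom c * s := by
  set ν : F := (mult Q g : F) with hν
  have hν0 : ν ≠ 0 := Units.ne_zero _
  have hdet := det_sq Q hnd g
  rw [hcard] at hdet
  set c : F := (gmat Q g).det * (ν ^ k)⁻¹ with hc
  have hνk : ν ^ k ≠ 0 := pow_ne_zero _ hν0
  have hcc : c * c = ν := by
    rw [hc]
    field_simp
    rw [hdet]
    ring
  have hc0 : c ≠ 0 := by
    intro h
    rw [h, mul_zero] at hcc
    exact hν0 hcc.symm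
  set cu : Fˣ := Units.mk0 c hc0 with hcu
  set s : GL ι F := (sclHom cu)⁻¹ * (g : GL ι F) with hs
  have hsmv : ∀ x, (s : Mι) *ᵥ x = c⁻¹ • (gmat Q g *ᵥ x) := by
    intro x
    rw [hs, Units.val_mul, ← Matrix.mulVec_mulVec, ← map_inv, sclHom_mulVec]
    simp [hcu, gmat]
  refine ⟨cu, s, ?_, ?_⟩
  · rw [mem_SOG_iff]
    constructor
    · show s ∈ Cfsg.isometryGroup F ⇑Q
      rw [mem_iso_iff]
      intro x
      rw [hsmv, QuadraticMap.map_smul, smul_eq_mul, mult_spec Q g x, ← hν, ← hcc]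
      field_simp
    · rw [hs, Units.val_mul, Matrix.det_mul, ← map_inv, sclHom_det, hcard]
      have hdg : (gmat Q g).det = c * ν ^ k := by
        rw [hc]; field_simp
      have hdg' : ((g : GL ι F) : Mι).det = c * ν ^ k := hdg
      rw [hdg']
      simp only [hcu, Units.val_inv_eq_inv_val, Units.val_mk0]
      rw [← hcc]
      have e : c⁻¹ ^ (2 * k + 1) * (c * (c * c) ^ k) = (c⁻¹ * c) ^ (2 * k + 1) := by
        have e1 : c * (c * c) ^ k = c ^ (2 * k + 1) := by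
          rw [← pow_two, ← pow_mul, pow_succ]
          ring
        rw [e1, ← mul_pow]
      rw [e, inv_mul_cancel₀ hc0, one_pow]
  · rw [hs, mul_inv_cancel_left]

end OddDim

/-! ### the index of `Inn` in `PGO`, odd dimension -/

section Index

variable {F : Type*} [Field F] {ι : Type} [Fintype ι] [DecidableEq ι]
  (Q : QuadraticForm F (ι → F))
  (hperf : commutator ↥(Cfsg.Omega F ⇑Q) = ⊤)
  (hcent : ∀ Z : Matrix ι ι F, (∀ s : ↥(Cfsg.Omega F ⇑Q), Z * omat (⇑Q) s = omat (⇑Q) s * Z) →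
      ∃ c : F, Z = c • (1 : Matrix ι ι F))

local notation "Mι" => Matrix ι ι F

include hperf hcent in
theorem PhiGO_eq_of_scl (g : ↥(GO Q)) (c : Fˣ) (s : GL ι F) (hs : s ∈ GO Q)
    (h : (g : GL ι F) = sclHom c * s) : PhiGO (⇑Q) g = PhiGO (⇑Q) ⟨s, hs⟩ := by
  have h1 : g = scGO Q c * ⟨s, hs⟩ := Subtype.ext h
  rw [h1, map_mul, PhiGO_scGO Q hperf hcent, one_mul]

include hperf hcent in
theorem pgoAut_le_psoAut_odd (hnd : (polarBilin Q).Nondegenerate) (k : ℕ)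
    (hcard : Fintype.card ι = 2 * k + 1) : Cfsg.pgoAut F ⇑Q ≤ Cfsg.psoAut F ⇑Q := by
  intro β hβ
  obtain ⟨g, rfl⟩ := (mem_pgoAut_iff (⇑Q) β).1 hβ
  obtain ⟨c, s, hs, hgs⟩ := exists_scl_mul_SOG Q hnd k hcard g
  rw [PhiGO_eq_of_scl Q hperf hcent g c s (iso_le_sim _ (SOG_le_OG Q hs)) hgs, ← fSO_range]
  exact ⟨⟨s, hs⟩, rfl⟩

include hperf hcent in
theorem relIndex_inn_pgo_odd [Fintype F] [DecidableEq F] (hnd : (polarBilin Q).Nondegenerate)
    (k : ℕ) (hcard : Fintype.card ι = 2 * k + 1) (h2 : (2 : F) ≠ 0) (v : ι → F) (hv : Q v ≠ 0)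
    (hidx : (Cfsg.Omega F ⇑Q).index = 4) :
    (Cfsg.Inn (Cfsg.POmega F ⇑Q)).relIndex (Cfsg.pgoAut F ⇑Q) = 2 := by
  have h1 : Cfsg.pgoAut F ⇑Q = Cfsg.psoAut F ⇑Q :=
    le_antisymm (pgoAut_le_psoAut_odd Q hperf hcent hnd k hcard) (psoAut_le_pgoAut Q)
  rw [h1]
  exact Cfsg.Agent.Helper43.OGam.relIndex_inn_pso_odd Q hnd k hcard hperf hcent h2 v hv hidx

include hperf hcent in
/-- in odd dimension a special isometry inducing an inner automorphism lies in `Ω` -/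
theorem mem_OmGL_of_PhiGO_mem_inn_odd (k : ℕ) (hcard : Fintype.card ι = 2 * k + 1)
    (h2 : (2 : F) ≠ 0) (hQ0 : ∃ v : ι → F, Q v ≠ 0) (x : GL ι F) (hx : x ∈ SOG Q)
    (h : PhiGO (⇑Q) ⟨x, iso_le_sim _ (SOG_le_OG Q hx)⟩ ∈ Cfsg.Inn (Cfsg.POmega F ⇑Q)) :
    x ∈ OmGL (⇑Q) := by
  rw [inn_eq] at h
  obtain ⟨w, hw, hwx⟩ := h
  have hw' : (w : GL ι F) ∈ OmGL (⇑Q) := hw
  have hxO : x ∈ OG Q := SOG_le_OG Q hx
  have hker : w⁻¹ * ⟨x, Subgroup.le_normalizer hxO⟩ ∈ (Phi (⇑Q)).ker := by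
    rw [MonoidHom.mem_ker, map_mul, map_inv, hwx, inv_mul_eq_one]
    rfl
  rw [ker_Phi (⇑Q) hperf hcent, Subgroup.mem_subgroupOf] at hker
  have hwO : (w : GL ι F) ∈ OG Q := OmGL_le_iso (⇑Q) hw'
  have hz : (w : GL ι F)⁻¹ * x ∈ OG Q := mul_mem (inv_mem hwO) hxO
  rcases scalar_iso Q hQ0 _ hz hker with h1 | h1
  · have : (w : GL ι F) = x := inv_mul_eq_one.1 h1
    rw [← this]; exact hw'
  · exfalso
    have hdw := ((mem_SOG_iff Q _).1 (OmGL_le_SOG Q hw')).2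
    have hdx := ((mem_SOG_iff Q _).1 hx).2
    have h3 : (((w : GL ι F)⁻¹ * x : GL ι F) : Mι).det = 1 := by
      have h4 : ((w : GL ι F) : Mι) * (((w : GL ι F)⁻¹ * x : GL ι F) : Mι) = (x : Mι) := by
        rw [← Units.val_mul, mul_inv_cancel_left]
      have h5 := congrArg Matrix.det h4
      rw [Matrix.det_mul, hdw, hdx, one_mul] at h5
      exact h5
    rw [h1, Units.val_neg, Units.val_one, Matrix.det_neg, Matrix.det_one, hcard, mul_one,
      pow_succ, pow_mul] at h3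
    simp at h3
    apply h2
    linear_combination -h3

end Index

/-! ### squares and the fixed field -/

section FieldSq

variable {F : Type*} [Field F]

theorem pow_apply_of_neg (σ : F ≃+* F) (c : F) (hc : σ c = -c) (k : ℕ) :
    (σ ^ k) c = (-1) ^ k * c := by
  induction k with
  | zero => simp
  | succ k ih =>
    rw [pow_succ]
    show (σ ^ k) (σ c) = _
    rw [hc, map_neg, ih, pow_succ]
    ring

/-- if `σ` has odd order, a fixed element which is not a square in the fixed field is not a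
square -/
theorem not_isSquare_of_odd_order (h2 : (2 : F) ≠ 0) (σ : F ≃+* F) {r : ℕ} (hr : Odd r)
    (hσ : σ ^ r = 1) (a : F) (hafix : σ a = a) (ha : ∀ c : F, σ c = c → c * c ≠ a) :
    ¬ IsSquare a := by
  rintro ⟨c, hc⟩
  have h1 : σ c * σ c = c * c := by rw [← map_mul, ← hc, hafix]
  rcases mul_self_eq_mul_self_iff.1 h1 with h | h
  · exact ha c h hc.symm
  · have h3 := pow_apply_of_neg σ c h r
    rw [hσ, hr.neg_one_pow] at h3
    have h4 : c = -c := by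
      have : (1 : F ≃+* F) c = c := rfl
      rw [this] at h3
      linear_combination h3
    have h5 : (2 : F) * c = 0 := by linear_combination h4
    have h6 : c = 0 := by
      rcases mul_eq_zero.1 h5 with h | h
      · exact absurd h h2
      · exact h
    apply ha c _ hc.symm
    rw [h6, map_zero]

/-- if `σ` has order two, every fixed element is a square -/
theorem isSquare_of_fixed_of_order_two [Fintype F] (h2 : (2 : F) ≠ 0) (σ : F ≃+* F)
    (hσ : orderOf σ = 2) {p f : ℕ} (hp : p.Prime) (hF : Fintype.card F = p ^ f)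
    (a : F) (ha : σ a = a) : IsSquare a := by
  classical
  by_cases ha0 : a = 0
  · rw [ha0]; exact ⟨0, by simp⟩
  have hchar : ringChar F ≠ 2 := by
    intro h
    apply h2
    have := CharP.cast_eq_zero F (ringChar F)
    rw [h] at this
    exact_mod_cast this
  rw [FiniteField.isSquare_iff hchar ha0]
  obtain ⟨hrf, hK⟩ := card_fixK σ hp hF hσ (by norm_num)
  have : Fintype (fixK σ) := Fintype.ofFinite _
  set q₀ := p ^ (f / 2) with hq₀
  have hcardF : Fintype.card F = q₀ * q₀ := by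
    obtain ⟨e, he⟩ := hrf
    rw [hF, hq₀, he, Nat.mul_div_cancel_left _ (by norm_num : 0 < 2), ← pow_add]
    congr 1
    ring
  have hodd : Fintype.card F % 2 = 1 := Cfsg.Agent.Lead.POmegaCard.odd_card_of_two_ne_zero h2
  have hq₀odd : q₀ % 2 = 1 := by
    rw [hcardF, Nat.mul_mod] at hodd
    rcases Nat.mod_two_eq_zero_or_one q₀ with h | h
    · rw [h] at hodd; simp at hodd
    · exact h
  obtain ⟨t, ht⟩ : ∃ t, q₀ = 2 * t + 1 := ⟨q₀ / 2, by omega⟩
  have hhalf : Fintype.card F / 2 = (q₀ - 1) * (t + 1) := by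
    rw [hcardF, ht]
    have : (2 * t + 1) * (2 * t + 1) = 2 * (2 * t * (t + 1)) + 1 := by ring
    rw [this]
    have h3 : (2 * (2 * t * (t + 1)) + 1) / 2 = 2 * t * (t + 1) := by omega
    rw [h3]
    simp
  have hpow : a ^ (q₀ - 1) = 1 := by
    have hKcard : Fintype.card (fixK σ) = q₀ := by
      rw [← Nat.card_eq_fintype_card, hK]
    have ha' : (⟨a, ha⟩ : fixK σ) ≠ 0 := by
      intro h
      exact ha0 (congrArg Subtype.val h)
    have h3 := FiniteField.pow_card_sub_one_eq_one (⟨a, ha⟩ : fixK σ) ha'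
    rw [hKcard] at h3
    have h4 := congrArg (fun x : fixK σ => (x : F)) h3
    simpa using h4
  rw [hhalf, pow_mul, hpow, one_pow]

end FieldSq

/-! ### the centralizer and `Inn` -/

section Split

variable {F₀ : Type*} [Field F₀] {F : Type*} [Field F] {ι : Type} [Fintype ι] [DecidableEq ι]
  {emb : F₀ →+* F} {Q₀ : QuadraticForm F₀ (ι → F₀)} {Q : QuadraticForm F (ι → F)}
  (hB : IsBC emb ⇑Q₀ ⇑Q) (h2 : (2 : F) ≠ 0)
  (hQA : ∀ σ : F ≃+* F, σ ∈ QAut (⇑Q))
  (hperf : commutator ↥(Cfsg.Omega F ⇑Q) = ⊤)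
  (hcent : ∀ Z : Matrix ι ι F, (∀ s : ↥(Cfsg.Omega F ⇑Q), Z * omat (⇑Q) s = omat (⇑Q) s * Z) →
      ∃ c : F, Z = c • (1 : Matrix ι ι F))

local notation "Mι" => Matrix ι ι F
local notation "Mι₀" => Matrix ι ι F₀

include hB h2 hperf hcent in
/-- a centralizing element outside `Inn`, from a non-square -/
theorem exists_cent_not_inn [Fintype F] [DecidableEq F] (hnd : (polarBilin Q).Nondegenerate)
    (k : ℕ) (hk : 1 ≤ k) (hcard : Fintype.card ι = 2 * k + 1) (σ : F ≃+* F)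
    (hι1 : ∀ x, σ (emb x) = emb x) (u₀ v₀ : ι → F₀)
    (hns : ¬ IsSquare (emb (Q₀ u₀ * Q₀ v₀))) :
    ∃ c ∈ (PhiGO (⇑Q)).range ⊓ Subgroup.centralizer {fieldAutStd (⇑Q) hQA σ},
      c ∉ Cfsg.Inn (Cfsg.POmega F ⇑Q) := by
  have hQu : Q (mapV emb u₀) = emb (Q₀ u₀) := hB u₀
  have hQv : Q (mapV emb v₀) = emb (Q₀ v₀) := hB v₀
  have hns' : ¬ IsSquare (Q (mapV emb u₀) * Q (mapV emb v₀)) := by
    rw [hQu, hQv, ← map_mul]; exact hns
  have hu : Q (mapV emb u₀) ≠ 0 := by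
    intro h
    apply hns'
    rw [h, zero_mul]
    exact ⟨0, by simp⟩
  have hv : Q (mapV emb v₀) ≠ 0 := by
    intro h
    apply hns'
    rw [h, mul_zero]
    exact ⟨0, by simp⟩
  set t : ↥(Cfsg.isometryGroup F ⇑Q) := reflIso Q hu * reflIso Q hv with ht
  have htcoe : ((t : GL ι F) : Mι) =
      ((Cfsg.reflectionMatrix (⇑Q₀) u₀ * Cfsg.reflectionMatrix (⇑Q₀) v₀ : Mι₀)).map emb := by
    rw [Matrix.map_mul, hB.reflectionMatrix, hB.reflectionMatrix]
    rfl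
  refine ⟨PhiGO (⇑Q) (isoGO Q t), Subgroup.mem_inf.2 ⟨⟨_, rfl⟩, ?_⟩, ?_⟩
  · rw [PhiGO_mem_centralizer_iff Q hQA hperf hcent]
    have h1 : ((sigmaGO (⇑Q) (toQAut (⇑Q) hQA σ) (isoGO Q t) : ↥(GO Q)) : GL ι F) =
        (isoGO Q t).1 := by
      apply Units.ext
      rw [sigmaGO_coe]
      show ((t : GL ι F) : Mι).map σ = ((t : GL ι F) : Mι)
      rw [htcoe]
      ext i j
      exact hι1 _
    rw [h1, inv_mul_cancel]
    exact Subgroup.one_mem _
  · intro hinn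
    have htSO : (t : GL ι F) ∈ SOG Q := by
      rw [mem_SOG_iff]
      refine ⟨t.2, ?_⟩
      rw [ht]
      show (Cfsg.reflectionMatrix (⇑Q) (mapV emb u₀) *
        Cfsg.reflectionMatrix (⇑Q) (mapV emb v₀)).det = 1
      rw [Matrix.det_mul, reflectionMatrix_det Q hu, reflectionMatrix_det Q hv]
      ring
    have h3 := mem_OmGL_of_PhiGO_mem_inn_odd Q hperf hcent k hcard h2 ⟨_, hu⟩ (t : GL ι F) htSO
      hinn
    exact refl_mul_refl_not_mem Q hnd h2 (by omega) hu hv hns' h3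

theorem map_list_prod_matrix (l : List Mι₀) :
    (l.prod).map emb = (l.map (fun A => A.map emb)).prod := by
  have := map_list_prod (emb.mapMatrix : Mι₀ →+* Mι) l
  exact this

include hperf hcent in
/-- if all elements of the fixed field are squares, the centralizer lies in `Inn` -/
theorem range_ThetaGO_le_inn [Fintype F] [DecidableEq F] [Fintype F₀]
    (hnd₀ : (polarBilin Q₀).Nondegenerate) (hnd : (polarBilin Q).Nondegenerate)
    (k : ℕ) (hk : 1 ≤ k) (hcard : Fintype.card ι = 2 * k + 1)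
    (hsq : ∀ a : F₀, IsSquare (emb a)) :
    (ThetaGO hB h2).range ≤ Cfsg.Inn (Cfsg.POmega F ⇑Q) := by
  classical
  rintro β ⟨g₀, rfl⟩
  rw [ThetaGO_apply]
  obtain ⟨c₀, s₀, hs₀, hgs₀⟩ := exists_scl_mul_SOG Q₀ hnd₀ k hcard g₀
  have hs₀O : s₀ ∈ Cfsg.isometryGroup F₀ ⇑Q₀ := SOG_le_OG Q₀ hs₀
  have hs₀det := ((mem_SOG_iff Q₀ _).1 hs₀).2
  -- the image of `s₀`
  set s : GL ι F := Matrix.GeneralLinearGroup.map emb s₀ with hs
  have hsO : s ∈ Cfsg.isometryGroup F ⇑Q := emb_mem_iso hB h2 s₀ hs₀O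
  have hdecomp : ((embGO hB h2 g₀ : ↥(GO Q)) : GL ι F) =
      sclHom (Units.map (emb : F₀ →* F) c₀) * s := by
    rw [embGO_val, hgs₀, map_mul]
    congr 1
    apply Units.ext
    ext i j
    show emb (((sclHom c₀ : GL ι F₀) : Mι₀) i j) = _
    rw [sclHom_coe, sclHom_coe, Matrix.smul_apply, Matrix.smul_apply, smul_eq_mul, smul_eq_mul,
      map_mul]
    by_cases hij : i = j
    · rw [hij, Matrix.one_apply_eq, Matrix.one_apply_eq, map_one]
      rfl
    · rw [Matrix.one_apply_ne hij, Matrix.one_apply_ne hij, map_zero, mul_zero, mul_zero]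
  rw [PhiGO_eq_of_scl Q hperf hcent _ _ s (iso_le_sim _ hsO) hdecomp]
  -- Cartan–Dieudonné over `F₀`
  have hexc : Fintype.card F₀ ≠ 2 ∨ Fintype.card ι ≠ 4 := by
    right; omega
  obtain ⟨l, hl, hsl⟩ := Cfsg.Agent.S0786.matrix_cd_all Q₀ hnd₀ hexc (s₀ : Mι₀)
    (fun u => (mem_iso_iff (⇑Q₀) s₀).1 hs₀O u)
  have h2₀ : (2 : F₀) ≠ 0 := two_ne_zero_of_emb emb h2
  have hlen : Even l.length := by
    have h3 := det_list_reflection Q₀ l hl
    rw [← hsl, hs₀det] at h3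
    have hneg : (-1 : F₀) ≠ 1 := by
      intro h
      apply h2₀
      have : (1 : F₀) + 1 = 0 := by
        nth_rewrite 1 [← h]
        exact neg_add_cancel 1
      rw [← one_add_one_eq_two]
      exact this
    exact (neg_one_pow_eq_one_iff_even hneg).1 h3.symm
  set vs : List (ι → F) := l.map (mapV emb) with hvs
  have hvs0 : ∀ v ∈ vs, Q v ≠ 0 := by
    intro v hv
    obtain ⟨w, hw, rfl⟩ := List.mem_map.1 hv
    have h3 : Q (mapV emb w) = emb (Q₀ w) := hB w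
    rw [h3, Ne, map_eq_zero_iff emb emb.injective]
    exact hl w hw
  have hsmat : (((⟨s, hsO⟩ : ↥(Cfsg.isometryGroup F ⇑Q)) : GL ι F) : Mι) =
      (vs.map (fun v => Cfsg.reflectionMatrix (⇑Q) v)).prod := by
    show ((s₀ : Mι₀)).map emb = _
    rw [hsl, map_list_prod_matrix, hvs, List.map_map, List.map_map]
    congr 1
    apply List.map_congr_left
    intro w _
    exact hB.reflectionMatrix w
  have hmem := (mem_Omega_iff_of_list Q h2 (by omega) hnd ⟨s, hsO⟩ vs hvs0 hsmat).2 (by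
    constructor
    · rw [hvs, List.length_map]; exact hlen
    · have h4 : (vs.map (fun v => Q v)).prod = emb ((l.map (fun w => Q₀ w)).prod) := by
        rw [hvs, List.map_map, map_list_prod, List.map_map]
        congr 1
        apply List.map_congr_left
        intro w _
        exact hB w
      rw [h4]
      exact hsq _)
  have h5 := Phi_omega (⇑Q) ⟨⟨s, hsO⟩, hmem⟩ (Subgroup.le_normalizer hsO)
  have h6 : PhiGO (⇑Q) ⟨s, iso_le_sim (⇑Q) hsO⟩ =
      Phi (⇑Q) ⟨s, Subgroup.le_normalizer hsO⟩ := rfl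
  rw [h6]
  exact ⟨_, h5.symm⟩

end Split

/-! ### the splitting number when `K` has index two in `H` -/

section IndexTwo

variable {X : Type*} [Group X]

theorem splitCount_of_relIndex_two (H K : Subgroup X) (hKH : K ≤ H)
    (hnorm : ∀ h ∈ H, ∀ k ∈ K, h * k * h⁻¹ ∈ K) (hidx : K.relIndex H = 2) (x : X) :
    ((∃ c ∈ H ⊓ Subgroup.centralizer {x}, c ∉ K) → Cfsg.splitClassCount H K x = 1) ∧
      ((H ⊓ Subgroup.centralizer {x} ≤ K) → Cfsg.splitClassCount H K x = 2) := by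
  rw [splitClassCount_eq H K hKH hnorm x]
  have hKM : K ≤ MSub H K x := le_sup_left
  have hMH : MSub H K x ≤ H := sup_le hKH inf_le_left
  have hmul := Subgroup.relIndex_mul_relIndex K (MSub H K x) H hKM hMH
  rw [hidx] at hmul
  constructor
  · rintro ⟨c, hc, hcK⟩
    have h1 : K.relIndex (MSub H K x) ≠ 1 := by
      intro h
      rw [Subgroup.relIndex_eq_one] at h
      exact hcK (h (le_sup_right (a := K) hc))
    have h2 : K.relIndex (MSub H K x) ∣ 2 := ⟨_, hmul.symm⟩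
    have h3 : K.relIndex (MSub H K x) = 2 := by
      rcases (Nat.dvd_prime Nat.prime_two).1 h2 with h | h
      · exact absurd h h1
      · exact h
    rw [h3] at hmul
    omega
  · intro hle
    have h1 : MSub H K x = K := sup_eq_left.2 hle
    rw [h1, hidx]

end IndexTwo

/-! ### the main statement -/

section Main

open Cfsg.Agent.Helper40.FieldCent Cfsg.Agent.Helper40.AutPSp

variable {F₀ : Type*} [Field F₀] {F : Type*} [Field F] {ι : Type} [Fintype ι] [DecidableEq ι]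
  {Q₀ : QuadraticForm F₀ (ι → F₀)} {Q : QuadraticForm F (ι → F)}
  (hBall : ∀ emb : F₀ →+* F, IsBC emb ⇑Q₀ ⇑Q) (h2 : (2 : F) ≠ 0)
  (hQA : ∀ σ : F ≃+* F, σ ∈ QAut (⇑Q))
  (hperf : commutator ↥(Cfsg.Omega F ⇑Q) = ⊤)
  (hcent : ∀ Z : Matrix ι ι F, (∀ s : ↥(Cfsg.Omega F ⇑Q), Z * omat (⇑Q) s = omat (⇑Q) s * Z) →
      ∃ c : F, Z = c • (1 : Matrix ι ι F))

include hBall h2 hperf hcent in
/-- field automorphisms of prime order of `PΩ(Q)`, odd dimension, odd characteristic -/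
theorem field_main_O [Fintype F] [Fintype F₀] {p f : ℕ} (hp : p.Prime)
    (hF : Fintype.card F = p ^ f) (hf : 1 ≤ f) (D : RigData Q) (hS : StructO (⇑Q) hQA)
    (hnd : (polarBilin Q).Nondegenerate) (hnd₀ : (polarBilin Q₀).Nondegenerate)
    (hperf₀ : commutator ↥(Cfsg.Omega F₀ ⇑Q₀) = ⊤)
    (hcent₀ : ∀ Z : Matrix ι ι F₀,
      (∀ s : ↥(Cfsg.Omega F₀ ⇑Q₀), Z * omat (⇑Q₀) s = omat (⇑Q₀) s * Z) →
      ∃ c : F₀, Z = c • (1 : Matrix ι ι F₀))
    (k : ℕ) (hk : 1 ≤ k) (hcard : Fintype.card ι = 2 * k + 1)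
    (hidx : (Cfsg.Omega F ⇑Q).index = 4) (hrep₀ : ∀ a : F₀, ∃ v : ι → F₀, Q₀ v = a)
    (x : MulAut (Cfsg.POmega F ⇑Q)) (hx : Cfsg.IsFieldAutClassPOmega (⇑Q) x) {r : ℕ}
    (hr : r.Prime) (hxr : orderOf x = r) (hF₀ : Fintype.card F₀ = p ^ (f / r)) :
    r ∣ f ∧
      Nonempty (↥(Cfsg.pgoAut F ⇑Q ⊓ Subgroup.centralizer {x}) ≃* ↥(Cfsg.pgoAut F₀ ⇑Q₀)) ∧
      (Odd r → Cfsg.splitClassCount (Cfsg.pgoAut F ⇑Q) (Cfsg.Inn (Cfsg.POmega F ⇑Q)) x = 1) ∧
      (r = 2 → Cfsg.splitClassCount (Cfsg.pgoAut F ⇑Q) (Cfsg.Inn (Cfsg.POmega F ⇑Q)) x = 2) := by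
  classical
  have hD : (Cfsg.pgoAut F ⇑Q).Normal := pgoAut_normal (⇑Q) hQA hS
  obtain ⟨α, φ, σ, hσ1, hstd, hφ⟩ := hx
  rw [isFieldAutOf_iff_std (⇑Q) hQA] at hstd
  subst hstd
  have hσr : orderOf σ = r := by
    rw [← orderOf_fieldAutStd hQA D σ, ← hφ, ← hxr]
    exact orderOf_injective (MulAut.conj α).toMonoidHom (MulAut.conj α).injective x
  have hr0 : 0 < r := hr.pos
  obtain ⟨hrf, hK⟩ := card_fixK σ hp hF hσr hr0
  have : Fintype (fixK σ) := Fintype.ofFinite _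
  have hcardK : Fintype.card F₀ = Fintype.card (fixK σ) := by
    rw [hF₀, ← hK, Nat.card_eq_fintype_card]
  have e4 : F₀ ≃+* (fixK σ) := FiniteField.ringEquivOfCardEq hcardK
  let emb : F₀ →+* F := (fixK σ).subtype.comp (e4 : F₀ →+* ↥(fixK σ))
  have hι1 : ∀ y, σ (emb y) = emb y := fun y => (e4 y).2
  have hι2 : ∀ a, σ a = a → ∃ y, emb y = a := by
    intro a ha
    refine ⟨e4.symm ⟨a, ha⟩, ?_⟩
    show ((e4 (e4.symm ⟨a, ha⟩) : ↥(fixK σ)) : F) = a
    rw [RingEquiv.apply_symm_apply]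
  have hB : IsBC emb ⇑Q₀ ⇑Q := hBall emb
  have hne : Nonempty ι := by
    by_contra hcon
    rw [not_nonempty_iff] at hcon
    have : Fintype.card ι = 0 := Fintype.card_eq_zero
    omega
  have hrange := range_ThetaGO hB h2 hQA hperf hcent hnd σ hr0 hσr hι1 hι2
  -- transport of the count
  have hcount : Cfsg.splitClassCount (Cfsg.pgoAut F ⇑Q) (Cfsg.Inn (Cfsg.POmega F ⇑Q))
      (α * x * α⁻¹) =
      Cfsg.splitClassCount (Cfsg.pgoAut F ⇑Q) (Cfsg.Inn (Cfsg.POmega F ⇑Q)) x := by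
    apply splitClassCount_conj
    · intro h
      constructor
      · intro hh
        exact hD.conj_mem h hh α
      · intro hh
        have := hD.conj_mem _ hh α⁻¹
        rw [inv_inv] at this
        have h2' : α⁻¹ * (α * h * α⁻¹) * α = h := by group
        rw [h2'] at this
        exact this
    · intro k'
      constructor
      · intro hk'
        exact inn_conj_mem_gen α k' hk'
      · intro hk'
        have := inn_conj_mem_gen α⁻¹ _ hk'
        rw [inv_inv] at this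
        have h2' : α⁻¹ * (α * k' * α⁻¹) * α = k' := by group
        rw [h2'] at this
        exact this
  obtain ⟨v1, hv1⟩ := hrep₀ 1
  have hQ0 : ∃ v : ι → F, Q v ≠ 0 := by
    refine ⟨mapV emb v1, ?_⟩
    have h3 : Q (mapV emb v1) = emb (Q₀ v1) := hB v1
    rw [h3, hv1, map_one]
    exact one_ne_zero
  obtain ⟨v, hv⟩ := hQ0
  have hidx2 := relIndex_inn_pgo_odd Q hperf hcent hnd k hcard h2 v hv hidx
  have hKH : Cfsg.Inn (Cfsg.POmega F ⇑Q) ≤ Cfsg.pgoAut F ⇑Q :=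
    le_trans (inn_le_psoAut Q) (psoAut_le_pgoAut Q)
  have hsplit := splitCount_of_relIndex_two (Cfsg.pgoAut F ⇑Q) (Cfsg.Inn (Cfsg.POmega F ⇑Q)) hKH
    (fun h _ k' hk' => inn_conj_mem_gen h k' hk') hidx2 (fieldAutStd (⇑Q) hQA σ)
  refine ⟨hrf, ?_, ?_, ?_⟩
  · -- the isomorphism
    have e1 := conjInfCentEquiv (Cfsg.pgoAut F ⇑Q) α x
    have heq : Cfsg.pgoAut F ⇑Q ⊓ Subgroup.centralizer {α * x * α⁻¹} =
        (PhiGO (⇑Q)).range ⊓ Subgroup.centralizer {fieldAutStd (⇑Q) hQA σ} := by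
      rw [hφ, pgoAut_eq_range]
    have e2 := MulEquiv.subgroupCongr heq
    obtain ⟨e3⟩ := cent_equiv_pgo hB h2 hQA hperf hcent hnd hperf₀ hcent₀ σ hr0 hσr hι1 hι2
    have e5 := MulEquiv.subgroupCongr (pgoAut_eq_range (⇑Q₀))
    exact ⟨((e1.trans e2).trans e3).trans e5.symm⟩
  · -- `r` odd
    intro hodd
    rw [← hcount, hφ]
    apply hsplit.1
    rw [pgoAut_eq_range]
    have hchar₀ : ringChar F₀ ≠ 2 := by
      intro h
      apply two_ne_zero_of_emb emb h2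
      have := CharP.cast_eq_zero F₀ (ringChar F₀)
      rw [h] at this
      exact_mod_cast this
    obtain ⟨a, ha⟩ := FiniteField.exists_nonsquare hchar₀
    obtain ⟨va, hva⟩ := hrep₀ a
    have hσpow : σ ^ r = 1 := by rw [← hσr]; exact pow_orderOf_eq_one σ
    have hns : ¬ IsSquare (emb (Q₀ v1 * Q₀ va)) := by
      rw [hv1, hva, one_mul]
      apply not_isSquare_of_odd_order h2 σ hodd hσpow (emb a) (hι1 a)
      intro c hc hcc
      obtain ⟨c₀, rfl⟩ := hι2 c hc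
      apply ha
      refine ⟨c₀, ?_⟩
      apply emb.injective
      rw [map_mul, hcc]
    exact exists_cent_not_inn hB h2 hQA hperf hcent hnd k hk hcard σ hι1 v1 va hns
  · -- `r = 2`
    intro hr2
    rw [← hcount, hφ]
    apply hsplit.2
    rw [pgoAut_eq_range, ← hrange]
    apply range_ThetaGO_le_inn hB h2 hperf hcent hnd₀ hnd k hk hcard
    intro a
    exact isSquare_of_fixed_of_order_two h2 σ (by rw [hσr, hr2]) hp hF (emb a) (hι1 a)

/-- the main statement for forms given as plain functions -/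
theorem field_main_O' [Fintype F] [Fintype F₀] (Qf : (ι → F) → F) (Qf₀ : (ι → F₀) → F₀)
    (hQ : ⇑Q = Qf) (hQ₀ : ⇑Q₀ = Qf₀)
    (hBall : ∀ emb : F₀ →+* F, IsBC emb ⇑Q₀ ⇑Q) (h2 : (2 : F) ≠ 0)
    (hQA : ∀ σ : F ≃+* F, σ ∈ QAut Qf)
    (hperf : commutator ↥(Cfsg.Omega F ⇑Q) = ⊤)
    (hcent : ∀ Z : Matrix ι ι F, (∀ s : ↥(Cfsg.Omega F ⇑Q), Z * omat (⇑Q) s = omat (⇑Q) s * Z) →
      ∃ c : F, Z = c • (1 : Matrix ι ι F))
    {p f : ℕ} (hp : p.Prime)
    (hF : Fintype.card F = p ^ f) (hf : 1 ≤ f) (D : RigData Q)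
    (hS : Cfsg.gammaPOmega F Qf = ⊤)
    (hnd : (polarBilin Q).Nondegenerate) (hnd₀ : (polarBilin Q₀).Nondegenerate)
    (hperf₀ : commutator ↥(Cfsg.Omega F₀ ⇑Q₀) = ⊤)
    (hcent₀ : ∀ Z : Matrix ι ι F₀,
      (∀ s : ↥(Cfsg.Omega F₀ ⇑Q₀), Z * omat (⇑Q₀) s = omat (⇑Q₀) s * Z) →
      ∃ c : F₀, Z = c • (1 : Matrix ι ι F₀))
    (k : ℕ) (hk : 1 ≤ k) (hcard : Fintype.card ι = 2 * k + 1)
    (hidx : (Cfsg.Omega F ⇑Q).index = 4) (hrep₀ : ∀ a : F₀, ∃ v : ι → F₀, Q₀ v = a)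
    (x : MulAut (Cfsg.POmega F Qf)) (hx : Cfsg.IsFieldAutClassPOmega Qf x) {r : ℕ}
    (hr : r.Prime) (hxr : orderOf x = r) (hF₀ : Fintype.card F₀ = p ^ (f / r)) :
    r ∣ f ∧
      Nonempty (↥(Cfsg.pgoAut F Qf ⊓ Subgroup.centralizer {x}) ≃* ↥(Cfsg.pgoAut F₀ Qf₀)) ∧
      (Odd r → Cfsg.splitClassCount (Cfsg.pgoAut F Qf) (Cfsg.Inn (Cfsg.POmega F Qf)) x = 1) ∧
      (r = 2 → Cfsg.splitClassCount (Cfsg.pgoAut F Qf) (Cfsg.Inn (Cfsg.POmega F Qf)) x = 2) := by
  subst hQ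
  subst hQ₀
  exact field_main_O hBall h2 hQA hperf hcent hp hF hf D ((gamma_eq_top_iff (⇑Q) hQA).1 hS)
    hnd hnd₀ hperf₀ hcent₀ k hk hcard hidx hrep₀ x hx hr hxr hF₀

end Main

/-! ### the standard odd-dimensional form -/

section StdOdd

variable {F : Type*} [Field F] {ι : Type} [Fintype ι] [DecidableEq ι]

theorem hrep_of_hyp (Q : QuadraticForm F (ι → F)) {k : ℕ} {e f : Fin k → (ι → F)}
    (h : IsHypFamily Q e f) (hk : 1 ≤ k) (a : F) : ∃ v : ι → F, Q v = a := by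
  refine ⟨e ⟨0, hk⟩ + a • f ⟨0, hk⟩, ?_⟩
  rw [QuadraticMap.map_add Q, QuadraticMap.map_smul, h.qe, h.qf, polar_smul_right, h.ef, if_pos rfl]
  simp

theorem isBC_stdOdd {F₀ : Type*} [Field F₀] (m : ℕ) (emb : F₀ →+* F) :
    IsBC emb ⇑(stdOdd F₀ m) ⇑(stdOdd F m) := by
  intro v
  rw [stdOdd_apply, stdOdd_apply]
  unfold Cfsg.quadFormOdd
  simp [mapV, map_add, map_pow, map_sum, map_mul]

end StdOdd

end Cfsg.Agent.Helper40.AutPOm
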