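import Mathlib
import Cfsg.Agent.Lib.Helper43.QuadWitt

/-!
# Even-dimensional quadratic forms over finite fields: basic notions

`IsHypForm` (plus type), `IsNonHypForm` (minus type), similarity of forms, totally singular
Lagrangians.  Any characteristic.
-/

set_option autoImplicit false

namespace Cfsg.Agent.Helper40.OrthEven

open QuadraticMap Matrix

section Forms

variable {K : Type*} [Field K] {ι : Type} [Fintype ι] [DecidableEq ι]

/-- `Q` is hyperbolic (plus type): a hyperbolic family of half the dimension -/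
def IsHypForm (Q : QuadraticForm K (ι → K)) : Prop :=
  ∃ (k : ℕ) (e f : Fin k → ι → K), Cfsg.Agent.Helper43.IsHypFamily Q e f ∧
    2 * k = Fintype.card ι

/-- `Q` is of minus type: a hyperbolic family of size `k` with `2 k + 2 = dim` whose orthogonal
complement is anisotropic -/
def IsNonHypForm (Q : QuadraticForm K (ι → K)) : Prop :=
  ∃ (k : ℕ) (e f : Fin k → ι → K), Cfsg.Agent.Helper43.IsHypFamily Q e f ∧
    2 * k + 2 = Fintype.card ι ∧
    ∀ v : ι → K, (∀ i, polar Q (e i) v = 0) → (∀ i, polar Q (f i) v = 0) → v ≠ 0 → Q v ≠ 0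

/-- `Q₁` and `Q₂` are similar: `Q₁ (P v) = c Q₂ v` for an invertible matrix `P` and `c ≠ 0` -/
def IsSimilarForm (Q₁ Q₂ : QuadraticForm K (ι → K)) : Prop :=
  ∃ (P P' : Matrix ι ι K) (c : Kˣ), P * P' = 1 ∧ P' * P = 1 ∧
    ∀ v : ι → K, Q₁ (P *ᵥ v) = (c : K) * Q₂ v

end Forms

section Lag

variable {K : Type*} [Field K] {V : Type*} [AddCommGroup V] [Module K V]

/-- a totally singular Lagrangian: `U^⊥ = U` for the polar form and `Q` vanishes on `U`
(in characteristic not two the second condition follows from the first) -/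
def IsTSLag (Q : QuadraticForm K V) (U : Submodule K V) : Prop :=
  LinearMap.BilinForm.orthogonal (polarBilin Q) U = U ∧ ∀ x ∈ U, Q x = 0

end Lag

end Cfsg.Agent.Helper40.OrthEven
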