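import Mathlib
import Cfsg.Agent.Lib.Helper40.AutPOmFieldCent
import Cfsg.Agent.Lib.Helper43.OrthCard
import Cfsg.Agent.Lib.Helper40.OrthEvenDefs

/-!
# Twisting a quadratic form by a similarity and a field automorphism (any characteristic)

`σ` a field automorphism of order `r` of the finite field `F`, `K = fixK σ`, `Q` a `σ`-stable
quadratic form on `ι → F`.  A similarity `g` of `Q` with `N_σ(g)` scalar is *twisted* into a form
`Q₀` over `K`: `(l g) σ(H) = H`, `Q (H v) = c Q₀ v` on `K`-rational vectors.  If the twisted forms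
of `g₁`, `g₂` are `K`-similar then `g₁ σ(P) = l P g₂` for a similarity `P` of `Q`.
-/

set_option autoImplicit false
set_option linter.unusedSectionVars false
set_option linter.unusedSimpArgs false
set_option linter.unusedVariables false

namespace Cfsg.Agent.Helper40.OrthEven

open Matrix QuadraticMap Cfsg.Agent.Helper5.OrthAut Cfsg.Agent.Helper40.H90
  Cfsg.Agent.Helper40.AutPSLNorm Cfsg.Agent.Helper40.FixK Cfsg.Agent.Helper40.LangO
  Cfsg.Agent.Helper40.AutPOm

variable {F : Type*} [Field F] {ι : Type} [Fintype ι] [DecidableEq ι]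

local notation "Mι" => Matrix ι ι F

/-! ### quadratic forms agreeing on rational vectors -/

theorem ext_rational {K : Type*} [Field K] (emb : K →+* F) (Q₁ Q₂ : QuadraticForm F (ι → F))
    (h : ∀ v : ι → K, Q₁ (mapV emb v) = Q₂ (mapV emb v)) : Q₁ = Q₂ := by
  have hsp : Submodule.span F (Set.range (fun i : ι => (Pi.single i (1 : F) : ι → F))) = ⊤ := by
    have := (Pi.basisFun F ι).span_eq
    rw [← this]
    congr 1
    ext v
    constructor
    · rintro ⟨i, rfl⟩
      exact ⟨i, by simp⟩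
    · rintro ⟨i, rfl⟩
      exact ⟨i, by simp⟩
  apply Cfsg.Agent.Helper43.quadraticForm_ext_of_span Q₁ Q₂ _ hsp
  · intro i
    have := h (Pi.single i 1)
    rw [mapV_single] at this
    exact this
  · intro i j
    unfold QuadraticMap.polar
    have h1 := h (Pi.single i 1)
    have h2 := h (Pi.single j 1)
    have h3 := h (Pi.single i 1 + Pi.single j 1)
    rw [mapV_add, mapV_single, mapV_single] at h3
    rw [mapV_single] at h1 h2
    rw [h1, h2, h3]

/-! ### descent of a `σ`-stable form to the fixed field -/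

section Descent

variable (σ : F ≃+* F)

theorem mapV_fixed (v : ι → ↥(fixK σ)) :
    (fun i => σ (mapV (fixK σ).subtype v i)) = mapV (fixK σ).subtype v := by
  funext i
  exact (v i).2

theorem mapV_smul' (a : ↥(fixK σ)) (v : ι → ↥(fixK σ)) :
    mapV (fixK σ).subtype (a • v) = (a : F) • mapV (fixK σ).subtype v := by
  funext i
  rfl

variable (Q₁ : QuadraticForm F (ι → F)) (hσ : ∀ v : ι → F, Q₁ (fun i => σ (v i)) = σ (Q₁ v))

/-- the value on a rational vector, as an element of the fixed field -/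
def descFun (v : ι → ↥(fixK σ)) : ↥(fixK σ) :=
  ⟨Q₁ (mapV (fixK σ).subtype v), by
    show σ (Q₁ (mapV (fixK σ).subtype v)) = Q₁ (mapV (fixK σ).subtype v)
    rw [← hσ, mapV_fixed]⟩

theorem descFun_coe (v : ι → ↥(fixK σ)) :
    ((descFun σ Q₁ hσ v : ↥(fixK σ)) : F) = Q₁ (mapV (fixK σ).subtype v) := rfl

theorem descFun_polar (u v : ι → ↥(fixK σ)) :
    ((polar (descFun σ Q₁ hσ) u v : ↥(fixK σ)) : F) =
      polar (⇑Q₁) (mapV (fixK σ).subtype u) (mapV (fixK σ).subtype v) := by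
  unfold QuadraticMap.polar
  rw [Subfield.coe_sub, Subfield.coe_sub, descFun_coe, descFun_coe, descFun_coe, mapV_add]

/-- the descended form over the fixed field -/
noncomputable def descend : QuadraticForm ↥(fixK σ) (ι → ↥(fixK σ)) :=
  QuadraticMap.ofPolar (descFun σ Q₁ hσ)
    (by
      intro a x
      apply Subtype.ext
      show Q₁ (mapV (fixK σ).subtype (a • x)) = ((a * a : ↥(fixK σ)) : F) * _
      rw [mapV_smul', QuadraticMap.map_smul, smul_eq_mul]
      rfl)
    (by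
      intro x x' y
      apply Subtype.ext
      rw [Subfield.coe_add, descFun_polar, descFun_polar, descFun_polar, mapV_add,
        QuadraticMap.polar_add_left])
    (by
      intro a x y
      apply Subtype.ext
      rw [smul_eq_mul, Subfield.coe_mul, descFun_polar, descFun_polar, mapV_smul',
        QuadraticMap.polar_smul_left, smul_eq_mul])

theorem descend_coe (v : ι → ↥(fixK σ)) :
    ((descend σ Q₁ hσ v : ↥(fixK σ)) : F) = Q₁ (mapV (fixK σ).subtype v) := rfl

theorem descend_isBC : IsBC (fixK σ).subtype ⇑(descend σ Q₁ hσ) ⇑Q₁ := by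
  intro v
  rfl

theorem descend_nondegenerate (hnd : (polarBilin Q₁).Nondegenerate) :
    (polarBilin (descend σ Q₁ hσ)).Nondegenerate := by
  rw [(Cfsg.Agent.Helper43.polarBilin_isRefl _).nondegenerate_iff_separatingLeft]
  intro u hu
  rw [(Cfsg.Agent.Helper43.polarBilin_isRefl _).nondegenerate_iff_separatingLeft] at hnd
  have h1 : mapV (fixK σ).subtype u = 0 := by
    apply hnd
    intro w
    have h2 : polarBilin Q₁ (mapV (fixK σ).subtype u) = 0 := by
      apply LinearMap.pi_ext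
      intro j x
      have h3 : (Pi.single j x : ι → F) = x • (Pi.single j 1 : ι → F) := by
        funext k
        by_cases hk : k = j
        · subst hk; simp
        · simp [Pi.single_eq_of_ne hk]
      rw [h3, map_smul, LinearMap.zero_apply]
      have h4 := hu (Pi.single j 1)
      rw [polarBilin_apply_apply] at h4
      have h5 := (descend_isBC σ Q₁ hσ).polar u (Pi.single j 1)
      rw [h4, mapV_single] at h5
      rw [polarBilin_apply_apply, h5]
      simp
    rw [h2]
    rfl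
  funext i
  have := congrFun h1 i
  apply Subtype.ext
  exact this

end Descent

/-! ### twist data -/

/-- `g` is twisted into the form `Q₀` over the fixed field of `σ` -/
def IsTwist (σ : F ≃+* F) (Q : QuadraticForm F (ι → F)) (g : Mι)
    (Q₀ : QuadraticForm ↥(fixK σ) (ι → ↥(fixK σ))) : Prop :=
  ∃ (H H' : Mι) (l c : Fˣ), H * H' = 1 ∧ H' * H = 1 ∧ ((l : F) • g) * smI σ H = H ∧
    ∀ v : ι → ↥(fixK σ), Q (H *ᵥ mapV (fixK σ).subtype v) = (c : F) * ((Q₀ v : ↥(fixK σ)) : F)

theorem isTwist_one (σ : F ≃+* F) (Q : QuadraticForm F (ι → F))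
    (hσ : ∀ v : ι → F, Q (fun i => σ (v i)) = σ (Q v)) :
    IsTwist σ Q (1 : Mι) (descend σ Q hσ) := by
  refine ⟨1, 1, 1, 1, Matrix.one_mul _, Matrix.one_mul _, ?_, ?_⟩
  · rw [Units.val_one, one_smul, Matrix.one_mul, smI_one]
  · intro v
    rw [Matrix.one_mulVec, Units.val_one, one_mul, descend_coe]

theorem smI_map_fixed (σ : F ≃+* F) (A : Matrix ι ι ↥(fixK σ)) :
    smI σ (A.map (fixK σ).subtype) = A.map (fixK σ).subtype := by
  ext i j
  exact (A i j).2

/-- **conjugacy from similar twisted forms** -/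
theorem twist_conj (σ : F ≃+* F) (Q : QuadraticForm F (ι → F)) (g₁ g₂ : Mι)
    (Q₁ Q₂ : QuadraticForm ↥(fixK σ) (ι → ↥(fixK σ)))
    (hT₁ : IsTwist σ Q g₁ Q₁) (hT₂ : IsTwist σ Q g₂ Q₂) (hsim : IsSimilarForm Q₁ Q₂) :
    ∃ (P P' : Mι) (μ l : Fˣ), P * P' = 1 ∧ P' * P = 1 ∧ (∀ w : ι → F, Q (P *ᵥ w) = (μ : F) * Q w) ∧
      g₁ * smI σ P = (l : F) • (P * g₂) := by
  obtain ⟨H₁, H₁', l₁, c₁, h11, h12, h13, h14⟩ := hT₁
  obtain ⟨H₂, H₂', l₂, c₂, h21, h22, h23, h24⟩ := hT₂
  obtain ⟨P₀, P₀', c₀, hP1, hP2, hP3⟩ := hsim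
  set E : Mι := P₀.map (fixK σ).subtype with hE
  set E' : Mι := P₀'.map (fixK σ).subtype with hE'
  have hEE' : E * E' = 1 := by
    rw [hE, hE', ← Matrix.map_mul, hP1]
    exact Matrix.map_one _ (map_zero _) (map_one _)
  have hE'E : E' * E = 1 := by
    rw [hE, hE', ← Matrix.map_mul, hP2]
    exact Matrix.map_one _ (map_zero _) (map_one _)
  have hc₀ : ((c₀ : ↥(fixK σ)) : F) ≠ 0 := by
    intro h0
    exact c₀.ne_zero (Subtype.ext h0)
  let μ : Fˣ := c₁ * Units.mk0 ((c₀ : ↥(fixK σ)) : F) hc₀ * c₂⁻¹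
  -- the key identity of forms
  have hform : Q.comp (Matrix.toLin' (H₁ * E)) = (μ : F) • Q.comp (Matrix.toLin' H₂) := by
    apply ext_rational (fixK σ).subtype
    intro v
    rw [QuadraticMap.comp_apply, _root_.smul_apply, QuadraticMap.comp_apply,
      Matrix.toLin'_apply, Matrix.toLin'_apply, ← Matrix.mulVec_mulVec, hE, ← mapV_mulVec,
      h14, h24, hP3, smul_eq_mul, Subfield.coe_mul]
    show _ = ((c₁ : F) * ((c₀ : ↥(fixK σ)) : F) * ((c₂⁻¹ : Fˣ) : F)) * _
    have : ((c₂⁻¹ : Fˣ) : F) * (c₂ : F) = 1 := by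
      rw [← Units.val_mul, inv_mul_cancel, Units.val_one]
    linear_combination (-(c₁ : F) * ((c₀ : ↥(fixK σ)) : F) * ((Q₂ v : ↥(fixK σ)) : F)) * this
  refine ⟨H₁ * E * H₂', H₂ * E' * H₁', μ, l₁⁻¹ * l₂, ?_, ?_, ?_, ?_⟩
  · calc H₁ * E * H₂' * (H₂ * E' * H₁') = H₁ * (E * ((H₂' * H₂) * E')) * H₁' := by
          simp only [Matrix.mul_assoc]
      _ = 1 := by rw [h22, Matrix.one_mul, hEE', Matrix.mul_one, h11]
  · calc H₂ * E' * H₁' * (H₁ * E * H₂') = H₂ * (E' * ((H₁' * H₁) * E)) * H₂' := by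
          simp only [Matrix.mul_assoc]
      _ = 1 := by rw [h12, Matrix.one_mul, hE'E, Matrix.mul_one, h21]
  · intro w
    have h1 := congrArg (fun q : QuadraticForm F (ι → F) => q (H₂' *ᵥ w)) hform
    simp only [QuadraticMap.comp_apply, _root_.smul_apply, Matrix.toLin'_apply] at h1
    rw [Matrix.mulVec_mulVec, Matrix.mulVec_mulVec, h21, Matrix.one_mulVec, smul_eq_mul] at h1
    exact h1
  · -- `g₁ σ(P) = (l₂ / l₁) P g₂`
    have hσE : smI σ E = E := smI_map_fixed σ P₀
    have hσH₂' : smI σ H₂' = H₂' * ((l₂ : F) • g₂) := by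
      have h3 : smI σ H₂ * smI σ H₂' = 1 := by rw [← smI_mul, h21, smI_one]
      calc smI σ H₂' = (H₂' * H₂) * smI σ H₂' := by rw [h22, Matrix.one_mul]
        _ = H₂' * ((((l₂ : F) • g₂) * smI σ H₂) * smI σ H₂') := by
            rw [h23, Matrix.mul_assoc]
        _ = H₂' * ((l₂ : F) • g₂) := by rw [Matrix.mul_assoc, h3, Matrix.mul_one]
    have hg₁ : g₁ * smI σ H₁ = ((l₁⁻¹ : Fˣ) : F) • H₁ := by
      have h4 : ((l₁⁻¹ : Fˣ) : F) • (((l₁ : F) • g₁) * smI σ H₁) = ((l₁⁻¹ : Fˣ) : F) • H₁ := by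
        rw [h13]
      rw [Matrix.smul_mul, smul_smul, ← Units.val_mul, inv_mul_cancel, Units.val_one, one_smul]
        at h4
      exact h4
    rw [smI_mul, smI_mul, hσE, hσH₂']
    calc g₁ * (smI σ H₁ * E * (H₂' * ((l₂ : F) • g₂)))
        = (g₁ * smI σ H₁) * (E * (H₂' * ((l₂ : F) • g₂))) := by
          simp only [Matrix.mul_assoc]
      _ = (((l₁⁻¹ : Fˣ) : F) • H₁) * (E * (H₂' * ((l₂ : F) • g₂))) := by rw [hg₁]
      _ = ((l₁⁻¹ * l₂ : Fˣ) : F) • (H₁ * E * H₂' * g₂) := by
          rw [Matrix.mul_smul, Matrix.mul_smul, Matrix.mul_smul, Matrix.smul_mul, smul_smul,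
            Units.val_mul, mul_comm ((l₁⁻¹ : Fˣ) : F)]
          simp only [Matrix.mul_assoc]

end Cfsg.Agent.Helper40.OrthEven
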