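import Mathlib
import Cfsg.Agent.Lib.Helper40.OrthEvenTwist

/-!
# Existence of twist data (Hilbert 90), any characteristic
-/

set_option autoImplicit false
set_option linter.unusedSectionVars false
set_option linter.unusedSimpArgs false
set_option linter.unusedVariables false

namespace Cfsg.Agent.Helper40.OrthEven

open Matrix QuadraticMap Cfsg.Agent.Helper5.OrthAut Cfsg.Agent.Helper40.H90
  Cfsg.Agent.Helper40.AutPSLNorm Cfsg.Agent.Helper40.FixK Cfsg.Agent.Helper40.LangO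
  Cfsg.Agent.Helper40.AutPOm

variable {F : Type*} [Field F] {ι : Type} [Fintype ι] [DecidableEq ι]

local notation "Mι" => Matrix ι ι F

/-- the multiplier of the partial norms of a `σ`-semisimilarity -/
theorem Q_nrmI (Q : QuadraticForm F (ι → F)) (σ : F ≃+* F)
    (hσQ : ∀ v : ι → F, Q (fun i => σ (v i)) = σ (Q v)) (G : Mι) (μ : Fˣ)
    (hG : ∀ v : ι → F, Q (G *ᵥ v) = (μ : F) * Q v) (k : ℕ) (v : ι → F) :
    Q (nrmI σ G k *ᵥ v) = ((nrmU σ μ k : Fˣ) : F) * Q v := by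
  induction k generalizing v with
  | zero =>
    show Q ((1 : Mι) *ᵥ v) = ((1 : Fˣ) : F) * Q v
    rw [Matrix.one_mulVec, Units.val_one, one_mul]
  | succ k ih =>
    show Q ((G * smI σ (nrmI σ G k)) *ᵥ v) =
      ((μ * Units.map (σ : F →* F) (nrmU σ μ k) : Fˣ) : F) * Q v
    rw [← Matrix.mulVec_mulVec, hG]
    have hv : v = fun i => σ (σ.symm (v i)) := by
      funext i
      exact (σ.apply_symm_apply (v i)).symm
    have h1 : smI σ (nrmI σ G k) *ᵥ v =
        fun i => σ ((nrmI σ G k *ᵥ (fun j => σ.symm (v j))) i) := by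
      conv_lhs => rw [hv]
      exact map_mulVec_sigma σ (nrmI σ G k) (fun j => σ.symm (v j))
    rw [h1, hσQ, ih, map_mul, ← hσQ, ← hv, Units.val_mul, mul_assoc]
    rfl

theorem exists_twist [Finite F] (Q : QuadraticForm F (ι → F))
    (hnd : (polarBilin Q).Nondegenerate) (hQ0 : ∃ v : ι → F, Q v ≠ 0)
    (σ : F ≃+* F) (hσQ : ∀ v : ι → F, Q (fun i => σ (v i)) = σ (Q v)) {r : ℕ} (hr : 0 < r)
    (hσ : orderOf σ = r) (g : ↥(GO Q)) (c : Fˣ)
    (hN : nrmI σ ((g.1 : GL ι F) : Mι) r = (c : F) • 1) :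
    ∃ Q₀ : QuadraticForm ↥(fixK σ) (ι → ↥(fixK σ)), (polarBilin Q₀).Nondegenerate ∧
      IsTwist σ Q ((g.1 : GL ι F) : Mι) Q₀ := by
  obtain ⟨v0, hv0⟩ := hQ0
  have hne : Nonempty ι := by
    by_contra hcon
    rw [not_nonempty_iff] at hcon
    apply hv0
    have : v0 = 0 := Subsingleton.elim _ _
    rw [this, map_zero]
  obtain ⟨i0⟩ := hne
  have hσr : σ ^ r = 1 := by rw [← hσ]; exact pow_orderOf_eq_one σ
  set gM : Mι := ((g.1 : GL ι F) : Mι) with hgM
  have hgg' : gM * (((g.1)⁻¹ : GL ι F) : Mι) = 1 := by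
    rw [hgM, ← Units.val_mul, mul_inv_cancel, Units.val_one]
  -- `c` is fixed by `σ`
  have hcfix : Units.map (σ : F →* F) c = c := by
    have h2' : nrmI σ gM (r + 1) = gM * smI σ (nrmI σ gM r) := rfl
    have h3 := nrmI_succ' σ gM r
    rw [hσr] at h3
    have h4 : smI (1 : F ≃+* F) gM = gM := rfl
    rw [h4, h2', hN, smI_smul_one, Matrix.mul_smul, Matrix.mul_one, Matrix.smul_mul,
      Matrix.one_mul] at h3
    have h6 : (σ (c : F) - (c : F)) • gM = 0 := by rw [sub_smul, h3, sub_self]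
    have h7 : (σ (c : F) - (c : F)) • (gM * (((g.1)⁻¹ : GL ι F) : Mι)) = 0 := by
      rw [← Matrix.smul_mul, h6, Matrix.zero_mul]
    rw [hgg'] at h7
    have h8 := congrFun (congrFun h7 i0) i0
    rw [Matrix.smul_apply, Matrix.one_apply_eq, smul_eq_mul, mul_one, Matrix.zero_apply] at h8
    apply Units.ext
    exact sub_eq_zero.1 h8
  have hcfix' : Units.map (σ : F →* F) c⁻¹ = c⁻¹ := by rw [map_inv, hcfix]
  obtain ⟨l, hl⟩ := nrm_surj σ hr hσ c⁻¹ hcfix'
  set G : Mι := (l : F) • gM with hGdef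
  have hNG : nrmI σ G r = 1 := by
    rw [hGdef, nrmI_smul, hl, hN, smul_smul, ← Units.val_mul, inv_mul_cancel, Units.val_one,
      one_smul]
  -- the multiplier of `G`
  set μ : Fˣ := l * l * mult Q g with hμ
  have hG : ∀ v : ι → F, Q (G *ᵥ v) = (μ : F) * Q v := by
    intro v
    rw [hGdef, Matrix.smul_mulVec, QuadraticMap.map_smul, smul_eq_mul]
    have := mult_spec Q g v
    rw [show gmat Q g = gM from rfl] at this
    rw [this, hμ, Units.val_mul, Units.val_mul]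
    ring
  have hNμ : nrmU σ μ r = 1 := by
    have h1 := Q_nrmI Q σ hσQ G μ hG r v0
    rw [hNG, Matrix.one_mulVec] at h1
    apply Units.ext
    rw [Units.val_one]
    have h2 : (1 : F) * Q v0 = ((nrmU σ μ r : Fˣ) : F) * Q v0 := by rw [one_mul]; exact h1
    exact (mul_right_cancel₀ hv0 h2).symm
  obtain ⟨ν, hν⟩ := h90_units σ hr hσ μ hNμ
  obtain ⟨H, H', hH1, hH2, hH3⟩ := hilbert90_I σ G hr hσ hNG
  -- the twisted form over `F`
  set Q₂ : QuadraticForm F (ι → F) := ((ν⁻¹ : Fˣ) : F) • Q.comp (Matrix.toLin' H) with hQ₂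
  have hQ₂a : ∀ v : ι → F, Q₂ v = ((ν⁻¹ : Fˣ) : F) * Q (H *ᵥ v) := by
    intro v
    rw [hQ₂, _root_.smul_apply, QuadraticMap.comp_apply, Matrix.toLin'_apply, smul_eq_mul]
  have hσν : (μ : F) * σ (ν : F) = (ν : F) := by
    rw [hν, Units.val_mul]
    have h6 : ((Units.map (σ : F →* F) ν : Fˣ) : F) = σ (ν : F) := rfl
    rw [← h6, mul_assoc, ← Units.val_mul, inv_mul_cancel, Units.val_one, mul_one]
  have hσν0 : σ (ν : F) ≠ 0 := by
    rw [Ne, map_eq_zero_iff σ σ.injective]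
    exact ν.ne_zero
  have hQ₂σ : ∀ v : ι → F, Q₂ (fun i => σ (v i)) = σ (Q₂ v) := by
    intro v
    rw [hQ₂a, hQ₂a, map_mul]
    have h1 : H *ᵥ (fun i => σ (v i)) = G *ᵥ (fun i => σ ((H *ᵥ v) i)) := by
      conv_lhs => rw [← hH3]
      rw [← Matrix.mulVec_mulVec]
      congr 1
      exact map_mulVec_sigma σ H v
    rw [h1, hG, hσQ, Units.val_inv_eq_inv_val, map_inv₀]
    have hν0 : (ν : F) ≠ 0 := ν.ne_zero
    field_simp
    linear_combination (σ (Q (H *ᵥ v))) * hσν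
  have hQ₂nd : (polarBilin Q₂).Nondegenerate := by
    rw [(Cfsg.Agent.Helper43.polarBilin_isRefl _).nondegenerate_iff_separatingLeft]
    rw [(Cfsg.Agent.Helper43.polarBilin_isRefl _).nondegenerate_iff_separatingLeft] at hnd
    intro u hu
    have h1 : H *ᵥ u = 0 := by
      apply hnd
      intro w
      have h2 := hu (H' *ᵥ w)
      rw [polarBilin_apply_apply] at h2 ⊢
      unfold QuadraticMap.polar at h2 ⊢
      rw [hQ₂a, hQ₂a, hQ₂a, Matrix.mulVec_add, Matrix.mulVec_mulVec, hH1, Matrix.one_mulVec,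
        ← mul_sub, ← mul_sub] at h2
      rcases mul_eq_zero.1 h2 with h3 | h3
      · exact absurd h3 (ν⁻¹).ne_zero
      · exact h3
    have h4 : H' *ᵥ (H *ᵥ u) = u := by
      rw [Matrix.mulVec_mulVec, hH2, Matrix.one_mulVec]
    rw [← h4, h1, Matrix.mulVec_zero]
  refine ⟨descend σ Q₂ hQ₂σ, descend_nondegenerate σ Q₂ hQ₂σ hQ₂nd, H, H', l, ν, hH1, hH2, hH3, ?_⟩
  intro v
  rw [descend_coe, hQ₂a, ← mul_assoc, ← Units.val_mul, mul_inv_cancel, Units.val_one, one_mul]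

end Cfsg.Agent.Helper40.OrthEven
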