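import Mathlib
import Cfsg.Agent.Lib.Helper40.OrthEvenTwistEx
import Cfsg.Agent.Lib.Helper5.OrthAut6
import Cfsg.Agent.Lib.Helper40.OEV.C1
import Cfsg.Agent.Lib.Helper40.OEV.C2
import Cfsg.Agent.Lib.Helper40.OEV.C3
import Cfsg.Agent.Lib.Helper40.OEV.C4

/-!
# `PΩ(Q)`, `Q` hyperbolic of even dimension, any characteristic: elements of order `r` in the cosets
`Inndiag · φ_σ` and `Inndiag · γ φ_σ` are `Inndiag`-conjugate to `φ_σ`, `γ φ_σ`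
-/

set_option autoImplicit false
set_option linter.unusedSectionVars false
set_option linter.unusedSimpArgs false
set_option linter.unusedVariables false

namespace Cfsg.Agent.Helper40.OrthEven

open Matrix QuadraticMap Cfsg.Agent.Helper5.OrthAut Cfsg.Agent.Helper40.H90
  Cfsg.Agent.Helper40.AutPSLNorm Cfsg.Agent.Helper40.FixK Cfsg.Agent.Helper40.LangO
  Cfsg.Agent.Helper40.AutPOm

variable {F : Type*} [Field F] {ι : Type} [Fintype ι] [DecidableEq ι]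

local notation "Mι" => Matrix ι ι F

/-- the class character of the similarity group of a hyperbolic form -/
structure ClassChar (Q : QuadraticForm F (ι → F)) where
  χ : ↥(GO Q) →* ℤˣ
  pres : ∀ g : ↥(GO Q), χ g = 1 ↔
    Cfsg.PreservesSingularClasses (⇑Q) ((g : GL ι F) : Matrix ι ι F)
  refl : ∀ (w : ι → F) (r : ↥(GO Q)), Q w ≠ 0 →
    ((r : GL ι F) : Matrix ι ι F) = Cfsg.reflectionMatrix (⇑Q) w → χ r = -1
  sig : ∀ σ : F ≃+* F, (∀ v : ι → F, Q (fun i => σ (v i)) = σ (Q v)) →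
    ∀ g h : ↥(GO Q), ((h : GL ι F) : Matrix ι ι F) = ((g : GL ι F) : Matrix ι ι F).map σ →
      χ h = χ g

section Char

variable {Q : QuadraticForm F (ι → F)} (C : ClassChar Q)

theorem ClassChar.scalar (c : Fˣ) : C.χ (scGO Q c) = 1 := by
  rw [C.pres, scGO_coe]
  intro U hU
  have h1 : Cfsg.imageSubmodule ((c : F) • (1 : Mι)) U = U := by
    unfold Cfsg.imageSubmodule
    have h2 : Matrix.toLin' ((c : F) • (1 : Mι)) = (c : F) • LinearMap.id := by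
      rw [map_smul, Matrix.toLin'_one]
    rw [h2]
    exact Submodule.map_smul _ U (c : F) c.ne_zero |>.trans (Submodule.map_id U)
  unfold Cfsg.SameParityClass
  rw [h1, inf_idem, Nat.sub_self]
  exact Even.zero

theorem ClassChar.sigma (hQA : ∀ σ : F ≃+* F, σ ∈ QAut (⇑Q)) (σ : F ≃+* F) (g : ↥(GO Q)) :
    C.χ (sigmaGO (⇑Q) (toQAut (⇑Q) hQA σ) g) = C.χ g :=
  C.sig σ (hQA σ) g _ rfl

theorem ClassChar.eq_one_or (g : ↥(GO Q)) : C.χ g = 1 ∨ C.χ g = -1 := Int.units_eq_one_or _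

end Char

section Main

variable (Q : QuadraticForm F (ι → F)) (hQA : ∀ σ : F ≃+* F, σ ∈ QAut (⇑Q))
  (hperf : commutator ↥(Cfsg.Omega F ⇑Q) = ⊤)
  (hcent : ∀ Z : Matrix ι ι F, (∀ s : ↥(Cfsg.Omega F ⇑Q), Z * omat (⇑Q) s = omat (⇑Q) s * Z) →
      ∃ c : F, Z = c • (1 : Matrix ι ι F))
  (C : ClassChar Q)

/-- an element of `GO` from a matrix similarity -/
noncomputable def mkGO' (P P' : Mι) (h1 : P * P' = 1) (h2 : P' * P = 1) (μ : Fˣ)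
    (hμ : ∀ w : ι → F, Q (P *ᵥ w) = (μ : F) * Q w) : ↥(GO Q) :=
  ⟨⟨P, P', h1, h2⟩, ⟨μ, hμ⟩⟩

theorem mkGO'_coe (P P' : Mι) (h1 : P * P' = 1) (h2 : P' * P = 1) (μ : Fˣ)
    (hμ : ∀ w : ι → F, Q (P *ᵥ w) = (μ : F) * Q w) :
    (((mkGO' Q P P' h1 h2 μ hμ : ↥(GO Q)) : GL ι F) : Mι) = P := rfl

include hperf hcent in
/-- from the matrix identity `g₁ σ(P) = l P g₂` to conjugacy in `Aut(PΩ)` -/
theorem conj_of_matrix (σ : F ≃+* F) (g₁ g₂ P : ↥(GO Q)) (l : Fˣ)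
    (h : ((g₁.1 : GL ι F) : Mι) * smI σ ((P.1 : GL ι F) : Mι) =
      (l : F) • (((P.1 : GL ι F) : Mι) * ((g₂.1 : GL ι F) : Mι))) :
    PhiGO (⇑Q) g₁ * fieldAutStd (⇑Q) hQA σ =
      PhiGO (⇑Q) P * (PhiGO (⇑Q) g₂ * fieldAutStd (⇑Q) hQA σ) * (PhiGO (⇑Q) P)⁻¹ ∧
    C.χ g₁ = C.χ g₂ := by
  have h1 : g₁ * sigmaGO (⇑Q) (toQAut (⇑Q) hQA σ) P = scGO Q l * P * g₂ := by
    apply Subtype.ext
    apply Units.ext
    show ((g₁.1 : GL ι F) : Mι) * smI σ ((P.1 : GL ι F) : Mι) =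
      (((scGO Q l : ↥(GO Q)) : GL ι F) : Mι) * ((P.1 : GL ι F) : Mι) * ((g₂.1 : GL ι F) : Mι)
    rw [scGO_coe, h, Matrix.smul_mul, Matrix.one_mul, Matrix.smul_mul]
  constructor
  · have h2 := congrArg (PhiGO (⇑Q)) h1
    rw [map_mul, map_mul, map_mul, PhiGO_scGO Q hperf hcent, one_mul] at h2
    have h11 : fieldAutStd (⇑Q) hQA σ * (PhiGO (⇑Q) P)⁻¹ =
        (PhiGO (⇑Q) (sigmaGO (⇑Q) (toQAut (⇑Q) hQA σ) P))⁻¹ * fieldAutStd (⇑Q) hQA σ := by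
      rw [eq_inv_mul_iff_mul_eq, ← mul_assoc, ← fieldAutStd_mul_PhiGO, mul_assoc, mul_inv_cancel,
        mul_one]
    have h3 : PhiGO (⇑Q) g₁ = PhiGO (⇑Q) P * PhiGO (⇑Q) g₂ *
        (PhiGO (⇑Q) (sigmaGO (⇑Q) (toQAut (⇑Q) hQA σ) P))⁻¹ := by
      rw [← h2]
      group
    rw [h3]
    calc PhiGO (⇑Q) P * PhiGO (⇑Q) g₂ *
          (PhiGO (⇑Q) (sigmaGO (⇑Q) (toQAut (⇑Q) hQA σ) P))⁻¹ * fieldAutStd (⇑Q) hQA σ
        = PhiGO (⇑Q) P * PhiGO (⇑Q) g₂ *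
          ((PhiGO (⇑Q) (sigmaGO (⇑Q) (toQAut (⇑Q) hQA σ) P))⁻¹ * fieldAutStd (⇑Q) hQA σ) := by
          simp only [mul_assoc]
      _ = PhiGO (⇑Q) P * PhiGO (⇑Q) g₂ * (fieldAutStd (⇑Q) hQA σ * (PhiGO (⇑Q) P)⁻¹) := by
          rw [h11]
      _ = _ := by simp only [mul_assoc]
  · have h2 := congrArg C.χ h1
    rw [map_mul, map_mul, map_mul, C.sigma hQA, C.scalar, one_mul] at h2
    have h3 : C.χ P * C.χ g₁ = C.χ P * C.χ g₂ := by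
      rw [mul_comm, h2]
    exact mul_left_cancel h3

include hperf hcent in
/-- **conjugacy from similar twisted forms**, in `Aut(PΩ)` -/
theorem conj_of_similar (σ : F ≃+* F) (g₁ g₂ : ↥(GO Q))
    (Q₁ Q₂ : QuadraticForm ↥(fixK σ) (ι → ↥(fixK σ)))
    (hT₁ : IsTwist σ Q ((g₁.1 : GL ι F) : Mι) Q₁) (hT₂ : IsTwist σ Q ((g₂.1 : GL ι F) : Mι) Q₂)
    (hsim : IsSimilarForm Q₁ Q₂) :
    ∃ P : ↥(GO Q), PhiGO (⇑Q) g₁ * fieldAutStd (⇑Q) hQA σ =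
      PhiGO (⇑Q) P * (PhiGO (⇑Q) g₂ * fieldAutStd (⇑Q) hQA σ) * (PhiGO (⇑Q) P)⁻¹ ∧
      C.χ g₁ = C.χ g₂ := by
  obtain ⟨P, P', μ, l, hP1, hP2, hPμ, hPg⟩ := twist_conj σ Q _ _ Q₁ Q₂ hT₁ hT₂ hsim
  exact ⟨mkGO' Q P P' hP1 hP2 μ hPμ,
    conj_of_matrix Q hQA hperf hcent C σ g₁ g₂ (mkGO' Q P P' hP1 hP2 μ hPμ) l hPg⟩

/-- adjusting the conjugating element into the class-preserving subgroup -/
theorem fixup (σ : F ≃+* F) (R g₂ : ↥(GO Q))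
    (hRσ : sigmaGO (⇑Q) (toQAut (⇑Q) hQA σ) R = R) (hχR : C.χ R = -1)
    (hcomm : R * g₂ = g₂ * R) (P : ↥(GO Q)) (x : MulAut (Cfsg.POmega F ⇑Q))
    (hx : x = PhiGO (⇑Q) P * (PhiGO (⇑Q) g₂ * fieldAutStd (⇑Q) hQA σ) * (PhiGO (⇑Q) P)⁻¹) :
    ∃ P' : ↥(GO Q), C.χ P' = 1 ∧
      x = PhiGO (⇑Q) P' * (PhiGO (⇑Q) g₂ * fieldAutStd (⇑Q) hQA σ) * (PhiGO (⇑Q) P')⁻¹ := by
  rcases C.eq_one_or P with h1 | h1
  · exact ⟨P, h1, hx⟩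
  · refine ⟨P * R, by rw [map_mul, h1, hχR]; rfl, ?_⟩
    have h2 : fieldAutStd (⇑Q) hQA σ * PhiGO (⇑Q) R = PhiGO (⇑Q) R * fieldAutStd (⇑Q) hQA σ := by
      rw [fieldAutStd_mul_PhiGO, hRσ]
    have h3 : PhiGO (⇑Q) R * PhiGO (⇑Q) g₂ = PhiGO (⇑Q) g₂ * PhiGO (⇑Q) R := by
      rw [← map_mul, ← map_mul, hcomm]
    have h4 : PhiGO (⇑Q) R * (PhiGO (⇑Q) g₂ * fieldAutStd (⇑Q) hQA σ) * (PhiGO (⇑Q) R)⁻¹ =
        PhiGO (⇑Q) g₂ * fieldAutStd (⇑Q) hQA σ := by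
      rw [← mul_assoc, h3, mul_assoc (PhiGO (⇑Q) g₂), ← h2, mul_assoc, mul_assoc, mul_inv_cancel,
        mul_one]
    rw [hx, map_mul, _root_.mul_inv_rev]
    calc PhiGO (⇑Q) P * (PhiGO (⇑Q) g₂ * fieldAutStd (⇑Q) hQA σ) * (PhiGO (⇑Q) P)⁻¹
        = PhiGO (⇑Q) P * (PhiGO (⇑Q) R * (PhiGO (⇑Q) g₂ * fieldAutStd (⇑Q) hQA σ) *
            (PhiGO (⇑Q) R)⁻¹) * (PhiGO (⇑Q) P)⁻¹ := by rw [h4]
      _ = _ := by simp only [mul_assoc]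

end Main

end Cfsg.Agent.Helper40.OrthEven
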