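import Mathlib
import Cfsg.Agent.Lib.Helper40.OrthEvenMain

/-!
# The coset theorems for a hyperbolic form with a rational hyperbolic basis (any characteristic)
-/

set_option autoImplicit false
set_option linter.unusedSectionVars false
set_option linter.unusedSimpArgs false
set_option linter.unusedVariables false

namespace Cfsg.Agent.Helper40.OrthEven

open Matrix QuadraticMap Cfsg.Agent.Helper5.OrthAut Cfsg.Agent.Helper40.H90
  Cfsg.Agent.Helper40.AutPSLNorm Cfsg.Agent.Helper40.FixK Cfsg.Agent.Helper40.LangO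
  Cfsg.Agent.Helper40.AutPOm Cfsg.Agent.Helper43

variable {F : Type*} [Field F] {ι : Type} [Fintype ι] [DecidableEq ι]

local notation "Mι" => Matrix ι ι F

/-! ### scaled pull-backs of a form -/

section Pull

variable (Q : QuadraticForm F (ι → F)) (H H' : Matrix ι ι F) (a : F)

theorem pull_apply (v : ι → F) : (a • Q.comp (Matrix.toLin' H)) v = a * Q (H *ᵥ v) := by
  rw [_root_.smul_apply, QuadraticMap.comp_apply, Matrix.toLin'_apply, smul_eq_mul]

theorem pull_polar (u v : ι → F) :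
    polar (⇑(a • Q.comp (Matrix.toLin' H))) u v = a * polar (⇑Q) (H *ᵥ u) (H *ᵥ v) := by
  unfold QuadraticMap.polar
  rw [pull_apply, pull_apply, pull_apply, Matrix.mulVec_add]
  ring

theorem pull_nondegenerate (hnd : (polarBilin Q).Nondegenerate) (hH1 : H * H' = 1)
    (hH2 : H' * H = 1) (ha : a ≠ 0) :
    (polarBilin (a • Q.comp (Matrix.toLin' H))).Nondegenerate := by
  rw [(polarBilin_isRefl _).nondegenerate_iff_separatingLeft]
  rw [(polarBilin_isRefl _).nondegenerate_iff_separatingLeft] at hnd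
  intro u hu
  have h1 : H *ᵥ u = 0 := by
    apply hnd
    intro w
    have h2 := hu (H' *ᵥ w)
    rw [polarBilin_apply_apply, pull_polar, Matrix.mulVec_mulVec, hH1, Matrix.one_mulVec] at h2
    rw [polarBilin_apply_apply]
    rcases mul_eq_zero.1 h2 with h3 | h3
    · exact absurd h3 ha
    · exact h3
  have h4 : H' *ᵥ (H *ᵥ u) = u := by
    rw [Matrix.mulVec_mulVec, hH2, Matrix.one_mulVec]
  rw [← h4, h1, Matrix.mulVec_zero]

theorem pull_isHypForm (hH1 : H * H' = 1) (ha : a ≠ 0) (hhyp : IsHypForm Q) :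
    IsHypForm (a • Q.comp (Matrix.toLin' H)) := by
  obtain ⟨k, e, f, hfam, hk⟩ := hhyp
  have hHH : ∀ x : ι → F, H *ᵥ (H' *ᵥ x) = x := by
    intro x
    rw [Matrix.mulVec_mulVec, hH1, Matrix.one_mulVec]
  refine ⟨k, fun i => H' *ᵥ e i, fun i => a⁻¹ • (H' *ᵥ f i), ⟨?_, ?_, ?_, ?_, ?_⟩, hk⟩
  · intro i
    rw [pull_apply, hHH, hfam.qe, mul_zero]
  · intro i
    rw [pull_apply, Matrix.mulVec_smul, hHH, QuadraticMap.map_smul, hfam.qf, smul_zero, mul_zero]
  · intro i j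
    rw [pull_polar, Matrix.mulVec_smul, hHH, hHH, polar_smul_right, hfam.ef, smul_eq_mul,
      ← mul_assoc, mul_inv_cancel₀ ha, one_mul]
  · intro i j
    rw [pull_polar, hHH, hHH, hfam.ee, mul_zero]
  · intro i j
    rw [pull_polar, Matrix.mulVec_smul, Matrix.mulVec_smul, hHH, hHH, polar_smul_right,
      polar_smul_left, hfam.ff, smul_zero, smul_zero, mul_zero]

end Pull

/-! ### no minus-type twists in odd degree -/

theorem no_nonhyp_twist_odd [Finite F] (Q : QuadraticForm F (ι → F))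
    (hnd : (polarBilin Q).Nondegenerate) (hhyp : IsHypForm Q) (σ : F ≃+* F)
    (hodd : Odd (orderOf σ)) (g : Mι) (Q₁ : QuadraticForm ↥(fixK σ) (ι → ↥(fixK σ)))
    (hQ₁nd : (polarBilin Q₁).Nondegenerate) (hT : IsTwist σ Q g Q₁) (hn : IsNonHypForm Q₁) :
    False := by
  obtain ⟨H, H', l, c, hH1, hH2, hH3, hH4⟩ := hT
  have hc0 : ((c⁻¹ : Fˣ) : F) ≠ 0 := (c⁻¹).ne_zero
  set Q₂ : QuadraticForm F (ι → F) := ((c⁻¹ : Fˣ) : F) • Q.comp (Matrix.toLin' H) with hQ₂
  have hB : ∀ v : ι → ↥(fixK σ), Q₂ (fun i => algebraMap ↥(fixK σ) F (v i)) =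
      algebraMap ↥(fixK σ) F (Q₁ v) := by
    intro v
    have h1 : (fun i => algebraMap ↥(fixK σ) F (v i)) = mapV (fixK σ).subtype v := rfl
    rw [h1, hQ₂, pull_apply, hH4, ← mul_assoc, ← Units.val_mul, inv_mul_cancel, Units.val_one,
      one_mul]
    rfl
  have hodd' : Odd (Module.finrank ↥(fixK σ) F) := by
    rw [finrank_fixK]
    exact hodd
  have h1 := Cfsg.Agent.Helper40.OEV.C4.nonhyp_bc_odd hodd' Q₁ Q₂ hB hQ₁nd hn
  have h2 : IsHypForm Q₂ := pull_isHypForm Q H H' _ hH1 hc0 hhyp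
  have h3 : (polarBilin Q₂).Nondegenerate := pull_nondegenerate Q H H' _ hnd hH1 hH2 hc0
  exact Cfsg.Agent.Helper40.OEV.C3.not_hyp_of_nonhyp Q₂ h3 h1 h2

/-! ### rational hyperbolic bases -/

/-- a hyperbolic basis fixed by all field automorphisms -/
def RatHyp (Q : QuadraticForm F (ι → F)) : Prop :=
  ∃ (k : ℕ) (e f : Fin k → ι → F), IsHypFamily Q e f ∧ 2 * k = Fintype.card ι ∧ 0 < k ∧
    ∀ (τ : F ≃+* F) (i : Fin k) (j : ι), τ (e i j) = e i j ∧ τ (f i j) = f i j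

theorem RatHyp.isHypForm {Q : QuadraticForm F (ι → F)} (h : RatHyp Q) : IsHypForm Q := by
  obtain ⟨k, e, f, hfam, hk, -, -⟩ := h
  exact ⟨k, e, f, hfam, hk⟩

theorem RatHyp.even {Q : QuadraticForm F (ι → F)} (h : RatHyp Q) : Even (Fintype.card ι) := by
  obtain ⟨k, e, f, hfam, hk, -, -⟩ := h
  exact ⟨k, by omega⟩

theorem RatHyp.descend_isHypForm {Q : QuadraticForm F (ι → F)} (h : RatHyp Q) (σ : F ≃+* F)
    (hσ : ∀ v : ι → F, Q (fun i => σ (v i)) = σ (Q v)) : IsHypForm (descend σ Q hσ) := by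
  obtain ⟨k, e, f, hfam, hk, -, hfix⟩ := h
  let e₀ : Fin k → ι → ↥(fixK σ) := fun i j => ⟨e i j, (hfix σ i j).1⟩
  let f₀ : Fin k → ι → ↥(fixK σ) := fun i j => ⟨f i j, (hfix σ i j).2⟩
  have he : ∀ i, mapV (fixK σ).subtype (e₀ i) = e i := fun i => rfl
  have hf : ∀ i, mapV (fixK σ).subtype (f₀ i) = f i := fun i => rfl
  have hpol : ∀ u v : ι → ↥(fixK σ), ((polar (⇑(descend σ Q hσ)) u v : ↥(fixK σ)) : F) =
      polar (⇑Q) (mapV (fixK σ).subtype u) (mapV (fixK σ).subtype v) := fun u v =>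
    ((descend_isBC σ Q hσ).polar u v).symm
  refine ⟨k, e₀, f₀, ⟨?_, ?_, ?_, ?_, ?_⟩, hk⟩
  · intro i
    apply Subtype.ext
    rw [descend_coe, he, hfam.qe]
    rfl
  · intro i
    apply Subtype.ext
    rw [descend_coe, hf, hfam.qf]
    rfl
  · intro i j
    apply Subtype.ext
    rw [hpol, he, hf, hfam.ef]
    split_ifs <;> rfl
  · intro i j
    apply Subtype.ext
    rw [hpol, he, he, hfam.ee]
    rfl
  · intro i j
    apply Subtype.ext
    rw [hpol, hf, hf, hfam.ff]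
    rfl

/-- a nonsingular vector fixed by all field automorphisms -/
theorem RatHyp.exists_vec {Q : QuadraticForm F (ι → F)} (h : RatHyp Q) :
    ∃ w : ι → F, Q w ≠ 0 ∧ ∀ (τ : F ≃+* F) (j : ι), τ (w j) = w j := by
  obtain ⟨k, e, f, hfam, hk, hk0, hfix⟩ := h
  refine ⟨e ⟨0, hk0⟩ + f ⟨0, hk0⟩, ?_, ?_⟩
  · rw [map_add_eq, hfam.qe, hfam.qf, hfam.ef, if_pos rfl]
    simp
  · intro τ j
    rw [Pi.add_apply, map_add, (hfix τ ⟨0, hk0⟩ j).1, (hfix τ ⟨0, hk0⟩ j).2]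

/-! ### reflections as elements of `GO` -/

section Refl

variable (Q : QuadraticForm F (ι → F)) (hQA : ∀ σ : F ≃+* F, σ ∈ QAut (⇑Q))

/-- the reflection in `w` as an element of `GO` -/
noncomputable def rGO {w : ι → F} (hw : Q w ≠ 0) : ↥(GO Q) :=
  ⟨((reflIso Q hw : ↥(Cfsg.isometryGroup F ⇑Q)) : GL ι F), iso_le_sim (⇑Q) (reflIso Q hw).2⟩

theorem rGO_coe {w : ι → F} (hw : Q w ≠ 0) :
    (((rGO Q hw : ↥(GO Q)) : GL ι F) : Mι) = Cfsg.reflectionMatrix (⇑Q) w := rfl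

theorem rGO_mul_self {w : ι → F} (hw : Q w ≠ 0) : rGO Q hw * rGO Q hw = 1 := by
  apply Subtype.ext
  exact congrArg (fun x : ↥(Cfsg.isometryGroup F ⇑Q) => (x : GL ι F)) (reflIso_mul_self Q hw)

theorem rGO_sigma (σ : F ≃+* F) {w : ι → F} (hw : Q w ≠ 0) (hσw : ∀ j, σ (w j) = w j) :
    sigmaGO (⇑Q) (toQAut (⇑Q) hQA σ) (rGO Q hw) = rGO Q hw := by
  apply Subtype.ext
  apply Units.ext
  show (Cfsg.reflectionMatrix (⇑Q) w).map σ = Cfsg.reflectionMatrix (⇑Q) w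
  have hB : IsBC (σ : F →+* F) ⇑Q ⇑Q := fun v => hQA σ v
  have h1 := hB.reflectionMatrix w
  have h2 : mapV (σ : F →+* F) w = w := by
    funext j
    exact hσw j
  rw [h2] at h1
  exact h1

theorem rGO_chi (C : ClassChar Q) {w : ι → F} (hw : Q w ≠ 0) : C.χ (rGO Q hw) = -1 :=
  C.refl w _ hw rfl

end Refl

end Cfsg.Agent.Helper40.OrthEven
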