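import Mathlib
import Cfsg.Agent.Lib.Helper40.OrthEvenCoset

/-!
# The coset theorems for a hyperbolic form with a rational hyperbolic basis, II
-/

set_option autoImplicit false
set_option linter.unusedSectionVars false
set_option linter.unusedSimpArgs false
set_option linter.unusedVariables false

namespace Cfsg.Agent.Helper40.OrthEven

open Matrix QuadraticMap Cfsg.Agent.Helper5.OrthAut Cfsg.Agent.Helper40.H90
  Cfsg.Agent.Helper40.AutPSLNorm Cfsg.Agent.Helper40.FixK Cfsg.Agent.Helper40.LangO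
  Cfsg.Agent.Helper40.AutPOm Cfsg.Agent.Helper43

variable {F : Type*} [Field F] {ι : Type} [Fintype ι] [DecidableEq ι]

local notation "Mι" => Matrix ι ι F

section Coset

variable [Fintype F] (Q : QuadraticForm F (ι → F)) (hQA : ∀ σ : F ≃+* F, σ ∈ QAut (⇑Q))
  (hperf : commutator ↥(Cfsg.Omega F ⇑Q) = ⊤)
  (hcent : ∀ Z : Matrix ι ι F, (∀ s : ↥(Cfsg.Omega F ⇑Q), Z * omat (⇑Q) s = omat (⇑Q) s * Z) →
      ∃ c : F, Z = c • (1 : Matrix ι ι F))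
  (C : ClassChar Q) (hnd : (polarBilin Q).Nondegenerate) (hrat : RatHyp Q)

include hperf hcent in
/-- from `(PhiGO g φ_σ)^r = 1` to the norm being scalar -/
theorem nrm_scalar_of_pow (σ : F ≃+* F) {r : ℕ} (hσr : σ ^ r = 1) (g : ↥(GO Q))
    (hpow : (PhiGO (⇑Q) g * fieldAutStd (⇑Q) hQA σ : MulAut (Cfsg.POmega F ⇑Q)) ^ r = 1) :
    ∃ c : Fˣ, nrmI σ ((g.1 : GL ι F) : Mι) r = (c : F) • 1 := by
  rw [pow_PhiGO_mul_field, hσr, map_one, mul_one, PhiGO_eq_one_iff Q hperf hcent,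
    Cfsg.Geo.mem_scalars_iff] at hpow
  obtain ⟨c, hc⟩ := hpow
  rw [nrmGO_coe] at hc
  exact ⟨c, hc⟩

include hrat in
theorem exists_Q_ne_zero : ∃ v : ι → F, Q v ≠ 0 := by
  obtain ⟨w, hw, -⟩ := hrat.exists_vec
  exact ⟨w, hw⟩

theorem one_coe : (((1 : ↥(GO Q)).1 : GL ι F) : Mι) = 1 := rfl

include hperf hcent hnd hrat in
/-- a `σ`-fixed element of `GO` of square one with `χ = -1` has a minus-type twist (`σ` of order
two) -/
theorem ref_nonhyp (σ : F ≃+* F) (hσ2 : orderOf σ = 2) (R : ↥(GO Q))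
    (hRσ : sigmaGO (⇑Q) (toQAut (⇑Q) hQA σ) R = R) (hRR : R * R = 1) (hχR : C.χ R = -1) :
    ∃ Q_R : QuadraticForm ↥(fixK σ) (ι → ↥(fixK σ)), (polarBilin Q_R).Nondegenerate ∧
      IsTwist σ Q ((R.1 : GL ι F) : Mι) Q_R ∧ IsNonHypForm Q_R := by
  have hN : nrmI σ ((R.1 : GL ι F) : Mι) 2 = ((1 : Fˣ) : F) • 1 := by
    show ((R.1 : GL ι F) : Mι) * smI σ (((R.1 : GL ι F) : Mι) * smI σ 1) = _
    rw [smI_one, Matrix.mul_one, Units.val_one, one_smul]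
    have h1 : smI σ ((R.1 : GL ι F) : Mι) = ((R.1 : GL ι F) : Mι) := by
      have := congrArg (fun x : ↥(GO Q) => ((x.1 : GL ι F) : Mι)) hRσ
      exact this
    rw [h1]
    have := congrArg (fun x : ↥(GO Q) => ((x.1 : GL ι F) : Mι)) hRR
    exact this
  obtain ⟨Q_R, hnd_R, hT_R⟩ := exists_twist Q hnd (exists_Q_ne_zero Q hrat) σ (hQA σ)
    (by norm_num) hσ2 R 1 hN
  refine ⟨Q_R, hnd_R, hT_R, ?_⟩
  rcases Cfsg.Agent.Helper40.OEV.C1.hyp_or_nonhyp Q_R hnd_R hrat.even with hh | hn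
  · exfalso
    have hsim := Cfsg.Agent.Helper40.OEV.C1.similar_of_hyp Q_R (descend σ Q (hQA σ)) hh
      (hrat.descend_isHypForm σ (hQA σ))
    have hT₀ : IsTwist σ Q (((1 : ↥(GO Q)).1 : GL ι F) : Mι) (descend σ Q (hQA σ)) := by
      rw [one_coe]
      exact isTwist_one σ Q (hQA σ)
    obtain ⟨P, -, hχ⟩ := conj_of_similar Q hQA hperf hcent C σ R 1 Q_R _ hT_R hT₀ hsim
    rw [map_one, hχR] at hχ
    exact absurd hχ (by decide)
  · exact hn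

include hperf hcent hnd hrat in
/-- the field-automorphism coset -/
theorem field_conj (σ : F ≃+* F) {r : ℕ} (hr : r.Prime) (hσ : orderOf σ = r) (g : ↥(GO Q))
    (hχ : C.χ g = 1)
    (hpow : (PhiGO (⇑Q) g * fieldAutStd (⇑Q) hQA σ : MulAut (Cfsg.POmega F ⇑Q)) ^ r = 1) :
    ∃ h : ↥(GO Q), C.χ h = 1 ∧ PhiGO (⇑Q) g * fieldAutStd (⇑Q) hQA σ =
      PhiGO (⇑Q) h * fieldAutStd (⇑Q) hQA σ * (PhiGO (⇑Q) h)⁻¹ := by
  have hσr : σ ^ r = 1 := by rw [← hσ]; exact pow_orderOf_eq_one σ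
  obtain ⟨c, hN⟩ := nrm_scalar_of_pow Q hQA hperf hcent σ hσr g hpow
  obtain ⟨Q₁, hnd₁, hT₁⟩ := exists_twist Q hnd (exists_Q_ne_zero Q hrat) σ (hQA σ) hr.pos hσ g c hN
  have hT₀ : IsTwist σ Q (((1 : ↥(GO Q)).1 : GL ι F) : Mι) (descend σ Q (hQA σ)) := by
    rw [one_coe]
    exact isTwist_one σ Q (hQA σ)
  -- the reference reflection
  obtain ⟨w, hw, hwfix⟩ := hrat.exists_vec
  have hRσ := rGO_sigma Q hQA σ hw (hwfix σ)
  have hχR := rGO_chi Q C hw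
  rcases Cfsg.Agent.Helper40.OEV.C1.hyp_or_nonhyp Q₁ hnd₁ hrat.even with hh | hn
  · have hsim := Cfsg.Agent.Helper40.OEV.C1.similar_of_hyp Q₁ (descend σ Q (hQA σ)) hh
      (hrat.descend_isHypForm σ (hQA σ))
    obtain ⟨P, hP, -⟩ := conj_of_similar Q hQA hperf hcent C σ g 1 Q₁ _ hT₁ hT₀ hsim
    obtain ⟨P', hχP', hP'⟩ := fixup Q hQA C σ (rGO Q hw) 1 hRσ hχR (by rw [mul_one, one_mul]) P _ hP
    refine ⟨P', hχP', ?_⟩
    rw [hP', map_one, one_mul]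
  · exfalso
    by_cases hr2 : r = 2
    · subst hr2
      obtain ⟨Q_R, hnd_R, hT_R, hn_R⟩ := ref_nonhyp Q hQA hperf hcent C hnd hrat σ hσ (rGO Q hw) hRσ
        (rGO_mul_self Q hw) hχR
      have hsim := Cfsg.Agent.Helper40.OEV.C2.similar_of_nonhyp Q₁ Q_R hnd₁ hnd_R hn hn_R
      obtain ⟨P, -, hχ'⟩ := conj_of_similar Q hQA hperf hcent C σ g (rGO Q hw) Q₁ Q_R hT₁ hT_R hsim
      rw [hχ, hχR] at hχ'
      exact absurd hχ' (by decide)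
    · have hodd : Odd (orderOf σ) := by rw [hσ]; exact hr.odd_of_ne_two hr2
      exact no_nonhyp_twist_odd Q hnd hrat.isHypForm σ hodd _ Q₁ hnd₁ hT₁ hn

include hperf hcent hnd hrat in
/-- the graph-field coset -/
theorem gf_conj (σ : F ≃+* F) (hσ : orderOf σ = 2) (R : ↥(GO Q))
    (hRσ : sigmaGO (⇑Q) (toQAut (⇑Q) hQA σ) R = R) (hRR : R * R = 1) (hχR : C.χ R = -1)
    (g : ↥(GO Q)) (hχ : C.χ g = 1)
    (hpow : (PhiGO (⇑Q) g * (PhiGO (⇑Q) R * fieldAutStd (⇑Q) hQA σ) :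
      MulAut (Cfsg.POmega F ⇑Q)) ^ 2 = 1) :
    ∃ h : ↥(GO Q), C.χ h = 1 ∧ PhiGO (⇑Q) g * (PhiGO (⇑Q) R * fieldAutStd (⇑Q) hQA σ) =
      PhiGO (⇑Q) h * (PhiGO (⇑Q) R * fieldAutStd (⇑Q) hQA σ) * (PhiGO (⇑Q) h)⁻¹ := by
  have hσr : σ ^ 2 = 1 := by rw [← hσ]; exact pow_orderOf_eq_one σ
  have hmul : PhiGO (⇑Q) g * (PhiGO (⇑Q) R * fieldAutStd (⇑Q) hQA σ) =
      PhiGO (⇑Q) (g * R) * fieldAutStd (⇑Q) hQA σ := by
    rw [map_mul, mul_assoc]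
  rw [hmul] at hpow ⊢
  obtain ⟨c, hN⟩ := nrm_scalar_of_pow Q hQA hperf hcent σ hσr (g * R) hpow
  obtain ⟨Q₁, hnd₁, hT₁⟩ := exists_twist Q hnd (exists_Q_ne_zero Q hrat) σ (hQA σ) (by norm_num) hσ
    (g * R) c hN
  have hT₀ : IsTwist σ Q (((1 : ↥(GO Q)).1 : GL ι F) : Mι) (descend σ Q (hQA σ)) := by
    rw [one_coe]
    exact isTwist_one σ Q (hQA σ)
  have hχgR : C.χ (g * R) = -1 := by rw [map_mul, hχ, hχR, one_mul]
  rcases Cfsg.Agent.Helper40.OEV.C1.hyp_or_nonhyp Q₁ hnd₁ hrat.even with hh | hn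
  · exfalso
    have hsim := Cfsg.Agent.Helper40.OEV.C1.similar_of_hyp Q₁ (descend σ Q (hQA σ)) hh
      (hrat.descend_isHypForm σ (hQA σ))
    obtain ⟨P, -, hχ'⟩ := conj_of_similar Q hQA hperf hcent C σ (g * R) 1 Q₁ _ hT₁ hT₀ hsim
    rw [map_one, hχgR] at hχ'
    exact absurd hχ' (by decide)
  · obtain ⟨Q_R, hnd_R, hT_R, hn_R⟩ := ref_nonhyp Q hQA hperf hcent C hnd hrat σ hσ R hRσ hRR hχR
    have hsim := Cfsg.Agent.Helper40.OEV.C2.similar_of_nonhyp Q₁ Q_R hnd₁ hnd_R hn hn_R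
    obtain ⟨P, hP, -⟩ := conj_of_similar Q hQA hperf hcent C σ (g * R) R Q₁ Q_R hT₁ hT_R hsim
    obtain ⟨P', hχP', hP'⟩ := fixup Q hQA C σ R R hRσ hχR rfl P _ hP
    exact ⟨P', hχP', hP'⟩

end Coset

end Cfsg.Agent.Helper40.OrthEven
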