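import Mathlib
import Cfsg.Agent.Lib.Helper40.OrthEvenCoset2

/-!
# The coset theorem for `PΩ(Q)`, `Q` hyperbolic with a rational hyperbolic basis: assembly
-/

set_option autoImplicit false
set_option linter.unusedSectionVars false
set_option linter.unusedSimpArgs false
set_option linter.unusedVariables false

namespace Cfsg.Agent.Helper40.OrthEven

open Matrix QuadraticMap Cfsg.Agent.Helper5.OrthAut Cfsg.Agent.Helper40.H90
  Cfsg.Agent.Helper40.AutPSLNorm Cfsg.Agent.Helper40.FixK Cfsg.Agent.Helper40.LangO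
  Cfsg.Agent.Helper40.AutPOm Cfsg.Agent.Helper43

variable {F : Type*} [Field F] {ι : Type} [Fintype ι] [DecidableEq ι]

local notation "Mι" => Matrix ι ι F

section Final

variable [Fintype F] (Q : QuadraticForm F (ι → F)) (hQA : ∀ σ : F ≃+* F, σ ∈ QAut (⇑Q))
  (hperf : commutator ↥(Cfsg.Omega F ⇑Q) = ⊤)
  (hcent : ∀ Z : Matrix ι ι F, (∀ s : ↥(Cfsg.Omega F ⇑Q), Z * omat (⇑Q) s = omat (⇑Q) s * Z) →
      ∃ c : F, Z = c • (1 : Matrix ι ι F))
  (C : ClassChar Q) (hnd : (polarBilin Q).Nondegenerate) (hrat : RatHyp Q)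

/-- the image of the class-preserving similarities -/
noncomputable def inD : Subgroup (MulAut (Cfsg.POmega F ⇑Q)) := (C.χ.ker).map (PhiGO (⇑Q))

theorem mem_inD_iff (β : MulAut (Cfsg.POmega F ⇑Q)) :
    β ∈ inD Q C ↔ ∃ g : ↥(GO Q), C.χ g = 1 ∧ β = PhiGO (⇑Q) g := by
  constructor
  · rintro ⟨g, hg, rfl⟩
    exact ⟨g, MonoidHom.mem_ker.1 hg, rfl⟩
  · rintro ⟨g, hg, rfl⟩
    exact ⟨g, MonoidHom.mem_ker.2 hg, rfl⟩

theorem inD_normal (hS : StructO (⇑Q) hQA) : (inD Q C).Normal := by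
  constructor
  intro n hn β
  obtain ⟨h, hχ, rfl⟩ := (mem_inD_iff Q C n).1 hn
  obtain ⟨g, σ, rfl⟩ := hS β
  rw [mem_inD_iff]
  refine ⟨g * sigmaGO (⇑Q) (toQAut (⇑Q) hQA σ) h * g⁻¹, ?_, ?_⟩
  · rw [map_mul, map_mul, C.sigma hQA, hχ, mul_one, map_inv, mul_inv_cancel]
  · rw [map_mul, map_mul, ← fieldAutStd_conj_PhiGO, map_inv, _root_.mul_inv_rev]
    simp only [mul_assoc]

/-- the inner-diagonal group of a form given as a plain function -/
theorem autSubgroupOf_eq_inD :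
    Cfsg.autSubgroupOf (fun β : Cfsg.POmega F ⇑Q ≃* Cfsg.POmega F ⇑Q =>
      ∃ g : GL ι F, g ∈ Cfsg.Geo.quadSimilarityGroup (F := F) ⇑Q ∧
        Cfsg.PreservesSingularClasses (⇑Q) (g : Matrix ι ι F) ∧
        Cfsg.IsInducedBySemilinearPOmega (⇑Q) g (RingEquiv.refl F) β) = inD Q C := by
  have hset : {β : MulAut (Cfsg.POmega F ⇑Q) |
      ∃ g : GL ι F, g ∈ Cfsg.Geo.quadSimilarityGroup (F := F) ⇑Q ∧
        Cfsg.PreservesSingularClasses (⇑Q) (g : Matrix ι ι F) ∧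
        Cfsg.IsInducedBySemilinearPOmega (⇑Q) g (RingEquiv.refl F) β} =
      ((inD Q C : Subgroup (MulAut (Cfsg.POmega F ⇑Q))) : Set (MulAut (Cfsg.POmega F ⇑Q))) := by
    ext β
    rw [SetLike.mem_coe, mem_inD_iff]
    constructor
    · rintro ⟨g, hg, hpres, hind⟩
      refine ⟨⟨g, hg⟩, (C.pres ⟨g, hg⟩).2 hpres, ?_⟩
      exact (induced_iff (⇑Q) ⟨g, sim_le_NO (⇑Q) hg⟩ β).1 hind
    · rintro ⟨g, hχ, rfl⟩
      exact ⟨g.1, g.2, (C.pres g).1 hχ,
        (induced_iff (⇑Q) ⟨g.1, sim_le_NO (⇑Q) g.2⟩ _).2 rfl⟩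
  unfold Cfsg.autSubgroupOf
  rw [hset, Subgroup.closure_eq]

include hperf hcent hnd hrat in
/-- **the coset theorem** -/
theorem coset_main_even (D : RigData Q) (hS : StructO (⇑Q) hQA)
    (x δ : MulAut (Cfsg.POmega F ⇑Q))
    (hx : Cfsg.IsFieldAutClassPOmega (⇑Q) x ∨
      ∃ (α γ φ : MulAut (Cfsg.POmega F ⇑Q)) (σ : F ≃+* F) (v : ι → F) (r' : GL ι F),
        σ ≠ RingEquiv.refl F ∧ Q v ≠ 0 ∧ (∀ i, σ (v i) = v i) ∧
        (r' : Matrix ι ι F) = Cfsg.reflectionMatrix (⇑Q) v ∧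
        Cfsg.IsInducedBySemilinearPOmega (⇑Q) r' (RingEquiv.refl F) γ ∧
        Cfsg.IsFieldAutPOmegaOf (⇑Q) σ φ ∧ α * x * α⁻¹ = γ * φ)
    {r : ℕ} (hr : r.Prime) (hxr : orderOf x = r) (hδ : δ ∈ inD Q C) :
    orderOf (δ * x) = r ↔ Cfsg.IsConjUnder (inD Q C) x (δ * x) := by
  have hD : (inD Q C).Normal := inD_normal Q hQA C hS
  constructor
  · intro hord
    rcases hx with ⟨α, φ, σ, hσ1, hstd, hx₀⟩ | ⟨α, γ, φ, σ, v, r', hσ1, hv, hσv, hr', hγ, hstd, hx₀⟩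
    · rw [isFieldAutOf_iff_std (⇑Q) hQA] at hstd
      subst hstd
      have hordφ : orderOf (fieldAutStd (⇑Q) hQA σ) = r := by
        rw [← hx₀, ← hxr]
        have := orderOf_injective (MulAut.conj α).toMonoidHom (MulAut.conj α).injective x
        simpa [MulAut.conj_apply] using this
      have hσr : orderOf σ = r := by rw [← orderOf_fieldAutStd hQA D]; exact hordφ
      obtain ⟨k, hk, hkx⟩ := transport_conj (inD Q C) α x δ (fieldAutStd (⇑Q) hQA σ) hx₀ hδ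
        (by
          intro d hd hdord
          obtain ⟨g, hχ, rfl⟩ := (mem_inD_iff Q C d).1 hd
          have hpow : (PhiGO (⇑Q) g * fieldAutStd (⇑Q) hQA σ : MulAut (Cfsg.POmega F ⇑Q)) ^ r = 1 := by
            rw [← hordφ, ← hdord]
            exact pow_orderOf_eq_one _
          obtain ⟨h, hχh, hh⟩ := field_conj Q hQA hperf hcent C hnd hrat σ hr hσr g hχ hpow
          exact ⟨PhiGO (⇑Q) h, (mem_inD_iff Q C _).2 ⟨h, hχh, rfl⟩, hh⟩)
        (by rw [hord, hxr])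
      exact ⟨k, hk, hkx⟩
    · rw [isFieldAutOf_iff_std (⇑Q) hQA] at hstd
      subst hstd
      -- the reflection
      have hr'eq : r' = ((rGO Q hv : ↥(GO Q)) : GL ι F) := Units.ext hr'
      subst hr'eq
      have hγ' : γ = PhiGO (⇑Q) (rGO Q hv) :=
        (induced_iff (⇑Q) ⟨(rGO Q hv).1, sim_le_NO (⇑Q) (rGO Q hv).2⟩ γ).1 hγ
      subst hγ'
      set R : ↥(GO Q) := rGO Q hv with hR
      have hRσ := rGO_sigma Q hQA σ hv hσv
      have hχR := rGO_chi Q C hv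
      have hRR := rGO_mul_self Q hv
      have hordx₀ : orderOf (PhiGO (⇑Q) R * fieldAutStd (⇑Q) hQA σ) = r := by
        rw [← hx₀, ← hxr]
        have := orderOf_injective (MulAut.conj α).toMonoidHom (MulAut.conj α).injective x
        simpa [MulAut.conj_apply] using this
      have hcomm : Commute (PhiGO (⇑Q) R) (fieldAutStd (⇑Q) hQA σ) := by
        show PhiGO (⇑Q) R * fieldAutStd (⇑Q) hQA σ = fieldAutStd (⇑Q) hQA σ * PhiGO (⇑Q) R
        rw [fieldAutStd_mul_PhiGO, hRσ]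
      have hpowr : PhiGO (⇑Q) (R ^ r) * fieldAutStd (⇑Q) hQA (σ ^ r) =
          PhiGO (⇑Q) 1 * fieldAutStd (⇑Q) hQA 1 := by
        rw [map_pow, map_pow, ← hcomm.mul_pow, ← hordx₀, pow_orderOf_eq_one, map_one, map_one,
          mul_one]
      obtain ⟨hσr1, hRr1⟩ := mul_eq_mul hQA D hpowr
      -- `r = 2`
      have hr2 : r = 2 := by
        by_contra hne2
        obtain ⟨k, hk⟩ := hr.odd_of_ne_two hne2
        have h1 : R ^ r = R := by
          rw [hk, pow_succ, pow_mul, pow_two, hRR, one_pow, one_mul]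
        rw [h1, map_one, PhiGO_eq_one_iff Q hperf hcent] at hRr1
        obtain ⟨c, hc⟩ := exists_sclHom_of_mem hRr1
        have h2 : R = scGO Q c := Subtype.ext hc
        have h3 := C.scalar c
        rw [← h2, hχR] at h3
        exact absurd h3 (by decide)
      subst hr2
      have hσ2 : orderOf σ = 2 := by
        have : Fact (Nat.Prime 2) := ⟨Nat.prime_two⟩
        exact orderOf_eq_prime hσr1 hσ1
      obtain ⟨k, hk, hkx⟩ := transport_conj (inD Q C) α x δ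
        (PhiGO (⇑Q) R * fieldAutStd (⇑Q) hQA σ) hx₀ hδ
        (by
          intro d hd hdord
          obtain ⟨g, hχ, rfl⟩ := (mem_inD_iff Q C d).1 hd
          have hpow : (PhiGO (⇑Q) g * (PhiGO (⇑Q) R * fieldAutStd (⇑Q) hQA σ) :
              MulAut (Cfsg.POmega F ⇑Q)) ^ 2 = 1 := by
            rw [← hordx₀, ← hdord]
            exact pow_orderOf_eq_one _
          obtain ⟨h, hχh, hh⟩ := gf_conj Q hQA hperf hcent C hnd hrat σ hσ2 R hRσ hRR hχR g hχ hpow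
          exact ⟨PhiGO (⇑Q) h, (mem_inD_iff Q C _).2 ⟨h, hχh, rfl⟩, hh⟩)
        (by rw [hord, hxr])
      exact ⟨k, hk, hkx⟩
  · rintro ⟨k, -, hk⟩
    rw [hk, ← hxr]
    have := orderOf_injective (MulAut.conj k).toMonoidHom (MulAut.conj k).injective x
    simpa [MulAut.conj_apply] using this

end Final

/-- the coset theorem for a form given as a plain function -/
theorem coset_main_even' [Fintype F] (Q : QuadraticForm F (ι → F)) (Q₀ : (ι → F) → F)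
    (hQ₀ : ⇑Q = Q₀) (hQA : ∀ σ : F ≃+* F, σ ∈ QAut Q₀)
    (hperf : commutator ↥(Cfsg.Omega F ⇑Q) = ⊤)
    (hcent : ∀ Z : Matrix ι ι F, (∀ s : ↥(Cfsg.Omega F ⇑Q), Z * omat (⇑Q) s = omat (⇑Q) s * Z) →
      ∃ c : F, Z = c • (1 : Matrix ι ι F))
    (C : ClassChar Q) (hnd : (polarBilin Q).Nondegenerate) (hrat : RatHyp Q) (D : RigData Q)
    (hS : Cfsg.gammaPOmega F Q₀ = ⊤)
    (x δ : MulAut (Cfsg.POmega F Q₀))
    (hx : Cfsg.IsFieldAutClassPOmega Q₀ x ∨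
      ∃ (α γ φ : MulAut (Cfsg.POmega F Q₀)) (σ : F ≃+* F) (v : ι → F) (r' : GL ι F),
        σ ≠ RingEquiv.refl F ∧ Q₀ v ≠ 0 ∧ (∀ i, σ (v i) = v i) ∧
        (r' : Matrix ι ι F) = Cfsg.reflectionMatrix Q₀ v ∧
        Cfsg.IsInducedBySemilinearPOmega Q₀ r' (RingEquiv.refl F) γ ∧
        Cfsg.IsFieldAutPOmegaOf Q₀ σ φ ∧ α * x * α⁻¹ = γ * φ)
    {r : ℕ} (hr : r.Prime) (hxr : orderOf x = r)
    (hδ : δ ∈ Cfsg.autSubgroupOf (fun β : Cfsg.POmega F Q₀ ≃* Cfsg.POmega F Q₀ =>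
      ∃ g : GL ι F, g ∈ Cfsg.Geo.quadSimilarityGroup (F := F) Q₀ ∧
        Cfsg.PreservesSingularClasses Q₀ (g : Matrix ι ι F) ∧
        Cfsg.IsInducedBySemilinearPOmega Q₀ g (RingEquiv.refl F) β)) :
    orderOf (δ * x) = r ↔ Cfsg.IsConjUnder
      (Cfsg.autSubgroupOf (fun β : Cfsg.POmega F Q₀ ≃* Cfsg.POmega F Q₀ =>
        ∃ g : GL ι F, g ∈ Cfsg.Geo.quadSimilarityGroup (F := F) Q₀ ∧
          Cfsg.PreservesSingularClasses Q₀ (g : Matrix ι ι F) ∧
          Cfsg.IsInducedBySemilinearPOmega Q₀ g (RingEquiv.refl F) β)) x (δ * x) := by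
  subst hQ₀
  rw [autSubgroupOf_eq_inD Q C] at hδ ⊢
  exact coset_main_even Q hQA hperf hcent C hnd hrat D ((gamma_eq_top_iff (⇑Q) hQA).1 hS)
    x δ hx hr hxr hδ

end Cfsg.Agent.Helper40.OrthEven
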