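import Mathlib
import Cfsg.Agent.Lib.Helper66.OMinOddFR

/-!
# A finite field has at most one automorphism of order two
-/

set_option autoImplicit false

namespace Cfsg.Agent.Helper40.FieldInv

open Cfsg.Agent.Helper66.OMinOdd

variable {F : Type*} [Field F] [Fintype F]

theorem charP_of_card {p f : ℕ} (hp : p.Prime) (hF : Fintype.card F = p ^ f) : CharP F p := by
  have : CharP F (ringChar F) := ringChar.charP F
  obtain ⟨n, hc, hn⟩ := FiniteField.card F (ringChar F)
  have h1 : p ∣ ringChar F ^ (n : ℕ) := by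
    rw [← hn, hF]
    have hf : f ≠ 0 := by
      intro h0
      rw [h0, pow_zero] at hF
      have := Fintype.one_lt_card (α := F)
      omega
    exact dvd_pow_self p hf
  have h2 : p ∣ ringChar F := hp.dvd_of_dvd_pow h1
  have h3 : p = ringChar F := (Nat.prime_dvd_prime_iff_eq hp hc).1 h2
  rw [h3]
  infer_instance

/-- an automorphism of order two is `c ↦ c ^ (p ^ (f / 2))` -/
theorem involution_apply {p f : ℕ} (hp : p.Prime) (hF : Fintype.card F = p ^ f) (σ : F ≃+* F)
    (h2 : orderOf σ = 2) (c : F) : σ c = c ^ (p ^ (f / 2)) := by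
  have hf : 1 ≤ f := by
    by_contra h0
    have h0' : f = 0 := by omega
    rw [h0', pow_zero] at hF
    have := Fintype.one_lt_card (α := F)
    omega
  have : Fact p.Prime := ⟨hp⟩
  have : CharP F p := charP_of_card hp hF
  obtain ⟨n, hn⟩ := exists_pow_of_ringEquiv_p p σ
  have hσ2 : σ ^ 2 = 1 := by rw [← h2]; exact pow_orderOf_eq_one σ
  have hσ1 : σ ≠ 1 := by
    intro h1
    rw [h1, orderOf_one] at h2
    omega
  -- `f ∣ 2 n`
  have h1 : f ∣ 2 * n := by
    apply dvd_of_pow_p_pow_eq hf hF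
    intro c
    have h3 : (σ ^ 2) c = c := by rw [hσ2]; rfl
    have h4 : (σ ^ 2) c = σ (σ c) := by rw [pow_two]; rfl
    rw [h4, hn, hn, ← pow_mul, ← pow_add, ← two_mul] at h3
    exact h3
  -- `¬ f ∣ n`
  have h5 : ¬ f ∣ n := by
    rintro ⟨t, ht⟩
    apply hσ1
    ext c
    rw [hn, ht, pow_p_pow_mul hF]
    rfl
  obtain ⟨k, hk⟩ := h1
  have hkodd : k % 2 = 1 := by
    by_contra hke
    have hke' : k % 2 = 0 := by omega
    apply h5
    obtain ⟨j, hj⟩ := Nat.dvd_of_mod_eq_zero hke'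
    refine ⟨j, ?_⟩
    rw [hj] at hk
    have : 2 * n = 2 * (f * j) := by rw [hk]; ring
    omega
  obtain ⟨j, hj⟩ : ∃ j, k = 2 * j + 1 := ⟨k / 2, by omega⟩
  have hn' : n = f / 2 + f * j := by
    rw [hj] at hk
    have h6 : 2 * n = 2 * (f * j) + f := by rw [hk]; ring
    omega
  rw [hn, hn', pow_add, pow_mul, pow_p_pow_mul hF]

theorem unique_involution {p f : ℕ} (hp : p.Prime) (hF : Fintype.card F = p ^ f)
    (σ σ' : F ≃+* F) (h2 : orderOf σ = 2) (h2' : orderOf σ' = 2) : σ' = σ := by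
  ext c
  rw [involution_apply hp hF σ h2, involution_apply hp hF σ' h2']

end Cfsg.Agent.Helper40.FieldInv
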