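import Mathlib
import Cfsg.Prelude.Def_LieTypeDatum
import Cfsg.Agent.Lib.Helper40.OrthEvenFinal
import Cfsg.Agent.Lib.Helper40.FieldInvolution

/-!
# GF (P12): normal form and conjugacy of the involutory graph-field automorphisms (helper43's server)
-/

set_option autoImplicit false
set_option linter.unusedSectionVars false
set_option linter.unusedSimpArgs false
set_option linter.unusedVariables false

namespace Cfsg.Agent.Helper40.GF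

open Matrix QuadraticMap Cfsg.Agent.Helper43 Cfsg.Agent.Helper5.OrthAut
  Cfsg.Agent.Helper40.OrthEven Cfsg.Agent.Helper40.AutPOm Cfsg.Agent.Helper40.AutPSLNorm

section Aux

variable {F : Type*} [Field F] [Fintype F] {ι : Type} [Fintype ι] [DecidableEq ι]
  (Q : QuadraticForm F (ι → F)) (hQA : ∀ σ : F ≃+* F, σ ∈ QAut (⇑Q))
  (hperf : commutator ↥(Cfsg.Omega F ⇑Q) = ⊤)
  (hcent : ∀ Z : Matrix ι ι F, (∀ s : ↥(Cfsg.Omega F ⇑Q), Z * omat (⇑Q) s = omat (⇑Q) s * Z) →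
      ∃ c : F, Z = c • (1 : Matrix ι ι F))
  (C : ClassChar Q) (D : RigData Q)

include D in
/-- the field automorphism of an involutory graph-field automorphism has order two -/
theorem gf_sigma_order_two (y α : MulAut (Cfsg.POmega F ⇑Q)) (σ : F ≃+* F) {v : ι → F}
    (hv : Q v ≠ 0) (hσv : ∀ i, σ (v i) = v i) (hσ1 : σ ≠ RingEquiv.refl F)
    (hy : α * y * α⁻¹ = PhiGO (⇑Q) (rGO Q hv) * fieldAutStd (⇑Q) hQA σ) (hy2 : orderOf y = 2) :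
    orderOf σ = 2 := by
  set R : ↥(GO Q) := rGO Q hv with hR
  have hRσ := rGO_sigma Q hQA σ hv hσv
  have hRR := rGO_mul_self Q hv
  have hordx₀ : orderOf (PhiGO (⇑Q) R * fieldAutStd (⇑Q) hQA σ) = 2 := by
    rw [← hy, ← hy2]
    have := orderOf_injective (MulAut.conj α).toMonoidHom (MulAut.conj α).injective y
    simpa [MulAut.conj_apply] using this
  have hcomm : Commute (PhiGO (⇑Q) R) (fieldAutStd (⇑Q) hQA σ) := by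
    show PhiGO (⇑Q) R * fieldAutStd (⇑Q) hQA σ = fieldAutStd (⇑Q) hQA σ * PhiGO (⇑Q) R
    rw [fieldAutStd_mul_PhiGO, hRσ]
  have hpowr : PhiGO (⇑Q) (R ^ 2) * fieldAutStd (⇑Q) hQA (σ ^ 2) =
      PhiGO (⇑Q) 1 * fieldAutStd (⇑Q) hQA 1 := by
    rw [map_pow, map_pow, ← hcomm.mul_pow, ← hordx₀, pow_orderOf_eq_one, map_one, map_one,
      mul_one]
  obtain ⟨hσr1, -⟩ := mul_eq_mul hQA D hpowr
  have : Fact (Nat.Prime 2) := ⟨Nat.prime_two⟩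
  exact orderOf_eq_prime hσr1 hσ1

include D in
/-- the normal form `PhiGO g * φ_σ`, `χ g = -1` -/
theorem gf_eq_normal (hS : StructO (⇑Q) hQA) {p f : ℕ} (hp : p.Prime)
    (hF : Fintype.card F = p ^ f) (y α : MulAut (Cfsg.POmega F ⇑Q)) (σ : F ≃+* F) {v : ι → F}
    (hv : Q v ≠ 0) (hσv : ∀ i, σ (v i) = v i) (hσ2 : orderOf σ = 2)
    (hy : α * y * α⁻¹ = PhiGO (⇑Q) (rGO Q hv) * fieldAutStd (⇑Q) hQA σ) :
    ∃ g : ↥(GO Q), C.χ g = -1 ∧ y = PhiGO (⇑Q) g * fieldAutStd (⇑Q) hQA σ := by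
  set R : ↥(GO Q) := rGO Q hv with hR
  have hχR := rGO_chi Q C hv
  obtain ⟨h, τ, hα⟩ := hS α⁻¹
  have hy' : y = (PhiGO (⇑Q) h * fieldAutStd (⇑Q) hQA τ) *
      (PhiGO (⇑Q) R * fieldAutStd (⇑Q) hQA σ) * (PhiGO (⇑Q) h * fieldAutStd (⇑Q) hQA τ)⁻¹ := by
    rw [← hα, ← hy]
    group
  -- `τ σ τ⁻¹ = σ`
  have hconj : τ * σ * τ⁻¹ = σ := by
    apply Cfsg.Agent.Helper40.FieldInv.unique_involution hp hF σ (τ * σ * τ⁻¹) hσ2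
    rw [← hσ2]
    have := orderOf_injective (MulAut.conj τ).toMonoidHom (MulAut.conj τ).injective σ
    simpa [MulAut.conj_apply] using this
  have hφ : fieldAutStd (⇑Q) hQA τ * fieldAutStd (⇑Q) hQA σ * (fieldAutStd (⇑Q) hQA τ)⁻¹ =
      fieldAutStd (⇑Q) hQA σ := by
    rw [← map_inv, ← map_mul, ← map_mul, hconj]
  refine ⟨h * sigmaGO (⇑Q) (toQAut (⇑Q) hQA τ) R * sigmaGO (⇑Q) (toQAut (⇑Q) hQA σ) h⁻¹, ?_, ?_⟩
  · rw [map_mul, map_mul, C.sigma hQA, C.sigma hQA, hχR, map_inv]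
    rw [mul_comm (C.χ h), mul_assoc, mul_inv_cancel, mul_one]
  · rw [hy', _root_.mul_inv_rev, map_mul, map_mul]
    calc PhiGO (⇑Q) h * fieldAutStd (⇑Q) hQA τ * (PhiGO (⇑Q) R * fieldAutStd (⇑Q) hQA σ) *
          ((fieldAutStd (⇑Q) hQA τ)⁻¹ * (PhiGO (⇑Q) h)⁻¹)
        = PhiGO (⇑Q) h * (fieldAutStd (⇑Q) hQA τ * PhiGO (⇑Q) R) *
          (fieldAutStd (⇑Q) hQA σ * (fieldAutStd (⇑Q) hQA τ)⁻¹) * (PhiGO (⇑Q) h)⁻¹ := by
          simp only [mul_assoc]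
      _ = PhiGO (⇑Q) h * (PhiGO (⇑Q) (sigmaGO (⇑Q) (toQAut (⇑Q) hQA τ) R) *
            fieldAutStd (⇑Q) hQA τ) *
          (fieldAutStd (⇑Q) hQA σ * (fieldAutStd (⇑Q) hQA τ)⁻¹) * (PhiGO (⇑Q) h)⁻¹ := by
          rw [fieldAutStd_mul_PhiGO]
      _ = PhiGO (⇑Q) h * PhiGO (⇑Q) (sigmaGO (⇑Q) (toQAut (⇑Q) hQA τ) R) *
          (fieldAutStd (⇑Q) hQA τ * fieldAutStd (⇑Q) hQA σ * (fieldAutStd (⇑Q) hQA τ)⁻¹) *
          (PhiGO (⇑Q) h)⁻¹ := by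
          simp only [mul_assoc]
      _ = PhiGO (⇑Q) h * PhiGO (⇑Q) (sigmaGO (⇑Q) (toQAut (⇑Q) hQA τ) R) *
          (fieldAutStd (⇑Q) hQA σ * PhiGO (⇑Q) h⁻¹) := by
          rw [hφ, map_inv]
          simp only [mul_assoc]
      _ = PhiGO (⇑Q) h * PhiGO (⇑Q) (sigmaGO (⇑Q) (toQAut (⇑Q) hQA τ) R) *
          (PhiGO (⇑Q) (sigmaGO (⇑Q) (toQAut (⇑Q) hQA σ) h⁻¹) * fieldAutStd (⇑Q) hQA σ) := by
          rw [fieldAutStd_mul_PhiGO]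
      _ = _ := by simp only [mul_assoc]

end Aux

/-- (P12) normal form of the involutory graph-field automorphisms and their conjugacy -/
theorem gf_normal_form {F : Type*} [Field F] [Fintype F] {ι : Type} [Fintype ι] [DecidableEq ι]
    (Q : QuadraticForm F (ι → F)) (hQA : ∀ σ : F ≃+* F, σ ∈ QAut (⇑Q))
    (hperf : commutator ↥(Cfsg.Omega F ⇑Q) = ⊤)
    (hcent : ∀ Z : Matrix ι ι F, (∀ s : ↥(Cfsg.Omega F ⇑Q), Z * omat (⇑Q) s = omat (⇑Q) s * Z) →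
      ∃ c : F, Z = c • (1 : Matrix ι ι F))
    (C : ClassChar Q) (hnd : (polarBilin Q).Nondegenerate) (hrat : RatHyp Q) (D : RigData Q)
    (hS : StructO (⇑Q) hQA) {p f : ℕ} (hp : p.Prime) (hF : Fintype.card F = p ^ f)
    (x : MulAut (Cfsg.POmega F ⇑Q))
    (hx : ∃ (α γ φ : MulAut (Cfsg.POmega F ⇑Q)) (σ : F ≃+* F) (v : ι → F) (r' : GL ι F),
        σ ≠ RingEquiv.refl F ∧ Q v ≠ 0 ∧ (∀ i, σ (v i) = v i) ∧
        (r' : Matrix ι ι F) = Cfsg.reflectionMatrix (⇑Q) v ∧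
        Cfsg.IsInducedBySemilinearPOmega (⇑Q) r' (RingEquiv.refl F) γ ∧
        Cfsg.IsFieldAutPOmegaOf (⇑Q) σ φ ∧ α * x * α⁻¹ = γ * φ)
    (hx2 : orderOf x = 2) :
    ∃ σ : F ≃+* F, orderOf σ = 2 ∧ Even f ∧
      (∀ y : MulAut (Cfsg.POmega F ⇑Q),
        (∃ (α γ φ : MulAut (Cfsg.POmega F ⇑Q)) (σ' : F ≃+* F) (v : ι → F) (r' : GL ι F),
          σ' ≠ RingEquiv.refl F ∧ Q v ≠ 0 ∧ (∀ i, σ' (v i) = v i) ∧
          (r' : Matrix ι ι F) = Cfsg.reflectionMatrix (⇑Q) v ∧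
          Cfsg.IsInducedBySemilinearPOmega (⇑Q) r' (RingEquiv.refl F) γ ∧
          Cfsg.IsFieldAutPOmegaOf (⇑Q) σ' φ ∧ α * y * α⁻¹ = γ * φ) →
        orderOf y = 2 →
        ∃ g : ↥(GO Q), C.χ g = -1 ∧ y = PhiGO (⇑Q) g * fieldAutStd (⇑Q) hQA σ) ∧
      (∀ g g' : ↥(GO Q), C.χ g = -1 → C.χ g' = -1 →
        (PhiGO (⇑Q) g * fieldAutStd (⇑Q) hQA σ) ^ 2 = 1 →
        (PhiGO (⇑Q) g' * fieldAutStd (⇑Q) hQA σ) ^ 2 = 1 →
        ∃ h : ↥(GO Q), C.χ h = 1 ∧ PhiGO (⇑Q) g' * fieldAutStd (⇑Q) hQA σ =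
          PhiGO (⇑Q) h * (PhiGO (⇑Q) g * fieldAutStd (⇑Q) hQA σ) * (PhiGO (⇑Q) h)⁻¹) := by
  -- normalise the data of `x`
  obtain ⟨α, γ, φ, σ, v, r', hσ1, hv, hσv, hr', hγ, hstd, hx₀⟩ := hx
  rw [isFieldAutOf_iff_std (⇑Q) hQA] at hstd
  subst hstd
  have hr'eq : r' = ((rGO Q hv : ↥(GO Q)) : GL ι F) := Units.ext hr'
  subst hr'eq
  have hγ' : γ = PhiGO (⇑Q) (rGO Q hv) :=
    (induced_iff (⇑Q) ⟨(rGO Q hv).1, sim_le_NO (⇑Q) (rGO Q hv).2⟩ γ).1 hγ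
  subst hγ'
  have hσ2 := gf_sigma_order_two Q hQA D x α σ hv hσv hσ1 hx₀ hx2
  have hEven : Even f := by
    have := (Cfsg.Agent.Helper40.FixK.card_fixK σ hp hF hσ2 (by norm_num)).1
    exact even_iff_two_dvd.2 this
  refine ⟨σ, hσ2, hEven, ?_, ?_⟩
  · rintro y ⟨α', γ', φ', σ', v', r'', hσ1', hv', hσv', hr'', hγ'', hstd', hy₀⟩ hy2
    rw [isFieldAutOf_iff_std (⇑Q) hQA] at hstd'
    subst hstd'
    have hr''eq : r'' = ((rGO Q hv' : ↥(GO Q)) : GL ι F) := Units.ext hr''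
    subst hr''eq
    have hγ''' : γ' = PhiGO (⇑Q) (rGO Q hv') :=
      (induced_iff (⇑Q) ⟨(rGO Q hv').1, sim_le_NO (⇑Q) (rGO Q hv').2⟩ γ').1 hγ''
    subst hγ'''
    have hσ2' := gf_sigma_order_two Q hQA D y α' σ' hv' hσv' hσ1' hy₀ hy2
    have hσeq : σ' = σ := Cfsg.Agent.Helper40.FieldInv.unique_involution hp hF σ σ' hσ2 hσ2'
    subst hσeq
    exact gf_eq_normal Q hQA C D hS hp hF y α' σ' hv' hσv' hσ2' hy₀
  · intro g g' hχg hχg' hg2 hg2'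
    obtain ⟨w, hw, hwfix⟩ := hrat.exists_vec
    set R₀ : ↥(GO Q) := rGO Q hw with hR₀
    have hRσ := rGO_sigma Q hQA σ hw (hwfix σ)
    have hχR := rGO_chi Q C hw
    have hRR := rGO_mul_self Q hw
    have key : ∀ g₁ : ↥(GO Q), C.χ g₁ = -1 →
        (PhiGO (⇑Q) g₁ * fieldAutStd (⇑Q) hQA σ) ^ 2 = 1 →
        ∃ h : ↥(GO Q), C.χ h = 1 ∧ PhiGO (⇑Q) g₁ * fieldAutStd (⇑Q) hQA σ =
          PhiGO (⇑Q) h * (PhiGO (⇑Q) R₀ * fieldAutStd (⇑Q) hQA σ) * (PhiGO (⇑Q) h)⁻¹ := by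
      intro g₁ hχ₁ hg₁
      have h1 : PhiGO (⇑Q) (g₁ * R₀) * (PhiGO (⇑Q) R₀ * fieldAutStd (⇑Q) hQA σ) =
          PhiGO (⇑Q) g₁ * fieldAutStd (⇑Q) hQA σ := by
        rw [← mul_assoc, ← map_mul, mul_assoc g₁, hRR, mul_one]
      have h2 : C.χ (g₁ * R₀) = 1 := by rw [map_mul, hχ₁, hχR]; rfl
      obtain ⟨h, hχh, hh⟩ := gf_conj Q hQA hperf hcent C hnd hrat σ hσ2 R₀ hRσ hRR hχR (g₁ * R₀) h2
        (by rw [h1]; exact hg₁)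
      exact ⟨h, hχh, by rw [← h1]; exact hh⟩
    obtain ⟨h₁, hχ₁, hh₁⟩ := key g hχg hg2
    obtain ⟨h₂, hχ₂, hh₂⟩ := key g' hχg' hg2'
    refine ⟨h₂ * h₁⁻¹, by rw [map_mul, map_inv, hχ₁, hχ₂]; rfl, ?_⟩
    rw [hh₂, hh₁, map_mul, map_inv, _root_.mul_inv_rev, inv_inv]
    group

end Cfsg.Agent.Helper40.GF
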