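import Mathlib
import Cfsg.Agent.Lib.Helper13.PSUEich
import Cfsg.Agent.Lib.Helper5.PSUAut3

/-!
# A semilinear semi-similitude of the hermitian space is `v ↦ g τ(v)` with `g` a similitude

`exists_CU_of_semilinear`: an additive `τ`-semilinear map `Φ` with `B(Φ x, Φ y) = e τ(B(x, y))`,
`e ≠ 0`, is of the form `Φ z = A (τ ∘ z)` with `A` in the similarity group of the hermitian form,
and then conjugation by `A` composed with the entrywise `τ` intertwines the action on vectors.
-/

set_option autoImplicit false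
set_option linter.unusedSectionVars false
set_option linter.unusedSimpArgs false
set_option linter.unusedVariables false

namespace Cfsg.Agent.Helper40.PSUSemi

open Module Submodule Matrix
open Cfsg.Agent.Helper13 Cfsg.Agent.Helper13.PSLAut Cfsg.Agent.Helper5 Cfsg.Agent.Helper5.PSUAut

variable {F : Type*} [Field F] [Fintype F] {q n : ℕ} (hF : Fintype.card F = q ^ 2)

include hF in
theorem exists_CU_of_semilinear (Φ : (Fin n → F) → (Fin n → F)) (τ : F ≃+* F) (e : F) (he : e ≠ 0)
    (hadd : ∀ x y, Φ (x + y) = Φ x + Φ y) (hsmul : ∀ (a : F) x, Φ (a • x) = τ a • Φ x)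
    (hB : ∀ x y, stdB hF n (Φ x) (Φ y) = e * τ (stdB hF n x y)) :
    ∃ g : ↥(CU n F q), ∀ (s : ↥(Cfsg.SU n F q)) (z : Fin n → F),
      actv (conjSU g (sigmaSU τ s)) (Φ z) = Φ (actv s z) := by
  classical
  -- the linear map `L z = Φ (τ⁻¹ ∘ z)`
  let L : (Fin n → F) →ₗ[F] (Fin n → F) :=
    { toFun := fun z => Φ (τ.symm ∘ z)
      map_add' := fun x y => by
        have h1 : (τ.symm ∘ (x + y) : Fin n → F) = τ.symm ∘ x + τ.symm ∘ y := by
          funext i
          simp
        rw [h1, hadd]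
      map_smul' := fun a x => by
        have h1 : (τ.symm ∘ (a • x) : Fin n → F) = τ.symm a • (τ.symm ∘ x) := by
          funext i
          simp
        rw [h1, hsmul, RingEquiv.apply_symm_apply]
        rfl }
  have hL : ∀ z, L z = Φ (τ.symm ∘ z) := fun z => rfl
  have hΦL : ∀ z, Φ z = L (τ ∘ z) := by
    intro z
    rw [hL]
    congr 1
    funext i
    simp
  -- the form
  have hLB : ∀ x y, stdB hF n (L x) (L y) = e * stdB hF n x y := by
    intro x y
    rw [hL, hL, hB]
    congr 1
    have h1 := hermForm_comp (n := n) (q := q) τ (τ.symm ∘ y) (τ.symm ∘ x)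
    have h2 : (τ ∘ (τ.symm ∘ y) : Fin n → F) = y := by funext i; simp
    have h3 : (τ ∘ (τ.symm ∘ x) : Fin n → F) = x := by funext i; simp
    rw [h2, h3] at h1
    exact h1.symm
  -- injectivity
  have hinj : Function.Injective L := by
    rw [← LinearMap.ker_eq_bot, LinearMap.ker_eq_bot']
    intro x hx
    apply (stdB_nondeg hF n).1 x
    intro y
    have h1 := hLB x y
    rw [hx, map_zero, LinearMap.zero_apply] at h1
    rcases mul_eq_zero.1 h1.symm with h2 | h2
    · exact absurd h2 he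
    · exact h2
  let Le : (Fin n → F) ≃ₗ[F] (Fin n → F) := LinearEquiv.ofInjectiveEndo L hinj
  have hLe : ∀ z, Le z = L z := fun z => congrFun (LinearEquiv.coe_ofInjectiveEndo L hinj) z
  let A : GL (Fin n) F :=
    ⟨LinearMap.toMatrix' Le.toLinearMap, LinearMap.toMatrix' Le.symm.toLinearMap, by
      rw [← LinearMap.toMatrix'_comp, LinearEquiv.comp_coe, LinearEquiv.symm_trans_self,
        LinearEquiv.refl_toLinearMap, LinearMap.toMatrix'_id], by
      rw [← LinearMap.toMatrix'_comp, LinearEquiv.comp_coe, LinearEquiv.self_trans_symm,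
        LinearEquiv.refl_toLinearMap, LinearMap.toMatrix'_id]⟩
  have hA : ∀ z, (A : Matrix (Fin n) (Fin n) F) *ᵥ z = L z := by
    intro z
    show LinearMap.toMatrix' Le.toLinearMap *ᵥ z = _
    rw [LinearMap.toMatrix'_mulVec]
    exact hLe z
  have hACU : A ∈ CU n F q := by
    rw [mem_CU_iff]
    refine ⟨Units.mk0 e he, ?_⟩
    intro u v
    rw [hA, hA]
    have := hLB v u
    rw [stdB_apply, stdB_apply] at this
    exact this
  refine ⟨⟨A, hACU⟩, ?_⟩
  intro s z
  show (((conjSU ⟨A, hACU⟩ (sigmaSU τ s) : ↥(Cfsg.SU n F q)) : Matrix.SpecialLinearGroup (Fin n) F) :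
      Matrix (Fin n) (Fin n) F) *ᵥ Φ z = Φ (actv s z)
  rw [conjSU_val, sigmaSU_val, hΦL z, ← hA, Matrix.mulVec_mulVec]
  have h1 : (A : Matrix (Fin n) (Fin n) F) *
      ((s : Matrix.SpecialLinearGroup (Fin n) F) : Matrix (Fin n) (Fin n) F).map τ *
      ((A⁻¹ : GL (Fin n) F) : Matrix (Fin n) (Fin n) F) * (A : Matrix (Fin n) (Fin n) F) =
      (A : Matrix (Fin n) (Fin n) F) *
      ((s : Matrix.SpecialLinearGroup (Fin n) F) : Matrix (Fin n) (Fin n) F).map τ := by
    rw [Matrix.mul_assoc, ← Units.val_mul, inv_mul_cancel, Units.val_one, Matrix.mul_one]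
  rw [h1, ← Matrix.mulVec_mulVec, map_mulVec_comp, hΦL, hA]
  rfl

end Cfsg.Agent.Helper40.PSUSemi
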