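import Mathlib

set_option autoImplicit false

namespace Cfsg.Agent.Helper40.SylGL

open Matrix
open scoped MatrixGroups

variable {F : Type*} [Field F] {n : ℕ}

theorem levi_mem (g : GL (Fin n) F) :
    fromBlocks (g : Matrix (Fin n) (Fin n) F) 0 0 ((g⁻¹ : GL (Fin n) F) : Matrix (Fin n) (Fin n) F)ᵀ ∈
      Matrix.symplecticGroup (Fin n) F := by
  rw [SymplecticGroup.fromBlocks_mem_iff]
  refine ⟨by simp, by simp, ?_⟩
  rw [← Matrix.transpose_mul, ← Units.val_mul, inv_mul_cancel]
  simp

/-- the Levi embedding `GL_n → Sp_{2n}` -/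
noncomputable def leviHom : GL (Fin n) F →* ↥(Matrix.symplecticGroup (Fin n) F) where
  toFun g := ⟨_, levi_mem g⟩
  map_one' := by
    apply Subtype.ext
    simp [Matrix.fromBlocks_one]
  map_mul' g h := by
    apply Subtype.ext
    rw [Submonoid.coe_mul]
    simp only [Matrix.fromBlocks_multiply, _root_.mul_inv_rev, Units.val_mul, Matrix.transpose_mul]
    simp

theorem leviHom_injective : Function.Injective (leviHom (F := F) (n := n)) := by
  intro g h hgh
  have h1 := congrArg Subtype.val hgh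
  simp only [leviHom, MonoidHom.coe_mk, OneHom.coe_mk] at h1
  have h2 := (Matrix.fromBlocks_inj.mp h1).1
  exact Units.ext h2

/-- reindexing `Fin n ⊕ Fin n` to `Fin (n + n)` -/
noncomputable def reidx (F : Type*) [Field F] (n : ℕ) :
    Matrix (Fin n ⊕ Fin n) (Fin n ⊕ Fin n) F ≃ₐ[F] Matrix (Fin (n + n)) (Fin (n + n)) F :=
  Matrix.reindexAlgEquiv F F finSumFinEquiv

/-- `Sp_{2n}` as a subgroup of `GL_{2n}` -/
noncomputable def spToGL : ↥(Matrix.symplecticGroup (Fin n) F) →* GL (Fin (n + n)) F :=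
  (Units.map (MonoidHomClass.toMonoidHom (reidx F n))).comp
    (Matrix.symplecticGroup (Fin n) F).subtype.toHomUnits

theorem spToGL_injective : Function.Injective (spToGL (F := F) (n := n)) := by
  intro g h hgh
  have h1 : reidx F n (g : Matrix (Fin n ⊕ Fin n) (Fin n ⊕ Fin n) F) =
      reidx F n (h : Matrix (Fin n ⊕ Fin n) (Fin n ⊕ Fin n) F) := congrArg Units.val hgh
  exact Subtype.ext ((reidx F n).injective h1)

end Cfsg.Agent.Helper40.SylGL
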