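import Mathlib
import Cfsg.Agent.Lib.Helper93.U30
import Cfsg.Agent.Lib.Helper40.U3Base

/-! helper40: piece O2a of helper93's lemma server "U3" (row S2334). -/

set_option autoImplicit false

namespace Cfsg.Agent.Helper40.U3

open Matrix Cfsg.Agent.Helper13 Cfsg.Agent.Helper93.U2 Cfsg.Agent.Helper93.U3

variable {F : Type*} [Field F] [Fintype F] {q : ℕ} (hF : Fintype.card F = q ^ 2)

/-- piece O2a -/
theorem lMatO_unitary {n m : ℕ} (fr : FrameO hF n m) (E : Matrix (Fin m) (Fin m) F)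
    (hE : E * E = 0) : cT hF (lMatO hF fr E) * lMatO hF fr E = 1 := by
  rw [lMatO_eq, cT_add, cT_one, cT_nMatO, Matrix.add_mul, Matrix.mul_add, Matrix.mul_add, Matrix.one_mul,
    Matrix.mul_one, Matrix.one_mul, Matrix.neg_mul, nMatO_sq hF fr E hE]
  abel

end Cfsg.Agent.Helper40.U3
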