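import Cfsg.Agent.Lib.Helper40.MT4Base
import Cfsg.Agent.S0157
import Cfsg.Agent.Lib.Helper82.GenChar
import Cfsg.Agent.Lib.Helper81.CharRam

/-!
# Three irreducible characters of a 4-transitive permutation group

For a finite group `G` acting 4-transitively on `Ω` (at least 4 points), the class functions
`f - 1`, `p₂ - f` and `(f - 1)² - p₂` (`f` the number of fixed points, `p₂` the number of fixed
2-subsets) are irreducible characters.
-/

set_option autoImplicit false
set_option linter.unusedSectionVars false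

namespace Cfsg.Agent.Helper40.MT4

open Finset Cfsg
open scoped ComplexConjugate

universe u

section Gen

variable {G : Type u} [Group G] [Fintype G]

/-- an integer valued generalized character of norm one and positive degree is irreducible -/
theorem irr_of_int (z : G → ℤ) (hgen : IsGeneralizedCharacter G (fun g => ((z g : ℤ) : ℂ)))
    (hsum : ∑ g : G, z g ^ 2 = (Fintype.card G : ℤ)) (hpos : 0 < z 1) :
    IsIrrCharacter G (fun g => ((z g : ℤ) : ℂ)) := by
  have hnorm : classInner (fun g => ((z g : ℤ) : ℂ)) (fun g => ((z g : ℤ) : ℂ)) = 1 := by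
    unfold classInner
    have h1 : ∑ g : G, ((z g : ℤ) : ℂ) * conj ((z g : ℤ) : ℂ) = ((Fintype.card G : ℤ) : ℂ) := by
      rw [← hsum]
      push_cast
      refine Finset.sum_congr rfl (fun g _ => ?_)
      rw [map_intCast]
      ring
    rw [h1, Nat.card_eq_fintype_card]
    have : ((Fintype.card G : ℕ) : ℂ) ≠ 0 := by
      exact_mod_cast Fintype.card_ne_zero
    push_cast
    exact inv_mul_cancel₀ this
  rcases Cfsg.Agent.Helper82.genChar_norm_one hgen hnorm with h | h
  · exact h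
  · exfalso
    obtain ⟨n, hn, h1⟩ := Cfsg.Agent.Helper81.irr_one_pos h
    simp only [Pi.neg_apply] at h1
    have h2 : ((-(z 1) : ℤ) : ℂ) = ((n : ℤ) : ℂ) := by
      push_cast
      exact h1
    have h3 : -(z 1) = (n : ℤ) := by exact_mod_cast h2
    omega

end Gen

section Perm

variable {G : Type u} [Group G] [Fintype G] {Ω : Type*} [MulAction G Ω] [Fintype Ω]
  [DecidableEq Ω]

theorem fx_eq_card (g : G) : fx (Ω := Ω) g = Nat.card (MulAction.fixedBy Ω g) := by
  unfold fx fixF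
  rw [Nat.card_eq_fintype_card, Fintype.card_subtype]
  rfl

theorem isCharacter_fx : IsCharacter G (fun g : G => ((fx (Ω := Ω) g : ℕ) : ℂ)) := by
  have h := Cfsg.Agent.S0157.isCharacter_permChar (G := G) Ω
  convert h using 2 with g
  rw [fx_eq_card]

open scoped Pointwise in
theorem p2_eq_card (g : G) :
    p2 (Ω := Ω) g = Nat.card (MulAction.fixedBy (Set.powersetCard Ω 2) g) := by
  unfold p2
  rw [← Fintype.card_coe, ← Nat.card_eq_fintype_card]
  refine Nat.card_congr ?_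
  refine ⟨fun t => ⟨⟨t.1, ?_⟩, ?_⟩, fun s => ⟨s.1.1, ?_⟩, ?_, ?_⟩
  · have := t.2
    simp only [P2, Finset.mem_filter, Finset.mem_univ, true_and] at this
    exact Set.powersetCard.mem_iff.2 this.1
  · have := t.2
    simp only [P2, Finset.mem_filter, Finset.mem_univ, true_and] at this
    rw [MulAction.mem_fixedBy]
    apply Subtype.ext
    rw [Set.powersetCard.coe_smul]
    exact this.2
  · simp only [P2, Finset.mem_filter, Finset.mem_univ, true_and]
    refine ⟨Set.powersetCard.mem_iff.1 s.1.2, ?_⟩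
    have h := s.2
    rw [MulAction.mem_fixedBy] at h
    have h' := congrArg Subtype.val h
    rw [Set.powersetCard.coe_smul] at h'
    exact h'
  · intro t
    rfl
  · intro s
    rfl

theorem isCharacter_p2 : IsCharacter G (fun g : G => ((p2 (Ω := Ω) g : ℕ) : ℂ)) := by
  have h := Cfsg.Agent.S0157.isCharacter_permChar (G := G) (Set.powersetCard Ω 2)
  convert h using 2 with g
  rw [p2_eq_card]

/-- `2 p₂ = f² - f + s` over the integers -/
theorem two_p2_int (g : G) : 2 * (p2 (Ω := Ω) g : ℤ) =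
    (fx (Ω := Ω) g : ℤ) ^ 2 - fx (Ω := Ω) g + sw (Ω := Ω) g := by
  have h := two_p2 (Ω := Ω) g
  have h' : ((2 * p2 (Ω := Ω) g : ℕ) : ℤ) =
      ((fx (Ω := Ω) g * fx (Ω := Ω) g - fx (Ω := Ω) g + sw (Ω := Ω) g : ℕ) : ℤ) := by rw [h]
  rw [Nat.cast_add, Nat.cast_sub (Nat.le_mul_self _)] at h'
  push_cast at h'
  rw [h']
  ring

/-- the integer valued function `f - 1` -/
def z1 (g : G) : ℤ := (fx (Ω := Ω) g : ℤ) - 1

/-- the integer valued function `p₂ - f` -/
def z2 (g : G) : ℤ := (p2 (Ω := Ω) g : ℤ) - fx (Ω := Ω) g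

/-- the integer valued function `(f - 1)² - p₂` -/
def z3 (g : G) : ℤ := ((fx (Ω := Ω) g : ℤ) - 1) ^ 2 - p2 (Ω := Ω) g

theorem two_z2 (g : G) : 2 * z2 (Ω := Ω) g =
    (fx (Ω := Ω) g : ℤ) ^ 2 - 3 * fx (Ω := Ω) g + sw (Ω := Ω) g := by
  unfold z2
  have := two_p2_int (Ω := Ω) g
  linarith

theorem two_z3 (g : G) : 2 * z3 (Ω := Ω) g =
    ((fx (Ω := Ω) g : ℤ) - 1) * (fx (Ω := Ω) g - 2) - sw (Ω := Ω) g := by
  unfold z3
  have := two_p2_int (Ω := Ω) g
  linarith

theorem fx_one : fx (Ω := Ω) (1 : G) = Fintype.card Ω := by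
  unfold fx fixF
  simp

theorem sw_one : sw (Ω := Ω) (1 : G) = 0 := by
  unfold sw Sw
  rw [Finset.card_eq_zero, Finset.filter_eq_empty_iff]
  intro t _ h
  rw [one_smul] at h
  exact h.2.2 h.1

variable (h4 : MulAction.IsMultiplyPretransitive G Ω 4) (hΩ : 4 ≤ Fintype.card Ω)

include h4 hΩ

theorem isIrr_z1 : IsIrrCharacter G (fun g : G => ((z1 (Ω := Ω) g : ℤ) : ℂ)) := by
  refine irr_of_int (z1 (Ω := Ω)) ?_ ?_ ?_
  · refine ⟨fun g : G => ((fx (Ω := Ω) g : ℕ) : ℂ), fun _ => 1, isCharacter_fx,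
      Cfsg.Agent.Helper3.isCharacter_one, ?_⟩
    funext g
    simp [z1]
  · exact sum_sq_theta1 h4 hΩ
  · unfold z1
    rw [fx_one]
    have : (4 : ℤ) ≤ (Fintype.card Ω : ℤ) := by exact_mod_cast hΩ
    linarith

theorem isIrr_z2 : IsIrrCharacter G (fun g : G => ((z2 (Ω := Ω) g : ℤ) : ℂ)) := by
  refine irr_of_int (z2 (Ω := Ω)) ?_ ?_ ?_
  · refine ⟨fun g : G => ((p2 (Ω := Ω) g : ℕ) : ℂ), fun g : G => ((fx (Ω := Ω) g : ℕ) : ℂ),
      isCharacter_p2, isCharacter_fx, ?_⟩
    funext g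
    simp [z2]
  · have h := sum_sq_theta2 (G := G) (Ω := Ω) h4 hΩ
    have h' : ∑ g : G, (2 * z2 (Ω := Ω) g) ^ 2 = 4 * (Fintype.card G : ℤ) := by
      rw [← h]
      exact Finset.sum_congr rfl (fun g _ => by rw [two_z2])
    have h'' : 4 * ∑ g : G, (z2 (Ω := Ω) g) ^ 2 = 4 * (Fintype.card G : ℤ) := by
      rw [← h', Finset.mul_sum]
      exact Finset.sum_congr rfl (fun g _ => by ring)
    linarith
  · have h := two_z2 (Ω := Ω) (1 : G)
    rw [fx_one, sw_one, Nat.cast_zero, add_zero] at h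
    have h4' : (4 : ℤ) ≤ (Fintype.card Ω : ℤ) := by exact_mod_cast hΩ
    have hp := mul_pos (show (0 : ℤ) < (Fintype.card Ω : ℤ) by linarith)
      (show (0 : ℤ) < (Fintype.card Ω : ℤ) - 3 by linarith)
    nlinarith

theorem isIrr_z3 : IsIrrCharacter G (fun g : G => ((z3 (Ω := Ω) g : ℤ) : ℂ)) := by
  refine irr_of_int (z3 (Ω := Ω)) ?_ ?_ ?_
  · refine ⟨(fun g : G => ((fx (Ω := Ω) g : ℕ) : ℂ)) * (fun g : G => ((fx (Ω := Ω) g : ℕ) : ℂ))
        + (fun _ => 1),
      (fun g : G => ((fx (Ω := Ω) g : ℕ) : ℂ)) + (fun g : G => ((fx (Ω := Ω) g : ℕ) : ℂ))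
        + (fun g : G => ((p2 (Ω := Ω) g : ℕ) : ℂ)), ?_, ?_, ?_⟩
    · exact Cfsg.Agent.Helper3.isCharacter_add
        (Cfsg.Agent.Helper3.isCharacter_mul isCharacter_fx isCharacter_fx)
        Cfsg.Agent.Helper3.isCharacter_one
    · exact Cfsg.Agent.Helper3.isCharacter_add
        (Cfsg.Agent.Helper3.isCharacter_add isCharacter_fx isCharacter_fx) isCharacter_p2
    · funext g
      simp only [z3, Pi.sub_apply, Pi.add_apply, Pi.mul_apply]
      push_cast
      ring
  · have h := sum_sq_theta3 (G := G) (Ω := Ω) h4 hΩ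
    have h' : ∑ g : G, (2 * z3 (Ω := Ω) g) ^ 2 = 4 * (Fintype.card G : ℤ) := by
      rw [← h]
      exact Finset.sum_congr rfl (fun g _ => by rw [two_z3])
    have h'' : 4 * ∑ g : G, (z3 (Ω := Ω) g) ^ 2 = 4 * (Fintype.card G : ℤ) := by
      rw [← h', Finset.mul_sum]
      exact Finset.sum_congr rfl (fun g _ => by ring)
    linarith
  · have h := two_z3 (Ω := Ω) (1 : G)
    rw [fx_one, sw_one, Nat.cast_zero, sub_zero] at h
    have h4' : (4 : ℤ) ≤ (Fintype.card Ω : ℤ) := by exact_mod_cast hΩ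
    have hp := mul_pos (show (0 : ℤ) < (Fintype.card Ω : ℤ) - 1 by linarith)
      (show (0 : ℤ) < (Fintype.card Ω : ℤ) - 2 by linarith)
    linarith

end Perm

end Cfsg.Agent.Helper40.MT4
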