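import Mathlib
import Cfsg.Prelude.Def_ParabolicCharacters

set_option autoImplicit false

namespace Cfsg.Agent.Helper40.Flag

open Cfsg

/-- counting orbits through a family of representatives -/
theorem card_orbits_eq {G Ω I : Type*} [Group G] [MulAction G Ω] (s : Setoid I) (r : I → Ω)
    (ha : ∀ ω : Ω, ∃ i, ∃ g : G, g • r i = ω)
    (hb : ∀ i j, (∃ g : G, g • r i = r j) ↔ s i j) :
    Nat.card (MulAction.orbitRel.Quotient G Ω) = Nat.card (Quotient s) := by
  symm
  apply Nat.card_congr
  refine Equiv.ofBijective (Quotient.map' (s₂ := MulAction.orbitRel G Ω) r ?_) ⟨?_, ?_⟩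
  · intro i j hij
    rw [MulAction.orbitRel_apply, MulAction.mem_orbit_iff]
    obtain ⟨g, hg⟩ := (hb j i).mpr (Setoid.symm hij)
    exact ⟨g, hg⟩
  · intro x y
    induction x using Quotient.inductionOn with
    | h i =>
      induction y using Quotient.inductionOn with
      | h j =>
        intro h
        have h' : (MulAction.orbitRel G Ω) (r i) (r j) := Quotient.exact h
        rw [MulAction.orbitRel_apply, MulAction.mem_orbit_iff] at h'
        obtain ⟨g, hg⟩ := h'
        exact Quotient.sound (Setoid.symm ((hb j i).mp ⟨g, hg⟩))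
  · intro x
    induction x using Quotient.inductionOn with
    | h ω =>
      obtain ⟨i, g, hg⟩ := ha ω
      refine ⟨Quotient.mk s i, ?_⟩
      apply Quotient.sound
      change (MulAction.orbitRel G Ω) (r i) ω
      rw [MulAction.orbitRel_apply, MulAction.mem_orbit_iff]
      exact ⟨g⁻¹, by rw [← hg, inv_smul_smul]⟩

/-- orbits on pairs of cosets, counted through a homomorphism from a group `W` whose image
contains representatives of all double cosets -/
theorem card_orbits_of_hom {G W : Type*} [Group G] [Group W] (φ : W →* G) (H K : Subgroup G)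
    (Y Y' : Subgroup W)
    (hsurj : ∀ g : G, ∃ h ∈ H, ∃ w, ∃ k ∈ K, g = h * φ w * k)
    (hiff : ∀ w w', (∃ h ∈ H, ∃ k ∈ K, φ w' = h * φ w * k) ↔
      (∃ y ∈ Y, ∃ y' ∈ Y', w' = y * w * y')) :
    Nat.card (MulAction.orbitRel.Quotient G ((G ⧸ H) × (G ⧸ K))) =
      Nat.card (DoubleCoset.Quotient (Y : Set W) (Y' : Set W)) := by
  apply card_orbits_eq (DoubleCoset.setoid (Y : Set W) (Y' : Set W))
    (fun w => ((QuotientGroup.mk 1 : G ⧸ H), (QuotientGroup.mk (φ w) : G ⧸ K)))
  · rintro ⟨x, y⟩
    induction x using QuotientGroup.induction_on with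
    | H x =>
      induction y using QuotientGroup.induction_on with
      | H y =>
        obtain ⟨h, hh, w, k, hk, heq⟩ := hsurj (x⁻¹ * y)
        refine ⟨w, x * h, ?_⟩
        rw [Prod.smul_mk, MulAction.Quotient.smul_mk, MulAction.Quotient.smul_mk, smul_eq_mul,
          smul_eq_mul, mul_one]
        apply Prod.ext
        · change (QuotientGroup.mk (x * h) : G ⧸ H) = QuotientGroup.mk x
          rw [QuotientGroup.eq]
          have : (x * h)⁻¹ * x = h⁻¹ := by group
          rw [this]
          exact inv_mem hh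
        · change (QuotientGroup.mk (x * h * φ w) : G ⧸ K) = QuotientGroup.mk y
          rw [QuotientGroup.eq]
          have : (x * h * φ w)⁻¹ * y = (h * φ w)⁻¹ * (x⁻¹ * y) := by group
          rw [this, heq]
          have : (h * φ w)⁻¹ * (h * φ w * k) = k := by group
          rw [this]
          exact hk
  · intro w w'
    rw [DoubleCoset.rel_iff, ← hiff]
    constructor
    · rintro ⟨g, hg⟩
      rw [Prod.smul_mk, MulAction.Quotient.smul_mk, MulAction.Quotient.smul_mk, smul_eq_mul,
        smul_eq_mul, mul_one, Prod.mk.injEq, QuotientGroup.eq, QuotientGroup.eq] at hg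
      obtain ⟨h1, h2⟩ := hg
      have hgH : g ∈ H := by
        have := inv_mem h1
        simpa using this
      refine ⟨g, hgH, (g * φ w)⁻¹ * φ w', h2, by group⟩
    · rintro ⟨h, hh, k, hk, heq⟩
      refine ⟨h, ?_⟩
      rw [Prod.smul_mk, MulAction.Quotient.smul_mk, MulAction.Quotient.smul_mk, smul_eq_mul,
        smul_eq_mul, mul_one, Prod.mk.injEq, QuotientGroup.eq, QuotientGroup.eq]
      refine ⟨by simpa using inv_mem hh, ?_⟩
      rw [heq]
      have : (h * φ w)⁻¹ * (h * φ w * k) = k := by group
      rw [this]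
      exact hk

/-- Burnside's lemma for the product of two permutation characters on cosets -/
theorem inner_fixedPoint_eq_card_orbits {G : Type*} [Group G] [Fintype G] (H K : Subgroup G) :
    (Nat.card G : ℂ)⁻¹ * ∑ g : G, fixedPointCharacter H g * fixedPointCharacter K g =
      (Nat.card (MulAction.orbitRel.Quotient G ((G ⧸ H) × (G ⧸ K))) : ℂ) := by
  classical
  have : Finite (G ⧸ H) := Quotient.finite _
  have : Finite (G ⧸ K) := Quotient.finite _
  have : Fintype ((G ⧸ H) × (G ⧸ K)) := Fintype.ofFinite _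
  have : Fintype (Quotient (MulAction.orbitRel G ((G ⧸ H) × (G ⧸ K)))) := Fintype.ofFinite _
  have hfix : ∀ g : G, fixedPointCharacter H g * fixedPointCharacter K g =
      ((Fintype.card (MulAction.fixedBy ((G ⧸ H) × (G ⧸ K)) g) : ℕ) : ℂ) := by
    intro g
    unfold fixedPointCharacter
    rw [← Nat.cast_mul, ← Nat.card_prod, ← Nat.card_eq_fintype_card]
    congr 1
    have hset : MulAction.fixedBy ((G ⧸ H) × (G ⧸ K)) g =
        (MulAction.fixedBy (G ⧸ H) g) ×ˢ (MulAction.fixedBy (G ⧸ K) g) := by
      ext ⟨x, y⟩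
      simp only [MulAction.mem_fixedBy, Prod.smul_mk, Prod.mk.injEq, Set.mem_prod]
    rw [hset]
    exact (Nat.card_congr (Equiv.Set.prod _ _)).symm
  rw [Finset.sum_congr rfl (fun g _ => hfix g), ← Nat.cast_sum,
    MulAction.sum_card_fixedBy_eq_card_orbits_mul_card_group G ((G ⧸ H) × (G ⧸ K))]
  have hG : (Nat.card G : ℂ) ≠ 0 := by
    rw [Nat.cast_ne_zero]
    exact Nat.card_pos.ne'
  rw [Nat.card_eq_fintype_card (α := G)] at hG ⊢
  rw [Nat.cast_mul, ← Nat.card_eq_fintype_card (α := Quotient (MulAction.orbitRel G _))]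
  change _ = (Nat.card (Quotient (MulAction.orbitRel G ((G ⧸ H) × (G ⧸ K)))) : ℂ)
  field_simp

end Cfsg.Agent.Helper40.Flag
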