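import Cfsg.Agent.Lib.Helper40.FlagPerm

set_option autoImplicit false

namespace Cfsg.Agent.Helper40.Flag

open Cfsg Module Cfsg.Agent.Helper40.Par
open scoped MatrixGroups

variable {F : Type*} [Field F] {n : ℕ}

open Classical in
/-- the lowest nonzero position of a vector (`0` for the zero vector) -/
noncomputable def low (v : Fin n → F) : ℕ :=
  (Finset.univ.filter (fun i => v i ≠ 0)).sup (fun i => (i : ℕ))

theorem le_low (v : Fin n → F) (i : Fin n) (h : v i ≠ 0) : (i : ℕ) ≤ low v := by
  classical
  unfold low
  exact Finset.le_sup (f := fun i : Fin n => (i : ℕ)) (Finset.mem_filter.mpr ⟨Finset.mem_univ _, h⟩)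

theorem eq_zero_of_low_lt (v : Fin n → F) (i : Fin n) (h : low v < (i : ℕ)) : v i = 0 := by
  by_contra hne
  have := le_low v i hne
  omega

theorem exists_low (v : Fin n → F) (hv : v ≠ 0) : ∃ i : Fin n, v i ≠ 0 ∧ (i : ℕ) = low v := by
  classical
  have hne : (Finset.univ.filter (fun i => v i ≠ 0)).Nonempty := by
    by_contra h
    rw [Finset.not_nonempty_iff_eq_empty] at h
    apply hv
    funext i
    by_contra hi
    have : i ∈ Finset.univ.filter (fun i => v i ≠ 0) :=
      Finset.mem_filter.mpr ⟨Finset.mem_univ _, hi⟩
    rw [h] at this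
    exact absurd this (Finset.notMem_empty _)
  obtain ⟨i, hi, hsup⟩ := Finset.exists_mem_eq_sup _ hne (fun i : Fin n => (i : ℕ))
  refine ⟨i, (Finset.mem_filter.mp hi).2, ?_⟩
  unfold low
  exact hsup.symm

/-- the columns of an invertible matrix are nonzero -/
theorem col_ne_zero (h : GL (Fin n) F) (j : Fin n) :
    (fun i => (h : Matrix (Fin n) (Fin n) F) i j) ≠ 0 := by
  intro h0
  have := Matrix.det_eq_zero_of_column_eq_zero (A := (h : Matrix (Fin n) (Fin n) F)) j
    (fun i => congrFun h0 i)
  exact Matrix.GeneralLinearGroup.det_ne_zero h this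

/-- the measure used in the column reduction -/
noncomputable def colMeasure (M : Matrix (Fin n) (Fin n) F) : ℕ :=
  ∑ j, low (fun i => M i j)

/-- an upper triangular transvection as an element of `GL_n` -/
noncomputable def tvGL (k j : Fin n) (hkj : k ≠ j) (c : F) : GL (Fin n) F :=
  Matrix.GeneralLinearGroup.mkOfDetNeZero (Matrix.transvection k j c)
    (by rw [Matrix.det_transvection_of_ne k j hkj]; exact one_ne_zero)

theorem tvGL_coe (k j : Fin n) (hkj : k ≠ j) (c : F) :
    ((tvGL k j hkj c : GL (Fin n) F) : Matrix (Fin n) (Fin n) F) = Matrix.transvection k j c := rfl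

theorem tvGL_mem (k j : Fin n) (hkj : k < j) (c : F) :
    tvGL k j hkj.ne c ∈ upperTriangularGL n F := by
  change (Matrix.transvection k j c).BlockTriangular id
  exact Matrix.blockTriangular_transvection (b := id) hkj.le c

/-- column reduction: some right translate by an upper triangular matrix has columns with
pairwise distinct lowest positions -/
theorem exists_reduced (m : ℕ) : ∀ h : GL (Fin n) F,
    colMeasure (h : Matrix (Fin n) (Fin n) F) = m →
    ∃ b' ∈ upperTriangularGL n F, Function.Injective
      (fun j => low (fun i => ((h * b' : GL (Fin n) F) : Matrix (Fin n) (Fin n) F) i j)) := by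
  induction m using Nat.strong_induction_on with
  | _ m ih =>
    intro h hm
    by_cases hinj : Function.Injective (fun j => low (fun i => (h : Matrix (Fin n) (Fin n) F) i j))
    · exact ⟨1, one_mem _, by simpa using hinj⟩
    · -- two columns with the same lowest position
      have : ∃ k j : Fin n, k < j ∧ low (fun i => (h : Matrix (Fin n) (Fin n) F) i k) =
          low (fun i => (h : Matrix (Fin n) (Fin n) F) i j) := by
        unfold Function.Injective at hinj
        push Not at hinj
        obtain ⟨a, b, hab, hne⟩ := hinj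
        rcases lt_or_gt_of_ne hne with hlt | hlt
        · exact ⟨a, b, hlt, hab⟩
        · exact ⟨b, a, hlt, hab.symm⟩
      obtain ⟨k, j, hkj, hlow⟩ := this
      obtain ⟨i, hik, hi⟩ := exists_low _ (col_ne_zero h k)
      obtain ⟨i', hij', hi'⟩ := exists_low _ (col_ne_zero h j)
      have hii' : i' = i := Fin.ext (by rw [hi', ← hlow, ← hi])
      subst hii'
      set c : F := (h : Matrix (Fin n) (Fin n) F) i' j / (h : Matrix (Fin n) (Fin n) F) i' k
        with hc
      set T := tvGL k j hkj.ne (-c) with hT
      have hTmem : T ∈ upperTriangularGL n F := tvGL_mem k j hkj (-c)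
      have hcol_ne : ∀ s, s ≠ j → ∀ r, ((h * T : GL (Fin n) F) : Matrix (Fin n) (Fin n) F) r s =
          (h : Matrix (Fin n) (Fin n) F) r s := by
        intro s hs r
        rw [Units.val_mul, hT, tvGL_coe, Matrix.mul_transvection_apply_of_ne _ _ _ _ hs]
      have hcol_j : ∀ r, ((h * T : GL (Fin n) F) : Matrix (Fin n) (Fin n) F) r j =
          (h : Matrix (Fin n) (Fin n) F) r j + (-c) * (h : Matrix (Fin n) (Fin n) F) r k := by
        intro r
        rw [Units.val_mul, hT, tvGL_coe, Matrix.mul_transvection_apply_same]
      -- the new column j has a smaller lowest position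
      have hnew : low (fun r => ((h * T : GL (Fin n) F) : Matrix (Fin n) (Fin n) F) r j) <
          low (fun r => (h : Matrix (Fin n) (Fin n) F) r j) := by
        obtain ⟨r, hr, hrlow⟩ := exists_low _ (col_ne_zero (h * T) j)
        rw [← hrlow, ← hi']
        by_contra hge
        push Not at hge
        apply hr
        rw [hcol_j]
        rcases Nat.eq_or_lt_of_le hge with heq | hlt
        · have : r = i' := Fin.ext heq.symm
          rw [this, hc]
          field_simp
          ring
        · rw [eq_zero_of_low_lt (fun r => (h : Matrix (Fin n) (Fin n) F) r j) r (by omega),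
            eq_zero_of_low_lt (fun r => (h : Matrix (Fin n) (Fin n) F) r k) r (by omega)]
          ring
      have hlt : colMeasure ((h * T : GL (Fin n) F) : Matrix (Fin n) (Fin n) F) < m := by
        rw [← hm]
        unfold colMeasure
        apply Finset.sum_lt_sum
        · intro s _
          by_cases hs : s = j
          · rw [hs]
            exact hnew.le
          · have : (fun r => ((h * T : GL (Fin n) F) : Matrix (Fin n) (Fin n) F) r s) =
                (fun r => (h : Matrix (Fin n) (Fin n) F) r s) := funext (hcol_ne s hs)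
            rw [this]
        · exact ⟨j, Finset.mem_univ _, hnew⟩
      obtain ⟨b'', hb'', hinj''⟩ := ih _ hlt (h * T) rfl
      refine ⟨T * b'', mul_mem hTmem hb'', ?_⟩
      rw [← mul_assoc]
      exact hinj''

/-- the Bruhat decomposition of `GL_n`: existence -/
theorem bruhat (g : GL (Fin n) F) :
    ∃ b ∈ upperTriangularGL n F, ∃ w : Equiv.Perm (Fin n), ∃ b' ∈ upperTriangularGL n F,
      g = b * pm F n w * b' := by
  obtain ⟨b₁, hb₁, hinj⟩ := exists_reduced _ g rfl
  set h := g * b₁ with hh
  have hlt : ∀ j : Fin n, low (fun i => (h : Matrix (Fin n) (Fin n) F) i j) < n := by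
    intro j
    obtain ⟨i, -, hi⟩ := exists_low _ (col_ne_zero h j)
    rw [← hi]
    exact i.isLt
  let wf : Fin n → Fin n := fun j => ⟨low (fun i => (h : Matrix (Fin n) (Fin n) F) i j), hlt j⟩
  have hwinj : Function.Injective wf := by
    intro a b hab
    apply hinj
    exact congrArg Fin.val hab
  let w : Equiv.Perm (Fin n) := Equiv.ofBijective wf (Finite.injective_iff_bijective.mp hwinj)
  have hw : ∀ j, ((w j : Fin n) : ℕ) = low (fun i => (h : Matrix (Fin n) (Fin n) F) i j) :=
    fun j => rfl
  set b := h * (pm F n w)⁻¹ with hb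
  have hbmem : b ∈ upperTriangularGL n F := by
    change (b : Matrix (Fin n) (Fin n) F).BlockTriangular id
    intro r c hrc
    change c < r at hrc
    rw [hb, Units.val_mul, ← map_inv, pm_coe, mul_pmat_apply]
    apply eq_zero_of_low_lt (fun i => (h : Matrix (Fin n) (Fin n) F) i (w⁻¹ c)) r
    rw [← hw]
    have : w (w⁻¹ c) = c := by simp
    rw [this]
    exact hrc
  refine ⟨b, hbmem, w, b₁⁻¹, inv_mem hb₁, ?_⟩
  rw [hb, hh]
  group

end Cfsg.Agent.Helper40.Flag
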