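import Mathlib
import Cfsg.Prelude.Def_Transfer
import Cfsg.Agent.Lib.Helper24.CYCDefs

/-!
helper40: piece (OB0) `odd_exists_sylow` of helper24's lemma server "CYC" (row S4016).
-/

set_option autoImplicit false

namespace Cfsg.Agent.Helper40.CYC

open Subgroup Cfsg.Agent.Helper24.CYC

universe u

variable {G : Type u} [Group G] [Finite G] {p : ℕ} [Fact p.Prime]

/-- a subgroup of `N_G(P)` containing `P` and a complement `K` is all of `N_G(P)`. -/
theorem ob0_eq_of_le (P : Sylow p G) (K H : Subgroup G) (hKp : ¬ p ∣ Nat.card K)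
    (hcard : Nat.card K * Nat.card P = Nat.card (NP P)) (hH : H ≤ NP P) (hPH : (P : Subgroup G) ≤ H)
    (hKH : K ≤ H) : H = NP P := by
  have hp : p.Prime := Fact.out
  have h1 : Nat.card (P : Subgroup G) ∣ Nat.card H := Subgroup.card_dvd_of_le hPH
  have h2 : Nat.card K ∣ Nat.card H := Subgroup.card_dvd_of_le hKH
  obtain ⟨n, hn⟩ := IsPGroup.iff_card.mp P.isPGroup'
  have hcop : Nat.Coprime (Nat.card K) (Nat.card (P : Subgroup G)) := by
    rw [hn]
    exact Nat.Coprime.pow_right _ ((Nat.Prime.coprime_iff_not_dvd hp).mpr hKp).symm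
  have h3 : Nat.card K * Nat.card (P : Subgroup G) ∣ Nat.card H :=
    Nat.Coprime.mul_dvd_of_dvd_of_dvd hcop h2 h1
  have h4 : Nat.card (NP P) ≤ Nat.card H := by
    rw [← hcard]
    exact Nat.le_of_dvd Nat.card_pos h3
  exact Subgroup.eq_of_le_of_card_ge hH h4

theorem odd_exists_sylow (hC : Core p G) (P : Sylow p G) (a t : G) (ha : a ∈ P) (ha1 : a ≠ 1) (ht1 : t ≠ 1)
    (htp : (orderOf t).Coprime p) (hat : a * t = t * a) :
    ∃ r : ℕ, r.Prime ∧ r ≠ p ∧ ∃ R : Sylow r G, (R : Subgroup G) ≤ NP P ∧ (∃ g ∈ R, g ≠ 1 ∧ g ∈ CP P) ∧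
      ¬ (R : Subgroup G) ≤ CP P := by
  have hp : p.Prime := Fact.out
  -- t ∈ N_G(P), then t ∈ C_G(P)
  have hkey := hC.key P a t ha ha1 ht1 htp hat
  have htN : t ∈ NP P := by
    rw [← hkey]
    exact Subgroup.mem_centralizer_singleton_iff.mpr rfl
  have htC : t ∈ CP P := hC.c1.fpf P t a htN htp ha ha1 hat.symm
  -- a prime r dividing the order of t
  have hot : orderOf t ≠ 1 := by
    intro h
    exact ht1 (orderOf_eq_one_iff.mp h)
  obtain ⟨r, hr, hrt⟩ := Nat.exists_prime_and_dvd hot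
  have hrp : r ≠ p := by
    rintro rfl
    have : r ∣ Nat.gcd (orderOf t) r := Nat.dvd_gcd hrt dvd_rfl
    rw [htp] at this
    exact hr.one_lt.ne' (Nat.dvd_one.mp this)
  have : Fact r.Prime := ⟨hr⟩
  -- g of order r
  set g : G := t ^ (orderOf t / r) with hg
  have hog : orderOf g = r := by
    have hpos : 0 < orderOf t := orderOf_pos t
    exact orderOf_pow_orderOf_div hpos.ne' hrt
  have hg1 : g ≠ 1 := by
    intro h
    rw [h, orderOf_one] at hog
    exact hr.one_lt.ne hog
  have hgC : g ∈ CP P := (CP P).pow_mem htC _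
  have hgp : (orderOf g).Coprime p := by
    rw [hog]
    exact (Nat.coprime_primes hr hp).mpr hrp
  have hag : a * g = g * a := by
    have := Subgroup.mem_centralizer_iff.mp hgC a ha
    exact this
  have hkeyg := hC.key P a g ha ha1 hg1 hgp hag
  -- the Sylow r-subgroup R containing g
  have hzg : IsPGroup r (Subgroup.zpowers g) := by
    rw [IsPGroup.iff_card]
    exact ⟨1, by rw [Nat.card_zpowers, hog, pow_one]⟩
  obtain ⟨R, hR⟩ := hzg.exists_le_sylow
  have hgR : g ∈ (R : Subgroup G) := hR (Subgroup.mem_zpowers g)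
  have hRp : ¬ p ∣ Nat.card (R : Subgroup G) := by
    obtain ⟨n, hn⟩ := IsPGroup.iff_card.mp R.isPGroup'
    rw [hn]
    intro h
    exact hrp ((Nat.prime_dvd_prime_iff_eq hp hr).mp (hp.dvd_of_dvd_pow h)).symm
  have hRab := hC.c1.min.ab (R : Subgroup G) hRp
  have hRN : (R : Subgroup G) ≤ NP P := by
    intro y hy
    rw [← hkeyg]
    exact Subgroup.mem_centralizer_singleton_iff.mpr (hRab y hy g hgR)
  refine ⟨r, hr, hrp, R, hRN, ⟨g, hgR, hg1, hgC⟩, ?_⟩
  intro hRC
  obtain ⟨K, hKN, hKp, hKcard, hK⟩ := hC.c1.compl P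
  have hRK : (R : Subgroup G) ≤ K := by
    intro y hy
    refine hK y (hRC hy) ?_
    obtain ⟨k, hk⟩ := (IsPGroup.iff_orderOf.mp R.isPGroup') ⟨y, hy⟩
    have hk' : orderOf y = r ^ k := by
      rw [← hk]
      exact (Subgroup.orderOf_mk y hy).symm
    rw [hk']
    exact Nat.Coprime.pow_left _ ((Nat.coprime_primes hr hp).mpr hrp)
  have hKab := hC.c1.min.ab K hKp
  -- N_G(P) ≤ C_G(R)
  have hH : ctr (R : Subgroup G) ⊓ NP P = NP P := by
    apply ob0_eq_of_le P K _ hKp hKcard inf_le_right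
    · intro x hx
      refine ⟨?_, Subgroup.le_normalizer hx⟩
      show x ∈ Subgroup.centralizer ((R : Subgroup G) : Set G)
      rw [Subgroup.mem_centralizer_iff]
      intro y hy
      have := Subgroup.mem_centralizer_iff.mp (hRC hy) x hx
      exact this.symm
    · intro x hx
      refine ⟨?_, hKN hx⟩
      show x ∈ Subgroup.centralizer ((R : Subgroup G) : Set G)
      rw [Subgroup.mem_centralizer_iff]
      intro y hy
      exact hKab y (hRK hy) x hx
  have hNC : NP P ≤ ctr (R : Subgroup G) := by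
    rw [← hH]
    exact inf_le_left
  have hCN : ctr (R : Subgroup G) ≤ nrm (R : Subgroup G) := Subgroup.centralizer_le_normalizer _
  have hRbot : (R : Subgroup G) ≠ ⊥ := by
    intro h
    rw [h, Subgroup.mem_bot] at hgR
    exact hg1 hgR
  have hnrm : nrm (R : Subgroup G) ≠ ⊤ := by
    intro h
    have hn : (R : Subgroup G).Normal := Subgroup.normalizer_eq_top_iff.mp h
    have hs := hC.c1.min.simple
    rcases hn.eq_bot_or_eq_top with h0 | h0
    · exact hRbot h0
    · obtain ⟨x, y, hxy⟩ := hC.c1.min.nonab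
      exact hxy (hRab x (h0 ▸ Subgroup.mem_top x) y (h0 ▸ Subgroup.mem_top y))
  have hmax := hC.c1.max P (nrm (R : Subgroup G)) (hNC.trans hCN) hnrm
  have hburn := hC.c1.burn r R hRbot
  apply hburn
  rw [hmax]
  exact hNC

end Cfsg.Agent.Helper40.CYC
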