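import Mathlib
import Cfsg.Prelude.Def_Transfer
import Cfsg.Agent.Lib.Helper24.CYCDefs

/-!
helper40: piece (OB1) `odd_centralizer_sylow` of helper24's lemma server "CYC" (row S4016).
-/

set_option autoImplicit false

namespace Cfsg.Agent.Helper40.CYC

open Subgroup Cfsg.Agent.Helper24.CYC

universe u

variable {G : Type u} [Group G] [Finite G] {p : ℕ} [Fact p.Prime]

/-- An `r`-subgroup `R` of `N` is conjugate in `N` into a subgroup `K ≤ N` of index prime to `r`. -/
theorem ob1_exists_conj_le {r : ℕ} [Fact r.Prime] (N K R : Subgroup G) (hR : R ≤ N)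
    (hRr : IsPGroup r R) (hidx : ¬ r ∣ K.relIndex N) :
    ∃ n ∈ N, ∀ y ∈ R, n⁻¹ * y * n ∈ K := by
  let α := ↥N ⧸ K.subgroupOf N
  let _ : MulAction ↥R α := MulAction.compHom α (Subgroup.inclusion hR)
  have hcard : Nat.card α = K.relIndex N := rfl
  obtain ⟨x, hx⟩ := hRr.nonempty_fixed_point_of_prime_not_dvd_card α (by rwa [hcard])
  obtain ⟨n, rfl⟩ := QuotientGroup.mk_surjective x
  refine ⟨n, n.2, fun y hy => ?_⟩
  have h1 := hx ⟨y, hy⟩
  have h2 : ((Subgroup.inclusion hR ⟨y, hy⟩ * n : ↥N) : α) = (n : α) := h1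
  rw [QuotientGroup.eq] at h2
  have h3 : ((y * n)⁻¹ * n : G) ∈ K := by
    simpa [Subgroup.mem_subgroupOf] using h2
  have h4 := K.inv_mem h3
  have h5 : ((y * (n : G))⁻¹ * n)⁻¹ = (n : G)⁻¹ * y * n := by group
  rwa [h5] at h4

/-- a `p`-element of `N_G(P)` lies in `P`. -/
theorem ob1_mem_sylow (P : Sylow p G) (u : G) (hu : u ∈ NP P) (hou : orderOf u = p) :
    u ∈ (P : Subgroup G) := by
  have hz : IsPGroup p (Subgroup.zpowers u) := by
    rw [IsPGroup.iff_card]
    exact ⟨1, by rw [Nat.card_zpowers, hou, pow_one]⟩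
  have h1 : IsPGroup p (Subgroup.zpowers u ⊔ (P : Subgroup G) : Subgroup G) :=
    IsPGroup.to_sup_of_normal_right' hz P.isPGroup' (by
      rw [Subgroup.zpowers_le]
      exact hu)
  have h2 := P.is_maximal' h1 le_sup_right
  rw [← h2]
  exact (le_sup_left : Subgroup.zpowers u ≤ _) (Subgroup.mem_zpowers u)

theorem odd_centralizer_sylow (hC : Core p G) (P : Sylow p G) (r : ℕ) (hr : r.Prime) (hrp : r ≠ p) (R : Sylow r G)
    (hRN : (R : Subgroup G) ≤ NP P) (hg : ∃ g ∈ R, g ≠ 1 ∧ g ∈ CP P) (hRC : ¬ (R : Subgroup G) ≤ CP P) :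
    ctr (R : Subgroup G) ≤ NP P ∧ ¬ p ∣ Nat.card (ctr (R : Subgroup G)) ∧
      Nat.card (ctr (R : Subgroup G)) * Nat.card P = Nat.card (NP P) ∧
      ∀ t ∈ CP P, (orderOf t).Coprime p → t ∈ ctr (R : Subgroup G) := by
  have hp : p.Prime := Fact.out
  have : Fact r.Prime := ⟨hr⟩
  have hrpc : Nat.Coprime r p := (Nat.coprime_primes hr hp).mpr hrp
  -- elements of `R` are `p'`-elements
  have hRcop : ∀ y ∈ (R : Subgroup G), (orderOf y).Coprime p := by
    intro y hy
    obtain ⟨k, hk⟩ := (IsPGroup.iff_orderOf.mp R.isPGroup') ⟨y, hy⟩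
    have hk' : orderOf y = r ^ k := by
      rw [← hk]
      exact (Subgroup.orderOf_mk y hy).symm
    rw [hk']
    exact Nat.Coprime.pow_left _ hrpc
  obtain ⟨g, hgR, hg1, hgC⟩ := hg
  -- (1) `C_G(R) ≤ N_G(P)`
  have hPbot : (P : Subgroup G) ≠ ⊥ := P.ne_bot_of_dvd_card hC.c1.min.pdvd
  obtain ⟨a, ha1⟩ := (Subgroup.ne_bot_iff_exists_ne_one.mp hPbot)
  have ha1' : (a : G) ≠ 1 := fun h => ha1 (Subtype.ext h)
  have hag : (a : G) * g = g * a := Subgroup.mem_centralizer_iff.mp hgC a a.2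
  have hkey := hC.key P a g a.2 ha1' hg1 (hRcop g hgR) hag
  have h1 : ctr (R : Subgroup G) ≤ NP P := by
    intro x hx
    rw [← hkey]
    rw [Subgroup.mem_centralizer_singleton_iff]
    have hx' : x ∈ Subgroup.centralizer ((R : Subgroup G) : Set G) := hx
    exact (Subgroup.mem_centralizer_iff.mp hx' g hgR).symm
  -- (2) `C_P(R) = 1`
  have hy : ∃ y ∈ (R : Subgroup G), y ∉ CP P := by
    by_contra hcon
    apply hRC
    intro y hy
    by_contra hyC
    exact hcon ⟨y, hy, hyC⟩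
  obtain ⟨y, hyR, hyC⟩ := hy
  have h2 : ∀ b ∈ (P : Subgroup G), b ∈ ctr (R : Subgroup G) → b = 1 := by
    intro b hbP hbC
    by_contra hb1
    have hbC' : b ∈ Subgroup.centralizer ((R : Subgroup G) : Set G) := hbC
    have hyb : y * b = b * y := Subgroup.mem_centralizer_iff.mp hbC' y hyR
    exact hyC (hC.c1.fpf P y b (hRN hyR) (hRcop y hyR) hbP hb1 hyb)
  -- (3) `p ∤ |C_G(R)|`
  have h3 : ¬ p ∣ Nat.card (ctr (R : Subgroup G)) := by
    intro hdvd
    obtain ⟨u, hu⟩ := exists_prime_orderOf_dvd_card' p hdvd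
    have hou : orderOf (u : G) = p := by rw [Subgroup.orderOf_coe, hu]
    have huP : (u : G) ∈ (P : Subgroup G) := ob1_mem_sylow P u (h1 u.2) hou
    have hu1 := h2 u huP u.2
    rw [hu1, orderOf_one] at hou
    exact hp.one_lt.ne hou
  -- the complement `K`
  obtain ⟨K, hKN, hKp, hKcard, hK⟩ := hC.c1.compl P
  have hKab := hC.c1.min.ab K hKp
  obtain ⟨m, hm⟩ := IsPGroup.iff_card.mp P.isPGroup'
  have hidx : ¬ r ∣ K.relIndex (NP P) := by
    have e1 : Nat.card (K.subgroupOf (NP P)) = Nat.card K :=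
      Nat.card_congr (Subgroup.subgroupOfEquivOfLe hKN).toEquiv
    have e2 := (K.subgroupOf (NP P)).card_mul_index
    rw [e1, ← hKcard] at e2
    have e3 : (K.subgroupOf (NP P)).index = Nat.card (P : Subgroup G) :=
      Nat.eq_of_mul_eq_mul_left Nat.card_pos e2
    show ¬ r ∣ (K.subgroupOf (NP P)).index
    rw [e3, hm]
    intro h
    exact hrp ((Nat.prime_dvd_prime_iff_eq hr hp).mp (hr.dvd_of_dvd_pow h))
  obtain ⟨n, hnN, hn⟩ := ob1_exists_conj_le (NP P) K (R : Subgroup G) hRN R.isPGroup' hidx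
  -- `n K n⁻¹ ≤ C_G(R)`
  have hconj : ∀ k ∈ K, n * k * n⁻¹ ∈ ctr (R : Subgroup G) := by
    intro k hk
    show n * k * n⁻¹ ∈ Subgroup.centralizer ((R : Subgroup G) : Set G)
    rw [Subgroup.mem_centralizer_iff]
    intro z hz
    have hc := hKab (n⁻¹ * z * n) (hn z hz) k hk
    calc z * (n * k * n⁻¹) = n * ((n⁻¹ * z * n) * k) * n⁻¹ := by group
      _ = n * (k * (n⁻¹ * z * n)) * n⁻¹ := by rw [hc]
      _ = n * k * n⁻¹ * z := by group
  -- cardinalities
  have hle : Nat.card K ≤ Nat.card (ctr (R : Subgroup G)) := by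
    apply Nat.card_le_card_of_injective (fun k : K => (⟨n * k * n⁻¹, hconj k k.2⟩ : ctr (R : Subgroup G)))
    intro k1 k2 h
    have h' : n * (k1 : G) * n⁻¹ = n * (k2 : G) * n⁻¹ := congrArg Subtype.val h
    have h'' : (k1 : G) = k2 := by
      have := mul_right_cancel h'
      exact mul_left_cancel this
    exact Subtype.ext h''
  have hdvd : Nat.card (ctr (R : Subgroup G)) ∣ Nat.card K := by
    have d1 : Nat.card (ctr (R : Subgroup G)) ∣ Nat.card (NP P) := Subgroup.card_dvd_of_le h1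
    rw [← hKcard] at d1
    have hcop : Nat.Coprime (Nat.card (ctr (R : Subgroup G))) (Nat.card (P : Subgroup G)) := by
      rw [hm]
      exact Nat.Coprime.pow_right _ ((Nat.Prime.coprime_iff_not_dvd hp).mpr h3).symm
    exact hcop.dvd_of_dvd_mul_right d1
  have heq : Nat.card (ctr (R : Subgroup G)) = Nat.card K :=
    le_antisymm (Nat.le_of_dvd Nat.card_pos hdvd) hle
  refine ⟨h1, h3, ?_, ?_⟩
  · rw [heq]
    exact hKcard
  · intro t htC htp
    -- `n⁻¹ t n ∈ C_G(P)` is a `p'`-element, so lies in `K`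
    have hnt : n⁻¹ * t * n ∈ CP P := by
      show n⁻¹ * t * n ∈ Subgroup.centralizer ((P : Subgroup G) : Set G)
      rw [Subgroup.mem_centralizer_iff]
      intro b hb
      have hb' : n * b * n⁻¹ ∈ (P : Subgroup G) :=
        (Subgroup.mem_normalizer_iff.mp hnN b).mp hb
      have htC' : t ∈ Subgroup.centralizer ((P : Subgroup G) : Set G) := htC
      have hc := Subgroup.mem_centralizer_iff.mp htC' (n * b * n⁻¹) hb'
      calc b * (n⁻¹ * t * n) = n⁻¹ * ((n * b * n⁻¹) * t) * n := by group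
        _ = n⁻¹ * (t * (n * b * n⁻¹)) * n := by rw [hc]
        _ = n⁻¹ * t * n * b := by group
    have hord : orderOf (n⁻¹ * t * n) = orderOf t := by
      have := (MulAut.conj n⁻¹).orderOf_eq t
      rw [MulAut.conj_apply, inv_inv] at this
      exact this
    have hk : n⁻¹ * t * n ∈ K := hK _ hnt (by rw [hord]; exact htp)
    have := hconj _ hk
    have e : n * (n⁻¹ * t * n) * n⁻¹ = t := by group
    rwa [e] at this

end Cfsg.Agent.Helper40.CYC
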