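import Mathlib
import Cfsg.Prelude.Def_Transfer
import Cfsg.Agent.Lib.Helper24.CYCDefs

/-!
helper40: piece (OB3) `odd_count` of helper24's lemma server "CYC" (row S4016).
-/

set_option autoImplicit false

namespace Cfsg.Agent.Helper40.CYC

open Subgroup Cfsg.Agent.Helper24.CYC

universe u

variable {G : Type u} [Group G] [Finite G] {p : ℕ} [Fact p.Prime]

/-- an element of `p`-power order of `N_G(P)` lies in `P`. -/
theorem ob3_mem_sylow (P : Sylow p G) (u : G) (hu : u ∈ NP P) (k : ℕ) (hou : orderOf u = p ^ k) :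
    u ∈ (P : Subgroup G) := by
  have hz : IsPGroup p (Subgroup.zpowers u) := by
    rw [IsPGroup.iff_card]
    exact ⟨k, by rw [Nat.card_zpowers, hou]⟩
  have h1 : IsPGroup p (Subgroup.zpowers u ⊔ (P : Subgroup G) : Subgroup G) :=
    IsPGroup.to_sup_of_normal_right' hz P.isPGroup' (by
      rw [Subgroup.zpowers_le]
      exact hu)
  have h2 := P.is_maximal' h1 le_sup_right
  rw [← h2]
  exact (le_sup_left : Subgroup.zpowers u ≤ _) (Subgroup.mem_zpowers u)

/-- the number of nonidentity elements of a finite group. -/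
theorem ob3_card_ne_one (H : Type*) [Group H] [Finite H] :
    Nat.card {x : H // x ≠ 1} + 1 = Nat.card H := by
  classical
  rw [← Finite.card_option]
  exact Nat.card_congr (Equiv.optionSubtypeNe (1 : H))

omit [Finite G] in
/-- order of a conjugate. -/
theorem ob3_orderOf_conj (w x : G) : orderOf (w * x * w⁻¹) = orderOf x := by
  have := (MulAut.conj w).orderOf_eq x
  rwa [MulAut.conj_apply] at this

theorem odd_count (hC : Core p G) (P : Sylow p G) (R : Subgroup G)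
    (hK1 : ctr R ≤ NP P) (hK2 : ¬ p ∣ Nat.card (ctr R)) (hK3 : Nat.card (ctr R) * Nat.card P = Nat.card (NP P))
    (hK4 : ∀ t ∈ CP P, (orderOf t).Coprime p → t ∈ ctr R)
    (v : G) (hv : orderOf v = p) (hvR : v ∈ nrm R) (hvN : ∀ i : ℕ, 0 < i → i < p → v ^ i ∉ NP P) :
    p * Nat.card (CP P) + Nat.card P ≤ Nat.card (NP P) + p * Nat.card P := by
  have hp : p.Prime := Fact.out
  have hKab := hC.c1.min.ab (ctr R) hK2
  -- elements of `K = C_G(R)` are `p'`-elements
  have hKcop : ∀ x ∈ ctr R, (orderOf x).Coprime p := by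
    intro x hx
    have h1 : orderOf x ∣ Nat.card (ctr R) := by
      have := orderOf_dvd_natCard (⟨x, hx⟩ : ctr R)
      rwa [Subgroup.orderOf_mk] at this
    exact Nat.Coprime.coprime_dvd_left h1 ((Nat.Prime.coprime_iff_not_dvd hp).mpr hK2).symm
  -- `P ∩ K = 1`
  have hPK : ∀ x ∈ (P : Subgroup G), x ∈ ctr R → x = 1 := by
    intro x hxP hxK
    obtain ⟨k, hk⟩ := (IsPGroup.iff_orderOf.mp P.isPGroup') ⟨x, hxP⟩
    have hk' : orderOf x = p ^ k := by
      rw [← hk]
      exact (Subgroup.orderOf_mk x hxP).symm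
    have hc := hKcop x hxK
    rw [hk'] at hc
    rcases Nat.eq_zero_or_pos k with h0 | h0
    · rw [h0, pow_zero] at hk'
      exact orderOf_eq_one_iff.mp hk'
    · exfalso
      have : p ∣ Nat.gcd (p ^ k) p := Nat.dvd_gcd (dvd_pow_self p h0.ne') dvd_rfl
      rw [hc] at this
      exact hp.one_lt.ne' (Nat.dvd_one.mp this)
  -- `P ≤ C_G(P)`
  have hPcomm : ∀ x ∈ (P : Subgroup G), ∀ y ∈ (P : Subgroup G), x * y = y * x := by
    have hcyc := hC.c1.min.cyc P
    intro x hx y hy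
    obtain ⟨g, hg⟩ := hcyc.exists_generator
    obtain ⟨m, hm⟩ := Subgroup.mem_zpowers_iff.mp (hg ⟨x, hx⟩)
    obtain ⟨n, hn⟩ := Subgroup.mem_zpowers_iff.mp (hg ⟨y, hy⟩)
    have := zpow_mul_comm g m n
    rw [hm, hn] at this
    exact congrArg Subtype.val this
  have hPC : (P : Subgroup G) ≤ CP P := by
    intro x hx
    show x ∈ Subgroup.centralizer ((P : Subgroup G) : Set G)
    rw [Subgroup.mem_centralizer_iff]
    intro y hy
    exact hPcomm y hy x hx
  have hPN : (P : Subgroup G) ≤ NP P := Subgroup.le_normalizer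
  -- `N = P K`
  have hfact : ∀ x ∈ NP P, ∃ u ∈ (P : Subgroup G), ∃ k ∈ ctr R, x = u * k := by
    let f : ↥(P : Subgroup G) × ↥(ctr R) → ↥(NP P) :=
      fun z => ⟨(z.1 : G) * (z.2 : G), (NP P).mul_mem (hPN z.1.2) (hK1 z.2.2)⟩
    have hinj : Function.Injective f := by
      rintro ⟨u1, k1⟩ ⟨u2, k2⟩ h
      have h' : (u1 : G) * (k1 : G) = (u2 : G) * (k2 : G) := congrArg Subtype.val h
      have h2 : (u2 : G)⁻¹ * (u1 : G) = (k2 : G) * (k1 : G)⁻¹ := by
        have : (u1 : G) = (u2 : G) * (k2 : G) * (k1 : G)⁻¹ := by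
          rw [← h']; group
        rw [this]; group
      have h3 : (u2 : G)⁻¹ * (u1 : G) = 1 := by
        apply hPK
        · exact (P : Subgroup G).mul_mem ((P : Subgroup G).inv_mem u2.2) u1.2
        · rw [h2]
          exact (ctr R).mul_mem k2.2 ((ctr R).inv_mem k1.2)
      have h4 : (u1 : G) = u2 := by
        have := inv_mul_eq_one.mp h3
        exact this.symm
      have h5 : (k1 : G) = k2 := by
        rw [h4] at h'
        exact mul_left_cancel h'
      exact Prod.ext (Subtype.ext h4) (Subtype.ext h5)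
    have hcard : Nat.card ↥(NP P) ≤ Nat.card (↥(P : Subgroup G) × ↥(ctr R)) := by
      rw [Nat.card_prod, ← hK3, mul_comm]
    have hbij := hinj.bijective_of_nat_card_le hcard
    intro x hx
    obtain ⟨⟨u, k⟩, huk⟩ := hbij.2 ⟨x, hx⟩
    exact ⟨u, u.2, k, k.2, (congrArg Subtype.val huk).symm⟩
  -- `K₀`
  set K0 : Subgroup G := ctr R ⊓ CP P with hK0
  -- `|C_G(P)| ≤ |P| |K₀|`
  have hCPle : Nat.card (CP P) ≤ Nat.card (P : Subgroup G) * Nat.card K0 := by
    rw [← Nat.card_prod]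
    let f : ↥(P : Subgroup G) × ↥K0 → ↥(CP P) :=
      fun z => ⟨(z.1 : G) * (z.2 : G), (CP P).mul_mem (hPC z.1.2) z.2.2.2⟩
    apply Nat.card_le_card_of_surjective f
    rintro ⟨x, hx⟩
    obtain ⟨u, hu, k, hk, hxuk⟩ := hfact x (Subgroup.centralizer_le_normalizer _ hx)
    have hkC : k ∈ CP P := by
      have : k = u⁻¹ * x := by rw [hxuk]; group
      rw [this]
      exact (CP P).mul_mem ((CP P).inv_mem (hPC hu)) hx
    exact ⟨⟨⟨u, hu⟩, ⟨k, ⟨hk, hkC⟩⟩⟩, Subtype.ext hxuk.symm⟩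
  -- key for elements of `K₀`
  have hPbot : (P : Subgroup G) ≠ ⊥ := P.ne_bot_of_dvd_card hC.c1.min.pdvd
  obtain ⟨a, ha1⟩ := (Subgroup.ne_bot_iff_exists_ne_one.mp hPbot)
  have ha1' : (a : G) ≠ 1 := fun h => ha1 (Subtype.ext h)
  have hkey : ∀ h ∈ K0, h ≠ 1 → Subgroup.centralizer {h} = NP P := by
    intro h hh h1
    have hah : (a : G) * h = h * a := by
      have hh2 : h ∈ Subgroup.centralizer ((P : Subgroup G) : Set G) := hh.2
      exact Subgroup.mem_centralizer_iff.mp hh2 a a.2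
    exact hC.key P a h a.2 ha1' h1 (hKcop h hh.1) hah
  -- Lemma B
  have hB : ∀ w h : G, h ∈ K0 → h ≠ 1 → w * h * w⁻¹ ∈ K0 → w ∈ NP P := by
    intro w h hh h1 hwh
    have hwh1 : w * h * w⁻¹ ≠ 1 := by
      intro hcon
      apply h1
      have : h = w⁻¹ * (w * h * w⁻¹) * w := by group
      rw [this, hcon]; group
    have k1 := hkey h hh h1
    have k2 := hkey _ hwh hwh1
    -- `w x w⁻¹ ∈ N` and `w⁻¹ x w ∈ N` for `x ∈ N`
    have hfw : ∀ x ∈ NP P, w * x * w⁻¹ ∈ NP P := by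
      intro x hx
      rw [← k1] at hx
      rw [← k2]
      rw [Subgroup.mem_centralizer_singleton_iff] at hx ⊢
      calc w * x * w⁻¹ * (w * h * w⁻¹) = w * (x * h) * w⁻¹ := by group
        _ = w * (h * x) * w⁻¹ := by rw [hx]
        _ = w * h * w⁻¹ * (w * x * w⁻¹) := by group
    have hbw : ∀ x ∈ NP P, w⁻¹ * x * w ∈ NP P := by
      intro x hx
      rw [← k2] at hx
      rw [← k1]
      rw [Subgroup.mem_centralizer_singleton_iff] at hx ⊢
      calc w⁻¹ * x * w * h = w⁻¹ * (x * (w * h * w⁻¹)) * w := by group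
        _ = w⁻¹ * ((w * h * w⁻¹) * x) * w := by rw [hx]
        _ = h * (w⁻¹ * x * w) := by group
    show w ∈ Subgroup.normalizer ((P : Subgroup G) : Set G)
    rw [Subgroup.mem_normalizer_iff]
    intro u
    constructor
    · intro hu
      obtain ⟨k, hk⟩ := (IsPGroup.iff_orderOf.mp P.isPGroup') ⟨u, hu⟩
      have hk' : orderOf u = p ^ k := by
        rw [← hk]
        exact (Subgroup.orderOf_mk u hu).symm
      exact ob3_mem_sylow P _ (hfw u (hPN hu)) k (by rw [ob3_orderOf_conj, hk'])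
    · intro hu
      obtain ⟨k, hk⟩ := (IsPGroup.iff_orderOf.mp P.isPGroup') ⟨_, hu⟩
      have hk' : orderOf (w * u * w⁻¹) = p ^ k := by
        rw [← hk]
        exact (Subgroup.orderOf_mk _ hu).symm
      have h3 := ob3_mem_sylow P _ (hbw _ (hPN hu)) k (by
        have := ob3_orderOf_conj w⁻¹ (w * u * w⁻¹)
        rw [inv_inv] at this
        rw [this, hk'])
      have e : w⁻¹ * (w * u * w⁻¹) * w = u := by group
      rwa [e] at h3
  -- `v^i` normalises `K = C_G(R)`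
  have hvK : ∀ i : ℕ, ∀ x ∈ ctr R, v ^ i * x * (v ^ i)⁻¹ ∈ ctr R := by
    intro i x hx
    have hw : v ^ i ∈ nrm R := (nrm R).pow_mem hvR i
    have hw' : (v ^ i)⁻¹ ∈ nrm R := (nrm R).inv_mem hw
    show v ^ i * x * (v ^ i)⁻¹ ∈ Subgroup.centralizer (R : Set G)
    rw [Subgroup.mem_centralizer_iff]
    intro y hy
    have hy' : (v ^ i)⁻¹ * y * (v ^ i)⁻¹⁻¹ ∈ R := (Subgroup.mem_normalizer_iff.mp hw' y).mp hy
    rw [inv_inv] at hy'
    have hx' : x ∈ Subgroup.centralizer (R : Set G) := hx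
    have hc := Subgroup.mem_centralizer_iff.mp hx' _ hy'
    calc y * (v ^ i * x * (v ^ i)⁻¹) = v ^ i * (((v ^ i)⁻¹ * y * v ^ i) * x) * (v ^ i)⁻¹ := by group
      _ = v ^ i * (x * ((v ^ i)⁻¹ * y * v ^ i)) * (v ^ i)⁻¹ := by rw [hc]
      _ = v ^ i * x * (v ^ i)⁻¹ * y := by group
  -- the injection
  let A := {h : ↥K0 // h ≠ 1}
  let B := {k : ↥(ctr R) // k ≠ 1}
  have hgmem : ∀ (i : ℕ) (h : A), (⟨v ^ i * (h.1 : G) * (v ^ i)⁻¹, hvK i _ h.1.2.1⟩ : ↥(ctr R)) ≠ 1 := by
    intro i h hcon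
    apply h.2
    have h1 : v ^ i * (h.1 : G) * (v ^ i)⁻¹ = 1 := congrArg Subtype.val hcon
    have h2 : (h.1 : G) = 1 := by
      have : (h.1 : G) = (v ^ i)⁻¹ * (v ^ i * (h.1 : G) * (v ^ i)⁻¹) * v ^ i := by group
      rw [this, h1]; group
    exact Subtype.ext h2
  let g : Fin p × A → B := fun z => ⟨⟨v ^ (z.1 : ℕ) * (z.2.1 : G) * (v ^ (z.1 : ℕ))⁻¹, hvK _ _ z.2.1.2.1⟩, hgmem _ z.2⟩
  -- main disjointness: `j < i`
  have hdisj : ∀ (i j : ℕ) (h h' : A), j < i → i < p →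
      v ^ i * (h.1 : G) * (v ^ i)⁻¹ = v ^ j * (h'.1 : G) * (v ^ j)⁻¹ → False := by
    intro i j h h' hji hip heq
    have hw : v ^ (i - j) * (h.1 : G) * (v ^ (i - j))⁻¹ = (h'.1 : G) := by
      have e1 : v ^ i = v ^ j * v ^ (i - j) := by
        rw [← pow_add]; congr 1; omega
      rw [e1] at heq
      have : v ^ (i - j) * (h.1 : G) * (v ^ (i - j))⁻¹
          = (v ^ j)⁻¹ * (v ^ j * v ^ (i - j) * (h.1 : G) * (v ^ j * v ^ (i - j))⁻¹) * v ^ j := by group
      rw [this, heq]; group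
    have h1 : (h.1 : G) ≠ 1 := fun hc => h.2 (Subtype.ext hc)
    have := hB (v ^ (i - j)) (h.1 : G) h.1.2 h1 (by rw [hw]; exact h'.1.2)
    exact hvN (i - j) (by omega) (by omega) this
  have hginj : Function.Injective g := by
    rintro ⟨i, h⟩ ⟨j, h'⟩ heq
    have heq' : v ^ (i : ℕ) * (h.1 : G) * (v ^ (i : ℕ))⁻¹ = v ^ (j : ℕ) * (h'.1 : G) * (v ^ (j : ℕ))⁻¹ :=
      congrArg (fun z : B => ((z.1 : ↥(ctr R)) : G)) heq
    rcases lt_trichotomy (i : ℕ) (j : ℕ) with hlt | heqij | hgt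
    · exact (hdisj j i h' h hlt j.2 heq'.symm).elim
    · have hij : i = j := Fin.ext heqij
      subst hij
      have h2 : (h.1 : G) = (h'.1 : G) := by
        have := mul_right_cancel heq'
        exact mul_left_cancel this
      have h3 : h = h' := Subtype.ext (Subtype.ext h2)
      rw [h3]
    · exact (hdisj i j h h' hgt i.2 heq').elim
  have hcardle : Nat.card (Fin p × A) ≤ Nat.card B := Nat.card_le_card_of_injective g hginj
  rw [Nat.card_prod, Nat.card_fin] at hcardle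
  have hA : Nat.card A + 1 = Nat.card K0 := ob3_card_ne_one ↥K0
  have hBc : Nat.card B + 1 = Nat.card (ctr R) := ob3_card_ne_one ↥(ctr R)
  -- arithmetic
  have e1 : Nat.card (NP P) = (Nat.card B + 1) * Nat.card (P : Subgroup G) := by
    rw [hBc, hK3]
  have e2 : Nat.card (CP P) ≤ Nat.card (P : Subgroup G) * (Nat.card A + 1) := by
    rw [hA]; exact hCPle
  have e3 : p * Nat.card (CP P) ≤ p * (Nat.card (P : Subgroup G) * (Nat.card A + 1)) :=
    Nat.mul_le_mul_left p e2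
  have e4 : Nat.card (P : Subgroup G) * (p * Nat.card A) ≤ Nat.card (P : Subgroup G) * Nat.card B :=
    Nat.mul_le_mul_left _ hcardle
  rw [e1]
  nlinarith [e3, e4]

end Cfsg.Agent.Helper40.CYC
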