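import Mathlib

/-! helper40: the abstract rank-one form of helper83's seed identity for S2279
(`[[σ₁, σ₀], σ₀]` is a transvection), over any commutative ring, inverse-free. -/

set_option autoImplicit false

namespace Cfsg.Agent.Helper40.SeedAbs

open Matrix
open scoped commutatorElement

variable {ι R : Type*} [Fintype ι] [DecidableEq ι] [CommRing R]

omit [DecidableEq ι] in
/-- multiplication table of rank-one matrices -/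
theorem h40_E_mul (a b c d : ι → R) :
    vecMulVec a b * vecMulVec c d = (b ⬝ᵥ c) • vecMulVec a d := by
  rw [vecMulVec_mul_vecMulVec, vecMulVec_smul]

/-- With `X_i = p_i q_iᵀ`, Gram values `q_i · p_j = 0` for `i ≤ j`, `q_1 · p_0 = q_2 · p_1 = ε`,
`q_2 · p_0 = μ`, put `A = c (X_0 - X_1)`, `B = c (X_1 - X_2)` and
`k = 1 + c² (ε p_1 q_0ᵀ - μ p_2 q_0ᵀ + ε p_2 q_1ᵀ) - c³ ε² p_2 q_0ᵀ`.  Then
`k (1 + A)(1 + B) = (1 + B)(1 + A)` (so `k = [1 + B, 1 + A]`) and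
`(1 + c³ ε² p_2 q_0ᵀ)(1 + A) k = k (1 + A)` (so `[k, 1 + A] = 1 + c³ ε² p_2 q_0ᵀ`). -/
theorem h40_seed_abs (p0 p1 p2 q0 q1 q2 : ι → R) (c ε μ : R)
    (h00 : q0 ⬝ᵥ p0 = 0) (h11 : q1 ⬝ᵥ p1 = 0)
    (h01 : q0 ⬝ᵥ p1 = 0) (h02 : q0 ⬝ᵥ p2 = 0) (h12 : q1 ⬝ᵥ p2 = 0)
    (h10 : q1 ⬝ᵥ p0 = ε) (h21 : q2 ⬝ᵥ p1 = ε) (h20 : q2 ⬝ᵥ p0 = μ)
    (A B k : Matrix ι ι R)
    (hA : A = c • (vecMulVec p0 q0 - vecMulVec p1 q1))
    (hB : B = c • (vecMulVec p1 q1 - vecMulVec p2 q2))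
    (hk : k = 1 + c ^ 2 • (ε • vecMulVec p1 q0 - μ • vecMulVec p2 q0 + ε • vecMulVec p2 q1)
      - (c ^ 3 * ε ^ 2) • vecMulVec p2 q0) :
    k * ((1 + A) * (1 + B)) = (1 + B) * (1 + A) ∧
    (1 + (c ^ 3 * ε ^ 2) • vecMulVec p2 q0) * ((1 + A) * k) = k * (1 + A) := by
  subst hA hB hk
  constructor
  · simp only [mul_add, add_mul, mul_sub, sub_mul, mul_one, one_mul, smul_mul_assoc,
      mul_smul_comm, smul_add, smul_sub, h40_E_mul, h00, h11, h01, h02, h12, h10, h21, h20,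
      zero_smul, smul_zero, sub_zero, add_zero, zero_add, zero_sub, smul_smul]
    module
  · simp only [mul_add, add_mul, mul_sub, sub_mul, mul_one, one_mul, smul_mul_assoc,
      mul_smul_comm, smul_add, smul_sub, h40_E_mul, h00, h11, h01, h02, h12, h10, h21, h20,
      zero_smul, smul_zero, sub_zero, add_zero, zero_add, zero_sub, smul_smul]
    module

/-- right cancellation by an element of `SL` -/
theorem h40_cancel (g : Matrix.SpecialLinearGroup ι R) (X Y : Matrix ι ι R)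
    (h : X * g.1 = Y * g.1) : X = Y := by
  have hg : g.1 * (g⁻¹).1 = 1 := by
    rw [← Matrix.SpecialLinearGroup.coe_mul, mul_inv_cancel, Matrix.SpecialLinearGroup.coe_one]
  calc X = X * (g.1 * (g⁻¹).1) := by rw [hg, mul_one]
    _ = Y * (g.1 * (g⁻¹).1) := by rw [← mul_assoc, h, mul_assoc]
    _ = Y := by rw [hg, mul_one]

/-- group form: if `s0 = 1 + c (X_0 - X_1)` and `s1 = 1 + c (X_1 - X_2)` in `SL`, then
`⁅⁅s1, s0⁆, s0⁆ = 1 + c³ ε² p_2 q_0ᵀ`. -/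
theorem h40_seed_group (p0 p1 p2 q0 q1 q2 : ι → R) (c ε μ : R)
    (h00 : q0 ⬝ᵥ p0 = 0) (h11 : q1 ⬝ᵥ p1 = 0)
    (h01 : q0 ⬝ᵥ p1 = 0) (h02 : q0 ⬝ᵥ p2 = 0) (h12 : q1 ⬝ᵥ p2 = 0)
    (h10 : q1 ⬝ᵥ p0 = ε) (h21 : q2 ⬝ᵥ p1 = ε) (h20 : q2 ⬝ᵥ p0 = μ)
    (s0 s1 : Matrix.SpecialLinearGroup ι R)
    (hs0 : s0.1 = 1 + c • (vecMulVec p0 q0 - vecMulVec p1 q1))
    (hs1 : s1.1 = 1 + c • (vecMulVec p1 q1 - vecMulVec p2 q2)) :
    (⁅⁅s1, s0⁆, s0⁆ : Matrix.SpecialLinearGroup ι R).1 =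
      1 + (c ^ 3 * ε ^ 2) • vecMulVec p2 q0 := by
  obtain ⟨hI1, hI2⟩ := h40_seed_abs p0 p1 p2 q0 q1 q2 c ε μ h00 h11 h01 h02 h12 h10 h21 h20
    _ _ _ rfl rfl rfl
  rw [← hs0, ← hs1] at hI1
  rw [← hs0] at hI2
  have hK : (⁅s1, s0⁆ : Matrix.SpecialLinearGroup ι R) * (s0 * s1) = s1 * s0 := by
    rw [commutatorElement_def]; group
  have hKv : (⁅s1, s0⁆ : Matrix.SpecialLinearGroup ι R).1 =
      1 + c ^ 2 • (ε • vecMulVec p1 q0 - μ • vecMulVec p2 q0 + ε • vecMulVec p2 q1)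
        - (c ^ 3 * ε ^ 2) • vecMulVec p2 q0 := by
    apply h40_cancel (s0 * s1)
    rw [Matrix.SpecialLinearGroup.coe_mul, hI1, ← Matrix.SpecialLinearGroup.coe_mul,
      ← Matrix.SpecialLinearGroup.coe_mul, ← Matrix.SpecialLinearGroup.coe_mul, hK]
  rw [← hKv] at hI2
  have hT : (⁅⁅s1, s0⁆, s0⁆ : Matrix.SpecialLinearGroup ι R) * (s0 * ⁅s1, s0⁆) = ⁅s1, s0⁆ * s0 := by
    rw [commutatorElement_def ⁅s1, s0⁆ s0]; group
  apply h40_cancel (s0 * ⁅s1, s0⁆)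
  rw [Matrix.SpecialLinearGroup.coe_mul, hI2, ← Matrix.SpecialLinearGroup.coe_mul,
    ← Matrix.SpecialLinearGroup.coe_mul, ← Matrix.SpecialLinearGroup.coe_mul, hT]

end Cfsg.Agent.Helper40.SeedAbs
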