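import Mathlib
import Cfsg.Agent.Lib.Helper93.RU0
import Cfsg.Agent.Lib.Helper35.RJ0
import Cfsg.Agent.Lib.Helper82.RUA
import Cfsg.Agent.Lib.Helper40.SeedAbs

/-! helper40: piece (R1a) `seed_abs` of helper35's RJ server (S2279), from the ring-level identity
`Cfsg.Agent.Helper40.SeedAbs.h40_seed_group`. -/

set_option autoImplicit false

namespace Cfsg.Agent.Helper40.RJ

open Matrix Cfsg.Agent.Helper93.RU Cfsg.Agent.Helper35.RJ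
open scoped commutatorElement

variable {F : Type*} [Field F] {m : ℕ}

/-- value of `tvS a (λ φ) * (tvS b (λ ψ))⁻¹` when `φ ⬝ b = 0` -/
theorem h40_two_val (a b φ ψ : Fin (m + 3) → F) (lam : F) (h1 : φ ⬝ᵥ a = 0) (h2 : ψ ⬝ᵥ b = 0)
    (h3 : φ ⬝ᵥ b = 0) :
    (tvS a (lam • φ) * (tvS b (lam • ψ))⁻¹).1 =
      1 + lam • (vecMulVec a φ - vecMulVec b ψ) := by
  have ha : (lam • φ) ⬝ᵥ a = 0 := by rw [smul_dotProduct, h1, smul_zero]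
  have hb : (lam • ψ) ⬝ᵥ b = 0 := by rw [smul_dotProduct, h2, smul_zero]
  have hb' : (-(lam • ψ)) ⬝ᵥ b = 0 := by rw [neg_dotProduct, hb, neg_zero]
  rw [Cfsg.Agent.Helper82.RU.tvS_inv _ _ hb, Matrix.SpecialLinearGroup.coe_mul,
    Cfsg.Agent.Helper82.RU.tvS_val _ _ ha, Cfsg.Agent.Helper82.RU.tvS_val _ _ hb']
  unfold tvM
  simp only [mul_add, add_mul, mul_one, one_mul, vecMulVec_smul, vecMulVec_neg, mul_neg,
    smul_mul_assoc, mul_smul_comm, Cfsg.Agent.Helper40.SeedAbs.h40_E_mul, h3, zero_smul, smul_zero,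
    neg_zero, add_zero, smul_sub]
  abel

/-- (R1a) LONG POLE, abstract seed. -/
theorem seed_abs (am a0 a1 φm φ0 φ1 : Fin (m + 3) → F) (lam ε ν : F) (hε : ε * ε = 1)
    (hmm : φm ⬝ᵥ am = 0) (hm0 : φm ⬝ᵥ a0 = 0) (hm1 : φm ⬝ᵥ a1 = 0)
    (h0m : φ0 ⬝ᵥ am = ε) (h00 : φ0 ⬝ᵥ a0 = 0) (h01 : φ0 ⬝ᵥ a1 = 0)
    (h1m : φ1 ⬝ᵥ am = ν) (h10 : φ1 ⬝ᵥ a0 = ε) (h11 : φ1 ⬝ᵥ a1 = 0) :
    let s0 := tvS am (lam • φm) * (tvS a0 (lam • φ0))⁻¹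
    let s1 := tvS a0 (lam • φ0) * (tvS a1 (lam • φ1))⁻¹
    let c := s1 * s0 * s1⁻¹ * s0⁻¹
    c * s0 * c⁻¹ * s0⁻¹ = tvS a1 (lam ^ 3 • φm) := by
  intro s0 s1 c
  have hs0 : s0.1 = 1 + lam • (vecMulVec am φm - vecMulVec a0 φ0) :=
    h40_two_val am a0 φm φ0 lam hmm h00 hm0
  have hs1 : s1.1 = 1 + lam • (vecMulVec a0 φ0 - vecMulVec a1 φ1) :=
    h40_two_val a0 a1 φ0 φ1 lam h00 h11 h01
  have key := Cfsg.Agent.Helper40.SeedAbs.h40_seed_group am a0 a1 φm φ0 φ1 lam ε ν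
    hmm h00 hm0 hm1 h01 h0m h10 h1m s0 s1 hs0 hs1
  have hc : c = ⁅s1, s0⁆ := (commutatorElement_def s1 s0).symm
  have hcc : c * s0 * c⁻¹ * s0⁻¹ = ⁅⁅s1, s0⁆, s0⁆ := by
    rw [hc]; exact (commutatorElement_def _ _).symm
  rw [hcc]
  apply Subtype.ext
  have hd : (lam ^ 3 • φm) ⬝ᵥ a1 = 0 := by rw [smul_dotProduct, hm1, smul_zero]
  rw [key, Cfsg.Agent.Helper82.RU.tvS_val _ _ hd]
  unfold tvM
  have he : ε ^ 2 = 1 := by rw [pow_two]; exact hε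
  rw [he, mul_one, vecMulVec_smul]

end Cfsg.Agent.Helper40.RJ
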