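import Mathlib
import Cfsg.Agent.Lib.Helper93.RU0
import Cfsg.Agent.Lib.Helper35.RJ0
import Cfsg.Agent.Lib.Helper87.RJP
import Cfsg.Agent.Lib.Helper40.RJR1a

/-! helper40: piece (R1) `seed` of helper35's RJ server (S2279). -/

set_option autoImplicit false

namespace Cfsg.Agent.Helper40.RJ

open Matrix Cfsg.Agent.Helper93.RU Cfsg.Agent.Helper35.RJ

variable {F : Type*} [Field F] {m : ℕ}

/-- `π(i) = 0` for `0 ≤ i ≤ m + 1` -/
theorem h40_pi_window (i : ℕ) (hi : i < m + 2) : piZ m F (i : ℤ) = 0 := by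
  rw [Cfsg.Agent.Helper87.RJ.pi_nat, Nat.choose_eq_zero_of_lt hi, Nat.cast_zero]

/-- (R1) concrete seed -/
theorem seed (hm : 1 ≤ m) (lam : F) :
    let s0 := sK (m := m) lam 0
    let s1 := sK (m := m) lam 1
    let c := s1 * s0 * s1⁻¹ * s0⁻¹
    c * s0 * c⁻¹ * s0⁻¹ = Tjk 1 (-1) (lam ^ 3) := by
  have p0 : piZ m F 0 = 0 := by simpa using h40_pi_window (F := F) (m := m) 0 (by omega)
  have p1 : piZ m F 1 = 0 := by simpa using h40_pi_window (F := F) (m := m) 1 (by omega)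
  have p2 : piZ m F 2 = 0 := by simpa using h40_pi_window (F := F) (m := m) 2 (by omega)
  have hε : ((-1 : F) ^ (m + 2)) * ((-1 : F) ^ (m + 2)) = 1 := by
    rw [← mul_pow]; simp
  have key := seed_abs (m := m) (aV m F (-1)) (aV m F 0) (aV m F 1) (phV m F (-1)) (phV m F 0)
    (phV m F 1) lam ((-1 : F) ^ (m + 2)) (piZ m F (-2)) hε
    (by rw [Cfsg.Agent.Helper87.RJ.pair]; simpa using p0)
    (by rw [Cfsg.Agent.Helper87.RJ.pair]; simpa using p1)
    (by rw [Cfsg.Agent.Helper87.RJ.pair]; simpa using p2)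
    (by rw [Cfsg.Agent.Helper87.RJ.pair]; simpa using Cfsg.Agent.Helper87.RJ.pi_neg_one (F := F) (m := m))
    (by rw [Cfsg.Agent.Helper87.RJ.pair]; simpa using p0)
    (by rw [Cfsg.Agent.Helper87.RJ.pair]; simpa using p1)
    (by rw [Cfsg.Agent.Helper87.RJ.pair]; norm_num)
    (by rw [Cfsg.Agent.Helper87.RJ.pair]; simpa using Cfsg.Agent.Helper87.RJ.pi_neg_one (F := F) (m := m))
    (by rw [Cfsg.Agent.Helper87.RJ.pair]; simpa using p0)
  exact key

end Cfsg.Agent.Helper40.RJ
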