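import Mathlib
import Cfsg.Agent.Lib.Helper40.SL2

set_option autoImplicit false

namespace Cfsg.Agent.Helper40

open Matrix

variable {F : Type*} [Field F]

local notation "SL2F" => Matrix.SpecialLinearGroup (Fin 2) F
local notation "M2F" => Matrix (Fin 2) (Fin 2) F

theorem eq_iff2' (g h : SL2F) : g = h ↔
    (g : M2F) 0 0 = (h : M2F) 0 0 ∧ (g : M2F) 0 1 = (h : M2F) 0 1 ∧
    (g : M2F) 1 0 = (h : M2F) 1 0 ∧ (g : M2F) 1 1 = (h : M2F) 1 1 := by
  constructor
  · rintro rfl; exact ⟨rfl, rfl, rfl, rfl⟩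
  · rintro ⟨h1, h2, h3, h4⟩; exact ext2 h1 h2 h3 h4

/-- the nonsplit torus attached to `δ`: matrices `a + b J` with `J = [[0, δ], [1, 0]]` -/
def nsTorus (δ : F) : Subgroup SL2F where
  carrier := {g | (g : M2F) 0 0 = (g : M2F) 1 1 ∧ (g : M2F) 0 1 = δ * (g : M2F) 1 0}
  mul_mem' := by
    rintro g h ⟨hg1, hg2⟩ ⟨hh1, hh2⟩
    refine ⟨?_, ?_⟩
    · rw [mul_00, mul_11, hg2, hh2, ← hg1, ← hh1]; ring
    · rw [mul_01, mul_10, hg2, hh2, ← hg1, ← hh1]; ring
  one_mem' := by
    refine ⟨?_, ?_⟩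
    · rw [one_00, one_11]
    · rw [one_01, one_10]; ring
  inv_mem' := by
    rintro g ⟨hg1, hg2⟩
    refine ⟨?_, ?_⟩
    · rw [inv_00, inv_11, hg1]
    · rw [inv_01, inv_10, hg2]; ring

theorem mem_nsTorus (δ : F) (g : SL2F) :
    g ∈ nsTorus δ ↔ ((g : M2F) 0 0 = (g : M2F) 1 1 ∧ (g : M2F) 0 1 = δ * (g : M2F) 1 0) := Iff.rfl

theorem nsTorus_norm (δ : F) (g : SL2F) (hg : g ∈ nsTorus δ) :
    (g : M2F) 0 0 ^ 2 - δ * (g : M2F) 1 0 ^ 2 = 1 := by
  obtain ⟨h1, h2⟩ := hg
  have := det2 g
  rw [← h1, h2] at this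
  linear_combination this

theorem nsTorus_comm (δ : F) (g h : SL2F) (hg : g ∈ nsTorus δ) (hh : h ∈ nsTorus δ) : g * h = h * g := by
  obtain ⟨hg1, hg2⟩ := hg
  obtain ⟨hh1, hh2⟩ := hh
  rw [eq_iff2', mul_00, mul_01, mul_10, mul_11, mul_00, mul_01, mul_10, mul_11, hg2, hh2, ← hg1, ← hh1]
  refine ⟨by ring, by ring, by ring, by ring⟩

/-- elements of the nonsplit torus as norm one pairs -/
def nsTorusPairEquiv (δ : F) : nsTorus δ ≃ {p : F × F // p.1 ^ 2 - δ * p.2 ^ 2 = 1} where
  toFun g := ⟨((g.1 : M2F) 0 0, (g.1 : M2F) 1 0), nsTorus_norm δ g.1 g.2⟩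
  invFun p := ⟨mk2 p.1.1 (δ * p.1.2) p.1.2 p.1.1 (by linear_combination p.2), by
    rw [mem_nsTorus]; simp⟩
  left_inv g := by
    obtain ⟨g, h1, h2⟩ := g
    apply Subtype.ext
    apply ext2 <;> simp only [mk2_00, mk2_01, mk2_10, mk2_11]
    · exact h2.symm
    · exact h1
  right_inv p := by
    apply Subtype.ext
    simp

theorem one_sub_ne_zero_of_nonsquare {δ : F} (hδ : ¬ IsSquare δ) (t : F) : 1 - δ * t ^ 2 ≠ 0 := by
  intro h
  apply hδ
  have ht : t ≠ 0 := by
    rintro rfl
    simp at h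
  refine ⟨t⁻¹, ?_⟩
  field_simp
  linear_combination -h

/-- rational parametrization of the conic `a^2 - δ b^2 = 1` -/
noncomputable def conicEquiv {δ : F} (hδ : ¬ IsSquare δ) (h2 : (2 : F) ≠ 0) :
    Option F ≃ {p : F × F // p.1 ^ 2 - δ * p.2 ^ 2 = 1} := by
  classical
  exact
  { toFun := fun o => match o with
      | none => ⟨(-1, 0), by ring⟩
      | some t => ⟨((1 + δ * t ^ 2) / (1 - δ * t ^ 2), 2 * t / (1 - δ * t ^ 2)), by
          have := one_sub_ne_zero_of_nonsquare hδ t
          simp only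
          field_simp
          ring⟩
    invFun := fun p => if p.1.1 = -1 then none else some (p.1.2 / (1 + p.1.1))
    left_inv := by
      rintro (_ | t)
      · simp
      · have hne := one_sub_ne_zero_of_nonsquare hδ t
        have h1 : (1 + δ * t ^ 2) / (1 - δ * t ^ 2) ≠ -1 := by
          intro h
          rw [div_eq_iff hne] at h
          apply h2
          linear_combination h
        simp only [h1, if_false, Option.some.injEq]
        have h3 : 1 + (1 + δ * t ^ 2) / (1 - δ * t ^ 2) = 2 / (1 - δ * t ^ 2) := by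
          field_simp; ring
        rw [h3]
        have hne' : 1 - t ^ 2 * δ ≠ 0 := by rwa [mul_comm] at hne
        field_simp
    right_inv := by
      rintro ⟨⟨a, b⟩, hab⟩
      simp only at hab
      by_cases ha : a = -1
      · subst ha
        have hb : b = 0 := by
          have h0 : δ * b ^ 2 = 0 := by linear_combination -hab
          have hδ0 : δ ≠ 0 := by
            rintro rfl
            exact hδ ⟨0, by simp⟩
          rcases mul_eq_zero.mp h0 with h | h
          · exact absurd h hδ0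
          · exact pow_eq_zero_iff (two_ne_zero) |>.mp h
        subst hb
        simp
      · have ha' : 1 + a ≠ 0 := by
          intro h
          apply ha
          linear_combination h
        simp only [ha, if_false]
        apply Subtype.ext
        have hne := one_sub_ne_zero_of_nonsquare hδ (b / (1 + a))
        have e1 : 1 - δ * (b / (1 + a)) ^ 2 = 2 / (1 + a) := by
          field_simp
          linear_combination hab
        have e2 : 1 + δ * (b / (1 + a)) ^ 2 = 2 * a / (1 + a) := by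
          field_simp
          linear_combination -hab
        apply Prod.ext
        · simp only
          rw [e1, e2]
          field_simp
        · simp only
          rw [e1]
          field_simp }

theorem card_nsTorus [Fintype F] {δ : F} (hδ : ¬ IsSquare δ) (h2 : (2 : F) ≠ 0) :
    Nat.card (nsTorus δ) = Fintype.card F + 1 := by
  rw [Nat.card_congr ((nsTorusPairEquiv δ).trans (conicEquiv hδ h2).symm), Nat.card_eq_fintype_card,
    Fintype.card_option]


theorem isCyclic_nsTorus [Finite F] {δ : F} (hδ : ¬ IsSquare δ) : IsCyclic (nsTorus δ) := by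
  have : Fact (∀ r : F, r ^ 2 ≠ δ + 0 * r) := ⟨fun r h => hδ ⟨r, by linear_combination -h⟩⟩
  let φ : nsTorus δ →* QuadraticAlgebra F δ 0 :=
    { toFun := fun g => ⟨(g.1 : M2F) 0 0, (g.1 : M2F) 1 0⟩
      map_one' := by
        apply QuadraticAlgebra.ext
        · exact one_00
        · exact one_10
      map_mul' := fun g h => by
        obtain ⟨g, hg1, hg2⟩ := g
        obtain ⟨h, hh1, hh2⟩ := h
        apply QuadraticAlgebra.ext
        · simp only [Subgroup.coe_mul, QuadraticAlgebra.re_mul]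
          rw [mul_00, hg2]
          try ring
        · simp only [Subgroup.coe_mul, QuadraticAlgebra.im_mul]
          rw [mul_10, ← hg1]
          try ring }
  apply isCyclic_of_injective_ringHom φ
  rintro ⟨g, hg1, hg2⟩ ⟨h, hh1, hh2⟩ hgh
  have h00 : (g : M2F) 0 0 = (h : M2F) 0 0 := congrArg QuadraticAlgebra.re hgh
  have h10 : (g : M2F) 1 0 = (h : M2F) 1 0 := congrArg QuadraticAlgebra.im hgh
  apply Subtype.ext
  apply ext2 h00 _ h10
  · rw [← hg1, ← hh1, h00]
  · rw [hg2, hh2, h10]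

/-- noncentral elements of the torus have nonzero lower left entry -/
theorem nsTorus_b_ne_zero (δ : F) (g : SL2F) (hg : g ∈ nsTorus δ) (h1 : (g : M2F) ≠ 1) (hm1 : (g : M2F) ≠ -1) :
    (g : M2F) 1 0 ≠ 0 := by
  intro hb
  have hn := nsTorus_norm δ g hg
  obtain ⟨e1, e2⟩ := hg
  rw [hb] at hn e2
  have hsq : (g : M2F) 0 0 ^ 2 = 1 := by linear_combination hn
  rcases sq_eq_one_iff.mp hsq with ha | ha
  · apply h1
    ext i j
    fin_cases i <;> fin_cases j
    · simpa using ha
    · simpa using e2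
    · simpa using hb
    · simpa using e1 ▸ ha
  · apply hm1
    ext i j
    fin_cases i <;> fin_cases j
    · simpa using ha
    · simpa using e2
    · simpa using hb
    · simpa using e1 ▸ ha

theorem nonsquare_ne_zero {δ : F} (hδ : ¬ IsSquare δ) : δ ≠ 0 := by
  rintro rfl
  exact hδ ⟨0, by simp⟩

/-- the centralizer of an element of the torus with nonzero lower left entry is the torus -/
theorem centralizer_nsTorus_elt {δ : F} (hδ : ¬ IsSquare δ) (g : SL2F) (hg : g ∈ nsTorus δ)
    (hb : (g : M2F) 1 0 ≠ 0) : Subgroup.centralizer ({g} : Set SL2F) = nsTorus δ := by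
  have hδ0 := nonsquare_ne_zero hδ
  ext h
  rw [Subgroup.mem_centralizer_iff]
  simp only [Set.mem_singleton_iff, forall_eq]
  constructor
  · intro hc
    obtain ⟨e1, e2⟩ := hg
    rw [eq_iff2', mul_00, mul_01, mul_10, mul_11, mul_00, mul_01, mul_10, mul_11, e2, ← e1] at hc
    obtain ⟨c1, c2, -, -⟩ := hc
    rw [mem_nsTorus]
    constructor
    · have : δ * (g : M2F) 1 0 * ((h : M2F) 0 0 - (h : M2F) 1 1) = 0 := by linear_combination -c2
      rcases mul_eq_zero.mp this with h' | h'
      · exact absurd h' (mul_ne_zero hδ0 hb)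
      · exact sub_eq_zero.mp h'
    · have : (g : M2F) 1 0 * ((h : M2F) 0 1 - δ * (h : M2F) 1 0) = 0 := by linear_combination -c1
      rcases mul_eq_zero.mp this with h' | h'
      · exact absurd h' hb
      · exact sub_eq_zero.mp h'
  · intro hh
    exact nsTorus_comm δ g h hg hh

/-- a noncentral element of the torus -/
noncomputable def nsGen {δ : F} (hδ : ¬ IsSquare δ) : SL2F :=
  mk2 ((1 + δ) / (1 - δ)) (δ * (2 / (1 - δ))) (2 / (1 - δ)) ((1 + δ) / (1 - δ)) (by
    have := one_sub_ne_zero_of_nonsquare hδ 1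
    rw [one_pow, mul_one] at this
    field_simp
    ring)

theorem nsGen_mem {δ : F} (hδ : ¬ IsSquare δ) : nsGen hδ ∈ nsTorus δ := by
  rw [mem_nsTorus]; simp [nsGen]

theorem nsGen_b {δ : F} (hδ : ¬ IsSquare δ) (h2 : (2 : F) ≠ 0) : ((nsGen hδ : SL2F) : M2F) 1 0 ≠ 0 := by
  have := one_sub_ne_zero_of_nonsquare hδ 1
  rw [one_pow, mul_one] at this
  simp only [nsGen, mk2_10]
  exact div_ne_zero h2 this

theorem centralizer_nsTorus {δ : F} (hδ : ¬ IsSquare δ) (h2 : (2 : F) ≠ 0) :
    Subgroup.centralizer ((nsTorus δ : Subgroup SL2F) : Set SL2F) = nsTorus δ := by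
  apply le_antisymm
  · intro h hh
    rw [← centralizer_nsTorus_elt hδ (nsGen hδ) (nsGen_mem hδ) (nsGen_b hδ h2)]
    rw [Subgroup.mem_centralizer_iff] at hh ⊢
    intro x hx
    rw [Set.mem_singleton_iff] at hx
    subst hx
    exact hh _ (nsGen_mem hδ)
  · intro h hh
    rw [Subgroup.mem_centralizer_iff]
    intro x hx
    exact nsTorus_comm δ x h hx hh

/-- the other coset of the torus in its normalizer -/
def nsTwist (δ : F) : Set SL2F :=
  {h | (h : M2F) 1 1 = -(h : M2F) 0 0 ∧ (h : M2F) 0 1 = -(δ * (h : M2F) 1 0)}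

theorem mem_nsTwist (δ : F) (h : SL2F) :
    h ∈ nsTwist δ ↔ ((h : M2F) 1 1 = -(h : M2F) 0 0 ∧ (h : M2F) 0 1 = -(δ * (h : M2F) 1 0)) := Iff.rfl

theorem nsTwist_inv (δ : F) (h : SL2F) (hh : h ∈ nsTwist δ) : h⁻¹ ∈ nsTwist δ := by
  obtain ⟨e1, e2⟩ := hh
  rw [mem_nsTwist, inv_11, inv_00, inv_01, inv_10, e1, e2]
  constructor <;> ring

theorem nsTwist_conj (δ : F) (h g : SL2F) (hh : h ∈ nsTwist δ) (hg : g ∈ nsTorus δ) :
    h * g * h⁻¹ = g⁻¹ := by
  obtain ⟨e1, e2⟩ := hh
  obtain ⟨f1, f2⟩ := hg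
  have hdet := det2 h
  rw [e1, e2] at hdet
  rw [eq_iff2']
  simp only [mul_00, mul_01, mul_10, mul_11, inv_00, inv_01, inv_10, inv_11, e1, e2, f2, ← f1]
  refine ⟨?_, ?_, ?_, ?_⟩
  · linear_combination (g : M2F) 0 0 * hdet
  · linear_combination (-(δ * (g : M2F) 1 0)) * hdet
  · linear_combination (-((g : M2F) 1 0)) * hdet
  · linear_combination (g : M2F) 0 0 * hdet

theorem nsTwist_mul (δ : F) (h h' : SL2F) (hh : h ∈ nsTwist δ) (hh' : h' ∈ nsTwist δ) :
    h * h' ∈ nsTorus δ := by
  obtain ⟨e1, e2⟩ := hh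
  obtain ⟨f1, f2⟩ := hh'
  rw [mem_nsTorus, mul_00, mul_01, mul_10, mul_11, e1, e2, f1, f2]
  constructor <;> ring

theorem nsTwist_not_mem (δ : F) (h2 : (2 : F) ≠ 0) (h : SL2F) (hh : h ∈ nsTwist δ) : h ∉ nsTorus δ := by
  rintro ⟨f1, f2⟩
  obtain ⟨e1, e2⟩ := hh
  have hdet := det2 h
  have h00 : (h : M2F) 0 0 = 0 := by
    have : (2 : F) * (h : M2F) 0 0 = 0 := by linear_combination f1 + e1
    exact (mul_eq_zero.mp this).resolve_left h2
  have h11 : (h : M2F) 1 1 = 0 := by rw [e1, h00, neg_zero]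
  have h01 : (h : M2F) 0 1 = 0 := by
    have : (2 : F) * (h : M2F) 0 1 = 0 := by linear_combination f2 + e2
    exact (mul_eq_zero.mp this).resolve_left h2
  rw [h00, h11, h01] at hdet
  simp at hdet

theorem norm_form_ne_zero {δ : F} (hδ : ¬ IsSquare δ) (x y : F) (h : ¬ (x = 0 ∧ y = 0)) :
    x ^ 2 - δ * y ^ 2 ≠ 0 := by
  intro h0
  by_cases hy : y = 0
  · subst hy
    apply h
    refine ⟨?_, rfl⟩
    have : x ^ 2 = 0 := by linear_combination h0
    exact pow_eq_zero_iff (two_ne_zero) |>.mp this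
  · apply hδ
    refine ⟨x / y, ?_⟩
    field_simp
    linear_combination -h0

theorem mem_normalizer_nsTorus {δ : F} (hδ : ¬ IsSquare δ) (h2 : (2 : F) ≠ 0) (h : SL2F) :
    h ∈ Subgroup.normalizer ((nsTorus δ : Subgroup SL2F) : Set SL2F) ↔ (h ∈ nsTorus δ ∨ h ∈ nsTwist δ) := by
  constructor
  · intro hN
    have hg := (Subgroup.mem_normalizer_iff.mp hN (nsGen hδ)).mp (nsGen_mem hδ)
    have hb := nsGen_b hδ h2
    obtain ⟨f1, f2⟩ := nsGen_mem hδ
    obtain ⟨c1, c2⟩ := hg
    have hdet := det2 h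
    rw [mul_00, mul_00, mul_01, mul_11, mul_10, mul_11, inv_00, inv_10, inv_01, inv_11, f2, ← f1] at c1
    rw [mul_01, mul_00, mul_01, mul_10, mul_10, mul_11, inv_01, inv_11, inv_00, inv_10, f2, ← f1] at c2
    set p := (h : M2F) 0 0
    set q := (h : M2F) 0 1
    set r := (h : M2F) 1 0
    set s := (h : M2F) 1 1
    set a := ((nsGen hδ : SL2F) : M2F) 0 0
    set b := ((nsGen hδ : SL2F) : M2F) 1 0
    have hI : (q - δ * r) * (p + s) = (q + δ * r) * (p - s) := by
      have : (2 : F) * b * (q * s - δ * p * r) = 0 := by linear_combination c1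
      have := (mul_eq_zero.mp this).resolve_left (mul_ne_zero h2 hb)
      linear_combination 2 * this
    have hII : δ * (p - s) * (p + s) = (q - δ * r) * (q + δ * r) := by
      have : b * (δ * p ^ 2 - q ^ 2 - δ * (s ^ 2 - δ * r ^ 2)) = 0 := by linear_combination c2
      have := (mul_eq_zero.mp this).resolve_left hb
      linear_combination this
    by_cases hcase : (q + δ * r = 0 ∧ p + s = 0)
    · right
      rw [mem_nsTwist]
      obtain ⟨k1, k2⟩ := hcase
      constructor
      · linear_combination k2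
      · linear_combination k1
    · left
      have hN' := norm_form_ne_zero hδ (q + δ * r) (p + s) hcase
      have hu : (q - δ * r) * ((q + δ * r) ^ 2 - δ * (p + s) ^ 2) = 0 := by
        linear_combination (-(q + δ * r)) * hII - δ * (p + s) * hI
      have hv : (p - s) * ((q + δ * r) ^ 2 - δ * (p + s) ^ 2) = 0 := by
        linear_combination (-(q + δ * r)) * hI - (p + s) * hII
      have hu' := (mul_eq_zero.mp hu).resolve_right hN'
      have hv' := (mul_eq_zero.mp hv).resolve_right hN'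
      rw [mem_nsTorus]
      constructor
      · linear_combination hv'
      · linear_combination hu'
  · rintro (hT | hS)
    · exact Subgroup.le_normalizer hT
    · rw [Subgroup.mem_normalizer_iff]
      intro g
      constructor
      · intro hg
        rw [nsTwist_conj δ h g hS hg]
        exact (nsTorus δ).inv_mem hg
      · intro hg
        have := nsTwist_conj δ h⁻¹ _ (nsTwist_inv δ h hS) hg
        have e : h⁻¹ * (h * g * h⁻¹) * h⁻¹⁻¹ = g := by group
        rw [e] at this
        rw [this]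
        exact (nsTorus δ).inv_mem hg

/-- an element of the nontrivial coset -/
theorem exists_nsTwist [Fintype F] (δ : F) (hδ0 : δ ≠ 0) (hodd : Fintype.card F % 2 = 1) :
    ∃ h : SL2F, h ∈ nsTwist δ := by
  have hf : (Polynomial.X ^ 2 : Polynomial F).degree = 2 := Polynomial.degree_X_pow 2
  have hg : (Polynomial.C (-δ) * Polynomial.X ^ 2 + Polynomial.C 0 * Polynomial.X + Polynomial.C 1 : Polynomial F).degree = 2 :=
    Polynomial.degree_quadratic (neg_ne_zero.mpr hδ0)
  obtain ⟨p, r, hpr⟩ := FiniteField.exists_root_sum_quadratic hf hg hodd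
  simp only [Polynomial.eval_pow, Polynomial.eval_X, Polynomial.eval_add, Polynomial.eval_mul,
    Polynomial.eval_C] at hpr
  refine ⟨mk2 p (-(δ * r)) r (-p) (by linear_combination -hpr), ?_⟩
  rw [mem_nsTwist]
  simp

end Cfsg.Agent.Helper40
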