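import Mathlib

set_option autoImplicit false

namespace Cfsg.Agent.Helper40

variable {G : Type*} [Group G]

/-- the commuting relation in coordinates, for a group `A ⊔ sA` with `s` inverting the abelian `A` -/
def CCrel (A : Subgroup G) : Bool × A → Bool × A → Prop
  | (false, _), (false, _) => True
  | (false, a), (true, _) => a * a = 1
  | (true, _), (false, c) => c * c = 1
  | (true, a), (true, c) => (a⁻¹ * c) * (a⁻¹ * c) = 1

/-- splitting off the two signs -/
def splitEquiv2 {A : Type*} (P : Bool × A → Bool × A → Prop) :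
    {p : (Bool × A) × (Bool × A) // P p.1 p.2} ≃
      Σ (e : Bool × Bool), {r : A × A // P (e.1, r.1) (e.2, r.2)} where
  toFun p := ⟨(p.1.1.1, p.1.2.1), ⟨(p.1.1.2, p.1.2.2), p.2⟩⟩
  invFun s := ⟨((s.1.1, s.2.1.1), (s.1.2, s.2.1.2)), s.2.2⟩
  left_inv := by rintro ⟨⟨⟨e, a⟩, ⟨e', c⟩⟩, h⟩; rfl
  right_inv := by rintro ⟨⟨e, e'⟩, ⟨⟨a, c⟩, h⟩⟩; rfl

theorem card_CCrel [Finite G] (A : Subgroup G) (h2 : Nat.card {a : A // a * a = 1} = 2) :
    Nat.card {p : (Bool × A) × (Bool × A) // CCrel A p.1 p.2} = Nat.card A * (Nat.card A + 6) := by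
  classical
  have hff : Nat.card {r : A × A // CCrel A (false, r.1) (false, r.2)} = Nat.card A * Nat.card A := by
    have e : {r : A × A // CCrel A (false, r.1) (false, r.2)} ≃ A × A :=
      Equiv.subtypeUnivEquiv (fun _ => trivial)
    rw [Nat.card_congr e, Nat.card_prod]
  have hft : Nat.card {r : A × A // CCrel A (false, r.1) (true, r.2)} = 2 * Nat.card A := by
    have e : {r : A × A // CCrel A (false, r.1) (true, r.2)} ≃ {a : A // a * a = 1} × A :=
      (Equiv.subtypeEquivRight (fun _ => Iff.rfl)).trans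
        (Equiv.prodSubtypeFstEquivSubtypeProd (p := fun a : A => a * a = 1))
    rw [Nat.card_congr e, Nat.card_prod, h2]
  have htf : Nat.card {r : A × A // CCrel A (true, r.1) (false, r.2)} = 2 * Nat.card A := by
    have e : {r : A × A // CCrel A (true, r.1) (false, r.2)} ≃ {a : A // a * a = 1} × A :=
      ((Equiv.subtypeEquiv (Equiv.prodComm A A) (fun _ => Iff.rfl)).trans
        (Equiv.prodSubtypeFstEquivSubtypeProd (p := fun a : A => a * a = 1)))
    rw [Nat.card_congr e, Nat.card_prod, h2]
  have htt : Nat.card {r : A × A // CCrel A (true, r.1) (true, r.2)} = 2 * Nat.card A := by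
    have e : {r : A × A // CCrel A (true, r.1) (true, r.2)} ≃ Σ a : A, {c : A // (a⁻¹ * c) * (a⁻¹ * c) = 1} :=
      (Equiv.subtypeEquivRight (fun _ => Iff.rfl)).trans
        (Equiv.subtypeProdEquivSigmaSubtype (fun a c : A => (a⁻¹ * c) * (a⁻¹ * c) = 1))
    have e' : ∀ a : A, {c : A // (a⁻¹ * c) * (a⁻¹ * c) = 1} ≃ {u : A // u * u = 1} := fun a =>
      Equiv.subtypeEquiv (Equiv.mulLeft a⁻¹) (fun _ => Iff.rfl)
    have : Fintype A := Fintype.ofFinite A
    rw [Nat.card_congr e, Nat.card_sigma]
    simp only [fun a => Nat.card_congr (e' a), h2, Finset.sum_const, Finset.card_univ, smul_eq_mul,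
      Nat.card_eq_fintype_card]
    ring
  rw [Nat.card_congr (splitEquiv2 (CCrel A)), Nat.card_sigma, Fintype.sum_prod_type]
  simp only [Fintype.sum_bool]
  rw [hff, hft, htf, htt]
  ring

/-- Class number of a group `G = A ⊔ sA`, `A` abelian, `s` inverting `A`, with exactly two
solutions of `a^2 = 1` in `A`. -/
theorem card_conjClasses_index_two [Finite G] (A : Subgroup G) (s : G)
    (hcomm : ∀ a ∈ A, ∀ b ∈ A, a * b = b * a) (hs : s ∉ A)
    (hcover : ∀ g, g ∈ A ∨ s⁻¹ * g ∈ A) (hinv : ∀ a ∈ A, s * a * s⁻¹ = a⁻¹)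
    (h2 : Nat.card {a : A // a * a = 1} = 2) :
    Nat.card (ConjClasses G) * 2 = Nat.card A + 6 := by
  classical
  -- parametrization
  let E : Bool × A → G := fun x => if x.1 then s * x.2 else x.2
  have hEinj : Function.Injective E := by
    rintro ⟨e, a⟩ ⟨e', c⟩ h
    cases e <;> cases e' <;> simp only [E, if_true, if_false, Bool.false_eq_true] at h
    · rw [Subtype.ext h]
    · exfalso
      apply hs
      have : s = a * (c : G)⁻¹ := by rw [h]; group
      rw [this]
      exact A.mul_mem a.2 (A.inv_mem c.2)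
    · exfalso
      apply hs
      have : s = c * (a : G)⁻¹ := by rw [← h]; group
      rw [this]
      exact A.mul_mem c.2 (A.inv_mem a.2)
    · have := mul_left_cancel h
      rw [Subtype.ext this]
  have hEsurj : Function.Surjective E := by
    intro g
    rcases hcover g with h | h
    · exact ⟨(false, ⟨g, h⟩), by simp [E]⟩
    · exact ⟨(true, ⟨s⁻¹ * g, h⟩), by simp [E]⟩
  let Eq : Bool × A ≃ G := Equiv.ofBijective E ⟨hEinj, hEsurj⟩
  have hcardG : Nat.card G = 2 * Nat.card A := by
    rw [← Nat.card_congr Eq, Nat.card_prod, Nat.card_eq_fintype_card, Fintype.card_bool]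
  -- s a = a⁻¹ s
  have hsa : ∀ a : A, s * (a : G) = (a : G)⁻¹ * s := by
    intro a
    have := hinv a a.2
    calc s * (a : G) = (s * a * s⁻¹) * s := by group
      _ = (a : G)⁻¹ * s := by rw [this]
  have hsa' : ∀ a : A, (a : G) * s = s * (a : G)⁻¹ := by
    intro a
    have := hsa a⁻¹
    simp only [Subgroup.coe_inv, inv_inv] at this
    exact this.symm
  have hcommute : ∀ x y : Bool × A, E x * E y = E y * E x ↔ CCrel A x y := by
    rintro ⟨e, a⟩ ⟨e', c⟩
    have hac : (a : G) * c = c * a := hcomm a a.2 c c.2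
    have hA1 : ∀ u : A, u * u = 1 ↔ (u : G)⁻¹ = u := by
      intro u
      rw [Subtype.ext_iff, Subgroup.coe_mul, Subgroup.coe_one]
      exact mul_eq_one_iff_inv_eq
    cases e <;> cases e' <;> simp only [E, CCrel, if_true, if_false, Bool.false_eq_true]
    · simp only [iff_true]; exact hac
    · -- a * (s c) = (s c) * a  ↔ a * a = 1
      rw [hA1]
      constructor
      · intro h
        have h1 : s * ((a : G)⁻¹ * c) = s * (a * c) :=
          calc s * ((a : G)⁻¹ * c) = (s * (a : G)⁻¹) * c := (mul_assoc _ _ _).symm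
            _ = (a * s) * c := by rw [hsa' a]
            _ = a * (s * c) := mul_assoc _ _ _
            _ = s * c * a := h
            _ = s * (c * a) := mul_assoc _ _ _
            _ = s * (a * c) := by rw [hac]
        exact mul_right_cancel (mul_left_cancel h1)
      · intro h
        calc (a : G) * (s * c) = (a * s) * c := (mul_assoc _ _ _).symm
          _ = (s * (a : G)⁻¹) * c := by rw [hsa' a]
          _ = s * a * c := by rw [h]
          _ = s * (a * c) := mul_assoc _ _ _
          _ = s * (c * a) := by rw [hac]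
          _ = s * c * a := (mul_assoc _ _ _).symm
    · -- (s a) * c = c * (s a) ↔ c * c = 1
      rw [hA1]
      constructor
      · intro h
        have h1 : s * ((c : G)⁻¹ * a) = s * (c * a) :=
          calc s * ((c : G)⁻¹ * a) = (s * (c : G)⁻¹) * a := (mul_assoc _ _ _).symm
            _ = (c * s) * a := by rw [hsa' c]
            _ = c * (s * a) := mul_assoc _ _ _
            _ = s * a * c := h.symm
            _ = s * (a * c) := mul_assoc _ _ _
            _ = s * (c * a) := by rw [hac]
        exact mul_right_cancel (mul_left_cancel h1)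
      · intro h
        calc s * (a : G) * c = s * (a * c) := mul_assoc _ _ _
          _ = s * (c * a) := by rw [hac]
          _ = (s * c) * a := (mul_assoc _ _ _).symm
          _ = (s * (c : G)⁻¹) * a := by rw [h]
          _ = (c * s) * a := by rw [hsa' c]
          _ = c * (s * a) := mul_assoc _ _ _
    · -- (s a)(s c) = (s c)(s a) ↔ (a⁻¹ c)^2 = 1
      rw [hA1]
      simp only [Subgroup.coe_mul, Subgroup.coe_inv]
      have e1 : s * (a : G) * (s * c) = s * s * ((a : G)⁻¹ * c) :=
        calc s * (a : G) * (s * c) = s * ((a * s) * c) := by group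
          _ = s * ((s * (a : G)⁻¹) * c) := by rw [hsa' a]
          _ = s * s * ((a : G)⁻¹ * c) := by group
      have e2 : s * (c : G) * (s * a) = s * s * ((c : G)⁻¹ * a) :=
        calc s * (c : G) * (s * a) = s * ((c * s) * a) := by group
          _ = s * ((s * (c : G)⁻¹) * a) := by rw [hsa' c]
          _ = s * s * ((c : G)⁻¹ * a) := by group
      rw [e1, e2, mul_right_inj, mul_inv_rev, inv_inv]
      exact eq_comm
  have hcomm' := card_comm_eq_card_conjClasses_mul_card G
  have hP : Nat.card {p : G × G // Commute p.1 p.2} = Nat.card A * (Nat.card A + 6) := by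
    rw [← card_CCrel A h2]
    apply Nat.card_congr
    refine (Equiv.subtypeEquiv (Equiv.prodCongr Eq Eq) ?_).symm
    rintro ⟨x, y⟩
    rw [← hcommute]
    simp only [Equiv.prodCongr_apply, Prod.map_fst, Prod.map_snd]
    rw [commute_iff_eq]
    rfl
  rw [hP, hcardG] at hcomm'
  have hpos : 0 < Nat.card A := Nat.card_pos
  apply Nat.eq_of_mul_eq_mul_left hpos
  linarith [hcomm']

/-- The order of a group `G = A ⊔ sA`. -/
theorem card_index_two [Finite G] (A : Subgroup G) (s : G) (hs : s ∉ A)
    (hcover : ∀ g, g ∈ A ∨ s⁻¹ * g ∈ A) : Nat.card G = 2 * Nat.card A := by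
  classical
  let E : Bool × A → G := fun x => if x.1 then s * x.2 else x.2
  have hEinj : Function.Injective E := by
    rintro ⟨e, a⟩ ⟨e', c⟩ h
    cases e <;> cases e' <;> simp only [E, if_true, if_false, Bool.false_eq_true] at h
    · rw [Subtype.ext h]
    · exfalso
      apply hs
      have : s = a * (c : G)⁻¹ := by rw [h]; group
      rw [this]
      exact A.mul_mem a.2 (A.inv_mem c.2)
    · exfalso
      apply hs
      have : s = c * (a : G)⁻¹ := by rw [← h]; group
      rw [this]
      exact A.mul_mem c.2 (A.inv_mem a.2)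
    · have := mul_left_cancel h
      rw [Subtype.ext this]
  have hEsurj : Function.Surjective E := by
    intro g
    rcases hcover g with h | h
    · exact ⟨(false, ⟨g, h⟩), by simp [E]⟩
    · exact ⟨(true, ⟨s⁻¹ * g, h⟩), by simp [E]⟩
  rw [← Nat.card_congr (Equiv.ofBijective E ⟨hEinj, hEsurj⟩), Nat.card_prod, Nat.card_eq_fintype_card,
    Fintype.card_bool]

end Cfsg.Agent.Helper40
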