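import Mathlib
import Cfsg.Agent.Lib.Helper40.IndexTwo

set_option autoImplicit false

namespace Cfsg.Agent.Helper40

variable {G : Type*} [Group G]

theorem inv_conj_of_inverts (A : Subgroup G) (s : G) (hinv : ∀ a ∈ A, s * a * s⁻¹ = a⁻¹)
    (a : G) (ha : a ∈ A) : s⁻¹ * a * s = a⁻¹ := by
  have h := hinv a⁻¹ (A.inv_mem ha)
  rw [inv_inv] at h
  calc s⁻¹ * a * s = s⁻¹ * (s * a⁻¹ * s⁻¹) * s := by rw [h]
    _ = a⁻¹ := by group

/-- the subgroup `A ∪ sA` when `s` inverts the abelian subgroup `A` and `s² ∈ A` -/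
def dic (A : Subgroup G) (s : G) (hinv : ∀ a ∈ A, s * a * s⁻¹ = a⁻¹) (hs2 : s * s ∈ A) :
    Subgroup G where
  carrier := {x | x ∈ A ∨ s⁻¹ * x ∈ A}
  one_mem' := Or.inl A.one_mem
  mul_mem' := by
    rintro x y (hx | hx) (hy | hy)
    · exact Or.inl (A.mul_mem hx hy)
    · right
      have h1 := inv_conj_of_inverts A s hinv x hx
      have : s⁻¹ * (x * y) = (s⁻¹ * x * s) * (s⁻¹ * y) := by group
      rw [this, h1]
      exact A.mul_mem (A.inv_mem hx) hy
    · right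
      have : s⁻¹ * (x * y) = (s⁻¹ * x) * y := by group
      rw [this]
      exact A.mul_mem hx hy
    · left
      have h1 := hinv _ hx
      have : x * y = (s * (s⁻¹ * x) * s⁻¹) * (s * s) * (s⁻¹ * y) := by group
      rw [this, h1]
      exact A.mul_mem (A.mul_mem (A.inv_mem hx) hs2) hy
  inv_mem' := by
    rintro x (hx | hx)
    · exact Or.inl (A.inv_mem hx)
    · right
      have h1 := inv_conj_of_inverts A s hinv _ (A.inv_mem hx)
      rw [inv_inv] at h1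
      have : s⁻¹ * x⁻¹ = (s⁻¹ * (s⁻¹ * x)⁻¹ * s) * (s * s)⁻¹ := by group
      rw [this, h1]
      exact A.mul_mem hx (A.inv_mem hs2)

theorem mem_dic (A : Subgroup G) (s : G) (hinv : ∀ a ∈ A, s * a * s⁻¹ = a⁻¹) (hs2 : s * s ∈ A)
    (x : G) : x ∈ dic A s hinv hs2 ↔ (x ∈ A ∨ s⁻¹ * x ∈ A) := Iff.rfl

theorem le_dic (A : Subgroup G) (s : G) (hinv : ∀ a ∈ A, s * a * s⁻¹ = a⁻¹) (hs2 : s * s ∈ A) :
    A ≤ dic A s hinv hs2 := fun _ hx => Or.inl hx

theorem s_mem_dic (A : Subgroup G) (s : G) (hinv : ∀ a ∈ A, s * a * s⁻¹ = a⁻¹) (hs2 : s * s ∈ A) :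
    s ∈ dic A s hinv hs2 := Or.inr (by rw [inv_mul_cancel]; exact A.one_mem)

theorem card_dic [Finite G] (A : Subgroup G) (s : G) (hinv : ∀ a ∈ A, s * a * s⁻¹ = a⁻¹)
    (hs2 : s * s ∈ A) (hs : s ∉ A) : Nat.card (dic A s hinv hs2) = 2 * Nat.card A := by
  let D := dic A s hinv hs2
  let A' : Subgroup D := A.subgroupOf D
  let s' : D := ⟨s, s_mem_dic A s hinv hs2⟩
  have hA : ∀ a : D, a ∈ A' ↔ (a : G) ∈ A := fun a => Subgroup.mem_subgroupOf
  have hsA : s' ∉ A' := fun h => hs ((hA s').mp h)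
  have hcover : ∀ g : D, g ∈ A' ∨ s'⁻¹ * g ∈ A' := by
    intro g
    rcases g.2 with h | h
    · left; exact (hA g).mpr h
    · right; rw [hA]; exact h
  have hcardA : Nat.card A' = Nat.card A :=
    Nat.card_congr (Subgroup.subgroupOfEquivOfLe (le_dic A s hinv hs2)).toEquiv
  change Nat.card D = _
  rw [card_index_two A' s' hsA hcover, hcardA]

/-- the `n`-torsion of an abelian subgroup -/
def powTorsion (T : Subgroup G) (hcomm : ∀ a ∈ T, ∀ b ∈ T, a * b = b * a) (n : ℕ) : Subgroup G where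
  carrier := {t | t ∈ T ∧ t ^ n = 1}
  mul_mem' := by
    rintro a b ⟨ha, ha'⟩ ⟨hb, hb'⟩
    refine ⟨T.mul_mem ha hb, ?_⟩
    have hc : Commute a b := hcomm a ha b hb
    rw [hc.mul_pow, ha', hb', one_mul]
  one_mem' := ⟨T.one_mem, one_pow _⟩
  inv_mem' := by
    rintro a ⟨ha, ha'⟩
    exact ⟨T.inv_mem ha, by rw [inv_pow, ha', inv_one]⟩

theorem mem_powTorsion (T : Subgroup G) (hcomm : ∀ a ∈ T, ∀ b ∈ T, a * b = b * a) (n : ℕ) (t : G) :
    t ∈ powTorsion T hcomm n ↔ (t ∈ T ∧ t ^ n = 1) := Iff.rfl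

theorem card_pow_eq_one_of_isCyclic (C : Type*) [Group C] [Finite C] [IsCyclic C] (d : ℕ)
    (hd : d ∣ Nat.card C) : Nat.card {x : C // x ^ d = 1} = d := by
  let _ : CommGroup C := IsCyclic.commGroup
  have h := IsCyclic.card_powMonoidHom_ker C d
  rw [Nat.gcd_eq_right hd] at h
  refine Eq.trans (Nat.card_congr ?_) h
  apply Equiv.subtypeEquivRight
  intro x
  rw [MonoidHom.mem_ker, powMonoidHom_apply]

theorem card_powTorsion [Finite G] (T : Subgroup G) (hcomm : ∀ a ∈ T, ∀ b ∈ T, a * b = b * a)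
    [IsCyclic T] (n : ℕ) (hn : n ∣ Nat.card T) : Nat.card (powTorsion T hcomm n) = n := by
  refine Eq.trans (Nat.card_congr ?_) (card_pow_eq_one_of_isCyclic T n hn)
  exact
    { toFun := fun t => ⟨⟨t.1, t.2.1⟩, Subtype.ext t.2.2⟩
      invFun := fun t => ⟨t.1.1, t.1.2, congrArg Subtype.val t.2⟩
      left_inv := fun t => rfl
      right_inv := fun t => rfl }

end Cfsg.Agent.Helper40
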