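import Mathlib

set_option autoImplicit false

namespace Cfsg.Agent.Helper40

variable {G : Type*} [Group G]

theorem mem_conj_map (x : G) (H : Subgroup G) (g : G) :
    g ∈ H.map (MulAut.conj x).toMonoidHom ↔ x⁻¹ * g * x ∈ H := by
  rw [Subgroup.mem_map_equiv, MulAut.conj_symm_apply]

theorem card_conj_map (x : G) (H : Subgroup G) :
    Nat.card (H.map (MulAut.conj x).toMonoidHom) = Nat.card H :=
  (Nat.card_congr ((MulAut.conj x).subgroupMap H).toEquiv).symm

theorem isCyclic_conj_map (x : G) (H : Subgroup G) [IsCyclic H] :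
    IsCyclic (H.map (MulAut.conj x).toMonoidHom) :=
  ((MulAut.conj x).subgroupMap H).isCyclic.mp inferInstance

/-- Sylow subgroups of a group in which a Sylow subgroup lies in an abelian "torus" `T` whose
elements of order `ℓ` have centralizer inside `T`. -/
theorem sylow_cent_norm [Finite G] (ℓ : ℕ) [Fact ℓ.Prime] (T : Subgroup G)
    (hcomm : ∀ a ∈ T, ∀ b ∈ T, a * b = b * a)
    (hinv : ∀ n ∈ Subgroup.normalizer (T : Set G), ∀ t ∈ T, n * t * n⁻¹ = t ∨ n * t * n⁻¹ = t⁻¹)
    (hcent : ∀ g ∈ T, orderOf g = ℓ → ∀ x, x * g = g * x → x ∈ T)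
    (hdvd : ℓ ∣ Nat.card T)
    (hval : (Nat.card G).factorization ℓ = (Nat.card T).factorization ℓ)
    (P : Sylow ℓ G) :
    ∃ x : G, Subgroup.centralizer ((P : Subgroup G) : Set G) = T.map (MulAut.conj x).toMonoidHom ∧
      Subgroup.normalizer ((P : Subgroup G) : Set G)
        = (Subgroup.normalizer (T : Set G)).map (MulAut.conj x).toMonoidHom := by
  have hℓ : ℓ.Prime := Fact.out
  obtain ⟨Q₀⟩ : Nonempty (Sylow ℓ T) := inferInstance
  set Q : Subgroup G := (Q₀ : Subgroup T).map T.subtype with hQ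
  have hQT : Q ≤ T := Subgroup.map_subtype_le _
  have hcardQ : Nat.card Q = ℓ ^ (Nat.card G).factorization ℓ := by
    rw [hval, hQ, Subgroup.card_map_of_injective T.subtype_injective]
    exact Q₀.card_eq_multiplicity
  obtain ⟨x, hx⟩ := MulAction.exists_smul_eq G (Sylow.ofCard Q hcardQ) P
  have hPmem : ∀ g, g ∈ (P : Subgroup G) ↔ x⁻¹ * g * x ∈ Q := by
    intro g
    rw [← hx, Sylow.coe_subgroup_smul, Subgroup.mem_pointwise_smul_iff_inv_smul_mem,
      Sylow.coe_ofCard, MulAut.smul_def, ← map_inv, MulAut.conj_apply, inv_inv]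
  -- centralizer of Q
  have hℓQ : ℓ ∣ Nat.card Q := by
    rw [hcardQ, hval]
    apply dvd_pow_self
    have : 0 < (Nat.card T).factorization ℓ :=
      hℓ.factorization_pos_of_dvd Nat.card_pos.ne' hdvd
    omega
  obtain ⟨g₀, hg₀⟩ := exists_prime_orderOf_dvd_card' (G := Q) ℓ hℓQ
  have hg₀' : orderOf (g₀ : G) = ℓ := by rw [Subgroup.orderOf_coe]; exact hg₀
  have hCQ : ∀ y, y ∈ Subgroup.centralizer (Q : Set G) ↔ y ∈ T := by
    intro y
    constructor
    · intro hy
      apply hcent g₀ (hQT g₀.2) hg₀' y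
      rw [Subgroup.mem_centralizer_iff] at hy
      exact (hy g₀ g₀.2).symm
    · intro hy
      rw [Subgroup.mem_centralizer_iff]
      intro h hh
      exact hcomm h (hQT hh) y hy
  have hNT_le : ∀ n, n ∈ Subgroup.normalizer (T : Set G) → ∀ h ∈ Q, n * h * n⁻¹ ∈ Q := by
    intro n hn h hh
    rcases hinv n hn h (hQT hh) with e | e
    · rw [e]; exact hh
    · rw [e]; exact Q.inv_mem hh
  have hNQ : ∀ n, n ∈ Subgroup.normalizer (Q : Set G) ↔ n ∈ Subgroup.normalizer (T : Set G) := by
    intro n
    constructor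
    · intro hn
      have key : ∀ m, m ∈ Subgroup.normalizer (Q : Set G) → ∀ t ∈ T, m * t * m⁻¹ ∈ T := by
        intro m hm t ht
        rw [← hCQ, Subgroup.mem_centralizer_iff]
        intro q hq
        have hq' : m⁻¹ * q * m⁻¹⁻¹ ∈ Q :=
          (Subgroup.mem_normalizer_iff.mp (Subgroup.inv_mem _ hm) q).mp hq
        rw [inv_inv] at hq'
        have hc := hcomm _ (hQT hq') t ht
        calc q * (m * t * m⁻¹) = m * ((m⁻¹ * q * m) * t) * m⁻¹ := by group
          _ = m * (t * (m⁻¹ * q * m)) * m⁻¹ := by rw [hc]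
          _ = m * t * m⁻¹ * q := by group
      rw [Subgroup.mem_normalizer_iff]
      intro t
      constructor
      · exact key n hn t
      · intro ht
        have := key n⁻¹ (Subgroup.inv_mem _ hn) _ ht
        convert this using 1
        group
    · intro hn
      rw [Subgroup.mem_normalizer_iff]
      intro h
      constructor
      · exact hNT_le n hn h
      · intro hh
        have := hNT_le n⁻¹ (Subgroup.inv_mem _ hn) _ hh
        convert this using 1
        group
  refine ⟨x, ?_, ?_⟩
  · ext y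
    rw [mem_conj_map, ← hCQ, Subgroup.mem_centralizer_iff, Subgroup.mem_centralizer_iff]
    constructor
    · intro hy q hq
      have hq' : x * q * x⁻¹ ∈ (P : Subgroup G) := by
        rw [hPmem]
        have e : x⁻¹ * (x * q * x⁻¹) * x = q := by group
        rw [e]; exact hq
      have := hy _ hq'
      calc q * (x⁻¹ * y * x) = x⁻¹ * (x * q * x⁻¹ * y) * x := by group
        _ = x⁻¹ * (y * (x * q * x⁻¹)) * x := by rw [this]
        _ = x⁻¹ * y * x * q := by group
    · intro hy p hp
      have := hy _ ((hPmem p).mp hp)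
      calc p * y = x * (x⁻¹ * p * x * (x⁻¹ * y * x)) * x⁻¹ := by group
        _ = x * (x⁻¹ * y * x * (x⁻¹ * p * x)) * x⁻¹ := by rw [this]
        _ = y * p := by group
  · ext y
    rw [mem_conj_map, ← hNQ, Subgroup.mem_normalizer_iff, Subgroup.mem_normalizer_iff]
    constructor
    · intro hy q
      have h1 := hy (x * q * x⁻¹)
      rw [hPmem, hPmem] at h1
      convert h1 using 2 <;> group
    · intro hy p
      have h1 := hy (x⁻¹ * p * x)
      rw [hPmem, hPmem]
      convert h1 using 2
      group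

end Cfsg.Agent.Helper40
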