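import Mathlib
import Cfsg.Agent.Lib.Helper40.SylowTorus

set_option autoImplicit false

namespace Cfsg.Agent.Helper40

variable {G : Type*} [Group G]

/-- every Sylow subgroup is a conjugate of a given subgroup of Sylow order -/
theorem exists_conj_of_card [Finite G] {p : ℕ} [Fact p.Prime] (Q : Subgroup G)
    (hcard : Nat.card Q = p ^ (Nat.card G).factorization p) (P : Sylow p G) :
    ∃ x : G, ∀ g, g ∈ (P : Subgroup G) ↔ x⁻¹ * g * x ∈ Q := by
  obtain ⟨x, hx⟩ := MulAction.exists_smul_eq G (Sylow.ofCard Q hcard) P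
  refine ⟨x, fun g => ?_⟩
  rw [← hx, Sylow.coe_subgroup_smul, Subgroup.mem_pointwise_smul_iff_inv_smul_mem,
    Sylow.coe_ofCard, MulAut.smul_def, ← map_inv, MulAut.conj_apply, inv_inv]

theorem eq_map_of_conj (P Q : Subgroup G) (x : G) (h : ∀ g, g ∈ P ↔ x⁻¹ * g * x ∈ Q) :
    P = Q.map (MulAut.conj x).toMonoidHom := by
  ext g
  rw [mem_conj_map, h]

theorem centralizer_eq_of_conj (P Q : Subgroup G) (x : G) (h : ∀ g, g ∈ P ↔ x⁻¹ * g * x ∈ Q) :
    Subgroup.centralizer (P : Set G)
      = (Subgroup.centralizer (Q : Set G)).map (MulAut.conj x).toMonoidHom := by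
  ext y
  rw [mem_conj_map, Subgroup.mem_centralizer_iff, Subgroup.mem_centralizer_iff]
  constructor
  · intro hy q hq
    have hq' : x * q * x⁻¹ ∈ P := by
      rw [h]
      have e : x⁻¹ * (x * q * x⁻¹) * x = q := by group
      rw [e]; exact hq
    have := hy _ hq'
    calc q * (x⁻¹ * y * x) = x⁻¹ * (x * q * x⁻¹ * y) * x := by group
      _ = x⁻¹ * (y * (x * q * x⁻¹)) * x := by rw [this]
      _ = x⁻¹ * y * x * q := by group
  · intro hy p hp
    have := hy _ ((h p).mp hp)
    calc p * y = x * (x⁻¹ * p * x * (x⁻¹ * y * x)) * x⁻¹ := by group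
      _ = x * (x⁻¹ * y * x * (x⁻¹ * p * x)) * x⁻¹ := by rw [this]
      _ = y * p := by group

theorem normalizer_eq_of_conj (P Q : Subgroup G) (x : G) (h : ∀ g, g ∈ P ↔ x⁻¹ * g * x ∈ Q) :
    Subgroup.normalizer (P : Set G)
      = (Subgroup.normalizer (Q : Set G)).map (MulAut.conj x).toMonoidHom := by
  ext y
  rw [mem_conj_map, Subgroup.mem_normalizer_iff, Subgroup.mem_normalizer_iff]
  constructor
  · intro hy q
    have h1 := hy (x * q * x⁻¹)
    rw [h, h] at h1
    convert h1 using 2 <;> group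
  · intro hy p
    have h1 := hy (x⁻¹ * p * x)
    rw [h, h]
    convert h1 using 2
    group

theorem center_map_conj (x : G) :
    (Subgroup.center G).map (MulAut.conj x).toMonoidHom = Subgroup.center G := by
  ext y
  rw [mem_conj_map, Subgroup.mem_center_iff, Subgroup.mem_center_iff]
  constructor
  · intro hy g
    have := hy (x⁻¹ * g * x)
    calc g * y = x * (x⁻¹ * g * x * (x⁻¹ * y * x)) * x⁻¹ := by group
      _ = x * (x⁻¹ * y * x * (x⁻¹ * g * x)) * x⁻¹ := by rw [this]
      _ = y * g := by group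
  · intro hy g
    have := hy (x * g * x⁻¹)
    calc g * (x⁻¹ * y * x) = x⁻¹ * (x * g * x⁻¹ * y) * x := by group
      _ = x⁻¹ * (y * (x * g * x⁻¹)) * x := by rw [this]
      _ = x⁻¹ * y * x * g := by group

end Cfsg.Agent.Helper40
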