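import Mathlib
import Cfsg.Agent.Lib.Helper40.Dicyclic
import Cfsg.Agent.Lib.Helper40.SylowConj

set_option autoImplicit false

namespace Cfsg.Agent.Helper40

variable {G : Type*} [Group G]

/-- A cyclic "torus" `T` of order `2^k m` inverted by `s`, with `N(T) = T ∪ sT`. -/
structure DicData (T : Subgroup G) (s z : G) (k m : ℕ) : Prop where
  comm : ∀ a ∈ T, ∀ b ∈ T, a * b = b * a
  card : Nat.card T = 2 ^ k * m
  odd : Odd m
  two_le : 2 ≤ k
  z_mem : z ∈ T
  z_ne : z ≠ 1
  z_sq : z * z = 1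
  z_central : ∀ g : G, g * z = z * g
  sq_one : ∀ t ∈ T, t * t = 1 → t = 1 ∨ t = z
  s_not_mem : s ∉ T
  inv : ∀ t ∈ T, s * t * s⁻¹ = t⁻¹
  norm : ∀ n, n ∈ Subgroup.normalizer (T : Set G) ↔ (n ∈ T ∨ s⁻¹ * n ∈ T)
  sq : ∀ x, x ∈ Subgroup.normalizer (T : Set G) → x ∉ T → x * x = z
  cent : ∀ t ∈ T, t ≠ 1 → t ≠ z → ∀ x, x * t = t * x → x ∈ T

namespace DicData

variable {T : Subgroup G} {s z : G} {k m : ℕ}

/-- the Sylow 2-subgroup of the torus -/
def T₂ (h : DicData T s z k m) : Subgroup G := powTorsion T h.comm (2 ^ k)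

theorem mem_T₂ (h : DicData T s z k m) (t : G) : t ∈ h.T₂ ↔ (t ∈ T ∧ t ^ (2 ^ k) = 1) := Iff.rfl

theorem T₂_le (h : DicData T s z k m) : h.T₂ ≤ T := fun _ ht => ht.1

theorem s_mem_normalizer (h : DicData T s z k m) : s ∈ Subgroup.normalizer (T : Set G) := by
  rw [h.norm]; right; rw [inv_mul_cancel]; exact T.one_mem

theorem s_sq (h : DicData T s z k m) : s * s = z := h.sq s h.s_mem_normalizer h.s_not_mem

theorem z_pow (h : DicData T s z k m) : z ^ (2 ^ k) = 1 := by
  have hk : 2 ^ k = 2 * 2 ^ (k - 1) := by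
    have := h.two_le
    rw [← pow_succ']; congr 1; omega
  rw [hk, pow_mul, pow_two, h.z_sq, one_pow]

theorem z_mem_T₂ (h : DicData T s z k m) : z ∈ h.T₂ := ⟨h.z_mem, h.z_pow⟩

theorem inv₂ (h : DicData T s z k m) : ∀ a ∈ h.T₂, s * a * s⁻¹ = a⁻¹ := fun a ha => h.inv a ha.1

theorem s_sq_mem (h : DicData T s z k m) : s * s ∈ h.T₂ := by rw [h.s_sq]; exact h.z_mem_T₂

/-- the Sylow 2-subgroup -/
def S₀ (h : DicData T s z k m) : Subgroup G := dic h.T₂ s h.inv₂ h.s_sq_mem

theorem mem_S₀ (h : DicData T s z k m) (x : G) : x ∈ h.S₀ ↔ (x ∈ h.T₂ ∨ s⁻¹ * x ∈ h.T₂) := Iff.rfl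

theorem T₂_le_S₀ (h : DicData T s z k m) : h.T₂ ≤ h.S₀ := le_dic _ _ _ _

theorem s_mem_S₀ (h : DicData T s z k m) : s ∈ h.S₀ := s_mem_dic _ _ _ _

theorem card_T₂ [Finite G] [IsCyclic T] (h : DicData T s z k m) : Nat.card h.T₂ = 2 ^ k :=
  card_powTorsion T h.comm (2 ^ k) (by rw [h.card]; exact dvd_mul_right _ _)

theorem card_S₀ [Finite G] [IsCyclic T] (h : DicData T s z k m) : Nat.card h.S₀ = 2 ^ (k + 1) := by
  have : Nat.card h.S₀ = 2 * Nat.card h.T₂ :=
    card_dic h.T₂ s h.inv₂ h.s_sq_mem (fun hs => h.s_not_mem hs.1)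
  rw [this, h.card_T₂, pow_succ']

theorem S₀_le_normalizer (h : DicData T s z k m) : h.S₀ ≤ Subgroup.normalizer (T : Set G) := by
  intro x hx
  rw [h.norm]
  rcases hx with hx | hx
  · exact Or.inl hx.1
  · exact Or.inr hx.1

theorem exists_gen [Finite G] [IsCyclic T] (h : DicData T s z k m) :
    ∃ τ ∈ h.T₂, orderOf τ = 2 ^ k := by
  have : IsCyclic h.T₂ := Subgroup.isCyclic_of_le h.T₂_le
  obtain ⟨g, hg⟩ := IsCyclic.exists_ofOrder_eq_natCard (α := h.T₂)
  refine ⟨g, g.2, ?_⟩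
  rw [← h.card_T₂, ← hg, Subgroup.orderOf_coe]

theorem orderOf_z_le (h : DicData T s z k m) : orderOf z ≤ 2 := by
  apply Nat.le_of_dvd (by norm_num)
  apply orderOf_dvd_of_pow_eq_one
  rw [pow_two, h.z_sq]

theorem four_le (h : DicData T s z k m) : 4 ≤ 2 ^ k := by
  have := h.two_le
  calc 4 = 2 ^ 2 := by norm_num
    _ ≤ 2 ^ k := Nat.pow_le_pow_right (by norm_num) this

theorem gen_ne (h : DicData T s z k m) (τ : G) (hτ : orderOf τ = 2 ^ k) : τ ≠ 1 ∧ τ ≠ z := by
  have h4 := h.four_le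
  constructor
  · rintro rfl
    rw [orderOf_one] at hτ
    omega
  · rintro rfl
    have := h.orderOf_z_le
    omega

/-- the centralizer of the Sylow 2-subgroup -/
theorem mem_centralizer_S₀ [Finite G] [IsCyclic T] (h : DicData T s z k m) (c : G) :
    c ∈ Subgroup.centralizer (h.S₀ : Set G) ↔ (c = 1 ∨ c = z) := by
  constructor
  · intro hc
    rw [Subgroup.mem_centralizer_iff] at hc
    obtain ⟨τ, hτ, hord⟩ := h.exists_gen
    obtain ⟨h1, hz⟩ := h.gen_ne τ hord
    have hcT : c ∈ T := h.cent τ hτ.1 h1 hz c (hc τ (h.T₂_le_S₀ hτ)).symm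
    have hcs := hc s h.s_mem_S₀
    have hinv := h.inv c hcT
    have : c * c = 1 := by
      have e : s * c * s⁻¹ = c := by rw [hcs]; group
      rw [e] at hinv
      calc c * c = c * c⁻¹ := by rw [← hinv]
        _ = 1 := mul_inv_cancel c
    exact h.sq_one c hcT this
  · rintro (rfl | rfl)
    · exact Subgroup.one_mem _
    · rw [Subgroup.mem_centralizer_iff]
      intro x _
      exact h.z_central x

theorem pow_card_torus [Finite G] (h : DicData T s z k m) (t : G) (ht : t ∈ T) :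
    t ^ (2 ^ k * m) = 1 := by
  have := pow_card_eq_one' (G := T) (x := ⟨t, ht⟩)
  rw [h.card] at this
  exact congrArg Subtype.val this

theorem gcd_aux (k m : ℕ) (hm : Odd m) : Nat.gcd (2 ^ (k + 1)) (2 ^ k * m) = 2 ^ k := by
  rw [pow_succ, Nat.gcd_mul_left, Nat.coprime_two_left.mpr hm, mul_one]

/-- an element of the torus whose square lies in `T₂` lies in `T₂` -/
theorem mem_T₂_of_sq [Finite G] (h : DicData T s z k m) (t : G) (ht : t ∈ T) (ht2 : t * t ∈ h.T₂) :
    t ∈ h.T₂ := by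
  refine ⟨ht, ?_⟩
  have h1 : t ^ (2 ^ (k + 1)) = 1 := by
    have := ht2.2
    rw [← pow_two, ← pow_mul, ← pow_succ'] at this
    exact this
  have h2 := h.pow_card_torus t ht
  have := pow_gcd_eq_one.mpr ⟨h1, h2⟩
  rwa [gcd_aux k m h.odd] at this

/-- the normalizer of `S₀` inside the normalizer of the torus -/
theorem mem_S₀_of_normalizers [Finite G] (h : DicData T s z k m) (n : G)
    (hnT : n ∈ Subgroup.normalizer (T : Set G)) (hnS : n ∈ Subgroup.normalizer (h.S₀ : Set G)) :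
    n ∈ h.S₀ := by
  have key : ∀ t, t ∈ T → t ∈ Subgroup.normalizer (h.S₀ : Set G) → t ∈ h.T₂ := by
    intro t ht htS
    have h1 := (Subgroup.mem_normalizer_iff.mp htS s).mp h.s_mem_S₀
    have h2 : s * t⁻¹ * s⁻¹ = t := by
      have := h.inv t⁻¹ (T.inv_mem ht)
      rwa [inv_inv] at this
    have e : t * s * t⁻¹ = t * t * s := by
      calc t * s * t⁻¹ = t * (s * t⁻¹ * s⁻¹) * s := by group
        _ = t * t * s := by rw [h2]
    rw [e] at h1
    apply h.mem_T₂_of_sq t ht
    rcases h1 with h1 | h1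
    · exfalso
      apply h.s_not_mem
      have : s = (t * t)⁻¹ * (t * t * s) := by group
      rw [this]
      exact T.mul_mem (T.inv_mem (T.mul_mem ht ht)) h1.1
    · have e2 : s⁻¹ * (t * t * s) = (t * t)⁻¹ := by
        have := inv_conj_of_inverts T s h.inv (t * t) (T.mul_mem ht ht)
        rw [← this]; group
      rw [e2] at h1
      have := h.T₂.inv_mem h1
      rwa [inv_inv] at this
  rcases (h.norm n).mp hnT with hn | hn
  · exact h.T₂_le_S₀ (key n hn hnS)
  · right
    apply key _ hn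
    exact Subgroup.mul_mem _ (Subgroup.inv_mem _ (Subgroup.le_normalizer h.s_mem_S₀)) hnS

theorem pow_four_eq (x : G) : x ^ 4 = (x * x) * (x * x) := by
  rw [show 4 = 2 * 2 from rfl, pow_mul, pow_two, pow_two]

/-- for `k ≥ 3` the Sylow 2-subgroup is self-normalizing -/
theorem normalizer_S₀ [Finite G] [IsCyclic T] (h : DicData T s z k m) (hk : 3 ≤ k) :
    Subgroup.normalizer (h.S₀ : Set G) = h.S₀ := by
  apply le_antisymm _ Subgroup.le_normalizer
  intro n hn
  have h8 : 8 ≤ 2 ^ k := by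
    calc 8 = 2 ^ 3 := by norm_num
      _ ≤ 2 ^ k := Nat.pow_le_pow_right (by norm_num) hk
  have key : ∀ n' ∈ Subgroup.normalizer (h.S₀ : Set G), ∀ t ∈ T, n' * t * n'⁻¹ ∈ T := by
    intro n' hn' t ht
    obtain ⟨τ, hτ, hord⟩ := h.exists_gen
    have hx := (Subgroup.mem_normalizer_iff.mp hn' τ).mp (h.T₂_le_S₀ hτ)
    have hordx : orderOf (n' * τ * n'⁻¹) = 2 ^ k := by
      rw [← hord, ← MulAut.conj_apply, MulEquiv.orderOf_eq]
    have hxT : n' * τ * n'⁻¹ ∈ h.T₂ := by
      rcases hx with hx | hx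
      · exact hx
      · exfalso
        have hxN : n' * τ * n'⁻¹ ∈ Subgroup.normalizer (T : Set G) := by
          rw [h.norm]; exact Or.inr hx.1
        have hxnT : n' * τ * n'⁻¹ ∉ T := by
          intro hxT
          apply h.s_not_mem
          have : s = (n' * τ * n'⁻¹) * (s⁻¹ * (n' * τ * n'⁻¹))⁻¹ := by group
          rw [this]
          exact T.mul_mem hxT (T.inv_mem hx.1)
        have hsq := h.sq _ hxN hxnT
        have h4 : (n' * τ * n'⁻¹) ^ 4 = 1 := by
          rw [pow_four_eq, hsq, h.z_sq]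
        have := Nat.le_of_dvd (by norm_num) (orderOf_dvd_of_pow_eq_one h4)
        omega
    obtain ⟨hx1, hxz⟩ := h.gen_ne _ hordx
    apply h.cent _ hxT.1 hx1 hxz
    have hc := h.comm t ht τ hτ.1
    calc n' * t * n'⁻¹ * (n' * τ * n'⁻¹) = n' * (t * τ) * n'⁻¹ := by group
      _ = n' * (τ * t) * n'⁻¹ := by rw [hc]
      _ = n' * τ * n'⁻¹ * (n' * t * n'⁻¹) := by group
  apply h.mem_S₀_of_normalizers n _ hn
  rw [Subgroup.mem_normalizer_iff]
  intro t
  constructor
  · exact key n hn t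
  · intro ht
    have := key n⁻¹ (Subgroup.inv_mem _ hn) _ ht
    have e : n⁻¹ * (n * t * n⁻¹) * n⁻¹⁻¹ = t := by group
    rwa [e] at this

end DicData

theorem mem_normalizer_of_conj_mem [Finite G] (H : Subgroup G) (g : G)
    (hg : ∀ x ∈ H, g * x * g⁻¹ ∈ H) : g ∈ Subgroup.normalizer (H : Set G) := by
  have hle : H.map (MulAut.conj g).toMonoidHom ≤ H := by
    intro y hy
    rw [mem_conj_map] at hy
    have := hg _ hy
    have e : g * (g⁻¹ * y * g) * g⁻¹ = y := by group
    rwa [e] at this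
  have heq : H.map (MulAut.conj g).toMonoidHom = H :=
    Subgroup.eq_of_le_of_card_ge hle (by rw [card_conj_map])
  rw [Subgroup.mem_normalizer_iff]
  intro x
  constructor
  · exact hg x
  · intro hx
    rw [← heq, mem_conj_map] at hx
    have e : g⁻¹ * (g * x * g⁻¹) * g = x := by group
    rwa [e] at hx

theorem card_le_mul_of_fiber_le {α β : Type*} [Finite α] [Finite β] (f : α → β) (n : ℕ)
    (hfib : ∀ a : α, Nat.card {x : α // f x = f a} ≤ n) : Nat.card α ≤ n * Nat.card β := by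
  classical
  have := Fintype.ofFinite α
  have := Fintype.ofFinite β
  rw [Nat.card_eq_fintype_card, Nat.card_eq_fintype_card]
  have key := Finset.card_le_mul_card_image_of_maps_to (f := f) (s := Finset.univ)
    (t := Finset.univ) (fun _ _ => Finset.mem_univ _) n (by
      intro b _
      by_cases hb : ∃ a, f a = b
      · obtain ⟨a, rfl⟩ := hb
        have := hfib a
        rw [Nat.card_eq_fintype_card, Fintype.card_subtype] at this
        exact this
      · have : (Finset.univ.filter fun a => f a = b) = ∅ := by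
          rw [Finset.filter_eq_empty_iff]
          intro a _ ha
          exact hb ⟨a, ha⟩
        rw [this, Finset.card_empty]
        exact Nat.zero_le _)
  simpa using key

namespace DicData

variable {T : Subgroup G} {s z : G} {k m : ℕ}

/-- for `k = 2`, given an extra element normalizing `S₀`, the normalizer has order 24 -/
theorem card_normalizer_S₀ [Finite G] [IsCyclic T] (h : DicData T s z k m) (hk : k = 2)
    (hval : (Nat.card G).factorization 2 = k + 1)
    (hw : ∃ g i : G, i ∈ T ∧ i * i = z ∧ g * s * g⁻¹ = i ∧ g * i * g⁻¹ = i * s) :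
    Nat.card (Subgroup.normalizer (h.S₀ : Set G)) = 24 := by
  obtain ⟨g, i, hiT, hii, hgs, hgi⟩ := hw
  have hcardT₂ : Nat.card h.T₂ = 4 := by rw [h.card_T₂, hk]; norm_num
  have hcardS₀ : Nat.card h.S₀ = 8 := by rw [h.card_S₀, hk]; norm_num
  have hi4 : i ^ 4 = 1 := by
    rw [pow_four_eq, hii, h.z_sq]
  have hi2 : ¬ i ^ 2 ^ 1 = 1 := by
    rw [pow_one, pow_two, hii]; exact h.z_ne
  have hordi : orderOf i = 4 := by
    have := orderOf_eq_prime_pow (p := 2) (n := 1) hi2 (by norm_num; exact hi4)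
    rw [this]; norm_num
  have hiT₂ : i ∈ h.T₂ := ⟨hiT, by rw [hk]; norm_num; exact hi4⟩
  obtain ⟨hi1, hiz⟩ := h.gen_ne i (by rw [hordi, hk]; norm_num)
  -- `T₂` is generated by `i`
  have hzp : Subgroup.zpowers i = h.T₂ := by
    apply Subgroup.eq_of_le_of_card_ge
    · rw [Subgroup.zpowers_le]; exact hiT₂
    · rw [Nat.card_zpowers, hordi, hcardT₂]
  have his : i * s ∈ h.S₀ := by
    right
    have : s⁻¹ * (i * s) = i⁻¹ := by
      rw [← inv_conj_of_inverts T s h.inv i hiT]; group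
    rw [this]
    exact h.T₂.inv_mem hiT₂
  -- `g` normalizes `S₀`
  have hgT₂ : ∀ t ∈ h.T₂, g * t * g⁻¹ ∈ h.S₀ := by
    intro t ht
    rw [← hzp, Subgroup.mem_zpowers_iff] at ht
    obtain ⟨j, rfl⟩ := ht
    rw [← conj_zpow, hgi]
    exact h.S₀.zpow_mem his j
  have hgN : g ∈ Subgroup.normalizer (h.S₀ : Set G) := by
    apply mem_normalizer_of_conj_mem
    rintro x (hx | hx)
    · exact hgT₂ x hx
    · have e : g * x * g⁻¹ = (g * s * g⁻¹) * (g * (s⁻¹ * x) * g⁻¹) := by group
      rw [e, hgs]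
      exact h.S₀.mul_mem (h.T₂_le_S₀ hiT₂) (hgT₂ _ hx)
  have hgS : g ∉ h.S₀ := by
    intro hg
    have hgNT := h.S₀_le_normalizer hg
    have := (Subgroup.mem_normalizer_iff.mp hgNT i).mp hiT
    rw [hgi] at this
    apply h.s_not_mem
    have e : s = i⁻¹ * (i * s) := by group
    rw [e]
    exact T.mul_mem (T.inv_mem hiT) this
  -- the upper bound
  set N₀ := Subgroup.normalizer (h.S₀ : Set G) with hN₀
  let β := {x : G // x ∈ h.S₀ ∧ x ≠ 1 ∧ x ≠ z}
  have hβ : Nat.card β + 2 ≤ 8 := by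
    let φ : Option (Option β) → h.S₀ := fun o =>
      match o with
      | none => ⟨1, h.S₀.one_mem⟩
      | some none => ⟨z, h.T₂_le_S₀ h.z_mem_T₂⟩
      | some (some b) => ⟨b.1, b.2.1⟩
    have hφ : Function.Injective φ := by
      rintro (_ | _ | a) (_ | _ | b) hab
      · rfl
      · exact absurd (congrArg Subtype.val hab).symm h.z_ne
      · exact absurd (congrArg Subtype.val hab).symm b.2.2.1
      · exact absurd (congrArg Subtype.val hab) h.z_ne
      · rfl
      · exact absurd (congrArg Subtype.val hab).symm b.2.2.2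
      · exact absurd (congrArg Subtype.val hab) a.2.2.1
      · exact absurd (congrArg Subtype.val hab) a.2.2.2
      · have hv : ((φ (some (some a))) : G) = ((φ (some (some b))) : G) := congrArg Subtype.val hab
        have : a = b := Subtype.ext hv
        rw [this]
    have := Nat.card_le_card_of_injective φ hφ
    rw [hcardS₀, Finite.card_option, Finite.card_option] at this
    exact this
  have hconj_mem : ∀ n : N₀, (n : G) * i * (n : G)⁻¹ ∈ h.S₀ ∧ (n : G) * i * (n : G)⁻¹ ≠ 1 ∧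
      (n : G) * i * (n : G)⁻¹ ≠ z := by
    intro n
    refine ⟨(Subgroup.mem_normalizer_iff.mp n.2 i).mp (h.T₂_le_S₀ hiT₂), ?_, ?_⟩
    · intro hc
      apply hi1
      have : i = (n : G)⁻¹ * ((n : G) * i * (n : G)⁻¹) * (n : G) := by group
      rw [this, hc]; group
    · intro hc
      apply hiz
      have : i = (n : G)⁻¹ * ((n : G) * i * (n : G)⁻¹) * (n : G) := by group
      rw [this, hc, h.z_central, mul_assoc, inv_mul_cancel, mul_one]
  let f : N₀ → β := fun n => ⟨(n : G) * i * (n : G)⁻¹, hconj_mem n⟩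
  have hfib : ∀ a : N₀, Nat.card {x : N₀ // f x = f a} ≤ 4 := by
    intro a
    rw [← hcardT₂]
    have hmem : ∀ x : {x : N₀ // f x = f a}, ((a : G)⁻¹ * (x.1 : G)) ∈ h.T₂ := by
      intro x
      have hx : (x.1 : G) * i * (x.1 : G)⁻¹ = (a : G) * i * (a : G)⁻¹ :=
        congrArg (fun b : β => b.1) x.2
      have hc : ((a : G)⁻¹ * (x.1 : G)) * i = i * ((a : G)⁻¹ * (x.1 : G)) := by
        calc ((a : G)⁻¹ * (x.1 : G)) * i = (a : G)⁻¹ * ((x.1 : G) * i * (x.1 : G)⁻¹) * (x.1 : G) := by group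
          _ = (a : G)⁻¹ * ((a : G) * i * (a : G)⁻¹) * (x.1 : G) := by rw [hx]
          _ = i * ((a : G)⁻¹ * (x.1 : G)) := by group
      have hT := h.cent i hiT hi1 hiz _ hc
      have hNS : (a : G)⁻¹ * (x.1 : G) ∈ N₀ := N₀.mul_mem (N₀.inv_mem a.2) x.1.2
      have hS := h.mem_S₀_of_normalizers _ (Subgroup.le_normalizer hT) hNS
      rcases hS with hS | hS
      · exact hS
      · exfalso
        apply h.s_not_mem
        have e : s = ((a : G)⁻¹ * (x.1 : G)) * (s⁻¹ * ((a : G)⁻¹ * (x.1 : G)))⁻¹ := by group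
        rw [e]
        exact T.mul_mem hT (T.inv_mem hS.1)
    apply Nat.card_le_card_of_injective (fun x : {x : N₀ // f x = f a} =>
      (⟨(a : G)⁻¹ * (x.1 : G), hmem x⟩ : h.T₂))
    intro x y hxy
    have := congrArg Subtype.val hxy
    simp only [mul_right_inj] at this
    exact Subtype.ext (Subtype.ext this)
  have hub : Nat.card N₀ ≤ 24 := by
    have := card_le_mul_of_fiber_le f 4 hfib
    have : Nat.card β ≤ 6 := by omega
    omega
  -- divisibility
  have hdvd : 8 ∣ Nat.card N₀ := by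
    rw [← hcardS₀]
    exact Subgroup.card_dvd_of_le Subgroup.le_normalizer
  have hne : Nat.card N₀ ≠ 8 := by
    intro h8
    have : h.S₀ = N₀ := Subgroup.eq_of_le_of_card_ge Subgroup.le_normalizer (by rw [h8, hcardS₀])
    exact hgS (this ▸ hgN)
  have h16 : ¬ 16 ∣ Nat.card N₀ := by
    intro h16
    have h1 : 2 ^ 4 ∣ Nat.card G := (show (16 : ℕ) = 2 ^ 4 by norm_num) ▸
      h16.trans (Subgroup.card_subgroup_dvd_card N₀)
    have := (Nat.prime_two.pow_dvd_iff_le_factorization Nat.card_pos.ne').mp h1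
    omega
  obtain ⟨r, hr⟩ := hdvd
  have hpos : 0 < Nat.card N₀ := Nat.card_pos
  omega

end DicData

theorem DicData.exists_sq_eq_z [Finite G] {T : Subgroup G} {s z : G} {k m : ℕ} [IsCyclic T]
    (h : DicData T s z k m) (hk : k = 2) : ∃ i ∈ T, i * i = z := by
  obtain ⟨τ, hτ, hord⟩ := h.exists_gen
  refine ⟨τ, hτ.1, ?_⟩
  have h4 : τ ^ 4 = 1 := by
    have := pow_orderOf_eq_one τ
    rw [hord, hk] at this
    exact this
  rw [DicData.pow_four_eq] at h4
  rcases h.sq_one _ (T.mul_mem hτ.1 hτ.1) h4 with h1 | h1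
  · exfalso
    have : orderOf τ ∣ 2 := orderOf_dvd_of_pow_eq_one (by rw [pow_two]; exact h1)
    rw [hord, hk] at this
    norm_num at this
  · exact h1

/-- Sylow 2-subgroups of a group with dicyclic torus normalizer -/
theorem sylow_two_main [Finite G] {T : Subgroup G} {s z : G} {k m : ℕ} [IsCyclic T]
    (h : DicData T s z k m) (hval : (Nat.card G).factorization 2 = k + 1)
    (hcenter : ∀ c : G, c ∈ Subgroup.center G ↔ (c = 1 ∨ c = z)) (S : Sylow 2 G) :
    Subgroup.centralizer ((S : Subgroup G) : Set G) = Subgroup.center G ∧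
    (3 ≤ k → Subgroup.normalizer ((S : Subgroup G) : Set G) = (S : Subgroup G)) ∧
    (k = 2 → (∀ i ∈ T, i * i = z → ∃ g : G, g * s * g⁻¹ = i ∧ g * i * g⁻¹ = i * s) →
      Nat.card (Subgroup.normalizer ((S : Subgroup G) : Set G)) = 3 * Nat.card S) := by
  obtain ⟨x, hx⟩ := exists_conj_of_card h.S₀ (by rw [h.card_S₀, hval]) S
  refine ⟨?_, ?_, ?_⟩
  · rw [centralizer_eq_of_conj _ _ x hx]
    have : Subgroup.centralizer (h.S₀ : Set G) = Subgroup.center G := by
      ext c
      rw [h.mem_centralizer_S₀, hcenter]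
    rw [this, center_map_conj]
  · intro hk
    rw [normalizer_eq_of_conj _ _ x hx, h.normalizer_S₀ hk]
    exact (eq_map_of_conj _ _ x hx).symm
  · intro hk hw
    obtain ⟨i, hiT, hii⟩ := h.exists_sq_eq_z hk
    obtain ⟨g, hg1, hg2⟩ := hw i hiT hii
    rw [normalizer_eq_of_conj _ _ x hx, card_conj_map,
      h.card_normalizer_S₀ hk hval ⟨g, i, hiT, hii, hg1, hg2⟩,
      S.card_eq_multiplicity, hval, hk]
    norm_num

end Cfsg.Agent.Helper40
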