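import Mathlib
import Cfsg.Agent.Lib.Helper40.NonsplitTorus

set_option autoImplicit false

namespace Cfsg.Agent.Helper40

open Matrix

variable {F : Type*} [Field F]

local notation "SL2F" => Matrix.SpecialLinearGroup (Fin 2) F
local notation "M2F" => Matrix (Fin 2) (Fin 2) F

theorem mulVec2 (g : SL2F) (x y : F) :
    (g : M2F).mulVec ![x, y] = ![(g : M2F) 0 0 * x + (g : M2F) 0 1 * y, (g : M2F) 1 0 * x + (g : M2F) 1 1 * y] := by
  funext i
  fin_cases i <;> simp [Matrix.mulVec, dotProduct, Fin.sum_univ_two]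

theorem vec2_ne_zero_left {x y : F} (hx : x ≠ 0) : (![x, y] : Fin 2 → F) ≠ 0 := by
  intro h
  exact hx (by simpa using congrFun h 0)

theorem vec2_ne_zero_right {x y : F} (hy : y ≠ 0) : (![x, y] : Fin 2 → F) ≠ 0 := by
  intro h
  exact hy (by simpa using congrFun h 1)

/-- an element without eigenvectors has nonsquare discriminant and nonzero off-diagonal entries -/
theorem no_eigen_facts (h2 : (2 : F) ≠ 0) (g : SL2F)
    (hg : ∀ (c : F) (v : Fin 2 → F), v ≠ 0 → (g : M2F).mulVec v ≠ c • v) :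
    (g : M2F) 0 1 ≠ 0 ∧ (g : M2F) 1 0 ≠ 0 ∧ ¬ IsSquare (((g : M2F) 0 0 + (g : M2F) 1 1) ^ 2 - 4) := by
  have hdet := det2 g
  have hq : (g : M2F) 0 1 ≠ 0 := by
    intro hq
    apply hg ((g : M2F) 1 1) ![0, 1] (vec2_ne_zero_right one_ne_zero)
    rw [mulVec2, hq]
    funext i
    fin_cases i <;> simp
  have hr : (g : M2F) 1 0 ≠ 0 := by
    intro hr
    apply hg ((g : M2F) 0 0) ![1, 0] (vec2_ne_zero_left one_ne_zero)
    rw [mulVec2, hr]
    funext i
    fin_cases i <;> simp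
  refine ⟨hq, hr, ?_⟩
  rintro ⟨e, he⟩
  apply hg (((g : M2F) 0 0 + (g : M2F) 1 1 + e) / 2)
    ![(g : M2F) 0 1, ((g : M2F) 0 0 + (g : M2F) 1 1 + e) / 2 - (g : M2F) 0 0] (vec2_ne_zero_left hq)
  rw [mulVec2]
  funext i
  fin_cases i
  · simp only [Fin.zero_eta, Matrix.cons_val_zero, Pi.smul_apply, smul_eq_mul]
    field_simp
    ring
  · simp only [Fin.mk_one, Matrix.cons_val_one, Matrix.cons_val_zero, Pi.smul_apply, smul_eq_mul]
    field_simp
    linear_combination he - 4 * hdet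

theorem conj_alg (p q r s a b δ x Y : F) (hb0 : b ≠ 0) (hdet : p * s - q * r = 1)
    (hnorm : a ^ 2 - δ * b ^ 2 = 1) (h2a : 2 * a = p + s) :
    (p * x + q * Y = x * a + ((p - a) * x + q * Y) / b * b) ∧
    (p * (((p - a) * x + q * Y) / b) + q * ((r * x + (s - a) * Y) / b)
      = x * (δ * b) + ((p - a) * x + q * Y) / b * a) ∧
    (r * x + s * Y = Y * a + (r * x + (s - a) * Y) / b * b) ∧
    (r * (((p - a) * x + q * Y) / b) + s * ((r * x + (s - a) * Y) / b)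
      = Y * (δ * b) + (r * x + (s - a) * Y) / b * a) := by
  refine ⟨?_, ?_, ?_, ?_⟩
  · field_simp
    ring
  · field_simp
    linear_combination x * hnorm - x * hdet - (p * x + q * Y) * h2a
  · field_simp
    ring
  · field_simp
    linear_combination Y * hnorm - Y * hdet - (r * x + s * Y) * h2a

theorem exists_conj_data [Fintype F] {δ : F} (hδ : ¬ IsSquare δ) (hodd : Fintype.card F % 2 = 1)
    (h2 : (2 : F) ≠ 0) (p q r s : F) (hdet : p * s - q * r = 1) (hr : r ≠ 0)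
    (hD : ¬ IsSquare ((p + s) ^ 2 - 4)) :
    ∃ a b x Y : F, b ≠ 0 ∧ a ^ 2 - δ * b ^ 2 = 1 ∧ 2 * a = p + s ∧
      r * x ^ 2 + (s - p) * x * Y - q * Y ^ 2 = b := by
  classical
  have hδ0 := nonsquare_ne_zero hδ
  obtain ⟨b, hb0, hb⟩ : ∃ b : F, b ≠ 0 ∧ (p + s) ^ 2 - 4 = 4 * δ * b ^ 2 := by
    have hD0 : (p + s) ^ 2 - 4 ≠ 0 := by
      intro h0
      apply hD
      rw [h0]
      exact ⟨0, by simp⟩
    have h1 : quadraticChar F (((p + s) ^ 2 - 4) * δ) = 1 := by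
      rw [map_mul, quadraticChar_neg_one_iff_not_isSquare.mpr hD, quadraticChar_neg_one_iff_not_isSquare.mpr hδ]
      norm_num
    obtain ⟨c, hc⟩ := (quadraticChar_one_iff_isSquare (mul_ne_zero hD0 hδ0)).mp h1
    have hc0 : c ≠ 0 := by
      rintro rfl
      rw [mul_zero] at hc
      exact (mul_ne_zero hD0 hδ0) hc
    refine ⟨c / (2 * δ), div_ne_zero hc0 (mul_ne_zero h2 hδ0), ?_⟩
    field_simp
    linear_combination 4 * hc
  have hnorm : ((p + s) / 2) ^ 2 - δ * b ^ 2 = 1 := by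
    field_simp
    linear_combination hb
  have h2a : 2 * ((p + s) / 2) = p + s := by field_simp
  have hf : (Polynomial.X ^ 2 : Polynomial F).degree = 2 := Polynomial.degree_X_pow 2
  have hgdeg : (Polynomial.C (-(δ * b ^ 2)) * Polynomial.X ^ 2 + Polynomial.C 0 * Polynomial.X
      + Polynomial.C (-(r * b)) : Polynomial F).degree = 2 :=
    Polynomial.degree_quadratic (neg_ne_zero.mpr (mul_ne_zero hδ0 (pow_ne_zero 2 hb0)))
  obtain ⟨X, Y, hXY⟩ := FiniteField.exists_root_sum_quadratic hf hgdeg hodd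
  simp only [Polynomial.eval_pow, Polynomial.eval_X, Polynomial.eval_add, Polynomial.eval_mul,
    Polynomial.eval_C] at hXY
  refine ⟨(p + s) / 2, b, (X - (s - p) / 2 * Y) / r, Y, hb0, hnorm, h2a, ?_⟩
  field_simp
  linear_combination 4 * hXY - Y ^ 2 * hb + 4 * Y ^ 2 * hdet

theorem exists_conj_mem_nsTorus [Fintype F] {δ : F} (hδ : ¬ IsSquare δ) (hodd : Fintype.card F % 2 = 1)
    (h2 : (2 : F) ≠ 0) (g : SL2F)
    (hg : ∀ (c : F) (v : Fin 2 → F), v ≠ 0 → (g : M2F).mulVec v ≠ c • v) :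
    ∃ h : SL2F, h * g * h⁻¹ ∈ nsTorus δ := by
  obtain ⟨-, hr, hD⟩ := no_eigen_facts h2 g hg
  have hdet := det2 g
  obtain ⟨a, b, x, Y, hb0, hnorm, h2a, hQ⟩ := exists_conj_data hδ hodd h2 _ _ _ _ hdet hr hD
  obtain ⟨E00, E01, E10, E11⟩ := conj_alg ((g : M2F) 0 0) ((g : M2F) 0 1) ((g : M2F) 1 0) ((g : M2F) 1 1)
    a b δ x Y hb0 hdet hnorm h2a
  have hMdet : x * (((g : M2F) 1 0 * x + ((g : M2F) 1 1 - a) * Y) / b)
      - ((((g : M2F) 0 0 - a) * x + (g : M2F) 0 1 * Y) / b) * Y = 1 := by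
    field_simp
    linear_combination hQ
  let M : SL2F := mk2 x ((((g : M2F) 0 0 - a) * x + (g : M2F) 0 1 * Y) / b) Y
    (((g : M2F) 1 0 * x + ((g : M2F) 1 1 - a) * Y) / b) hMdet
  let t' : SL2F := mk2 a (δ * b) b a (by linear_combination hnorm)
  have ht' : t' ∈ nsTorus δ := by
    rw [mem_nsTorus]; simp [t']
  have hconj : g * M = M * t' := by
    rw [eq_iff2', mul_00, mul_01, mul_10, mul_11, mul_00, mul_01, mul_10, mul_11]
    simp only [M, t', mk2_00, mk2_01, mk2_10, mk2_11]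
    exact ⟨E00, E01, E10, E11⟩
  refine ⟨M⁻¹, ?_⟩
  have : M⁻¹ * g * M⁻¹⁻¹ = t' := by
    rw [inv_inv, mul_assoc, hconj, ← mul_assoc, inv_mul_cancel, one_mul]
  rw [this]
  exact ht'

end Cfsg.Agent.Helper40
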