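import Mathlib
import Cfsg.Agent.Lib.Helper40.AutPSLFieldCount
import Cfsg.Agent.Lib.Helper40.AutPSLCoset

/-!
# Field automorphisms of prime order of `PSL_n(q)`: centralizer in `Inndiag` and splitting
-/

set_option autoImplicit false
set_option linter.unusedSectionVars false
set_option linter.unusedSimpArgs false
set_option linter.unusedVariables false

namespace Cfsg.Agent.Helper40.FieldCent

open Matrix Cfsg.Agent.Helper13.PSLAut Cfsg.Agent.Helper13.GraphAutPSL Cfsg.Agent.Helper40.OutPSL
  Cfsg.Agent.Helper40.H90 Cfsg.Agent.Helper40.AutPSLNorm Cfsg.Agent.Helper40.FixK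
  Cfsg.Agent.Helper40.SplitCount

variable {F : Type*} [Field F] {n : ℕ}

local notation "SLn" => Matrix.SpecialLinearGroup (Fin n) F
local notation "PSLn" => Matrix.ProjectiveSpecialLinearGroup (Fin n) F
local notation "Mn" => Matrix (Fin n) (Fin n) F

theorem field_main [Fintype F] {p f : ℕ} (hp : p.Prime) (hF : Fintype.card F = p ^ f) (hn : 2 ≤ n)
    (hS : Struct n F) (x : MulAut PSLn) (hx : Cfsg.IsFieldAutClassPSL x) {r : ℕ} (hr : r.Prime)
    (hxr : orderOf x = r) (F₀ : Type*) [Field F₀] [Fintype F₀]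
    (hF₀ : Fintype.card F₀ = p ^ (f / r)) :
    r ∣ f ∧ Nonempty (↥(Cfsg.inndiagPSL n F ⊓ Subgroup.centralizer {x}) ≃*
        Matrix.ProjGenLinGroup (Fin n) F₀) ∧
      Cfsg.splitClassCount (Cfsg.inndiagPSL n F) (Cfsg.Inn PSLn) x =
        Nat.gcd n ((p ^ f - 1) / (p ^ (f / r) - 1)) := by
  classical
  have hn0 : 0 < n := by omega
  obtain ⟨α, σ, hσ1, hstd⟩ := hx
  have hφ : α * x * α⁻¹ = fieldAutPSL σ := eq_fieldAutPSL hstd
  have hσr : orderOf σ = r := by
    rw [← orderOf_fieldAutPSL (n := n) hn σ, ← hφ, ← hxr]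
    exact orderOf_injective (MulAut.conj α).toMonoidHom (MulAut.conj α).injective x
  have hr0 : 0 < r := hr.pos
  obtain ⟨hrf, hK⟩ := card_fixK σ hp hF hσr hr0
  have hD : (Cfsg.inndiagPSL n F).Normal := range_PhiL_normal_of_struct hS
  refine ⟨hrf, ?_, ?_⟩
  · -- the isomorphism
    have e1 := conjInfCentEquiv (Cfsg.inndiagPSL n F) α x
    have heq : Cfsg.inndiagPSL n F ⊓ Subgroup.centralizer {α * x * α⁻¹} =
        (PhiL (F := F) (n := n)).range ⊓ Subgroup.centralizer {fieldAutPSL σ} := by
      rw [hφ, inndiagPSL_eq_range]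
    have e2 := MulEquiv.subgroupCongr heq
    obtain ⟨e3⟩ := cent_equiv_pgl hn0 σ hr0 hσr
    have : Fintype (fixK σ) := Fintype.ofFinite _
    have hcard : Fintype.card (fixK σ) = Fintype.card F₀ := by
      rw [hF₀, ← hK, Nat.card_eq_fintype_card]
    have e4 : (fixK σ) ≃+* F₀ := FiniteField.ringEquivOfCardEq hcard
    exact ⟨((e1.trans e2).trans e3).trans (pglCongr e4)⟩
  · -- the count
    have h1 : Cfsg.splitClassCount (Cfsg.inndiagPSL n F) (Cfsg.Inn PSLn) (α * x * α⁻¹) =
        Cfsg.splitClassCount (Cfsg.inndiagPSL n F) (Cfsg.Inn PSLn) x := by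
      apply splitClassCount_conj
      · intro h
        constructor
        · intro hh
          exact hD.conj_mem h hh α
        · intro hh
          have := hD.conj_mem _ hh α⁻¹
          rw [inv_inv] at this
          have h2 : α⁻¹ * (α * h * α⁻¹) * α = h := by group
          rw [h2] at this
          exact this
      · intro k
        constructor
        · intro hk
          exact inn_conj_mem α k hk
        · intro hk
          have := inn_conj_mem α⁻¹ _ hk
          rw [inv_inv] at this
          have h2 : α⁻¹ * (α * k * α⁻¹) * α = k := by group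
          rw [h2] at this
          exact this
    rw [← h1, hφ, inndiagPSL_eq_range, splitCount_eq_index hn0 σ hr0 hσr,
      index_Bsub σ hp hF hσr hr0 n]

end Cfsg.Agent.Helper40.FieldCent
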