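import Mathlib
import Cfsg.Agent.Lib.Helper40.AutPSLFieldCount
import Cfsg.Agent.Lib.Helper40.AutPSLGraphField
import Cfsg.Agent.Lib.Helper40.AutPSLCoset
import Cfsg.Agent.Lib.Helper41.RingAutFin
import Cfsg.Agent.Lib.Helper43.UnitaryConj

/-!
# The centralizer in `Inndiag(PSL_n(F))` of the standard graph-field involution `φ_σ ι`

`Inndiag ⊓ C(φ_σ ι)` is the image of `GU_n`, isomorphic to `PGU_n`.
-/

set_option autoImplicit false
set_option linter.unusedSectionVars false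
set_option linter.unusedSimpArgs false
set_option linter.unusedVariables false

namespace Cfsg.Agent.Helper40.GFCent

open Matrix Cfsg.Agent.Helper13.PSLAut Cfsg.Agent.Helper13.GraphAutPSL Cfsg.Agent.Helper40.OutPSL
  Cfsg.Agent.Helper40.H90 Cfsg.Agent.Helper40.AutPSLNorm Cfsg.Agent.Helper40.FixK
  Cfsg.Agent.Helper40.SplitCount Cfsg.Agent.Helper40.FieldCent Cfsg.Agent.Helper43.UnitaryConj

/-- in a finite cyclic group there is at most one element of order two -/
theorem eq_of_orderOf_two {G : Type*} [Group G] [Finite G] [IsCyclic G] {a b : G}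
    (ha : orderOf a = 2) (hb : orderOf b = 2) : a = b := by
  classical
  have : Fintype G := Fintype.ofFinite G
  by_contra hab
  have h1 : a ≠ 1 := by
    intro h; rw [h, orderOf_one] at ha; omega
  have h2 : b ≠ 1 := by
    intro h; rw [h, orderOf_one] at hb; omega
  have ha2 : a ^ 2 = 1 := by rw [← ha]; exact pow_orderOf_eq_one a
  have hb2 : b ^ 2 = 1 := by rw [← hb]; exact pow_orderOf_eq_one b
  have hle := IsCyclic.card_pow_eq_one_le (α := G) (n := 2) (by norm_num)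
  have hsub : ({1, a, b} : Finset G) ⊆ Finset.univ.filter (fun c : G => c ^ 2 = 1) := by
    intro c hc
    rw [Finset.mem_filter]
    refine ⟨Finset.mem_univ _, ?_⟩
    rw [Finset.mem_insert, Finset.mem_insert, Finset.mem_singleton] at hc
    rcases hc with rfl | rfl | rfl
    · exact one_pow 2
    · exact ha2
    · exact hb2
  have hcard : ({1, a, b} : Finset G).card = 3 := by
    rw [Finset.card_insert_of_notMem, Finset.card_insert_of_notMem, Finset.card_singleton]
    · rw [Finset.mem_singleton]; exact hab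
    · rw [Finset.mem_insert, Finset.mem_singleton]
      push Not
      exact ⟨Ne.symm h1, Ne.symm h2⟩
  have := Finset.card_le_card hsub
  omega

section Frob

variable {F : Type*} [Field F] [Fintype F]

/-- the `q₀`-power map as a ring automorphism, `|F| = q₀²` -/
noncomputable def frobEquiv {q₀ : ℕ} (hK : Fintype.card F = q₀ ^ 2) : F ≃+* F :=
  RingEquiv.ofRingHom (frobK hK) (frobK hK)
    (by ext x; exact frobK_frobK hK x) (by ext x; exact frobK_frobK hK x)

theorem frobEquiv_apply {q₀ : ℕ} (hK : Fintype.card F = q₀ ^ 2) (a : F) :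
    frobEquiv hK a = a ^ q₀ := rfl

theorem orderOf_frobEquiv {q₀ : ℕ} (hK : Fintype.card F = q₀ ^ 2) : orderOf (frobEquiv hK) = 2 := by
  apply orderOf_eq_prime
  · ext a
    rw [pow_two]
    show frobK hK (frobK hK a) = a
    exact frobK_frobK hK a
  · intro h
    obtain ⟨t, ht⟩ := exists_frobK_ne hK
    apply ht
    have := DFunLike.congr_fun h t
    exact this

/-- an involutory automorphism of a field with `q₀²` elements is the `q₀`-power map -/
theorem sigma_eq_frob {p f : ℕ} [Fact p.Prime] (hF : Fintype.card F = p ^ f) {q₀ : ℕ}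
    (hK : Fintype.card F = q₀ ^ 2) (σ : F ≃+* F) (hσ : orderOf σ = 2) : σ = frobEquiv hK := by
  have hchar : CharP F p := charP_of_card_eq_prime_pow hF
  obtain ⟨hcyc, -⟩ := Cfsg.Agent.Helper41.ringAut_cyclic_card (F := F) p f hF
  have hfin : Finite (RingAut F) := Finite.of_injective (fun e : F ≃+* F => (e : F → F))
    (fun a b h => RingEquiv.ext (congrFun h))
  exact eq_of_orderOf_two (G := RingAut F) hσ (orderOf_frobEquiv hK)

end Frob

section Cent

variable {F : Type*} [Field F] {n : ℕ}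

local notation "SLn" => Matrix.SpecialLinearGroup (Fin n) F
local notation "PSLn" => Matrix.ProjectiveSpecialLinearGroup (Fin n) F
local notation "Mn" => Matrix (Fin n) (Fin n) F

theorem mapGL_invT_mul_starM (σ : F ≃+* F) (g : GL (Fin n) F) :
    ((mapGL σ (invT g) : GL (Fin n) F) : Mn) * starM (σ : F →+* F) (g : Mn) = 1 := by
  rw [mapGL_coe, invT_coe]
  show (((g⁻¹ : GL (Fin n) F) : Mn)ᵀ).map σ * (((g : Mn).map σ))ᵀ = 1
  have h3 : (((g⁻¹ : GL (Fin n) F) : Mn)ᵀ).map σ = ((((g⁻¹ : GL (Fin n) F) : Mn)).map σ)ᵀ :=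
    (Matrix.transpose_map).symm
  rw [h3, ← Matrix.transpose_mul]
  have h4 : (g : Mn).map σ * ((g⁻¹ : GL (Fin n) F) : Mn).map σ = 1 := by
    have := sm_mul σ (g : Mn) ((g⁻¹ : GL (Fin n) F) : Mn)
    rw [coe_mul_inv, sm_one] at this
    exact this.symm
  rw [h4, Matrix.transpose_one]

theorem starM_mul_mapGL_invT (σ : F ≃+* F) (g : GL (Fin n) F) :
    starM (σ : F →+* F) (g : Mn) * ((mapGL σ (invT g) : GL (Fin n) F) : Mn) = 1 :=
  mul_eq_one_comm.1 (mapGL_invT_mul_starM σ g)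

/-- the standard graph-field automorphism -/
noncomputable def gfAut (σ : F ≃+* F) : MulAut PSLn := fieldAutPSL σ * iotaAut

theorem gfAut_mul_PhiL (σ : F ≃+* F) (g : GL (Fin n) F) :
    gfAut σ * PhiL g = PhiL (mapGL σ (invT g)) * gfAut (n := n) σ := by
  unfold gfAut
  have h1 : (iotaAut : MulAut PSLn) * PhiL g = PhiL (invT g) * iotaAut := iotaAut_mul_PhiL g
  rw [mul_assoc, h1, ← mul_assoc, fieldAutPSL_mul_PhiL, mul_assoc]

/-- `PhiL g` commutes with `φ_σ ι` iff `g` is a unitary similitude -/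
theorem comm_iff_gf (hn : 0 < n) (σ : F ≃+* F) (g : GL (Fin n) F) :
    PhiL g * gfAut σ = gfAut σ * PhiL g ↔
      ∃ μ : Fˣ, starM (σ : F →+* F) (g : Mn) * (g : Mn) = (μ : F) • (1 : Mn) := by
  rw [gfAut_mul_PhiL, mul_left_inj, PhiL_eq_iff hn, Cfsg.Geo.mem_scalars_iff]
  constructor
  · rintro ⟨c, hc⟩
    refine ⟨c⁻¹, ?_⟩
    rw [Units.val_mul] at hc
    -- g⁻¹ = c • g*
    have h1 : ((g⁻¹ : GL (Fin n) F) : Mn) = (c : F) • starM (σ : F →+* F) (g : Mn) := by
      have h2 : ((g⁻¹ : GL (Fin n) F) : Mn) * ((mapGL σ (invT g) : GL (Fin n) F) : Mn) *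
          starM (σ : F →+* F) (g : Mn) = ((c : F) • (1 : Mn)) * starM (σ : F →+* F) (g : Mn) := by
        rw [hc]
      rw [Matrix.mul_assoc, mapGL_invT_mul_starM, Matrix.mul_one, Matrix.smul_mul, Matrix.one_mul] at h2
      exact h2
    have h3 : (1 : Mn) = (c : F) • (starM (σ : F →+* F) (g : Mn) * (g : Mn)) := by
      rw [← Matrix.smul_mul, ← h1, coe_inv_mul]
    rw [h3, smul_smul, ← Units.val_mul, inv_mul_cancel, Units.val_one, one_smul]
  · rintro ⟨μ, hμ⟩
    refine ⟨μ⁻¹, ?_⟩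
    rw [Units.val_mul]
    -- g* = μ • g⁻¹
    have h1 : starM (σ : F →+* F) (g : Mn) = (μ : F) • ((g⁻¹ : GL (Fin n) F) : Mn) := by
      have h2 : starM (σ : F →+* F) (g : Mn) * (g : Mn) * ((g⁻¹ : GL (Fin n) F) : Mn) =
          ((μ : F) • (1 : Mn)) * ((g⁻¹ : GL (Fin n) F) : Mn) := by rw [hμ]
      rw [Matrix.mul_assoc, coe_mul_inv, Matrix.mul_one, Matrix.smul_mul, Matrix.one_mul] at h2
      exact h2
    have h3 := starM_mul_mapGL_invT σ g
    rw [h1, Matrix.smul_mul] at h3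
    have h4 : ((μ⁻¹ : Fˣ) : F) • ((μ : F) • (((g⁻¹ : GL (Fin n) F) : Mn) *
        ((mapGL σ (invT g) : GL (Fin n) F) : Mn))) = ((μ⁻¹ : Fˣ) : F) • (1 : Mn) := by rw [h3]
    rw [smul_smul, ← Units.val_mul, inv_mul_cancel, Units.val_one, one_smul] at h4
    exact h4

variable (σ : F ≃+* F) (U : Subgroup (GL (Fin n) F))

/-- the homomorphism `U → Aut(PSL_n(F))` -/
noncomputable def ThetaU : ↥U →* MulAut PSLn := (PhiL (F := F) (n := n)).comp U.subtype

theorem ThetaU_apply (g : ↥U) : ThetaU U g = PhiL (g : GL (Fin n) F) := rfl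

theorem ker_ThetaU (hn : 0 < n) :
    (ThetaU (n := n) U).ker = (Cfsg.Geo.scalars (Fin n) F).subgroupOf U := by
  ext g
  rw [MonoidHom.mem_ker, ThetaU_apply, PhiL_eq_one_iff hn, Subgroup.mem_subgroupOf]

theorem starM_smul_one (τ : F →+* F) (c : F) : starM τ (c • (1 : Mn)) = τ c • (1 : Mn) := by
  rw [starM_smul, starM_one]

theorem smul_one_inj (hn : 0 < n) {a b : F} (h : a • (1 : Mn) = b • (1 : Mn)) : a = b := by
  have h8 := congrFun (congrFun h ⟨0, hn⟩) ⟨0, hn⟩
  rw [Matrix.smul_apply, Matrix.smul_apply, Matrix.one_apply_eq, smul_eq_mul, mul_one, smul_eq_mul,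
    mul_one] at h8
  exact h8

/-- the range of `ThetaU` is `Inndiag ⊓ C(φ_σ ι)` -/
theorem range_ThetaU [Finite F] (hn : 0 < n) (hσ2 : σ * σ = 1) (hσ1 : σ ≠ 1)
    (hU : ∀ g : GL (Fin n) F, g ∈ U ↔ starM (σ : F →+* F) (g : Mn) * (g : Mn) = 1) :
    (ThetaU (n := n) U).range =
      (PhiL (F := F) (n := n)).range ⊓ Subgroup.centralizer {gfAut σ} := by
  let τ : F →+* F := (σ : F →+* F)
  have hτ : ∀ x, τ (τ x) = x := by
    intro x
    have := DFunLike.congr_fun hσ2 x
    exact this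
  have hne : ∃ z, τ z ≠ z := by
    by_contra hcon
    push Not at hcon
    apply hσ1
    ext x
    exact hcon x
  ext β
  constructor
  · rintro ⟨g₀, rfl⟩
    refine Subgroup.mem_inf.2 ⟨⟨(g₀ : GL (Fin n) F), rfl⟩, ?_⟩
    rw [Subgroup.mem_centralizer_iff]
    intro y hy
    rw [Set.mem_singleton_iff.1 hy, ThetaU_apply]
    have h1 := (hU g₀).1 g₀.2
    exact ((comm_iff_gf hn σ (g₀ : GL (Fin n) F)).2 ⟨1, by rw [h1, Units.val_one, one_smul]⟩).symm
  · intro hβ
    obtain ⟨⟨g, rfl⟩, hc⟩ := Subgroup.mem_inf.1 hβ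
    have h1 : gfAut σ * PhiL g = PhiL g * gfAut σ :=
      Subgroup.mem_centralizer_iff.1 hc _ rfl
    obtain ⟨μ, hμ⟩ := (comm_iff_gf hn σ g).1 h1.symm
    -- `μ` is fixed by `σ`
    have hμfix : τ (μ : F) = (μ : F) := by
      have h2 : starM τ (starM τ (g : Mn) * (g : Mn)) = starM τ (g : Mn) * (g : Mn) := by
        rw [starM_mul, starM_starM τ hτ]
      have hμ' : starM τ (g : Mn) * (g : Mn) = (μ : F) • (1 : Mn) := hμ
      rw [hμ', starM_smul_one] at h2
      exact smul_one_inj hn h2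
    have hμ0 : ((μ⁻¹ : Fˣ) : F) ≠ 0 := (μ⁻¹).ne_zero
    have hμfix' : τ ((μ⁻¹ : Fˣ) : F) = ((μ⁻¹ : Fˣ) : F) := by
      rw [Units.val_inv_eq_inv_val, map_inv₀, hμfix]
    obtain ⟨l, hl⟩ := Cfsg.Agent.Helper40.Iso.exists_norm_eq τ hτ hne _ hμfix' hμ0
    have hl0 : l ≠ 0 := by
      intro h0
      rw [h0, zero_mul] at hl
      exact hμ0 hl.symm
    let lu : Fˣ := Units.mk0 l hl0
    have hmem : scGL lu * g ∈ U := by
      rw [hU]
      have h2 : ((scGL lu * g : GL (Fin n) F) : Mn) = l • (g : Mn) := by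
        rw [Units.val_mul, scGL_coe, Matrix.smul_mul, Matrix.one_mul]
        rfl
      rw [h2, starM_smul, Matrix.smul_mul, Matrix.mul_smul, smul_smul]
      have hμ' : starM (σ : F →+* F) (g : Mn) * (g : Mn) = (μ : F) • (1 : Mn) := hμ
      rw [hμ', smul_smul]
      have h3 : (σ : F →+* F) l * l * (μ : F) = 1 := by
        have : (σ : F →+* F) l = τ l := rfl
        rw [this, mul_comm (τ l) l, hl, ← Units.val_mul, inv_mul_cancel, Units.val_one]
      rw [h3, one_smul]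
    refine ⟨⟨scGL lu * g, hmem⟩, ?_⟩
    rw [ThetaU_apply]
    show PhiL (scGL lu * g) = PhiL g
    rw [map_mul, PhiL_scGL hn, one_mul]

/-- `Inndiag ⊓ C(φ_σ ι) ≃* U / (U ∩ scalars)` -/
theorem cent_equiv_pgu [Finite F] (hn : 0 < n) (hσ2 : σ * σ = 1) (hσ1 : σ ≠ 1)
    (hU : ∀ g : GL (Fin n) F, g ∈ U ↔ starM (σ : F →+* F) (g : Mn) * (g : Mn) = 1) :
    Nonempty (↥((PhiL (F := F) (n := n)).range ⊓ Subgroup.centralizer {gfAut σ}) ≃*
      ↥U ⧸ (Cfsg.Geo.scalars (Fin n) F).subgroupOf U) := by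
  have e1 : ↥U ⧸ (ThetaU (n := n) U).ker ≃* (ThetaU (n := n) U).range :=
    QuotientGroup.quotientKerEquivRange _
  have e2 : ↥U ⧸ (ThetaU (n := n) U).ker ≃* ↥U ⧸ (Cfsg.Geo.scalars (Fin n) F).subgroupOf U :=
    QuotientGroup.quotientMulEquivOfEq (ker_ThetaU U hn)
  have e3 : (ThetaU (n := n) U).range ≃*
      ↥((PhiL (F := F) (n := n)).range ⊓ Subgroup.centralizer {gfAut σ}) :=
    MulEquiv.subgroupCongr (range_ThetaU σ U hn hσ2 hσ1 hU)
  exact ⟨(e3.symm.trans e1.symm).trans e2⟩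

end Cent

end Cfsg.Agent.Helper40.GFCent
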