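import Mathlib
import Cfsg.Agent.Lib.Helper40.AutPSLGFCent

/-!
# The `Inndiag`-class of `φ_σ ι` splits into `gcd(n, q₀ - 1)` classes under the inner automorphisms
-/

set_option autoImplicit false
set_option linter.unusedSectionVars false
set_option linter.unusedSimpArgs false
set_option linter.unusedVariables false

namespace Cfsg.Agent.Helper40.GFCent

open Matrix Cfsg.Agent.Helper13.PSLAut Cfsg.Agent.Helper13.GraphAutPSL Cfsg.Agent.Helper40.OutPSL
  Cfsg.Agent.Helper40.H90 Cfsg.Agent.Helper40.AutPSLNorm Cfsg.Agent.Helper40.FixK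
  Cfsg.Agent.Helper40.SplitCount Cfsg.Agent.Helper40.FieldCent Cfsg.Agent.Helper43.UnitaryConj

variable {F : Type*} [Field F] {n : ℕ}

local notation "SLn" => Matrix.SpecialLinearGroup (Fin n) F
local notation "PSLn" => Matrix.ProjectiveSpecialLinearGroup (Fin n) F
local notation "Mn" => Matrix (Fin n) (Fin n) F

theorem nrmHom_two_apply (σ : F ≃+* F) (u : Fˣ) :
    nrmHom σ 2 u = u * Units.map (σ : F →* F) u := by
  show nrmU σ u 2 = _
  simp [nrmU]

/-- the subgroup `U₁ (Fˣ)^n` of `Fˣ`, `U₁` the norm-one group -/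
def BsubU (σ : F ≃+* F) (n : ℕ) : Subgroup Fˣ :=
  (nrmHom σ 2).ker ⊔ (powMonoidHom n : Fˣ →* Fˣ).range

theorem det_mem_ker_of_unitary (σ : F ≃+* F) (g : GL (Fin n) F)
    (hg : starM (σ : F →+* F) (g : Mn) * (g : Mn) = 1) :
    Matrix.GeneralLinearGroup.det g ∈ (nrmHom σ 2).ker := by
  rw [MonoidHom.mem_ker, nrmHom_two_apply]
  apply Units.ext
  have h1 := congrArg Matrix.det hg
  rw [Matrix.det_mul, starM_det, Matrix.det_one] at h1
  rw [Units.val_mul, Units.val_one, mul_comm]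
  exact h1

theorem dg1_unitary (hn : 0 < n) (σ : F ≃+* F) (u : Fˣ) (hu : u ∈ (nrmHom σ 2).ker) :
    starM (σ : F →+* F) ((dg1 hn u : GL (Fin n) F) : Mn) * ((dg1 hn u : GL (Fin n) F) : Mn) = 1 := by
  rw [MonoidHom.mem_ker, nrmHom_two_apply] at hu
  have hu' : (u : F) * σ (u : F) = 1 := by
    have := congrArg (fun t : Fˣ => (t : F)) hu
    exact this
  rw [dg1_coe]
  unfold starM
  have h1 : (Matrix.diagonal (fun i : Fin n => if i = ⟨0, hn⟩ then (u : F) else 1)).map (σ : F →+* F) =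
      Matrix.diagonal (fun i : Fin n => if i = ⟨0, hn⟩ then σ (u : F) else 1) := by
    rw [Matrix.diagonal_map (map_zero _)]
    congr 1
    funext i
    by_cases hi : i = ⟨0, hn⟩
    · simp [hi]
    · simp [hi]
  rw [h1, Matrix.diagonal_transpose, Matrix.diagonal_mul_diagonal]
  rw [← Matrix.diagonal_one]
  congr 1
  funext i
  by_cases hi : i = ⟨0, hn⟩
  · simp only [hi, if_true]
    rw [mul_comm]; exact hu'
  · simp [hi]

/-- membership in `Inn · C_{Inndiag}(φ_σ ι)` is detected by the determinant -/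
theorem mem_MSub_iff_det_gf [Finite F] (hn : 0 < n) (σ : F ≃+* F) (hσ2 : σ * σ = 1) (hσ1 : σ ≠ 1)
    (U : Subgroup (GL (Fin n) F))
    (hU : ∀ g : GL (Fin n) F, g ∈ U ↔ starM (σ : F →+* F) (g : Mn) * (g : Mn) = 1)
    (g : GL (Fin n) F) :
    PhiL g ∈ MSub (PhiL (F := F) (n := n)).range (Cfsg.Inn PSLn) (gfAut σ) ↔
      Matrix.GeneralLinearGroup.det g ∈ BsubU σ n := by
  constructor
  · intro hg
    rw [mem_MSub_iff _ _ inn_le_range (fun h _ k hk => inn_conj_mem h k hk)] at hg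
    obtain ⟨k, hk, c, hc, hcx, hgk⟩ := hg
    obtain ⟨s, rfl⟩ := (mem_inn_iff k).1 hk
    have hc' : c ∈ (ThetaU (n := n) U).range := by
      rw [range_ThetaU σ U hn hσ2 hσ1 hU]
      refine Subgroup.mem_inf.2 ⟨hc, ?_⟩
      rw [Subgroup.mem_centralizer_iff]
      intro y hy
      rw [Set.mem_singleton_iff.1 hy]
      exact hcx.symm
    obtain ⟨g₀, rfl⟩ := hc'
    rw [ThetaU_apply, ← map_mul, PhiL_eq_iff hn, Cfsg.Geo.mem_scalars_iff] at hgk
    obtain ⟨z, hz⟩ := hgk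
    have h1 : g⁻¹ * (Matrix.SpecialLinearGroup.toGL s * (g₀ : GL (Fin n) F)) = scGL z :=
      Units.ext hz
    have h2 : g = Matrix.SpecialLinearGroup.toGL s * (g₀ : GL (Fin n) F) * (scGL z)⁻¹ := by
      rw [← h1]; group
    rw [h2, map_mul, map_mul, det_toGL, one_mul, map_inv, det_scGL]
    unfold BsubU
    refine Subgroup.mul_mem _ (Subgroup.mem_sup_left ?_) (Subgroup.mem_sup_right ?_)
    · exact det_mem_ker_of_unitary σ _ ((hU _).1 g₀.2)
    · exact Subgroup.inv_mem _ ⟨z, rfl⟩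
  · intro hg
    unfold BsubU at hg
    obtain ⟨u, hu, v, ⟨w, rfl⟩, huv⟩ := Subgroup.mem_sup.1 hg
    rw [powMonoidHom_apply] at huv
    have hg₀U : dg1 hn u ∈ U := (hU _).2 (dg1_unitary hn σ u hu)
    let g' : GL (Fin n) F := g * (dg1 hn u)⁻¹ * (scGL w)⁻¹
    have hdet : Matrix.GeneralLinearGroup.det g' = 1 := by
      show Matrix.GeneralLinearGroup.det (g * (dg1 hn u)⁻¹ * (scGL w)⁻¹) = 1
      rw [map_mul, map_mul, map_inv, map_inv, det_scGL, det_dg1', ← huv]
      rw [mul_assoc, mul_assoc, mul_comm (w ^ n), mul_assoc, inv_mul_cancel, mul_one, mul_inv_cancel]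
    have hdet' : (g' : Mn).det = 1 := congrArg (fun t : Fˣ => (t : F)) hdet
    have hg' : Matrix.SpecialLinearGroup.toGL (⟨(g' : Mn), hdet'⟩ : SLn) = g' := Units.ext rfl
    have h3 : g = g' * scGL w * dg1 hn u := by
      show g = g * (dg1 hn u)⁻¹ * (scGL w)⁻¹ * scGL w * dg1 hn u
      group
    have h4 : PhiL g = PhiL g' * PhiL (dg1 hn u) := by
      conv_lhs => rw [h3]
      rw [map_mul, map_mul, PhiL_scGL hn, mul_one]
    rw [h4]
    unfold MSub
    refine Subgroup.mul_mem _ (Subgroup.mem_sup_left ?_) (Subgroup.mem_sup_right ?_)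
    · rw [mem_inn_iff]
      exact ⟨⟨(g' : Mn), hdet'⟩, by rw [hg']⟩
    · rw [← range_ThetaU σ U hn hσ2 hσ1 hU]
      exact ⟨⟨dg1 hn u, hg₀U⟩, rfl⟩

/-- the splitting number as an index in `Fˣ` -/
theorem splitCount_eq_index_gf [Finite F] (hn : 0 < n) (σ : F ≃+* F) (hσ2 : σ * σ = 1) (hσ1 : σ ≠ 1)
    (U : Subgroup (GL (Fin n) F))
    (hU : ∀ g : GL (Fin n) F, g ∈ U ↔ starM (σ : F →+* F) (g : Mn) * (g : Mn) = 1) :
    Cfsg.splitClassCount (PhiL (F := F) (n := n)).range (Cfsg.Inn PSLn) (gfAut σ) =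
      (BsubU σ n).index := by
  rw [splitClassCount_eq _ _ inn_le_range (fun h _ k hk => inn_conj_mem h k hk)]
  have h1 : (MSub (PhiL (F := F) (n := n)).range (Cfsg.Inn PSLn) (gfAut σ)).comap PhiL =
      (BsubU σ n).comap (Matrix.GeneralLinearGroup.det : GL (Fin n) F →* Fˣ) := by
    ext g
    rw [Subgroup.mem_comap, Subgroup.mem_comap]
    exact mem_MSub_iff_det_gf hn σ hσ2 hσ1 U hU g
  rw [← Subgroup.index_comap_of_surjective (BsubU σ n) (det_surjective hn), ← h1,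
    Subgroup.index_comap]

/-- the range of the norm is the group of units of the fixed field -/
theorem range_nrmHom_two [Finite F] (σ : F ≃+* F) (hσ : orderOf σ = 2) :
    (nrmHom σ 2).range = (unitsIncl (fixK σ)).range := by
  have hσr : σ ^ 2 = 1 := by rw [← hσ]; exact pow_orderOf_eq_one σ
  ext c
  constructor
  · rintro ⟨l, rfl⟩
    have h1 : Units.map (σ : F →* F) (nrmU σ l 2) = nrmU σ l 2 := nrmU_fixed σ hσr l
    have h2 : σ ((nrmU σ l 2 : Fˣ) : F) = ((nrmU σ l 2 : Fˣ) : F) :=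
      congrArg (fun t : Fˣ => (t : F)) h1
    have h0 : (⟨((nrmU σ l 2 : Fˣ) : F), h2⟩ : fixK σ) ≠ 0 := by
      intro h0
      exact (nrmU σ l 2).ne_zero (congrArg Subtype.val h0)
    refine ⟨Units.mk0 ⟨((nrmU σ l 2 : Fˣ) : F), h2⟩ h0, ?_⟩
    apply Units.ext
    rfl
  · rintro ⟨k, rfl⟩
    have hk : Units.map (σ : F →* F) (unitsIncl (fixK σ) k) = unitsIncl (fixK σ) k := by
      apply Units.ext
      show σ ((k : fixK σ) : F) = ((k : fixK σ) : F)
      exact (k : fixK σ).2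
    obtain ⟨l, hl⟩ := nrm_surj σ (by norm_num : 0 < 2) hσ _ hk
    exact ⟨l, hl⟩

/-- the index of `U₁ (Fˣ)^n` in `Fˣ` -/
theorem index_BsubU [Fintype F] (σ : F ≃+* F) {p f : ℕ} (hp : p.Prime)
    (hF : Fintype.card F = p ^ f) (hσ : orderOf σ = 2) (n : ℕ) :
    (BsubU σ n).index = Nat.gcd n (p ^ (f / 2) - 1) := by
  classical
  obtain ⟨hrf, hK⟩ := card_fixK σ hp hF hσ (by norm_num)
  unfold BsubU
  rw [CycIdx.index_sup, IsCyclic.index_powMonoidHom_range, Subgroup.index_ker, range_nrmHom_two σ hσ]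
  have hcK : Nat.card (unitsIncl (fixK σ)).range = p ^ (f / 2) - 1 := by
    rw [← Nat.card_congr (MonoidHom.ofInjective (unitsIncl_injective (fixK σ))).toEquiv,
      Nat.card_units, hK]
  have h3 : Nat.card (unitsIncl (fixK σ)).range ∣ Nat.card Fˣ :=
    Subgroup.card_subgroup_dvd_card _
  rw [hcK] at h3 ⊢
  rw [← Nat.gcd_assoc, Nat.gcd_eq_left h3, Nat.gcd_comm]

end Cfsg.Agent.Helper40.GFCent
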