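import Mathlib
import Cfsg.Agent.Lib.Helper40.AutPSLGFCount
import Cfsg.Agent.Lib.Helper40.AutPSLFieldMain

/-!
# Involutory graph-field automorphisms of `PSL_n(q)`: conjugacy, centralizer in `Inndiag`, splitting
-/

set_option autoImplicit false
set_option linter.unusedSectionVars false
set_option linter.unusedSimpArgs false
set_option linter.unusedVariables false

namespace Cfsg.Agent.Helper40.GFCent

open Matrix Cfsg.Agent.Helper13.PSLAut Cfsg.Agent.Helper13.GraphAutPSL Cfsg.Agent.Helper40.OutPSL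
  Cfsg.Agent.Helper40.H90 Cfsg.Agent.Helper40.AutPSLNorm Cfsg.Agent.Helper40.FixK
  Cfsg.Agent.Helper40.SplitCount Cfsg.Agent.Helper40.FieldCent Cfsg.Agent.Helper43.UnitaryConj

variable {F : Type*} [Field F] {n : ℕ}

local notation "SLn" => Matrix.SpecialLinearGroup (Fin n) F
local notation "PSLn" => Matrix.ProjectiveSpecialLinearGroup (Fin n) F
local notation "Mn" => Matrix (Fin n) (Fin n) F

theorem gfAut_sq (σ : F ≃+* F) : (gfAut (n := n) σ) ^ 2 = fieldAutPSL (σ * σ) := by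
  unfold gfAut
  have h3 := fieldAutPSL_mul_iota (n := n) σ
  have h4 : (iotaAut : MulAut PSLn) * iotaAut = 1 := iotaAut_mul_self
  have h5 : fieldAutPSL (n := n) (σ * σ) = fieldAutPSL σ * fieldAutPSL σ :=
    map_mul (fieldAutHom (F := F) (n := n)) σ σ
  rw [pow_two, h5]
  calc fieldAutPSL σ * iotaAut * (fieldAutPSL σ * iotaAut)
      = fieldAutPSL σ * (iotaAut * fieldAutPSL σ) * iotaAut := by simp only [mul_assoc]
    _ = fieldAutPSL σ * (fieldAutPSL σ * iotaAut) * iotaAut := by rw [h3]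
    _ = fieldAutPSL σ * fieldAutPSL σ * (iotaAut * iotaAut) := by simp only [mul_assoc]
    _ = _ := by rw [h4, mul_one]

/-- every involutory graph-field automorphism is `Inndiag`-conjugate to a standard one -/
theorem gf_std [Fintype F] {p f : ℕ} [Fact p.Prime] (hF : Fintype.card F = p ^ f) (hn : 2 ≤ n)
    (hS : Struct n F) (x : MulAut PSLn) (hx : Cfsg.IsGraphFieldAutClassPSL x)
    (hx2 : orderOf x = 2) :
    ∃ σ : F ≃+* F, orderOf σ = 2 ∧ ∃ g : GL (Fin n) F, x = PhiL g * gfAut σ * (PhiL g)⁻¹ := by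
  obtain ⟨-, α, φ, γ, σ, hσ1, hφ, hγ, hαx⟩ := hx
  have hφ' := eq_fieldAutPSL hφ
  have hγ' := eq_iotaAut hγ
  subst hφ' hγ'
  have hαx' : α * x * α⁻¹ = gfAut σ := hαx
  have hord : orderOf (gfAut (n := n) σ) = 2 := by
    rw [← hαx', ← hx2]
    exact orderOf_injective (MulAut.conj α).toMonoidHom (MulAut.conj α).injective x
  have hsq : fieldAutPSL (n := n) (σ * σ) = 1 := by
    rw [← gfAut_sq, ← hord]
    exact pow_orderOf_eq_one _
  have hσσ : σ * σ = 1 := by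
    apply fieldAutHom_injective (F := F) (n := n) hn
    rw [fieldAutHom_apply, hsq, map_one]
  have hσ2 : orderOf σ = 2 := by
    apply orderOf_eq_prime
    · rw [pow_two]; exact hσσ
    · exact hσ1
  refine ⟨σ, hσ2, ?_⟩
  have hchar : CharP F p := charP_of_card_eq_prime_pow hF
  obtain ⟨hcyc, -⟩ := Cfsg.Agent.Helper41.ringAut_cyclic_card (F := F) p f hF
  have hcomm : ∀ ρ : F ≃+* F, ρ * σ = σ * ρ := by
    intro ρ
    have : IsCyclic (RingAut F) := hcyc
    have hmc : IsMulCommutative (RingAut F) := IsCyclic.isMulCommutative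
    exact mul_comm' (M := RingAut F) ρ σ
  -- `φ_ρ` and `ι` commute with `gfAut σ`
  have hc1 : ∀ ρ : F ≃+* F, fieldAutPSL ρ * gfAut (n := n) σ = gfAut σ * fieldAutPSL ρ := by
    intro ρ
    unfold gfAut
    have h1 : fieldAutPSL (n := n) ρ * fieldAutPSL σ = fieldAutPSL σ * fieldAutPSL ρ := by
      have e1 : fieldAutPSL (n := n) (ρ * σ) = fieldAutPSL ρ * fieldAutPSL σ :=
        map_mul (fieldAutHom (F := F) (n := n)) ρ σ
      have e2 : fieldAutPSL (n := n) (σ * ρ) = fieldAutPSL σ * fieldAutPSL ρ :=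
        map_mul (fieldAutHom (F := F) (n := n)) σ ρ
      rw [← e1, ← e2, hcomm]
    rw [← mul_assoc, h1, mul_assoc, mul_assoc, fieldAutPSL_mul_iota]
  have hc2 : (iotaAut : MulAut PSLn) * gfAut σ = gfAut σ * iotaAut := by
    unfold gfAut
    rw [← mul_assoc, ← fieldAutPSL_mul_iota]
  have hx' : x = α⁻¹ * gfAut σ * (α⁻¹)⁻¹ := by
    rw [← hαx']; group
  obtain ⟨g, ρ, hα | hα⟩ := hS α⁻¹
  · refine ⟨g, ?_⟩
    rw [hx', hα]
    have : PhiL g * fieldAutPSL ρ * gfAut σ * (PhiL g * fieldAutPSL ρ)⁻¹ =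
        PhiL g * (fieldAutPSL ρ * gfAut σ * (fieldAutPSL ρ)⁻¹) * (PhiL g)⁻¹ := by group
    rw [this, hc1 ρ, mul_inv_cancel_right]
  · refine ⟨g, ?_⟩
    rw [hx', hα]
    have : PhiL g * fieldAutPSL ρ * iotaAut * gfAut σ * (PhiL g * fieldAutPSL ρ * iotaAut)⁻¹ =
        PhiL g * (fieldAutPSL ρ * (iotaAut * gfAut σ * (iotaAut)⁻¹) * (fieldAutPSL ρ)⁻¹) * (PhiL g)⁻¹ := by
      group
    rw [this, hc2, mul_inv_cancel_right, hc1 ρ, mul_inv_cancel_right]

theorem gf_main [Fintype F] {p f : ℕ} [Fact p.Prime] (hF : Fintype.card F = p ^ f) (hn : 3 ≤ n)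
    (hS : Struct n F) (x : MulAut PSLn) (hx : Cfsg.IsGraphFieldAutClassPSL x)
    (hx2 : orderOf x = 2) :
    Even f ∧ (∀ y : MulAut PSLn, Cfsg.IsGraphFieldAutClassPSL y → orderOf y = 2 →
        Cfsg.IsConjUnder (Cfsg.inndiagPSL n F) x y) ∧
      Nonempty (↥(Cfsg.inndiagPSL n F ⊓ Subgroup.centralizer {x}) ≃* Cfsg.PGU n F (p ^ (f / 2))) ∧
      Cfsg.splitClassCount (Cfsg.inndiagPSL n F) (Cfsg.Inn PSLn) x = Nat.gcd n (p ^ (f / 2) - 1) := by
  classical
  have hp : p.Prime := Fact.out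
  have hn0 : 0 < n := by omega
  have hn2 : 2 ≤ n := by omega
  obtain ⟨σ, hσ2, g, hxg⟩ := gf_std hF hn2 hS x hx hx2
  obtain ⟨h2f, hKc⟩ := card_fixK σ hp hF hσ2 (by norm_num)
  have hK : Fintype.card F = (p ^ (f / 2)) ^ 2 := by
    rw [hF, ← pow_mul, Nat.div_mul_cancel h2f]
  have hσF : σ = frobEquiv hK := sigma_eq_frob hF hK σ hσ2
  have hσσ : σ * σ = 1 := by
    rw [← pow_two, ← hσ2]; exact pow_orderOf_eq_one σ
  have hσ1 : σ ≠ 1 := by
    intro h; rw [h, orderOf_one] at hσ2; omega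
  have hD : (Cfsg.inndiagPSL n F).Normal := range_PhiL_normal_of_struct hS
  have hU : ∀ g : GL (Fin n) F, g ∈ Cfsg.GU n F (p ^ (f / 2)) ↔
      starM (σ : F →+* F) (g : Mn) * (g : Mn) = 1 := by
    intro g
    rw [mem_GU_iff hK]
    have : ((σ : F ≃+* F) : F →+* F) = frobK hK := by
      rw [hσF]
      rfl
    rw [this]
  -- `α x α⁻¹ = gfAut σ` with `α = (PhiL g)⁻¹`
  have hαx : (PhiL g)⁻¹ * x * ((PhiL g)⁻¹)⁻¹ = gfAut σ := by
    rw [hxg]; group
  have hαmem : (PhiL g)⁻¹ ∈ Cfsg.inndiagPSL n F := by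
    rw [inndiagPSL_eq_range]
    exact Subgroup.inv_mem _ ⟨g, rfl⟩
  refine ⟨even_iff_two_dvd.2 h2f, ?_, ?_, ?_⟩
  · intro y hy hy2
    obtain ⟨σ', hσ'2, g', hyg⟩ := gf_std hF hn2 hS y hy hy2
    have hσ' : σ' = σ := by rw [hσF]; exact sigma_eq_frob hF hK σ' hσ'2
    subst hσ'
    refine ⟨PhiL (g' * g⁻¹), ?_, ?_⟩
    · rw [inndiagPSL_eq_range]; exact ⟨_, rfl⟩
    · rw [hyg, hxg, map_mul, map_inv]; group
  · have e1 := conjInfCentEquiv (Cfsg.inndiagPSL n F) (PhiL g)⁻¹ x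
    have heq : Cfsg.inndiagPSL n F ⊓ Subgroup.centralizer {(PhiL g)⁻¹ * x * ((PhiL g)⁻¹)⁻¹} =
        (PhiL (F := F) (n := n)).range ⊓ Subgroup.centralizer {gfAut σ} := by
      rw [hαx, inndiagPSL_eq_range]
    have e2 := MulEquiv.subgroupCongr heq
    obtain ⟨e3⟩ := cent_equiv_pgu σ (Cfsg.GU n F (p ^ (f / 2))) hn0 hσσ hσ1 hU
    exact ⟨(e1.trans e2).trans e3⟩
  · have h1 : Cfsg.splitClassCount (Cfsg.inndiagPSL n F) (Cfsg.Inn PSLn)
        ((PhiL g)⁻¹ * x * ((PhiL g)⁻¹)⁻¹) =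
        Cfsg.splitClassCount (Cfsg.inndiagPSL n F) (Cfsg.Inn PSLn) x := by
      apply splitClassCount_conj
      · intro h
        constructor
        · intro hh
          exact hD.conj_mem h hh _
        · intro hh
          have := hD.conj_mem _ hh ((PhiL g)⁻¹)⁻¹
          have h2 : ((PhiL g)⁻¹)⁻¹ * ((PhiL g)⁻¹ * h * ((PhiL g)⁻¹)⁻¹) * (((PhiL g)⁻¹)⁻¹)⁻¹ = h := by
            group
          rw [h2] at this
          exact this
      · intro k
        constructor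
        · intro hk
          exact inn_conj_mem _ k hk
        · intro hk
          have := inn_conj_mem ((PhiL g)⁻¹)⁻¹ _ hk
          have h2 : ((PhiL g)⁻¹)⁻¹ * ((PhiL g)⁻¹ * k * ((PhiL g)⁻¹)⁻¹) * (((PhiL g)⁻¹)⁻¹)⁻¹ = k := by
            group
          rw [h2] at this
          exact this
    rw [← h1, hαx, inndiagPSL_eq_range,
      splitCount_eq_index_gf hn0 σ hσσ hσ1 (Cfsg.GU n F (p ^ (f / 2))) hU,
      index_BsubU σ hp hF hσ2 n]

end Cfsg.Agent.Helper40.GFCent
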