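import Mathlib
import Cfsg.Agent.Lib.Helper5.PSUGr6
import Cfsg.Agent.Lib.Helper40.OutPSLMain
import Cfsg.Agent.Lib.Helper41.RingAutFin

/-!
# `Aut(PSU_n(q))`: consequences of the structure hypothesis `StructU`

`StructU n F q`: every automorphism of `PSU_n(q)` is `PhiU g * fieldAutPSU σ`.
-/

set_option autoImplicit false
set_option linter.unusedSectionVars false
set_option linter.unusedSimpArgs false
set_option linter.unusedVariables false

namespace Cfsg.Agent.Helper40.AutPSU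

open Matrix Cfsg.Agent.Helper13.PSLAut Cfsg.Agent.Helper5 Cfsg.Agent.Helper5.PSUAut
  Cfsg.Agent.Helper5.PSUGr

variable {F : Type*} [Field F] {n q : ℕ}

/-- the structure hypothesis for `Aut(PSU_n(q))` -/
def StructU (n : ℕ) (F : Type*) [Field F] (q : ℕ) : Prop :=
  ∀ β : MulAut (Cfsg.PSU n F q), ∃ (g : ↥(CU n F q)) (σ : F ≃+* F), β = PhiU g * fieldAutPSU σ

/-- the standard field automorphisms as a homomorphism -/
noncomputable def fieldAutHomU : (F ≃+* F) →* MulAut (Cfsg.PSU n F q) where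
  toFun σ := fieldAutPSU σ
  map_one' := fieldAutPSU_refl
  map_mul' σ τ := (fieldAutPSU_mul σ τ).symm

theorem fieldAutHomU_apply (σ : F ≃+* F) :
    fieldAutHomU (n := n) (q := q) σ = fieldAutPSU σ := rfl

theorem fieldAutPSU_one : fieldAutPSU (n := n) (q := q) (1 : F ≃+* F) = 1 := fieldAutPSU_refl

theorem fieldAutPSU_mul' (σ τ : F ≃+* F) :
    fieldAutPSU (n := n) (q := q) (σ * τ) = fieldAutPSU σ * fieldAutPSU τ :=
  map_mul (fieldAutHomU (n := n) (q := q)) σ τ

theorem fieldAutPSU_pow (σ : F ≃+* F) (k : ℕ) :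
    fieldAutPSU (n := n) (q := q) (σ ^ k) = fieldAutPSU σ ^ k :=
  map_pow (fieldAutHomU (n := n) (q := q)) σ k

theorem fieldAutPSU_inv (σ : F ≃+* F) :
    fieldAutPSU (n := n) (q := q) σ⁻¹ = (fieldAutPSU σ)⁻¹ :=
  map_inv (fieldAutHomU (n := n) (q := q)) σ

section Fin

variable [Fintype F] (hF : Fintype.card F = q ^ 2)

include hF in
theorem fieldAutHomU_injective (hn : 3 ≤ n) (h32 : ¬ (n = 3 ∧ q = 2)) :
    Function.Injective (fieldAutHomU (F := F) (n := n) (q := q)) := by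
  rw [injective_iff_map_eq_one]
  intro σ hσ
  have h1 : fieldAutPSU (n := n) (q := q) σ = PhiU 1 := by
    rw [map_one]; exact hσ
  exact refl_of_fieldAut_eq_PhiU hF hn h32 σ 1 h1

include hF in
theorem orderOf_fieldAutPSU (hn : 3 ≤ n) (h32 : ¬ (n = 3 ∧ q = 2)) (σ : F ≃+* F) :
    orderOf (fieldAutPSU (n := n) (q := q) σ) = orderOf σ :=
  orderOf_injective (fieldAutHomU (F := F) (n := n) (q := q)) (fieldAutHomU_injective hF hn h32) σ

include hF in
theorem inndiagPSU_eq_range (hn : 3 ≤ n) (h32 : ¬ (n = 3 ∧ q = 2)) :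
    Cfsg.inndiagPSU n F q = (PhiU (F := F) (n := n) (q := q)).range := by
  ext β
  constructor
  · intro hβ
    obtain ⟨g, -, rfl⟩ := (mem_inndiagPSU_iff β).1 hβ
    exact ⟨g, rfl⟩
  · rintro ⟨g, rfl⟩
    exact PhiU_mem_inndiag hF hn h32 g

theorem range_normal (hS : StructU n F q) :
    ((PhiU (F := F) (n := n) (q := q)).range).Normal := by
  constructor
  rintro _ ⟨h, rfl⟩ β
  obtain ⟨g, σ, rfl⟩ := hS β
  refine ⟨g * sigmaCU σ h * g⁻¹, ?_⟩
  rw [map_mul, map_mul, map_inv]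
  have h1 := fieldAutPSU_mul_PhiU (n := n) (q := q) σ h
  calc PhiU g * PhiU (sigmaCU σ h) * (PhiU g)⁻¹
      = PhiU g * (PhiU (sigmaCU σ h) * fieldAutPSU σ) * (fieldAutPSU σ)⁻¹ * (PhiU g)⁻¹ := by group
    _ = PhiU g * (fieldAutPSU σ * PhiU h) * (fieldAutPSU σ)⁻¹ * (PhiU g)⁻¹ := by rw [h1]
    _ = PhiU g * fieldAutPSU σ * PhiU h * (PhiU g * fieldAutPSU σ)⁻¹ := by group

include hF in
theorem inndiag_normal (hn : 3 ≤ n) (h32 : ¬ (n = 3 ∧ q = 2)) (hS : StructU n F q) :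
    (Cfsg.inndiagPSU n F q).Normal := by
  rw [inndiagPSU_eq_range hF hn h32]
  exact range_normal hS

include hF in
/-- the surjection `Aut(PSU_n) → RingAut F` with kernel the inner-diagonal group -/
theorem exists_thetaU (hn : 3 ≤ n) (h32 : ¬ (n = 3 ∧ q = 2)) (hS : StructU n F q) :
    ∃ θ : MulAut (Cfsg.PSU n F q) →* (F ≃+* F),
      Function.Surjective θ ∧ θ.ker = (PhiU (F := F) (n := n) (q := q)).range := by
  have := range_normal hS
  apply Cfsg.Agent.Helper40.OutPSL.exists_hom_of_complement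
    (PhiU (F := F) (n := n) (q := q)).range (fieldAutHomU (F := F) (n := n) (q := q))
  · intro β
    obtain ⟨g, σ, rfl⟩ := hS β
    exact ⟨PhiU g, ⟨g, rfl⟩, σ, rfl⟩
  · rintro σ ⟨h, hh⟩
    exact refl_of_fieldAut_eq_PhiU hF hn h32 σ h hh.symm

end Fin

end Cfsg.Agent.Helper40.AutPSU
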