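import Mathlib
import Cfsg.Agent.Lib.Helper40.AutPSUBasic
import Cfsg.Agent.Lib.Lead.UnitaryGroupCard

/-!
# `|Aut(PSU_n(q))| = gcd(n, q+1) · 2f · |PSU_n(q)|` from the structure hypothesis
-/

set_option autoImplicit false
set_option linter.unusedSectionVars false
set_option linter.unusedSimpArgs false
set_option linter.unusedVariables false

namespace Cfsg.Agent.Helper40.AutPSU

open Matrix Cfsg.Agent.Helper13.PSLAut Cfsg.Agent.Helper5 Cfsg.Agent.Helper5.PSUAut
  Cfsg.Agent.Helper5.PSUGr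

variable {F : Type*} [Field F] {n q : ℕ}

theorem card_of_surj' {G H : Type*} [Group G] [Group H] (θ : G →* H)
    (hθ : Function.Surjective θ) : Nat.card G = Nat.card H * Nat.card θ.ker := by
  rw [Subgroup.card_eq_card_quotient_mul_card_subgroup θ.ker,
    Nat.card_congr (QuotientGroup.quotientKerEquivOfSurjective θ hθ).toEquiv]

/-- `PhiU` restricted to `GU` -/
noncomputable def PsiU : ↥(Cfsg.GU n F q) →* MulAut (Cfsg.PSU n F q) :=
  (PhiU (F := F) (n := n) (q := q)).comp (Subgroup.inclusion GU_le_CU)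

theorem PsiU_apply (g : ↥(Cfsg.GU n F q)) :
    PsiU g = PhiU (⟨g.1, GU_le_CU g.2⟩ : ↥(CU n F q)) := rfl

variable [Fintype F] (hF : Fintype.card F = q ^ 2)

include hF in
theorem range_PsiU (hn : 3 ≤ n) (h32 : ¬ (n = 3 ∧ q = 2)) :
    (PsiU (F := F) (n := n) (q := q)).range = (PhiU (F := F) (n := n) (q := q)).range := by
  ext β
  constructor
  · rintro ⟨g, rfl⟩
    exact ⟨_, rfl⟩
  · rintro ⟨a, rfl⟩
    obtain ⟨g, hg, hag⟩ := exists_GU_PhiU_eq hF hn h32 a
    exact ⟨⟨g.1, hg⟩, hag.symm⟩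

theorem scGL_mem_GU (l : Fˣ) (hl : l ^ (q + 1) = 1) : scGL n l ∈ Cfsg.GU n F q := by
  apply Cfsg.Agent.Lead.diag_mem_GU (fun _ => (l : F))
  · intro i
    rw [← Units.val_pow_eq_pow_val, hl, Units.val_one]
  · rw [scGL_coe, Matrix.smul_one_eq_diagonal]

theorem pow_eq_one_of_smul_mem_GU (hn : 0 < n) (g : GL (Fin n) F) (hg : g ∈ Cfsg.GU n F q) (c : Fˣ)
    (hc : (g : Matrix (Fin n) (Fin n) F) = (c : F) • (1 : Matrix (Fin n) (Fin n) F)) :
    c ^ (q + 1) = 1 := by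
  have h := (PSUAut.mem_GU_iff g).1 hg (Pi.single ⟨0, hn⟩ 1) (Pi.single ⟨0, hn⟩ 1)
  rw [hc] at h
  have h1 : ((c : F) • (1 : Matrix (Fin n) (Fin n) F)) *ᵥ (Pi.single ⟨0, hn⟩ 1 : Fin n → F) =
      (c : F) • (Pi.single ⟨0, hn⟩ 1 : Fin n → F) := by
    rw [Matrix.smul_mulVec, Matrix.one_mulVec]
  rw [h1] at h
  unfold Cfsg.hermForm at h
  rw [Finset.sum_eq_single (⟨0, hn⟩ : Fin n), Finset.sum_eq_single (⟨0, hn⟩ : Fin n)] at h
  · simp only [Pi.smul_apply, Pi.single_eq_same, smul_eq_mul, mul_one, one_pow] at h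
    apply Units.ext
    rw [Units.val_pow_eq_pow_val, pow_succ', Units.val_one]
    exact h
  · intro b _ hb
    simp [Pi.single_eq_of_ne hb]
  · intro hh; exact absurd (Finset.mem_univ _) hh
  · intro b _ hb
    simp [Pi.single_eq_of_ne hb]
  · intro hh; exact absurd (Finset.mem_univ _) hh

include hF in
theorem card_ker_PsiU (hn : 3 ≤ n) (h32 : ¬ (n = 3 ∧ q = 2)) :
    Nat.card (PsiU (F := F) (n := n) (q := q)).ker = q + 1 := by
  rw [← Cfsg.Agent.Lead.card_norm_one_units hF]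
  symm
  have hn0 : 0 < n := by omega
  let f : {l : Fˣ // l ^ (q + 1) = 1} → (PsiU (F := F) (n := n) (q := q)).ker := fun l =>
    ⟨⟨scGL n l.1, scGL_mem_GU l.1 l.2⟩, by
      rw [MonoidHom.mem_ker, PsiU_apply, PhiU_eq_one_iff hF hn h32]
      exact scGL_mem l.1⟩
  apply Nat.card_congr (Equiv.ofBijective f ⟨?_, ?_⟩)
  · intro l m hlm
    have h1 : scGL n l.1 = scGL n m.1 :=
      congrArg (fun k : (PsiU (F := F) (n := n) (q := q)).ker => (k.1.1 : GL (Fin n) F)) hlm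
    have h2 := congrArg (fun g : GL (Fin n) F => (g : Matrix (Fin n) (Fin n) F) ⟨0, hn0⟩ ⟨0, hn0⟩) h1
    simp only [scGL_coe, Matrix.smul_apply, Matrix.one_apply_eq, smul_eq_mul, mul_one] at h2
    exact Subtype.ext (Units.ext h2)
  · intro k
    have hk := k.2
    rw [MonoidHom.mem_ker, PsiU_apply, PhiU_eq_one_iff hF hn h32, Cfsg.Geo.mem_scalars_iff] at hk
    obtain ⟨c, hc⟩ := hk
    have hc1 : c ^ (q + 1) = 1 := pow_eq_one_of_smul_mem_GU hn0 k.1.1 k.1.2 c hc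
    refine ⟨⟨c, hc1⟩, ?_⟩
    apply Subtype.ext
    apply Subtype.ext
    apply Units.ext
    show ((scGL n c : GL (Fin n) F) : Matrix (Fin n) (Fin n) F) = _
    rw [scGL_coe]
    exact hc.symm

include hF in
theorem card_range_PhiU (hn : 3 ≤ n) (h32 : ¬ (n = 3 ∧ q = 2)) :
    Nat.card (PhiU (F := F) (n := n) (q := q)).range = Nat.card (Cfsg.SU n F q) := by
  have h1 := card_of_surj' (PsiU (F := F) (n := n) (q := q)).rangeRestrict
    (PsiU (F := F) (n := n) (q := q)).rangeRestrict_surjective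
  rw [MonoidHom.ker_rangeRestrict, card_ker_PsiU hF hn h32, range_PsiU hF hn h32] at h1
  have h2 := Cfsg.Agent.Lead.card_SU_mul (n := n) hF (by omega)
  rw [h1, mul_comm] at h2
  exact (Nat.eq_of_mul_eq_mul_right (by omega : 0 < q + 1) h2).symm

include hF in
theorem card_SU_eq (hn : 3 ≤ n) :
    Nat.card (Cfsg.SU n F q) = Nat.card (Cfsg.PSU n F q) * Nat.gcd n (q + 1) := by
  rw [Subgroup.card_eq_card_quotient_mul_card_subgroup (Subgroup.center (Cfsg.SU n F q)),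
    card_center_SU hF hn]

include hF in
theorem card_aut (hn : 3 ≤ n) (h32 : ¬ (n = 3 ∧ q = 2)) (hS : StructU n F q) {p f : ℕ}
    [Fact p.Prime] (hq : q = p ^ f) :
    Nat.card (MulAut (Cfsg.PSU n F q)) = Nat.gcd n (q + 1) * (2 * f) * Nat.card (Cfsg.PSU n F q) := by
  have hF' : Fintype.card F = p ^ (2 * f) := by
    rw [hF, hq, ← pow_mul, mul_comm]
  have hcp : CharP F p := charP_of_card_eq_prime_pow hF'
  have hcardF : Nat.card (F ≃+* F) = 2 * f := (Cfsg.Agent.Helper41.ringAut_cyclic_card p (2 * f) hF').2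
  obtain ⟨θ, hθs, hθk⟩ := exists_thetaU hF hn h32 hS
  rw [card_of_surj' θ hθs, hθk, card_range_PhiU hF hn h32, card_SU_eq hF hn, hcardF]
  ring

end Cfsg.Agent.Helper40.AutPSU
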