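import Mathlib
import Cfsg.Agent.Lib.Helper40.AutPSLField
import Cfsg.Agent.Lib.Helper40.FixedSubfield
import Cfsg.Agent.Lib.Helper5.PSUGr4

/-!
# A Lang-type lemma for unitary similitudes and a field automorphism of odd order

`G` invertible with `Gᵀ τ(G) = μ`, `N_σ(G) = 1` (`σ` of order `r`, commuting with the involution `τ`,
and some `σ`-fixed element is moved by `τ`): then `G σ(H) = H` for some invertible `H` with
`Hᵀ τ(H) = ν` scalar.
-/

set_option autoImplicit false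
set_option linter.unusedSectionVars false
set_option linter.unusedSimpArgs false
set_option linter.unusedVariables false

namespace Cfsg.Agent.Helper40.LangU

open Matrix Cfsg.Agent.Helper40.H90 Cfsg.Agent.Helper40.AutPSLNorm Cfsg.Agent.Helper40.FixK

variable {F : Type*} [Field F] {n : ℕ}

local notation "Mn" => Matrix (Fin n) (Fin n) F

theorem sm_smul (σ : F ≃+* F) (c : F) (A : Mn) : sm σ (c • A) = σ c • sm σ A := by
  ext i j
  show σ (c * A i j) = σ c * σ (A i j)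
  exact map_mul σ _ _

theorem sm_transpose (σ : F ≃+* F) (A : Mn) : sm σ Aᵀ = (sm σ A)ᵀ := rfl

theorem sm_comm (σ τ : F ≃+* F) (hcomm : ∀ a, σ (τ a) = τ (σ a)) (A : Mn) :
    sm σ (sm τ A) = sm τ (sm σ A) := by
  ext i j
  exact hcomm _

theorem sm_sm_self (τ : F ≃+* F) (hτ2 : ∀ a, τ (τ a) = a) (A : Mn) : sm τ (sm τ A) = A := by
  ext i j
  exact hτ2 _

theorem sm_smul_one (σ : F ≃+* F) (c : F) : sm σ (c • (1 : Mn)) = σ c • (1 : Mn) := by
  rw [sm_smul, sm_one]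

theorem smul_one_inj' (hn : 0 < n) {a b : F} (h : a • (1 : Mn) = b • (1 : Mn)) : a = b := by
  have h8 := congrFun (congrFun h ⟨0, hn⟩) ⟨0, hn⟩
  rw [Matrix.smul_apply, Matrix.smul_apply, Matrix.one_apply_eq, smul_eq_mul, mul_one, smul_eq_mul,
    mul_one] at h8
  exact h8

/-- the multiplier of the partial norms -/
theorem mult_nrm (σ τ : F ≃+* F) (hcomm : ∀ a, σ (τ a) = τ (σ a)) (G : Mn) (μ : Fˣ)
    (hG : Gᵀ * sm τ G = (μ : F) • (1 : Mn)) (k : ℕ) :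
    (nrm σ G k)ᵀ * sm τ (nrm σ G k) = ((nrmU σ μ k : Fˣ) : F) • (1 : Mn) := by
  induction k with
  | zero =>
    show (1 : Mn)ᵀ * sm τ (1 : Mn) = ((1 : Fˣ) : F) • (1 : Mn)
    rw [sm_one, Matrix.transpose_one, Matrix.one_mul, Units.val_one, one_smul]
  | succ k ih =>
    show (G * sm σ (nrm σ G k))ᵀ * sm τ (G * sm σ (nrm σ G k)) =
      ((μ * Units.map (σ : F →* F) (nrmU σ μ k) : Fˣ) : F) • (1 : Mn)
    rw [Matrix.transpose_mul, sm_mul, Matrix.mul_assoc, ← Matrix.mul_assoc Gᵀ, hG, Matrix.smul_mul,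
      Matrix.one_mul, Matrix.mul_smul, ← sm_comm σ τ hcomm, ← sm_transpose, ← sm_mul, ih, sm_smul_one,
      smul_smul, Units.val_mul]
    rfl

/-- a `τ`-fixed solution of `σ(ν) μ = ν` -/
theorem exists_fixed_h90 [Finite F] (σ τ : F ≃+* F) (hτ2 : ∀ a, τ (τ a) = a)
    (hcomm : ∀ a, σ (τ a) = τ (σ a)) {r : ℕ} (hr : 0 < r) (hσ : orderOf σ = r)
    (hKτ : ∃ a, σ a = a ∧ τ a ≠ a) (μ : Fˣ) (hμτ : τ (μ : F) = (μ : F)) (hN : nrmU σ μ r = 1) :
    ∃ ν : Fˣ, τ (ν : F) = (ν : F) ∧ σ (ν : F) * (μ : F) = (ν : F) := by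
  obtain ⟨m, hm⟩ := h90_units σ hr hσ μ hN
  have hm' : σ (m : F) * (μ : F) = (m : F) := by
    rw [hm, Units.val_mul]
    have h6 : ((Units.map (σ : F →* F) m : Fˣ) : F) = σ (m : F) := rfl
    rw [← h6, mul_comm (m : F), ← mul_assoc, ← Units.val_mul, mul_inv_cancel, Units.val_one, one_mul]
  -- the set of solutions is stable under `τ` and under multiplication by `σ`-fixed elements
  have hsol : ∀ x : F, σ x * (μ : F) = x → σ (τ x) * (μ : F) = τ x := by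
    intro x hx
    rw [hcomm, ← hμτ, ← map_mul, hx]
  by_cases h0 : (m : F) + τ (m : F) = 0
  · obtain ⟨a, ha1, ha2⟩ := hKτ
    have hx : σ (a * (m : F)) * (μ : F) = a * (m : F) := by
      rw [map_mul, ha1, mul_assoc, hm']
    have hne : a * (m : F) + τ (a * (m : F)) ≠ 0 := by
      have h1 : τ (m : F) = -(m : F) := by
        rw [eq_neg_iff_add_eq_zero, add_comm]; exact h0
      rw [map_mul, h1, mul_neg, ← sub_eq_add_neg, ← sub_mul]
      exact mul_ne_zero (sub_ne_zero.2 (Ne.symm ha2)) m.ne_zero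
    refine ⟨Units.mk0 _ hne, ?_, ?_⟩
    · show τ (a * (m : F) + τ (a * (m : F))) = a * (m : F) + τ (a * (m : F))
      rw [map_add, hτ2, add_comm]
    · show σ (a * (m : F) + τ (a * (m : F))) * (μ : F) = a * (m : F) + τ (a * (m : F))
      rw [map_add, add_mul, hx, hsol _ hx]
  · refine ⟨Units.mk0 _ h0, ?_, ?_⟩
    · show τ ((m : F) + τ (m : F)) = (m : F) + τ (m : F)
      rw [map_add, hτ2, add_comm]
    · show σ ((m : F) + τ (m : F)) * (μ : F) = (m : F) + τ (m : F)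
      rw [map_add, add_mul, hm', hsol _ hm']

/-- restriction of `τ` to the fixed field of `σ` -/
def restrictFix (σ τ : F ≃+* F) (hτ2 : ∀ a, τ (τ a) = a) (hcomm : ∀ a, σ (τ a) = τ (σ a)) :
    ↥(fixK σ) ≃+* ↥(fixK σ) where
  toFun a := ⟨τ a.1, by
    show σ (τ a.1) = τ a.1
    rw [hcomm, a.2]⟩
  invFun a := ⟨τ a.1, by
    show σ (τ a.1) = τ a.1
    rw [hcomm, a.2]⟩
  left_inv a := Subtype.ext (hτ2 a.1)
  right_inv a := Subtype.ext (hτ2 a.1)
  map_mul' a b := Subtype.ext (map_mul τ a.1 b.1)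
  map_add' a b := Subtype.ext (map_add τ a.1 b.1)

theorem restrictFix_coe (σ τ : F ≃+* F) (hτ2 : ∀ a, τ (τ a) = a) (hcomm : ∀ a, σ (τ a) = τ (σ a))
    (a : ↥(fixK σ)) : ((restrictFix σ τ hτ2 hcomm a : ↥(fixK σ)) : F) = τ a.1 := rfl

/-- a `σ`-fixed `τ`-hermitian invertible matrix is `Dᵀ τ(D)` with `D` invertible and `σ`-fixed -/
theorem exists_gram_fixed [Finite F] (σ τ : F ≃+* F) (hτ2 : ∀ a, τ (τ a) = a)
    (hcomm : ∀ a, σ (τ a) = τ (σ a)) (hKτ : ∃ a, σ a = a ∧ τ a ≠ a)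
    (S : Mn) (hSσ : sm σ S = S) (hSτ : sm τ S = Sᵀ) (hdet : S.det ≠ 0) :
    ∃ D E : Mn, D * E = 1 ∧ E * D = 1 ∧ sm σ D = D ∧ sm σ E = E ∧ Dᵀ * sm τ D = S := by
  classical
  let K := fixK σ
  let τK := restrictFix σ τ hτ2 hcomm
  have hτK2 : ∀ a : ↥K, τK (τK a) = a := fun a => Subtype.ext (hτ2 a.1)
  have hne : ∃ e : ↥K, τK e ≠ e := by
    obtain ⟨a, ha1, ha2⟩ := hKτ
    refine ⟨⟨a, ha1⟩, ?_⟩
    intro h
    exact ha2 (congrArg Subtype.val h)
  let SK : Matrix (Fin n) (Fin n) ↥K := fun i j => ⟨S i j, by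
    have := congrFun (congrFun hSσ i) j
    exact this⟩
  have hSK : SK.map K.subtype = S := by
    ext i j; rfl
  have hSKτ : SK.map τK = SKᵀ := by
    ext i j
    have := congrFun (congrFun hSτ i) j
    exact this
  have hSKdet : SK.det ≠ 0 := by
    intro h0
    have h1 : K.subtype SK.det = (SK.map K.subtype).det := RingHom.map_det _ _
    rw [h0, map_zero, hSK] at h1
    exact hdet h1.symm
  obtain ⟨DK, hDKdet, hDK⟩ := Cfsg.Agent.Helper5.PSUGr.exists_gram τK hτK2 hne SK hSKτ hSKdet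
  have hu : IsUnit DK.det := isUnit_iff_ne_zero.2 hDKdet
  refine ⟨DK.map K.subtype, (DK⁻¹).map K.subtype, ?_, ?_, ?_, ?_, ?_⟩
  · rw [← Matrix.map_mul, Matrix.mul_nonsing_inv _ hu, Matrix.map_one _ (map_zero _) (map_one _)]
  · rw [← Matrix.map_mul, Matrix.nonsing_inv_mul _ hu, Matrix.map_one _ (map_zero _) (map_one _)]
  · ext i j
    exact (DK i j).2
  · ext i j
    exact ((DK⁻¹) i j).2
  · have h1 : sm τ (DK.map K.subtype) = (DK.map τK).map K.subtype := by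
      ext i j; rfl
    have h2 : (DK.map K.subtype)ᵀ = (DKᵀ).map K.subtype := by
      ext i j; rfl
    rw [h1, h2, ← Matrix.map_mul, hDK, hSK]

/-- the Lang-type lemma -/
theorem lang_unitary [Finite F] (hn : 0 < n) (σ τ : F ≃+* F) (hτ2 : ∀ a, τ (τ a) = a)
    (hcomm : ∀ a, σ (τ a) = τ (σ a)) {r : ℕ} (hr : 0 < r) (hσ : orderOf σ = r)
    (hKτ : ∃ a, σ a = a ∧ τ a ≠ a) (G : Mn) (μ : Fˣ)
    (hG : Gᵀ * sm τ G = (μ : F) • (1 : Mn)) (hN : nrm σ G r = 1) :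
    ∃ H H' : Mn, H * H' = 1 ∧ H' * H = 1 ∧ G * sm σ H = H ∧
      ∃ ν : Fˣ, Hᵀ * sm τ H = (ν : F) • (1 : Mn) := by
  -- the multiplier has norm one and is `τ`-fixed
  have hNμ : nrmU σ μ r = 1 := by
    have h1 := mult_nrm σ τ hcomm G μ hG r
    rw [hN, sm_one, Matrix.transpose_one, Matrix.one_mul] at h1
    have h2 : (1 : F) • (1 : Mn) = ((nrmU σ μ r : Fˣ) : F) • (1 : Mn) := by rw [one_smul]; exact h1
    exact Units.ext (smul_one_inj' hn h2).symm
  have hμτ : τ (μ : F) = (μ : F) := by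
    have h1 : (sm τ G)ᵀ * G = (μ : F) • (1 : Mn) := by
      have := congrArg Matrix.transpose hG
      rw [Matrix.transpose_mul, Matrix.transpose_transpose, Matrix.transpose_smul,
        Matrix.transpose_one] at this
      exact this
    have h2 := congrArg (sm τ) h1
    rw [sm_mul, ← sm_transpose, sm_sm_self τ hτ2, sm_smul_one] at h2
    rw [hG] at h2
    exact (smul_one_inj' hn h2).symm
  obtain ⟨ν, hντ, hνσ⟩ := exists_fixed_h90 σ τ hτ2 hcomm hr hσ hKτ μ hμτ hNμ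
  obtain ⟨H, H', hH1, hH2, hH3⟩ := hilbert90_matrix σ G hr hσ hN
  -- the Gram matrix
  have hS1 : Hᵀ * sm τ H = (μ : F) • sm σ (Hᵀ * sm τ H) := by
    conv_lhs => rw [← hH3]
    rw [Matrix.transpose_mul, sm_mul, Matrix.mul_assoc, ← Matrix.mul_assoc Gᵀ, hG, Matrix.smul_mul,
      Matrix.one_mul, Matrix.mul_smul, sm_mul, ← sm_comm σ τ hcomm, sm_transpose]
  have hS2 : sm τ (Hᵀ * sm τ H) = (Hᵀ * sm τ H)ᵀ := by
    rw [sm_mul, sm_sm_self τ hτ2, Matrix.transpose_mul, Matrix.transpose_transpose, sm_transpose]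
  have hHdet : H.det ≠ 0 := by
    intro h0
    have := congrArg Matrix.det hH1
    rw [Matrix.det_mul, h0, zero_mul, Matrix.det_one] at this
    exact zero_ne_one this
  have hS3 : (Hᵀ * sm τ H).det ≠ 0 := by
    rw [Matrix.det_mul, Matrix.det_transpose]
    have h1 : (sm τ H).det = τ H.det := (RingHom.map_det (τ : F →+* F) H).symm
    rw [h1]
    exact mul_ne_zero hHdet (by rw [Ne, map_eq_zero_iff τ τ.injective]; exact hHdet)
  -- normalise by `ν`
  have hν0 : (ν : F) ≠ 0 := ν.ne_zero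
  have hT1 : sm σ (((ν⁻¹ : Fˣ) : F) • (Hᵀ * sm τ H)) = ((ν⁻¹ : Fˣ) : F) • (Hᵀ * sm τ H) := by
    rw [sm_smul]
    conv_rhs => rw [hS1]
    rw [smul_smul]
    congr 1
    rw [Units.val_inv_eq_inv_val, map_inv₀]
    have h1 : σ (ν : F) ≠ 0 := by rw [Ne, map_eq_zero_iff σ σ.injective]; exact hν0
    field_simp
    exact hνσ.symm
  have hT2 : sm τ (((ν⁻¹ : Fˣ) : F) • (Hᵀ * sm τ H)) = (((ν⁻¹ : Fˣ) : F) • (Hᵀ * sm τ H))ᵀ := by
    rw [sm_smul, hS2, Matrix.transpose_smul, Units.val_inv_eq_inv_val, map_inv₀, hντ]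
  have hT3 : (((ν⁻¹ : Fˣ) : F) • (Hᵀ * sm τ H)).det ≠ 0 := by
    rw [Matrix.det_smul]
    exact mul_ne_zero (pow_ne_zero _ (ν⁻¹).ne_zero) hS3
  obtain ⟨D, E, hDE, hED, hDσ, hEσ, hDgram⟩ :=
    exists_gram_fixed σ τ hτ2 hcomm hKτ _ hT1 hT2 hT3
  refine ⟨H * E, D * H', ?_, ?_, ?_, ν, ?_⟩
  · rw [Matrix.mul_assoc, ← Matrix.mul_assoc E, hED, Matrix.one_mul, hH1]
  · rw [Matrix.mul_assoc, ← Matrix.mul_assoc H', hH2, Matrix.one_mul, hDE]
  · rw [sm_mul, hEσ, ← Matrix.mul_assoc, hH3]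
  · rw [Matrix.transpose_mul, sm_mul, Matrix.mul_assoc, ← Matrix.mul_assoc Hᵀ]
    have h1 : Hᵀ * sm τ H = (ν : F) • (Dᵀ * sm τ D) := by
      rw [hDgram, smul_smul, ← Units.val_mul, mul_inv_cancel, Units.val_one, one_smul]
    rw [h1, Matrix.smul_mul, Matrix.mul_smul]
    congr 1
    rw [Matrix.mul_assoc, ← sm_mul, hDE, sm_one, Matrix.mul_one, ← Matrix.transpose_mul, hDE,
      Matrix.transpose_one]

end Cfsg.Agent.Helper40.LangU
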