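import Mathlib
import Cfsg.Agent.Lib.Helper40.AutPSUBasic
import Cfsg.Agent.Lib.Helper40.LangUnitary
import Cfsg.Agent.Lib.Helper40.AutPSLCoset

/-!
# `PSU_n(q)`: elements of order `r` in the coset `Inndiag · φ_σ` are `Inndiag`-conjugate to `φ_σ`
-/

set_option autoImplicit false
set_option linter.unusedSectionVars false
set_option linter.unusedSimpArgs false
set_option linter.unusedVariables false

namespace Cfsg.Agent.Helper40.AutPSU

open Matrix Cfsg.Agent.Helper13.PSLAut Cfsg.Agent.Helper5 Cfsg.Agent.Helper5.PSUAut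
  Cfsg.Agent.Helper5.PSUGr Cfsg.Agent.Helper40.H90 Cfsg.Agent.Helper40.AutPSLNorm
  Cfsg.Agent.Helper40.FixK Cfsg.Agent.Helper40.LangU

variable {F : Type*} [Field F] {n q : ℕ}

local notation "Mn" => Matrix (Fin n) (Fin n) F

/-- partial norms in `CU` -/
noncomputable def nrmCU (σ : F ≃+* F) (g : ↥(CU n F q)) : ℕ → ↥(CU n F q)
  | 0 => 1
  | k + 1 => g * sigmaCU σ (nrmCU σ g k)

theorem nrmCU_coe (σ : F ≃+* F) (g : ↥(CU n F q)) (k : ℕ) :
    (((nrmCU σ g k : ↥(CU n F q)) : GL (Fin n) F) : Mn) = nrm σ ((g.1 : GL (Fin n) F) : Mn) k := by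
  induction k with
  | zero => rfl
  | succ k ih =>
    show (((g * sigmaCU σ (nrmCU σ g k) : ↥(CU n F q)) : GL (Fin n) F) : Mn) =
      ((g.1 : GL (Fin n) F) : Mn) * sm σ (nrm σ ((g.1 : GL (Fin n) F) : Mn) k)
    rw [← ih]
    rfl

theorem pow_PhiU_mul_field (σ : F ≃+* F) (g : ↥(CU n F q)) (k : ℕ) :
    (PhiU g * fieldAutPSU σ : MulAut (Cfsg.PSU n F q)) ^ k =
      PhiU (nrmCU σ g k) * fieldAutPSU (σ ^ k) := by
  induction k with
  | zero =>
    show (1 : MulAut (Cfsg.PSU n F q)) = PhiU (1 : ↥(CU n F q)) * fieldAutPSU (1 : F ≃+* F)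
    rw [map_one, fieldAutPSU_one, mul_one]
  | succ k ih =>
    rw [pow_succ', ih, pow_succ', fieldAutPSU_mul']
    show PhiU g * fieldAutPSU σ * (PhiU (nrmCU σ g k) * fieldAutPSU (σ ^ k)) =
      PhiU (g * sigmaCU σ (nrmCU σ g k)) * (fieldAutPSU σ * fieldAutPSU (σ ^ k))
    rw [map_mul]
    calc PhiU g * fieldAutPSU σ * (PhiU (nrmCU σ g k) * fieldAutPSU (σ ^ k))
        = PhiU g * (fieldAutPSU σ * PhiU (nrmCU σ g k)) * fieldAutPSU (σ ^ k) := by
          simp only [mul_assoc]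
      _ = PhiU g * (PhiU (sigmaCU σ (nrmCU σ g k)) * fieldAutPSU σ) * fieldAutPSU (σ ^ k) := by
          rw [fieldAutPSU_mul_PhiU]
      _ = _ := by simp only [mul_assoc]

section Fin

variable [Fintype F] (hF : Fintype.card F = q ^ 2)

theorem sigmaQ_comm (σ : F ≃+* F) (a : F) : σ (sigmaQ hF a) = sigmaQ hF (σ a) := by
  rw [sigmaQ_apply, sigmaQ_apply, map_pow]

include hF in
/-- some `σ`-fixed element is moved by the `q`-power map, for `σ` of odd order -/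
theorem exists_fixed_moved {p f : ℕ} (hp : p.Prime) (hq : q = p ^ f) (hf : 1 ≤ f) (σ : F ≃+* F)
    {r : ℕ} (hσ : orderOf σ = r) (hodd : Odd r) :
    ∃ a, σ a = a ∧ sigmaQ hF a ≠ a := by
  classical
  by_contra hcon
  push Not at hcon
  have hF' : Fintype.card F = p ^ (2 * f) := by
    rw [hF, hq, ← pow_mul, mul_comm]
  have hr0 : 0 < r := hodd.pos
  have hcomm : Commute σ (sigmaQ hF) := by
    apply RingEquiv.ext
    intro a
    exact sigmaQ_comm hF σ a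
  have hco : (orderOf σ).Coprime (orderOf (sigmaQ hF)) := by
    rw [orderOf_sigmaQ, hσ]
    exact Nat.coprime_two_right.2 hodd
  have hord : orderOf (σ * sigmaQ hF) = r * 2 := by
    rw [hcomm.orderOf_mul_eq_mul_orderOf_of_coprime hco, hσ, orderOf_sigmaQ]
  obtain ⟨hd1, hc1⟩ := card_fixK σ hp hF' hσ hr0
  obtain ⟨hd2, hc2⟩ := card_fixK (σ * sigmaQ hF) hp hF' hord (by omega)
  have hle : Nat.card (fixK σ) ≤ Nat.card (fixK (σ * sigmaQ hF)) := by
    apply Nat.card_le_card_of_injective (fun a : fixK σ => (⟨a.1, by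
      show (σ * sigmaQ hF) a.1 = a.1
      show σ (sigmaQ hF a.1) = a.1
      rw [hcon a.1 a.2, a.2]⟩ : fixK (σ * sigmaQ hF)))
    intro a b hab
    have h3 : a.1 = b.1 := congrArg (fun t : fixK (σ * sigmaQ hF) => (t.1 : F)) hab
    exact Subtype.ext h3
  rw [hc1, hc2] at hle
  have hle' := (Nat.pow_le_pow_iff_right hp.one_lt).1 hle
  -- 2f / r ≤ 2f / (2r)
  obtain ⟨k, hk⟩ := hd2
  have h1 : 2 * f / (r * 2) = k := by rw [hk, Nat.mul_div_cancel_left _ (by omega : 0 < r * 2)]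
  have h2 : 2 * f / r = 2 * k := by
    rw [hk, mul_assoc, Nat.mul_div_cancel_left _ hr0]
  rw [h1, h2] at hle'
  have hk0 : k = 0 := by omega
  rw [hk0, mul_zero] at hk
  omega

include hF in
/-- the field-automorphism coset of `PSU_n(q)`: elements of order dividing `r` are conjugate to
`φ_σ` -/
theorem field_coset_conj_U {p f : ℕ} (hp : p.Prime) (hq : q = p ^ f) (hf : 1 ≤ f) (hn : 3 ≤ n)
    (h32 : ¬ (n = 3 ∧ q = 2)) (σ : F ≃+* F) {r : ℕ} (hσ : orderOf σ = r) (hodd : Odd r)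
    (g : ↥(CU n F q)) (hg : g.1 ∈ Cfsg.GU n F q)
    (hpow : (PhiU g * fieldAutPSU σ : MulAut (Cfsg.PSU n F q)) ^ r = 1) :
    ∃ h : ↥(CU n F q), PhiU g * fieldAutPSU σ = PhiU h * fieldAutPSU σ * (PhiU h)⁻¹ := by
  have hn0 : 0 < n := by omega
  have hr : 0 < r := hodd.pos
  have hσr : σ ^ r = 1 := by rw [← hσ]; exact pow_orderOf_eq_one σ
  rw [pow_PhiU_mul_field, hσr, fieldAutPSU_one, mul_one, PhiU_eq_one_iff hF hn h32,
    Cfsg.Geo.mem_scalars_iff] at hpow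
  obtain ⟨c, hc⟩ := hpow
  rw [nrmCU_coe] at hc
  set gM : Mn := ((g.1 : GL (Fin n) F) : Mn) with hgM
  -- `c` is fixed by `σ`
  have hcfix : Units.map (σ : F →* F) c = c := by
    have h2 : nrm σ gM (r + 1) = gM * sm σ (nrm σ gM r) := rfl
    have h3 := nrm_succ' σ gM r
    rw [hσr] at h3
    have h4 : sm (1 : F ≃+* F) gM = gM := rfl
    rw [h4, h2, hc, sm_smul_one, Matrix.mul_smul, Matrix.mul_one, Matrix.smul_mul, Matrix.one_mul] at h3
    have h6 : (σ (c : F) - (c : F)) • gM = 0 := by rw [sub_smul, h3, sub_self]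
    have h7 : (σ (c : F) - (c : F)) • (gM * (((g.1)⁻¹ : GL (Fin n) F) : Mn)) = 0 := by
      rw [← Matrix.smul_mul, h6, Matrix.zero_mul]
    rw [hgM, coe_mul_inv] at h7
    have h8 := congrFun (congrFun h7 ⟨0, hn0⟩) ⟨0, hn0⟩
    rw [Matrix.smul_apply, Matrix.one_apply_eq, smul_eq_mul, mul_one, Matrix.zero_apply] at h8
    apply Units.ext
    exact sub_eq_zero.1 h8
  have hcfix' : Units.map (σ : F →* F) c⁻¹ = c⁻¹ := by rw [map_inv, hcfix]
  obtain ⟨l, hl⟩ := nrm_surj σ hr hσ c⁻¹ hcfix'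
  have hN : nrm σ ((l : F) • gM) r = 1 := by
    rw [nrm_smul, hl, hc, smul_smul, ← Units.val_mul, inv_mul_cancel, Units.val_one, one_smul]
  -- the multiplier of `l • g`
  have hgU : gMᵀ * sm (sigmaQ hF) gM = 1 := matrix_of_mem_GU (sigmaQ hF) (sigmaQ_apply hF) g.1 hg
  let μ : Fˣ := l * Units.map ((sigmaQ hF : F ≃+* F) : F →* F) l
  have hG : ((l : F) • gM)ᵀ * sm (sigmaQ hF) ((l : F) • gM) = (μ : F) • (1 : Mn) := by
    rw [Matrix.transpose_smul, sm_smul, Matrix.smul_mul, Matrix.mul_smul, hgU, smul_smul]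
    rfl
  obtain ⟨H, H', hH1, hH2, hH3, ν, hν⟩ := lang_unitary hn0 σ (sigmaQ hF) (sigmaQ_sigmaQ hF)
    (sigmaQ_comm hF σ) hr hσ (exists_fixed_moved hF hp hq hf σ hσ hodd) _ μ hG hN
  let HG : GL (Fin n) F := ⟨H, H', hH1, hH2⟩
  have hHCU : HG ∈ CU n F q := mem_CU_of_matrix (sigmaQ hF) (sigmaQ_apply hF) HG ν hν
  let HC : ↥(CU n F q) := ⟨HG, hHCU⟩
  refine ⟨HC, ?_⟩
  -- `g σ(H) = l⁻¹ H`
  have hrel : (g.1)⁻¹ * (HC.1 * ((sigmaCU σ HC).1)⁻¹) ∈ Cfsg.Geo.scalars (Fin n) F := by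
    rw [Cfsg.Geo.mem_scalars_iff]
    refine ⟨l, ?_⟩
    have h1 : (g.1 : GL (Fin n) F) * (sigmaCU σ HC).1 * scGL n l = HC.1 := by
      apply Units.ext
      rw [mul_scGL_coe, Units.val_mul]
      show (l : F) • (gM * sm σ H) = H
      rw [← Matrix.smul_mul]
      exact hH3
    have h2 : (g.1)⁻¹ * (HC.1 * ((sigmaCU σ HC).1)⁻¹) = scGL n l := by
      rw [← h1]
      have hcomm := scGL_comm (sigmaCU σ HC).1 l
      calc (g.1)⁻¹ * ((g.1 : GL (Fin n) F) * (sigmaCU σ HC).1 * scGL n l * ((sigmaCU σ HC).1)⁻¹)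
          = (sigmaCU σ HC).1 * scGL n l * ((sigmaCU σ HC).1)⁻¹ := by group
        _ = scGL n l * (sigmaCU σ HC).1 * ((sigmaCU σ HC).1)⁻¹ := by rw [hcomm]
        _ = scGL n l := by group
    rw [h2, PSUAut.scGL_coe]
  have h9 : PhiU g = PhiU HC * (PhiU (sigmaCU σ HC))⁻¹ := by
    rw [← map_inv, ← map_mul, PhiU_eq_iff hF hn h32]
    exact hrel
  have h11 : fieldAutPSU σ * (PhiU HC)⁻¹ = (PhiU (sigmaCU σ HC))⁻¹ * fieldAutPSU σ := by
    rw [eq_inv_mul_iff_mul_eq, ← mul_assoc, ← fieldAutPSU_mul_PhiU, mul_assoc, mul_inv_cancel, mul_one]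
  rw [mul_assoc (PhiU HC), h11, ← mul_assoc, ← h9]

include hF in
/-- S2711 from the structure hypothesis -/
theorem coset_main_U {p f : ℕ} (hp : p.Prime) (hq : q = p ^ f) (hf : 1 ≤ f) (hn : 3 ≤ n)
    (h32 : ¬ (n = 3 ∧ q = 2)) (hS : StructU n F q)
    (x δ : MulAut (Cfsg.PSU n F q)) (hx : Cfsg.IsFieldAutClassPSU x)
    {r : ℕ} (hr : r.Prime) (hxr : orderOf x = r) (hδ : δ ∈ Cfsg.inndiagPSU n F q) :
    orderOf (δ * x) = r ↔ Cfsg.IsConjUnder (Cfsg.inndiagPSU n F q) x (δ * x) := by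
  have hD : (Cfsg.inndiagPSU n F q).Normal := inndiag_normal hF hn h32 hS
  constructor
  · intro hord
    obtain ⟨α, φ, σ, hσ1, hσodd, hφ, hαx⟩ := hx
    have hφ' : φ = fieldAutPSU σ := eq_fieldAutPSU hφ
    have hx₀ : α * x * α⁻¹ = fieldAutPSU σ := by rw [hαx, hφ']
    have hordφ : orderOf (fieldAutPSU (n := n) (q := q) σ) = r := by
      rw [← hx₀, ← hxr]
      have := orderOf_injective (MulAut.conj α).toMonoidHom (MulAut.conj α).injective x
      simpa [MulAut.conj_apply] using this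
    have hσr : orderOf σ = r := by rw [← orderOf_fieldAutPSU hF hn h32]; exact hordφ
    have hrodd : Odd r := by rw [← hσr]; exact hσodd
    obtain ⟨k, hk, hkx⟩ := Cfsg.Agent.Helper40.AutPSLNorm.transport_conj (Cfsg.inndiagPSU n F q)
      α x δ (fieldAutPSU σ) hx₀ hδ
      (by
        intro d hd hdord
        obtain ⟨g, hg, rfl⟩ := (mem_inndiagPSU_iff d).1 hd
        have hpow : (PhiU g * fieldAutPSU σ : MulAut (Cfsg.PSU n F q)) ^ r = 1 := by
          rw [← hordφ, ← hdord]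
          exact pow_orderOf_eq_one _
        obtain ⟨h, hh⟩ := field_coset_conj_U hF hp hq hf hn h32 σ hσr hrodd g hg hpow
        exact ⟨PhiU h, PhiU_mem_inndiag hF hn h32 h, hh⟩)
      (by rw [hord, hxr])
    exact ⟨k, hk, hkx⟩
  · rintro ⟨k, -, hk⟩
    rw [hk, ← hxr]
    have := orderOf_injective (MulAut.conj k).toMonoidHom (MulAut.conj k).injective x
    simpa [MulAut.conj_apply] using this

end Fin

end Cfsg.Agent.Helper40.AutPSU
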