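import Mathlib
import Cfsg.Agent.Lib.Helper40.AutPSUCoset
import Cfsg.Agent.Lib.Helper40.AutPSLFieldCent
import Cfsg.Agent.Lib.Helper40.IsoField

/-!
# The centralizer in `Inndiag(PSU_n(q))` of a standard field automorphism of odd order

`Inndiag ⊓ C(φ_σ)` is the image of `GU_n(q₀)` over the fixed field, isomorphic to `PGU_n(q₀)`.
The fixed field is presented by an embedding `ι : F₀ →+* F` with image the fixed points of `σ`.
-/

set_option autoImplicit false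
set_option linter.unusedSectionVars false
set_option linter.unusedSimpArgs false
set_option linter.unusedVariables false

namespace Cfsg.Agent.Helper40.AutPSU

open Matrix Cfsg.Agent.Helper13.PSLAut Cfsg.Agent.Helper5 Cfsg.Agent.Helper5.PSUAut
  Cfsg.Agent.Helper5.PSUGr Cfsg.Agent.Helper40.H90 Cfsg.Agent.Helper40.AutPSLNorm
  Cfsg.Agent.Helper40.FixK Cfsg.Agent.Helper40.LangU

variable {F : Type*} [Field F] [Fintype F] {n q : ℕ} (hF : Fintype.card F = q ^ 2)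
  {F₀ : Type*} [Field F₀] [Fintype F₀] {q₀ : ℕ} (hF₀ : Fintype.card F₀ = q₀ ^ 2)
  (ι : F₀ →+* F) (σ : F ≃+* F)

local notation "Mn" => Matrix (Fin n) (Fin n) F
local notation "Mn₀" => Matrix (Fin n) (Fin n) F₀

theorem map_inj (A B : Mn₀) (h : A.map ι = B.map ι) : A = B := by
  ext i j
  have := congrFun (congrFun h i) j
  exact ι.injective this

include hF hF₀ in
theorem emb_mem_GU_iff (hιq : ∀ x, (ι x) ^ q = ι (x ^ q₀)) (g₀ : GL (Fin n) F₀) :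
    Matrix.GeneralLinearGroup.map ι g₀ ∈ Cfsg.GU n F q ↔ g₀ ∈ Cfsg.GU n F₀ q₀ := by
  have hkey : ((g₀ : Mn₀).map (sigmaQ hF₀)).map ι = ((g₀ : Mn₀).map ι).map (sigmaQ hF) := by
    ext i j
    show ι (sigmaQ hF₀ ((g₀ : Mn₀) i j)) = sigmaQ hF (ι ((g₀ : Mn₀) i j))
    rw [sigmaQ_apply, sigmaQ_apply, hιq]
  have hcoe : ((Matrix.GeneralLinearGroup.map ι g₀ : GL (Fin n) F) : Mn) = (g₀ : Mn₀).map ι := rfl
  constructor
  · intro h
    have h1 := matrix_of_mem_GU (sigmaQ hF) (sigmaQ_apply hF) _ h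
    rw [hcoe, ← hkey] at h1
    apply mem_GU_of_matrix (sigmaQ hF₀) (sigmaQ_apply hF₀)
    apply map_inj ι
    rw [Matrix.map_mul, Matrix.map_one _ (map_zero _) (map_one _)]
    exact h1
  · intro h
    have h1 := matrix_of_mem_GU (sigmaQ hF₀) (sigmaQ_apply hF₀) _ h
    apply mem_GU_of_matrix (sigmaQ hF) (sigmaQ_apply hF)
    rw [hcoe, ← hkey]
    have h2 : ((g₀ : Mn₀)ᵀ * (g₀ : Mn₀).map (sigmaQ hF₀)).map ι = (1 : Mn₀).map ι := by rw [h1]
    rw [Matrix.map_mul, Matrix.map_one _ (map_zero _) (map_one _)] at h2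
    exact h2

/-- the embedding `GU_n(q₀) → CU_n(q)` -/
noncomputable def embU (hιq : ∀ x, (ι x) ^ q = ι (x ^ q₀)) : ↥(Cfsg.GU n F₀ q₀) →* ↥(CU n F q) :=
  ((Matrix.GeneralLinearGroup.map ι).comp (Cfsg.GU n F₀ q₀).subtype).codRestrict (CU n F q)
    (fun g => GU_le_CU ((emb_mem_GU_iff hF hF₀ ι hιq g.1).2 g.2))

theorem embU_val (hιq : ∀ x, (ι x) ^ q = ι (x ^ q₀)) (g : ↥(Cfsg.GU n F₀ q₀)) :
    ((embU hF hF₀ ι hιq g : ↥(CU n F q)) : GL (Fin n) F) = Matrix.GeneralLinearGroup.map ι g.1 := rfl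

/-- the homomorphism `GU_n(q₀) → Aut(PSU_n(q))` -/
noncomputable def ThetaF (hιq : ∀ x, (ι x) ^ q = ι (x ^ q₀)) :
    ↥(Cfsg.GU n F₀ q₀) →* MulAut (Cfsg.PSU n F q) :=
  (PhiU (F := F) (n := n) (q := q)).comp (embU hF hF₀ ι hιq)

theorem ThetaF_apply (hιq : ∀ x, (ι x) ^ q = ι (x ^ q₀)) (g : ↥(Cfsg.GU n F₀ q₀)) :
    ThetaF hF hF₀ ι hιq g = PhiU (embU hF hF₀ ι hιq g) := rfl

theorem emb_mem_scalars_iff' (hn : 0 < n) (g₀ : GL (Fin n) F₀) :
    Matrix.GeneralLinearGroup.map ι g₀ ∈ Cfsg.Geo.scalars (Fin n) F ↔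
      g₀ ∈ Cfsg.Geo.scalars (Fin n) F₀ := by
  rw [Cfsg.Geo.mem_scalars_iff, Cfsg.Geo.mem_scalars_iff]
  constructor
  · rintro ⟨c, hc⟩
    have hent : ∀ i j, ι ((g₀ : Mn₀) i j) = ((c : F) • (1 : Mn)) i j := by
      intro i j
      have := congrFun (congrFun hc i) j
      exact this
    have h00 : ι ((g₀ : Mn₀) ⟨0, hn⟩ ⟨0, hn⟩) = (c : F) := by
      rw [hent, Matrix.smul_apply, Matrix.one_apply_eq, smul_eq_mul, mul_one]
    have hne : (g₀ : Mn₀) ⟨0, hn⟩ ⟨0, hn⟩ ≠ 0 := by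
      intro h0
      rw [h0, map_zero] at h00
      exact c.ne_zero h00.symm
    refine ⟨Units.mk0 _ hne, ?_⟩
    ext i j
    apply ι.injective
    rw [hent, Units.val_mk0, Matrix.smul_apply, Matrix.smul_apply, smul_eq_mul, smul_eq_mul, map_mul,
      h00]
    by_cases hij : i = j
    · rw [hij, Matrix.one_apply_eq, Matrix.one_apply_eq, map_one]
    · rw [Matrix.one_apply_ne hij, Matrix.one_apply_ne hij, map_zero]
  · rintro ⟨c, hc⟩
    have hc0 : ι (c : F₀) ≠ 0 := by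
      rw [Ne, map_eq_zero_iff ι ι.injective]; exact c.ne_zero
    refine ⟨Units.mk0 _ hc0, ?_⟩
    ext i j
    show ι ((g₀ : Mn₀) i j) = _
    rw [hc, Units.val_mk0, Matrix.smul_apply, Matrix.smul_apply, smul_eq_mul, smul_eq_mul, map_mul]
    by_cases hij : i = j
    · rw [hij, Matrix.one_apply_eq, Matrix.one_apply_eq, map_one]
    · rw [Matrix.one_apply_ne hij, Matrix.one_apply_ne hij, map_zero]

include hF in
theorem ker_ThetaF (hn : 3 ≤ n) (h32 : ¬ (n = 3 ∧ q = 2)) (hιq : ∀ x, (ι x) ^ q = ι (x ^ q₀)) :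
    (ThetaF (n := n) hF hF₀ ι hιq).ker =
      (Cfsg.Geo.scalars (Fin n) F₀).subgroupOf (Cfsg.GU n F₀ q₀) := by
  ext g
  rw [MonoidHom.mem_ker, ThetaF_apply, PhiU_eq_one_iff hF hn h32, embU_val,
    emb_mem_scalars_iff' ι (by omega), Subgroup.mem_subgroupOf]

/-- the matrix identity of a similitude -/
theorem matrix_of_mem_CU (hn : 0 < n) (a : ↥(CU n F q)) :
    ∃ μ : Fˣ, ((a.1 : GL (Fin n) F) : Mn)ᵀ * sm (sigmaQ hF) ((a.1 : GL (Fin n) F) : Mn) =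
      (μ : F) • (1 : Mn) := by
  obtain ⟨κ, hκ⟩ := exists_scalar_mem_GU hF hn a
  have h1 := matrix_of_mem_GU (sigmaQ hF) (sigmaQ_apply hF) _ hκ
  rw [mul_scGL_coe] at h1
  have h2 : (((κ : F) • ((a.1 : GL (Fin n) F) : Mn))).map (sigmaQ hF) =
      sm (sigmaQ hF) ((κ : F) • ((a.1 : GL (Fin n) F) : Mn)) := rfl
  rw [h2, sm_smul, Matrix.transpose_smul, Matrix.smul_mul, Matrix.mul_smul, smul_smul] at h1
  let μ' : Fˣ := κ * Units.map ((sigmaQ hF : F ≃+* F) : F →* F) κ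
  refine ⟨μ'⁻¹, ?_⟩
  have h3 : (μ' : F) = (κ : F) * sigmaQ hF (κ : F) := rfl
  rw [← h3] at h1
  have h4 : ((μ'⁻¹ : Fˣ) : F) • ((μ' : F) • (((a.1 : GL (Fin n) F) : Mn)ᵀ *
      sm (sigmaQ hF) ((a.1 : GL (Fin n) F) : Mn))) = ((μ'⁻¹ : Fˣ) : F) • (1 : Mn) := by rw [h1]
  rw [smul_smul, ← Units.val_mul, inv_mul_cancel, Units.val_one, one_smul] at h4
  exact h4

include hF hF₀ in
/-- the range of `ThetaF` is `Inndiag ⊓ C(φ_σ)` -/
theorem range_ThetaF {p f : ℕ} (hp : p.Prime) (hq : q = p ^ f) (hf : 1 ≤ f) (hn : 3 ≤ n)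
    (h32 : ¬ (n = 3 ∧ q = 2)) {r : ℕ} (hσ : orderOf σ = r) (hodd : Odd r)
    (hι1 : ∀ x, σ (ι x) = ι x) (hι2 : ∀ a, σ a = a → ∃ x, ι x = a)
    (hιq : ∀ x, (ι x) ^ q = ι (x ^ q₀)) :
    (ThetaF (n := n) hF hF₀ ι hιq).range =
      (PhiU (F := F) (n := n) (q := q)).range ⊓ Subgroup.centralizer {fieldAutPSU σ} := by
  classical
  have hn0 : 0 < n := by omega
  have hr : 0 < r := hodd.pos
  ext β
  constructor
  · rintro ⟨g₀, rfl⟩
    refine Subgroup.mem_inf.2 ⟨⟨_, rfl⟩, ?_⟩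
    rw [ThetaF_apply, PhiU_mem_centralizer_iff σ hF hn h32 (isFieldAut_fieldAutPSU σ)]
    have h1 : ((sigmaCU σ (embU hF hF₀ ι hιq g₀) : ↥(CU n F q)) : GL (Fin n) F) =
        (embU hF hF₀ ι hιq g₀).1 := by
      apply Units.ext
      rw [sigmaCU_coe, embU_val]
      ext i j
      exact hι1 _
    rw [h1, inv_mul_cancel]
    exact Subgroup.one_mem _
  · intro hβ
    obtain ⟨⟨g, rfl⟩, hc⟩ := Subgroup.mem_inf.1 hβ
    rw [PhiU_mem_centralizer_iff σ hF hn h32 (isFieldAut_fieldAutPSU σ), Cfsg.Geo.mem_scalars_iff] at hc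
    obtain ⟨c, hc⟩ := hc
    set gM : Mn := ((g.1 : GL (Fin n) F) : Mn) with hgM
    -- `σ(g) = c⁻¹ g`
    have hrel : gM.map σ = ((c⁻¹ : Fˣ) : F) • gM := by
      rw [Units.val_mul] at hc
      have h1 : ((sigmaCU σ g : ↥(CU n F q)) : GL (Fin n) F).val *
          ((((sigmaCU σ g : ↥(CU n F q)) : GL (Fin n) F)⁻¹ : GL (Fin n) F).val * gM) =
          ((sigmaCU σ g : ↥(CU n F q)) : GL (Fin n) F).val * ((c : F) • (1 : Mn)) := by rw [hc]
      rw [← Matrix.mul_assoc, coe_mul_inv, Matrix.one_mul, Matrix.mul_smul, Matrix.mul_one,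
        sigmaCU_coe] at h1
      conv_rhs => rw [h1]
      rw [smul_smul, ← Units.val_mul, inv_mul_cancel, Units.val_one, one_smul]
    obtain ⟨m, hm⟩ := Cfsg.Agent.Helper40.FieldCent.exists_fixed_smul hn0 σ hr hσ g.1 c⁻¹ hrel
    -- the multiplier of `m • g`
    obtain ⟨μ, hμ⟩ := matrix_of_mem_CU hF hn0 g
    let μ₁ : Fˣ := m * Units.map ((sigmaQ hF : F ≃+* F) : F →* F) m * μ
    have hμ₁ : ((m : F) • gM)ᵀ * sm (sigmaQ hF) ((m : F) • gM) = (μ₁ : F) • (1 : Mn) := by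
      rw [Matrix.transpose_smul, sm_smul, Matrix.smul_mul, Matrix.mul_smul, hμ, smul_smul, smul_smul]
      rfl
    have hfixM : sm σ ((m : F) • gM) = (m : F) • gM := hm
    have hμ₁σ : σ (μ₁ : F) = (μ₁ : F) := by
      have h2 := congrArg (sm σ) hμ₁
      rw [sm_mul, sm_transpose, sm_comm σ (sigmaQ hF) (sigmaQ_comm hF σ), hfixM, hμ₁, sm_smul_one] at h2
      exact (smul_one_inj' hn0 h2).symm
    have hμ₁τ : sigmaQ hF (μ₁ : F) = (μ₁ : F) := by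
      have h1 : (sm (sigmaQ hF) ((m : F) • gM))ᵀ * ((m : F) • gM) = (μ₁ : F) • (1 : Mn) := by
        have := congrArg Matrix.transpose hμ₁
        rw [Matrix.transpose_mul, Matrix.transpose_transpose, Matrix.transpose_smul,
          Matrix.transpose_one] at this
        exact this
      have h2 := congrArg (sm (sigmaQ hF)) h1
      rw [sm_mul, ← sm_transpose, sm_sm_self (sigmaQ hF) (sigmaQ_sigmaQ hF), sm_smul_one] at h2
      rw [hμ₁] at h2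
      exact (smul_one_inj' hn0 h2).symm
    -- norm surjectivity inside the fixed field
    let τK := restrictFix σ (sigmaQ hF) (sigmaQ_sigmaQ hF) (sigmaQ_comm hF σ)
    have hτK2 : ∀ a : ↥(fixK σ), (τK : ↥(fixK σ) →+* ↥(fixK σ)) ((τK : ↥(fixK σ) →+* ↥(fixK σ)) a) = a :=
      fun a => Subtype.ext (sigmaQ_sigmaQ hF a.1)
    have hneK : ∃ z : ↥(fixK σ), (τK : ↥(fixK σ) →+* ↥(fixK σ)) z ≠ z := by
      obtain ⟨a, ha1, ha2⟩ := exists_fixed_moved hF hp hq hf σ hσ hodd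
      refine ⟨⟨a, ha1⟩, ?_⟩
      intro h
      exact ha2 (congrArg Subtype.val h)
    have hy : σ ((μ₁⁻¹ : Fˣ) : F) = ((μ₁⁻¹ : Fˣ) : F) := by
      rw [Units.val_inv_eq_inv_val, map_inv₀, hμ₁σ]
    let y : ↥(fixK σ) := ⟨((μ₁⁻¹ : Fˣ) : F), hy⟩
    have hyτ : (τK : ↥(fixK σ) →+* ↥(fixK σ)) y = y := by
      apply Subtype.ext
      show sigmaQ hF ((μ₁⁻¹ : Fˣ) : F) = ((μ₁⁻¹ : Fˣ) : F)
      rw [Units.val_inv_eq_inv_val, map_inv₀, hμ₁τ]
    have hy0 : y ≠ 0 := by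
      intro h0
      exact (μ₁⁻¹).ne_zero (congrArg Subtype.val h0)
    obtain ⟨κ, hκ⟩ := Cfsg.Agent.Helper40.Iso.exists_norm_eq
      (τK : ↥(fixK σ) →+* ↥(fixK σ)) hτK2 hneK y hyτ hy0
    have hκ' : (κ.1 : F) * sigmaQ hF κ.1 = ((μ₁⁻¹ : Fˣ) : F) := congrArg Subtype.val hκ
    have hκσ : σ κ.1 = κ.1 := κ.2
    have hκ0 : (κ.1 : F) ≠ 0 := by
      intro h0
      rw [h0, zero_mul] at hκ'
      exact (μ₁⁻¹).ne_zero hκ'.symm
    -- the unitary, `σ`-fixed matrix `g₂ = κ m g`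
    set g₂ : Mn := (κ.1 * (m : F)) • gM with hg₂
    have hg₂σ : sm σ g₂ = g₂ := by
      rw [hg₂, mul_smul, sm_smul, hfixM, hκσ]
    have hg₂U : g₂ᵀ * sm (sigmaQ hF) g₂ = 1 := by
      rw [hg₂, mul_smul, Matrix.transpose_smul, sm_smul, Matrix.smul_mul, Matrix.mul_smul, hμ₁,
        smul_smul, smul_smul, hκ', ← Units.val_mul, inv_mul_cancel,
        Units.val_one, one_smul]
    -- descend to `F₀`
    choose G₀ hG₀ using fun i j => hι2 (g₂ i j) (congrFun (congrFun hg₂σ i) j)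
    have hG₀map : (Matrix.of G₀ : Mn₀).map ι = g₂ := by
      ext i j
      exact hG₀ i j
    have hg₂det : g₂.det ≠ 0 := by
      intro h0
      have := congrArg Matrix.det hg₂U
      rw [Matrix.det_mul, Matrix.det_transpose, h0, zero_mul, Matrix.det_one] at this
      exact zero_ne_one this
    have hG₀det : (Matrix.of G₀ : Mn₀).det ≠ 0 := by
      intro h0
      have h1 : ι (Matrix.of G₀ : Mn₀).det = ((Matrix.of G₀ : Mn₀).map ι).det := RingHom.map_det _ _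
      rw [h0, map_zero, hG₀map] at h1
      exact hg₂det h1.symm
    let g₀ : GL (Fin n) F₀ := Matrix.GeneralLinearGroup.mkOfDetNeZero (Matrix.of G₀) hG₀det
    have hg₀coe : ((Matrix.GeneralLinearGroup.map ι g₀ : GL (Fin n) F) : Mn) = g₂ := hG₀map
    have hg₀GU' : Matrix.GeneralLinearGroup.map ι g₀ ∈ Cfsg.GU n F q := by
      apply mem_GU_of_matrix (sigmaQ hF) (sigmaQ_apply hF)
      rw [hg₀coe]
      exact hg₂U
    have hg₀GU : g₀ ∈ Cfsg.GU n F₀ q₀ := (emb_mem_GU_iff hF hF₀ ι hιq g₀).1 hg₀GU'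
    refine ⟨⟨g₀, hg₀GU⟩, ?_⟩
    rw [ThetaF_apply, PhiU_eq_iff hF hn h32, embU_val, Cfsg.Geo.mem_scalars_iff]
    have hkm0 : κ.1 * (m : F) ≠ 0 := mul_ne_zero hκ0 m.ne_zero
    refine ⟨(Units.mk0 _ hkm0)⁻¹, ?_⟩
    have h5 : Matrix.GeneralLinearGroup.map ι g₀ = g.1 * scGL n (Units.mk0 _ hkm0) := by
      apply Units.ext
      rw [hg₀coe, mul_scGL_coe]
      rfl
    rw [h5, _root_.mul_inv_rev, inv_mul_cancel_right]
    have h6 : (PSUAut.scGL n (Units.mk0 _ hkm0) : GL (Fin n) F)⁻¹ =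
        PSUAut.scGL n (Units.mk0 _ hkm0)⁻¹ := by
      unfold PSUAut.scGL
      rw [map_inv]
    rw [h6]
    exact PSUAut.scGL_coe _

include hF hF₀ in
/-- `Inndiag ⊓ C(φ_σ) ≃* PGU_n(q₀)` -/
theorem cent_equiv_pguF {p f : ℕ} (hp : p.Prime) (hq : q = p ^ f) (hf : 1 ≤ f) (hn : 3 ≤ n)
    (h32 : ¬ (n = 3 ∧ q = 2)) {r : ℕ} (hσ : orderOf σ = r) (hodd : Odd r)
    (hι1 : ∀ x, σ (ι x) = ι x) (hι2 : ∀ a, σ a = a → ∃ x, ι x = a)
    (hιq : ∀ x, (ι x) ^ q = ι (x ^ q₀)) :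
    Nonempty (↥((PhiU (F := F) (n := n) (q := q)).range ⊓ Subgroup.centralizer {fieldAutPSU σ}) ≃*
      Cfsg.PGU n F₀ q₀) := by
  have e1 := QuotientGroup.quotientKerEquivRange (ThetaF (n := n) hF hF₀ ι hιq)
  have e2 : ↥(Cfsg.GU n F₀ q₀) ⧸ (ThetaF (n := n) hF hF₀ ι hιq).ker ≃*
      ↥(Cfsg.GU n F₀ q₀) ⧸ (Cfsg.Geo.scalars (Fin n) F₀).subgroupOf (Cfsg.GU n F₀ q₀) :=
    QuotientGroup.quotientMulEquivOfEq (ker_ThetaF hF hF₀ ι hn h32 hιq)
  have e3 := MulEquiv.subgroupCongr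
    (range_ThetaF (n := n) hF hF₀ ι σ hp hq hf hn h32 hσ hodd hι1 hι2 hιq)
  exact ⟨(e3.symm.trans e1.symm).trans e2⟩

end Cfsg.Agent.Helper40.AutPSU
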