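import Mathlib
import Cfsg.Agent.Lib.Helper40.AutPSUFieldCent
import Cfsg.Agent.Lib.Helper40.AutPSUCard
import Cfsg.Agent.Lib.Helper40.AutPSLFieldCount
import Cfsg.Agent.Lib.Helper40.SplitCount
import Cfsg.Agent.Lib.Helper40.CyclicIndex

/-!
# `PSU_n(q)`: the `Inndiag`-class of a standard field automorphism of odd order splits into
`gcd(n, (q+1)/(q₀+1))` classes under the inner automorphisms
-/

set_option autoImplicit false
set_option linter.unusedSectionVars false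
set_option linter.unusedSimpArgs false
set_option linter.unusedVariables false

namespace Cfsg.Agent.Helper40.AutPSU

open Matrix Cfsg.Agent.Helper13.PSLAut Cfsg.Agent.Helper5 Cfsg.Agent.Helper5.PSUAut
  Cfsg.Agent.Helper5.PSUGr Cfsg.Agent.Helper40.H90 Cfsg.Agent.Helper40.AutPSLNorm
  Cfsg.Agent.Helper40.FixK Cfsg.Agent.Helper40.LangU Cfsg.Agent.Helper40.SplitCount

theorem inn_conj_mem' {G : Type*} [Group G] (β k : MulAut G) (hk : k ∈ Cfsg.Inn G) :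
    β * k * β⁻¹ ∈ Cfsg.Inn G := by
  obtain ⟨x, rfl⟩ := hk
  refine ⟨β x, ?_⟩
  apply MulEquiv.ext
  intro y
  show β x * y * (β x)⁻¹ = β (x * (β⁻¹ y) * x⁻¹)
  rw [map_mul, map_mul, map_inv]
  congr 2
  show y = β (β.symm y)
  rw [MulEquiv.apply_symm_apply]

variable {F : Type*} [Field F] {n q : ℕ}

local notation "Mn" => Matrix (Fin n) (Fin n) F

/-- `SU → CU` -/
def toCU (s : ↥(Cfsg.SU n F q)) : ↥(CU n F q) :=
  ⟨Matrix.SpecialLinearGroup.toGL s.1, GU_le_CU s.2⟩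

theorem toCU_mem_GU (s : ↥(Cfsg.SU n F q)) : (toCU s).1 ∈ Cfsg.GU n F q := s.2

theorem PhiU_toCU (s : ↥(Cfsg.SU n F q)) :
    PhiU (toCU s) = MulAut.conj (QuotientGroup.mk s : Cfsg.PSU n F q) := by
  apply MulEquiv.ext
  intro x
  induction x using QuotientGroup.induction_on with
  | H t =>
    rw [PhiU_mk, MulAut.conj_apply, ← QuotientGroup.mk_inv, ← QuotientGroup.mk_mul,
      ← QuotientGroup.mk_mul]
    have h1 : conjSU (toCU s) t = s * t * s⁻¹ := by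
      apply Subtype.ext
      rw [conjSU_coe]
      show conjSL (Matrix.SpecialLinearGroup.toGL s.1) t.1 = s.1 * t.1 * (s.1)⁻¹
      exact Cfsg.Agent.Helper40.OutPSL.conjSL_toGL s.1 t.1
    rw [h1]

theorem inn_le_range_U : Cfsg.Inn (Cfsg.PSU n F q) ≤ (PhiU (F := F) (n := n) (q := q)).range := by
  rintro _ ⟨x, rfl⟩
  induction x using QuotientGroup.induction_on with
  | H s => exact ⟨toCU s, PhiU_toCU s⟩

theorem mem_inn_iff_U (β : MulAut (Cfsg.PSU n F q)) :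
    β ∈ Cfsg.Inn (Cfsg.PSU n F q) ↔ ∃ s : ↥(Cfsg.SU n F q), β = PhiU (toCU s) := by
  constructor
  · rintro ⟨x, rfl⟩
    induction x using QuotientGroup.induction_on with
    | H s => exact ⟨s, (PhiU_toCU s).symm⟩
  · rintro ⟨s, rfl⟩
    exact ⟨QuotientGroup.mk s, (PhiU_toCU s).symm⟩

/-- the norm-one group -/
def U1 (F : Type*) [Field F] (q : ℕ) : Subgroup Fˣ := (powMonoidHom (q + 1) : Fˣ →* Fˣ).ker

theorem mem_U1 (u : Fˣ) : u ∈ U1 F q ↔ u ^ (q + 1) = 1 := by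
  unfold U1
  rw [MonoidHom.mem_ker, powMonoidHom_apply]

section Fin

variable [Fintype F] (hF : Fintype.card F = q ^ 2)

/-- the determinant `GU → U₁` -/
noncomputable def guDet' : ↥(Cfsg.GU n F q) →* ↥(U1 F q) :=
  (Cfsg.Agent.Lead.guDet n F q).codRestrict (U1 F q) (fun g => by
    rw [mem_U1]
    apply Units.ext
    rw [Units.val_pow_eq_pow_val, Cfsg.Agent.Lead.guDet_val, Cfsg.Agent.Lead.GU_det_pow hF g.1 g.2,
      Units.val_one])

theorem guDet'_coe (g : ↥(Cfsg.GU n F q)) :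
    (((guDet' hF g : ↥(U1 F q)) : Fˣ) : F) = ((g.1 : GL (Fin n) F) : Mn).det := rfl

theorem guDet'_val (g : ↥(Cfsg.GU n F q)) :
    ((guDet' hF g : ↥(U1 F q)) : Fˣ) = Matrix.GeneralLinearGroup.det (g.1 : GL (Fin n) F) := rfl

theorem guDet'_surjective (hn : 1 ≤ n) : Function.Surjective (guDet' (n := n) hF) := by
  intro u
  have hu : (u.1 : Fˣ) ^ (q + 1) = 1 := (mem_U1 u.1).1 u.2
  obtain ⟨g, hg⟩ := (Cfsg.Agent.Lead.guDet_range hF hn u.1).2 hu
  exact ⟨g, Subtype.ext hg⟩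

/-- the `σ`-fixed elements of `U₁` -/
def Xsub (σ : F ≃+* F) (q : ℕ) : Subgroup ↥(U1 F q) where
  carrier := {u | σ ((u.1 : Fˣ) : F) = ((u.1 : Fˣ) : F)}
  mul_mem' {a b} ha hb := by
    show σ (((a * b : ↥(U1 F q)).1 : Fˣ) : F) = _
    have : (((a * b : ↥(U1 F q)).1 : Fˣ) : F) = ((a.1 : Fˣ) : F) * ((b.1 : Fˣ) : F) := rfl
    rw [this, map_mul, ha, hb]
  one_mem' := by
    show σ (1 : F) = 1
    exact map_one σ
  inv_mem' {a} ha := by
    show σ (((a⁻¹ : ↥(U1 F q)).1 : Fˣ) : F) = _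
    have : (((a⁻¹ : ↥(U1 F q)).1 : Fˣ) : F) = (((a.1 : Fˣ) : F))⁻¹ := by
      show (((a.1)⁻¹ : Fˣ) : F) = _
      exact Units.val_inv_eq_inv_val _
    rw [this, map_inv₀, ha]

theorem mem_Xsub (σ : F ≃+* F) (u : ↥(U1 F q)) :
    u ∈ Xsub σ q ↔ σ ((u.1 : Fˣ) : F) = ((u.1 : Fˣ) : F) := Iff.rfl

/-- the subgroup `U₁(K) U₁(F)^n` of `U₁(F)` -/
def BU (σ : F ≃+* F) (q n : ℕ) : Subgroup ↥(U1 F q) :=
  Xsub σ q ⊔ (powMonoidHom n : ↥(U1 F q) →* ↥(U1 F q)).range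

theorem det_scGL_U (z : Fˣ) : Matrix.GeneralLinearGroup.det (PSUAut.scGL n z) = z ^ n := by
  apply Units.ext
  show ((PSUAut.scGL n z : GL (Fin n) F) : Mn).det = ((z ^ n : Fˣ) : F)
  rw [PSUAut.scGL_coe, Matrix.det_smul, Matrix.det_one, mul_one, Fintype.card_fin,
    Units.val_pow_eq_pow_val]

variable {F₀ : Type*} [Field F₀] [Fintype F₀] {q₀ : ℕ} (hF₀ : Fintype.card F₀ = q₀ ^ 2)
  (ι : F₀ →+* F) (σ : F ≃+* F)

theorem pow_eq_one_descend (hιq : ∀ x, (ι x) ^ q = ι (x ^ q₀)) (x : F₀)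
    (hx : (ι x) ^ (q + 1) = 1) : x ^ (q₀ + 1) = 1 := by
  apply ι.injective
  rw [map_pow, pow_succ, ← map_pow, ← hιq, ← pow_succ, hx, map_one]

include hF hF₀ in
/-- membership in `Inn · C_{Inndiag}(φ_σ)` is detected by the determinant -/
theorem mem_MSub_iff_det_U {p f : ℕ} (hp : p.Prime) (hq : q = p ^ f) (hf : 1 ≤ f) (hn : 3 ≤ n)
    (h32 : ¬ (n = 3 ∧ q = 2)) {r : ℕ} (hσ : orderOf σ = r) (hodd : Odd r)
    (hι1 : ∀ x, σ (ι x) = ι x) (hι2 : ∀ a, σ a = a → ∃ x, ι x = a)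
    (hιq : ∀ x, (ι x) ^ q = ι (x ^ q₀)) (g : ↥(Cfsg.GU n F q)) :
    PsiU g ∈ MSub (PhiU (F := F) (n := n) (q := q)).range (Cfsg.Inn (Cfsg.PSU n F q))
        (fieldAutPSU σ) ↔ guDet' hF g ∈ BU σ q n := by
  classical
  have hn0 : 0 < n := by omega
  have hrange := range_ThetaF (n := n) hF hF₀ ι σ hp hq hf hn h32 hσ hodd hι1 hι2 hιq
  constructor
  · intro hg
    rw [mem_MSub_iff _ _ inn_le_range_U (fun h _ k hk => inn_conj_mem' h k hk)] at hg
    obtain ⟨k, hk, c, hc, hcx, hgk⟩ := hg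
    obtain ⟨s, rfl⟩ := (mem_inn_iff_U k).1 hk
    have hc' : c ∈ (ThetaF (n := n) hF hF₀ ι hιq).range := by
      rw [hrange]
      refine Subgroup.mem_inf.2 ⟨hc, ?_⟩
      rw [Subgroup.mem_centralizer_iff]
      intro y hy
      rw [Set.mem_singleton_iff.1 hy]
      exact hcx.symm
    obtain ⟨g₀, rfl⟩ := hc'
    rw [ThetaF_apply, ← map_mul, PsiU_apply, PhiU_eq_iff hF hn h32, Cfsg.Geo.mem_scalars_iff] at hgk
    obtain ⟨z, hz⟩ := hgk
    have h1 : (g.1 : GL (Fin n) F)⁻¹ * (Matrix.SpecialLinearGroup.toGL s.1 *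
        Matrix.GeneralLinearGroup.map ι g₀.1) = PSUAut.scGL n z := by
      apply Units.ext
      rw [PSUAut.scGL_coe]
      exact hz
    have hembGU : Matrix.GeneralLinearGroup.map ι g₀.1 ∈ Cfsg.GU n F q :=
      (emb_mem_GU_iff hF hF₀ ι hιq g₀.1).2 g₀.2
    -- the scalar is unitary
    have hzGU : PSUAut.scGL n z ∈ Cfsg.GU n F q := by
      rw [← h1]
      exact Subgroup.mul_mem _ (Subgroup.inv_mem _ g.2)
        (Subgroup.mul_mem _ (toCU_mem_GU s) hembGU)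
    have hz1 : z ^ (q + 1) = 1 :=
      pow_eq_one_of_smul_mem_GU hn0 _ hzGU z (PSUAut.scGL_coe z)
    have h2 : (g.1 : GL (Fin n) F) = Matrix.SpecialLinearGroup.toGL s.1 *
        Matrix.GeneralLinearGroup.map ι g₀.1 * (PSUAut.scGL n z)⁻¹ := by
      rw [← h1]; group
    -- determinants
    have hdet : ((guDet' hF g : ↥(U1 F q)) : Fˣ) =
        Units.map (ι : F₀ →* F) (Matrix.GeneralLinearGroup.det g₀.1) * (z ^ n)⁻¹ := by
      rw [guDet'_val, h2, map_mul, map_mul, map_inv, det_scGL_U,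
        Cfsg.Agent.Helper40.FieldCent.det_toGL, one_mul]
      congr 1
      exact Matrix.GeneralLinearGroup.map_det _ g₀.1
    let u : ↥(U1 F q) := ⟨Units.map (ι : F₀ →* F) (Matrix.GeneralLinearGroup.det g₀.1), by
      rw [mem_U1]
      apply Units.ext
      rw [Units.val_pow_eq_pow_val, Units.val_one]
      have h3 : ((Units.map (ι : F₀ →* F) (Matrix.GeneralLinearGroup.det g₀.1) : Fˣ) : F) =
          ((Matrix.GeneralLinearGroup.map ι g₀.1 : GL (Fin n) F) : Mn).det := by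
        have := congrArg (fun t : Fˣ => (t : F)) (Matrix.GeneralLinearGroup.map_det ι g₀.1)
        exact this.symm
      rw [h3]
      exact Cfsg.Agent.Lead.GU_det_pow hF _ hembGU⟩
    let w : ↥(U1 F q) := ⟨z, (mem_U1 z).2 hz1⟩
    have hguw : guDet' hF g = u * (w ^ n)⁻¹ := by
      apply Subtype.ext
      rw [hdet]
      rfl
    rw [hguw]
    unfold BU
    refine Subgroup.mul_mem _ (Subgroup.mem_sup_left ?_) (Subgroup.mem_sup_right ?_)
    · rw [mem_Xsub]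
      show σ (ι ((Matrix.GeneralLinearGroup.det g₀.1 : F₀ˣ) : F₀)) = _
      exact hι1 _
    · exact Subgroup.inv_mem _ ⟨w, rfl⟩
  · intro hg
    unfold BU at hg
    obtain ⟨u, hu, v, ⟨w, rfl⟩, huv⟩ := Subgroup.mem_sup.1 hg
    rw [powMonoidHom_apply] at huv
    rw [mem_Xsub] at hu
    obtain ⟨u₀, hu₀⟩ := hι2 _ hu
    have hu1 : (ι u₀) ^ (q + 1) = 1 := by
      rw [hu₀, ← Units.val_pow_eq_pow_val, (mem_U1 u.1).1 u.2, Units.val_one]
    have hu₀1 : u₀ ^ (q₀ + 1) = 1 := pow_eq_one_descend ι hιq u₀ hu1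
    have hu₀0 : u₀ ≠ 0 := by
      intro h0
      rw [h0, zero_pow (by omega)] at hu₀1
      exact zero_ne_one hu₀1
    let u₀' : F₀ˣ := Units.mk0 u₀ hu₀0
    let g₀ : GL (Fin n) F₀ := Cfsg.Agent.Helper40.OutPSL.dg1 hn0 u₀'
    have hg₀GU : g₀ ∈ Cfsg.GU n F₀ q₀ := by
      apply Cfsg.Agent.Lead.diag_mem_GU (fun i : Fin n => if i = ⟨0, hn0⟩ then (u₀' : F₀) else 1)
      · intro i
        by_cases hi : i = ⟨0, hn0⟩
        · simp only [hi, if_true]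
          exact hu₀1
        · simp only [hi, if_false, one_pow]
      · exact Cfsg.Agent.Helper40.OutPSL.dg1_coe hn0 u₀'
    let g₀U : ↥(Cfsg.GU n F₀ q₀) := ⟨g₀, hg₀GU⟩
    have hembGU : Matrix.GeneralLinearGroup.map ι g₀ ∈ Cfsg.GU n F q :=
      (emb_mem_GU_iff hF hF₀ ι hιq g₀).2 hg₀GU
    have hw1 : (w.1 : Fˣ) ^ (q + 1) = 1 := (mem_U1 w.1).1 w.2
    have hscGU : PSUAut.scGL n (w.1 : Fˣ) ∈ Cfsg.GU n F q := scGL_mem_GU _ hw1
    let g' : GL (Fin n) F := g.1 * (Matrix.GeneralLinearGroup.map ι g₀)⁻¹ * (PSUAut.scGL n (w.1 : Fˣ))⁻¹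
    have hg'GU : g' ∈ Cfsg.GU n F q :=
      Subgroup.mul_mem _ (Subgroup.mul_mem _ g.2 (Subgroup.inv_mem _ hembGU))
        (Subgroup.inv_mem _ hscGU)
    have hdetemb : Matrix.GeneralLinearGroup.det (Matrix.GeneralLinearGroup.map ι g₀) = u.1 := by
      rw [Matrix.GeneralLinearGroup.map_det, Cfsg.Agent.Helper40.FieldCent.det_dg1']
      apply Units.ext
      show ι u₀ = _
      exact hu₀
    have hdet : Matrix.GeneralLinearGroup.det g' = 1 := by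
      show Matrix.GeneralLinearGroup.det
        (g.1 * (Matrix.GeneralLinearGroup.map ι g₀)⁻¹ * (PSUAut.scGL n (w.1 : Fˣ))⁻¹) = 1
      rw [map_mul, map_mul, map_inv, map_inv, det_scGL_U, hdetemb, ← guDet'_val hF g, ← huv]
      show (u.1 : Fˣ) * ((w ^ n : ↥(U1 F q)) : Fˣ) * (u.1 : Fˣ)⁻¹ * ((w.1 : Fˣ) ^ n)⁻¹ = 1
      have : ((w ^ n : ↥(U1 F q)) : Fˣ) = (w.1 : Fˣ) ^ n := rfl
      rw [this, mul_comm (u.1 : Fˣ) ((w.1 : Fˣ) ^ n), mul_assoc ((w.1 : Fˣ) ^ n), mul_inv_cancel,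
        mul_one, mul_inv_cancel]
    have hdet' : (g' : Mn).det = 1 := congrArg (fun t : Fˣ => (t : F)) hdet
    let s : ↥(Cfsg.SU n F q) := ⟨⟨(g' : Mn), hdet'⟩, hg'GU⟩
    have hs : (toCU s).1 = g' := Units.ext rfl
    have h3 : (g.1 : GL (Fin n) F) = g' * PSUAut.scGL n (w.1 : Fˣ) *
        Matrix.GeneralLinearGroup.map ι g₀ := by
      show (g.1 : GL (Fin n) F) = g.1 * (Matrix.GeneralLinearGroup.map ι g₀)⁻¹ *
        (PSUAut.scGL n (w.1 : Fˣ))⁻¹ * PSUAut.scGL n (w.1 : Fˣ) * Matrix.GeneralLinearGroup.map ι g₀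
      group
    have h4 : PsiU g = PhiU (toCU s) * PhiU (embU hF hF₀ ι hιq g₀U) := by
      rw [PsiU_apply, ← map_mul, PhiU_eq_iff hF hn h32, Cfsg.Geo.mem_scalars_iff]
      refine ⟨(w.1 : Fˣ)⁻¹, ?_⟩
      show (((g.1 : GL (Fin n) F)⁻¹ * ((toCU s).1 * (embU hF hF₀ ι hιq g₀U).1) : GL (Fin n) F) : Mn) = _
      rw [hs, embU_val]
      have h5 : (g.1 : GL (Fin n) F)⁻¹ * (g' * Matrix.GeneralLinearGroup.map ι g₀) =
          PSUAut.scGL n ((w.1 : Fˣ)⁻¹) := by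
        conv_lhs => rw [h3]
        have hcomm := scGL_comm (Matrix.GeneralLinearGroup.map ι g₀) (w.1 : Fˣ)
        have h6 : (PSUAut.scGL n (w.1 : Fˣ) : GL (Fin n) F)⁻¹ = PSUAut.scGL n (w.1 : Fˣ)⁻¹ := by
          unfold PSUAut.scGL
          rw [map_inv]
        rw [← h6]
        calc (g' * PSUAut.scGL n (w.1 : Fˣ) * Matrix.GeneralLinearGroup.map ι g₀)⁻¹ *
            (g' * Matrix.GeneralLinearGroup.map ι g₀)
            = (Matrix.GeneralLinearGroup.map ι g₀)⁻¹ * (PSUAut.scGL n (w.1 : Fˣ))⁻¹ *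
              Matrix.GeneralLinearGroup.map ι g₀ := by group
          _ = (PSUAut.scGL n (w.1 : Fˣ) * Matrix.GeneralLinearGroup.map ι g₀)⁻¹ *
              Matrix.GeneralLinearGroup.map ι g₀ := by group
          _ = (Matrix.GeneralLinearGroup.map ι g₀ * PSUAut.scGL n (w.1 : Fˣ))⁻¹ *
              Matrix.GeneralLinearGroup.map ι g₀ := by rw [hcomm]
          _ = (PSUAut.scGL n (w.1 : Fˣ))⁻¹ := by group
      rw [h5, PSUAut.scGL_coe]
    rw [h4]
    unfold MSub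
    refine Subgroup.mul_mem _ (Subgroup.mem_sup_left ?_) (Subgroup.mem_sup_right ?_)
    · rw [mem_inn_iff_U]
      exact ⟨s, rfl⟩
    · rw [← hrange]
      exact ⟨g₀U, rfl⟩

include hF hF₀ in
/-- the splitting number as an index in `U₁` -/
theorem splitCount_eq_index_U {p f : ℕ} (hp : p.Prime) (hq : q = p ^ f) (hf : 1 ≤ f) (hn : 3 ≤ n)
    (h32 : ¬ (n = 3 ∧ q = 2)) {r : ℕ} (hσ : orderOf σ = r) (hodd : Odd r)
    (hι1 : ∀ x, σ (ι x) = ι x) (hι2 : ∀ a, σ a = a → ∃ x, ι x = a)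
    (hιq : ∀ x, (ι x) ^ q = ι (x ^ q₀)) :
    Cfsg.splitClassCount (PhiU (F := F) (n := n) (q := q)).range (Cfsg.Inn (Cfsg.PSU n F q))
        (fieldAutPSU σ) = (BU σ q n).index := by
  rw [splitClassCount_eq _ _ inn_le_range_U (fun h _ k hk => inn_conj_mem' h k hk)]
  have h1 : (MSub (PhiU (F := F) (n := n) (q := q)).range (Cfsg.Inn (Cfsg.PSU n F q))
      (fieldAutPSU σ)).comap PsiU = (BU σ q n).comap (guDet' (n := n) hF) := by
    ext g
    rw [Subgroup.mem_comap, Subgroup.mem_comap]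
    exact mem_MSub_iff_det_U hF hF₀ ι σ hp hq hf hn h32 hσ hodd hι1 hι2 hιq g
  rw [← Subgroup.index_comap_of_surjective (BU σ q n) (guDet'_surjective hF (by omega : 1 ≤ n)),
    ← h1, Subgroup.index_comap, range_PsiU hF hn h32]

end Fin

end Cfsg.Agent.Helper40.AutPSU
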