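import Mathlib
import Cfsg.Agent.Lib.Helper40.AutPSUFieldCount

/-!
# Field automorphisms of odd prime order of `PSU_n(q)`: centralizer in `Inndiag` and splitting
-/

set_option autoImplicit false
set_option linter.unusedSectionVars false
set_option linter.unusedSimpArgs false
set_option linter.unusedVariables false

namespace Cfsg.Agent.Helper40.AutPSU

open Matrix Cfsg.Agent.Helper13.PSLAut Cfsg.Agent.Helper5 Cfsg.Agent.Helper5.PSUAut
  Cfsg.Agent.Helper5.PSUGr Cfsg.Agent.Helper40.H90 Cfsg.Agent.Helper40.AutPSLNorm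
  Cfsg.Agent.Helper40.FixK Cfsg.Agent.Helper40.LangU Cfsg.Agent.Helper40.SplitCount

variable {F : Type*} [Field F] [Fintype F] {n q : ℕ} (hF : Fintype.card F = q ^ 2)
  {F₀ : Type*} [Field F₀] [Fintype F₀] {q₀ : ℕ} (hF₀ : Fintype.card F₀ = q₀ ^ 2)
  (ι : F₀ →+* F) (σ : F ≃+* F)

include hF in
theorem card_U1 : Nat.card ↥(U1 F q) = q + 1 := by
  rw [← Cfsg.Agent.Lead.card_norm_one_units hF]
  exact Nat.card_congr (Equiv.subtypeEquivRight (fun l => mem_U1 l))

include hF₀ in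
theorem card_Xsub (hι1 : ∀ x, σ (ι x) = ι x) (hι2 : ∀ a, σ a = a → ∃ x, ι x = a)
    (hιq : ∀ x, (ι x) ^ q = ι (x ^ q₀)) : Nat.card ↥(Xsub σ q) = q₀ + 1 := by
  rw [← Cfsg.Agent.Lead.card_norm_one_units hF₀]
  symm
  let f : {l : F₀ˣ // l ^ (q₀ + 1) = 1} → ↥(Xsub σ q) := fun l =>
    ⟨⟨Units.map (ι : F₀ →* F) l.1, by
      rw [mem_U1]
      apply Units.ext
      rw [Units.val_pow_eq_pow_val, Units.val_one]
      show (ι (l.1 : F₀)) ^ (q + 1) = 1
      rw [pow_succ, hιq, ← map_mul, ← pow_succ, ← Units.val_pow_eq_pow_val, l.2, Units.val_one,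
        map_one]⟩, by
      rw [mem_Xsub]
      exact hι1 _⟩
  apply Nat.card_congr (Equiv.ofBijective f ⟨?_, ?_⟩)
  · intro l m hlm
    have h1 : ι (l.1 : F₀) = ι (m.1 : F₀) :=
      congrArg (fun t : ↥(Xsub σ q) => (((t.1 : ↥(U1 F q)).1 : Fˣ) : F)) hlm
    exact Subtype.ext (Units.ext (ι.injective h1))
  · intro u
    obtain ⟨x, hx⟩ := hι2 _ ((mem_Xsub σ u.1).1 u.2)
    have hx1 : (ι x) ^ (q + 1) = 1 := by
      rw [hx, ← Units.val_pow_eq_pow_val, (mem_U1 u.1.1).1 u.1.2, Units.val_one]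
    have hx2 : x ^ (q₀ + 1) = 1 := pow_eq_one_descend ι hιq x hx1
    have hx0 : x ≠ 0 := by
      intro h0
      rw [h0, zero_pow (by omega)] at hx2
      exact zero_ne_one hx2
    refine ⟨⟨Units.mk0 x hx0, by
      apply Units.ext
      rw [Units.val_pow_eq_pow_val, Units.val_one]
      exact hx2⟩, ?_⟩
    apply Subtype.ext
    apply Subtype.ext
    apply Units.ext
    exact hx

include hF hF₀ in
/-- the index of `U₁(K) U₁(F)^n` in `U₁(F)` -/
theorem index_BU (hι1 : ∀ x, σ (ι x) = ι x) (hι2 : ∀ a, σ a = a → ∃ x, ι x = a)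
    (hιq : ∀ x, (ι x) ^ q = ι (x ^ q₀)) (n : ℕ) :
    (BU σ q n).index = Nat.gcd n ((q + 1) / (q₀ + 1)) := by
  classical
  unfold BU
  have : Finite ↥(U1 F q) := inferInstance
  rw [CycIdx.index_sup, IsCyclic.index_powMonoidHom_range, card_U1 hF]
  have h1 := (Xsub σ q).card_mul_index
  rw [card_Xsub hF₀ ι σ hι1 hι2 hιq, card_U1 hF] at h1
  have h2 : (Xsub σ q).index = (q + 1) / (q₀ + 1) := by
    rw [← h1, Nat.mul_div_cancel_left _ (by omega : 0 < q₀ + 1)]
  rw [h2]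
  have h3 : (q + 1) / (q₀ + 1) ∣ q + 1 := Nat.div_dvd_of_dvd ⟨_, h1.symm⟩
  rw [← Nat.gcd_assoc, Nat.gcd_eq_left h3, Nat.gcd_comm]

theorem pow_pow_odd {E : Type*} [Monoid E] (a : E) (m : ℕ) (ha : a ^ (m ^ 2) = a) (k : ℕ) :
    a ^ (m ^ (2 * k + 1)) = a ^ m := by
  induction k with
  | zero => simp
  | succ k ih =>
    have h1 : m ^ (2 * (k + 1) + 1) = m ^ 2 * m ^ (2 * k + 1) := by
      rw [← pow_add]; congr 1; ring
    rw [h1, pow_mul, ha, ih]

include hF in
theorem field_main_U {p f : ℕ} [Fact p.Prime] (hq : q = p ^ f) (hf : 1 ≤ f) (hn : 3 ≤ n)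
    (h32 : ¬ (n = 3 ∧ q = 2)) (hS : StructU n F q) (x : MulAut (Cfsg.PSU n F q))
    (hx : Cfsg.IsFieldAutClassPSU x) {r : ℕ} (hr : r.Prime) (hro : Odd r) (hxr : orderOf x = r)
    (F₀ : Type*) [Field F₀] [Fintype F₀] (hF₀ : Fintype.card F₀ = p ^ (2 * (f / r))) :
    r ∣ f ∧ Nonempty (↥(Cfsg.inndiagPSU n F q ⊓ Subgroup.centralizer {x}) ≃*
        Cfsg.PGU n F₀ (p ^ (f / r))) ∧
      Cfsg.splitClassCount (Cfsg.inndiagPSU n F q) (Cfsg.Inn (Cfsg.PSU n F q)) x =
        Nat.gcd n ((q + 1) / (p ^ (f / r) + 1)) := by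
  classical
  have hp : p.Prime := Fact.out
  obtain ⟨α, φ, σ, hσ1, hσodd, hφ, hαx⟩ := hx
  have hφ' : φ = fieldAutPSU σ := eq_fieldAutPSU hφ
  have hx₀ : α * x * α⁻¹ = fieldAutPSU σ := by rw [hαx, hφ']
  have hσr : orderOf σ = r := by
    rw [← orderOf_fieldAutPSU (n := n) hF hn h32 σ, ← hx₀, ← hxr]
    exact orderOf_injective (MulAut.conj α).toMonoidHom (MulAut.conj α).injective x
  have hr0 : 0 < r := hr.pos
  have hF' : Fintype.card F = p ^ (2 * f) := by
    rw [hF, hq, ← pow_mul, mul_comm]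
  obtain ⟨hr2f, hK⟩ := card_fixK σ hp hF' hσr hr0
  have hrf : r ∣ f := by
    have hco : Nat.Coprime r 2 := Nat.coprime_two_right.2 hro
    exact hco.dvd_of_dvd_mul_left hr2f
  have hdiv : 2 * f / r = 2 * (f / r) := Nat.mul_div_assoc 2 hrf
  rw [hdiv] at hK
  have hF₀' : Fintype.card F₀ = (p ^ (f / r)) ^ 2 := by
    rw [hF₀, ← pow_mul, mul_comm]
  have hqq₀ : q = (p ^ (f / r)) ^ r := by
    rw [hq, ← pow_mul, Nat.div_mul_cancel hrf]
  -- the embedding of `F₀` onto the fixed field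
  have : Fintype (fixK σ) := Fintype.ofFinite _
  have hcardK : Fintype.card (fixK σ) = Fintype.card F₀ := by
    rw [hF₀, ← hK, Nat.card_eq_fintype_card]
  let e : (fixK σ) ≃+* F₀ := FiniteField.ringEquivOfCardEq hcardK
  let ι : F₀ →+* F := (fixK σ).subtype.comp (e.symm : F₀ →+* ↥(fixK σ))
  have hι1 : ∀ x, σ (ι x) = ι x := fun x => (e.symm x).2
  have hι2 : ∀ a, σ a = a → ∃ x, ι x = a := by
    intro a ha
    refine ⟨e ⟨a, ha⟩, ?_⟩
    show ((e.symm (e ⟨a, ha⟩) : ↥(fixK σ)) : F) = a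
    rw [RingEquiv.symm_apply_apply]
  have hιq : ∀ x, (ι x) ^ q = ι (x ^ (p ^ (f / r))) := by
    intro x
    have h1 : (e.symm x) ^ ((p ^ (f / r)) ^ 2) = e.symm x := by
      have h2 := FiniteField.pow_card (e.symm x)
      rw [hcardK, hF₀'] at h2
      exact h2
    obtain ⟨k, hk⟩ := hro
    have h3 := pow_pow_odd (e.symm x) (p ^ (f / r)) h1 k
    rw [← hk, ← hqq₀] at h3
    have h4 := congrArg (fun t : ↥(fixK σ) => (t : F)) h3
    simp only [SubmonoidClass.coe_pow] at h4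
    rw [map_pow]
    exact h4
  have hD : (Cfsg.inndiagPSU n F q).Normal := inndiag_normal hF hn h32 hS
  refine ⟨hrf, ?_, ?_⟩
  · have e1 := Cfsg.Agent.Helper40.FieldCent.conjInfCentEquiv (Cfsg.inndiagPSU n F q) α x
    have heq : Cfsg.inndiagPSU n F q ⊓ Subgroup.centralizer {α * x * α⁻¹} =
        (PhiU (F := F) (n := n) (q := q)).range ⊓ Subgroup.centralizer {fieldAutPSU σ} := by
      rw [hx₀, inndiagPSU_eq_range hF hn h32]
    have e2 := MulEquiv.subgroupCongr heq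
    obtain ⟨e3⟩ := cent_equiv_pguF (n := n) hF hF₀' ι σ hp hq hf hn h32 hσr hro hι1 hι2 hιq
    exact ⟨(e1.trans e2).trans e3⟩
  · have h1 : Cfsg.splitClassCount (Cfsg.inndiagPSU n F q) (Cfsg.Inn (Cfsg.PSU n F q))
        (α * x * α⁻¹) =
        Cfsg.splitClassCount (Cfsg.inndiagPSU n F q) (Cfsg.Inn (Cfsg.PSU n F q)) x := by
      apply splitClassCount_conj
      · intro h
        constructor
        · intro hh
          exact hD.conj_mem h hh α
        · intro hh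
          have := hD.conj_mem _ hh α⁻¹
          rw [inv_inv] at this
          have h2 : α⁻¹ * (α * h * α⁻¹) * α = h := by group
          rw [h2] at this
          exact this
      · intro k
        constructor
        · intro hk
          exact inn_conj_mem' α k hk
        · intro hk
          have := inn_conj_mem' α⁻¹ _ hk
          rw [inv_inv] at this
          have h2 : α⁻¹ * (α * k * α⁻¹) * α = k := by group
          rw [h2] at this
          exact this
    rw [← h1, hx₀, inndiagPSU_eq_range hF hn h32,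
      splitCount_eq_index_U (n := n) hF hF₀' ι σ hp hq hf hn h32 hσr hro hι1 hι2 hιq,
      index_BU hF hF₀' ι σ hι1 hι2 hιq n]

end Cfsg.Agent.Helper40.AutPSU
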