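import Mathlib
import Cfsg.Agent.Lib.Helper40.AutPSUFieldMain

/-!
# `Out(PSU_n(q))`: cyclic of order `2f` over a cyclic group of order `gcd(n, q+1)`
(from the structure hypothesis)
-/

set_option autoImplicit false
set_option linter.unusedSectionVars false
set_option linter.unusedSimpArgs false
set_option linter.unusedVariables false

namespace Cfsg.Agent.Helper40.AutPSU

open Matrix Cfsg.Agent.Helper13.PSLAut Cfsg.Agent.Helper5 Cfsg.Agent.Helper5.PSUAut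
  Cfsg.Agent.Helper5.PSUGr Cfsg.Agent.Helper40.OutPSL

variable {F : Type*} [Field F] [Fintype F] {n q : ℕ} (hF : Fintype.card F = q ^ 2)

local notation "Mn" => Matrix (Fin n) (Fin n) F

theorem dg1_mem_GU (hn : 0 < n) (u : Fˣ) (hu : u ^ (q + 1) = 1) : dg1 hn u ∈ Cfsg.GU n F q := by
  apply Cfsg.Agent.Lead.diag_mem_GU (fun i : Fin n => if i = ⟨0, hn⟩ then (u : F) else 1)
  · intro i
    by_cases hi : i = ⟨0, hn⟩
    · simp only [hi, if_true]
      rw [← Units.val_pow_eq_pow_val, hu, Units.val_one]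
    · simp only [hi, if_false, one_pow]
  · exact dg1_coe hn u

/-- `diag(u, 1, …, 1)` as a homomorphism `U₁ → GU` -/
noncomputable def dgU (hn : 0 < n) : ↥(U1 F q) →* ↥(Cfsg.GU n F q) :=
  ((dg1 (F := F) (n := n) hn).comp (U1 F q).subtype).codRestrict (Cfsg.GU n F q)
    (fun u => dg1_mem_GU hn u.1 ((mem_U1 u.1).1 u.2))

theorem dgU_val (hn : 0 < n) (u : ↥(U1 F q)) :
    ((dgU (n := n) hn u : ↥(Cfsg.GU n F q)) : GL (Fin n) F) = dg1 hn u.1 := rfl

/-- `SU → GU` -/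
def toGU (s : ↥(Cfsg.SU n F q)) : ↥(Cfsg.GU n F q) :=
  ⟨Matrix.SpecialLinearGroup.toGL s.1, s.2⟩

theorem PsiU_toGU (s : ↥(Cfsg.SU n F q)) : PsiU (toGU s) = PhiU (toCU s) := rfl

include hF in
/-- every `g ∈ GU_n` is `diag(det g, 1, …, 1)` times an element of `SU_n` -/
theorem exists_dgU_mul (hn : 0 < n) (g : ↥(Cfsg.GU n F q)) :
    ∃ (a : ↥(U1 F q)) (s : ↥(Cfsg.SU n F q)), g = dgU hn a * toGU s := by
  let a : ↥(U1 F q) := guDet' hF g
  let M : ↥(Cfsg.GU n F q) := (dgU hn a)⁻¹ * g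
  have hdet : ((M.1 : GL (Fin n) F) : Mn).det = 1 := by
    have h1 : dgU hn a * M = g := by
      show dgU hn a * ((dgU hn a)⁻¹ * g) = g
      group
    have h2 : (((dgU hn a).1 : GL (Fin n) F) : Mn).det * ((M.1 : GL (Fin n) F) : Mn).det =
        ((g.1 : GL (Fin n) F) : Mn).det := by
      rw [← Matrix.det_mul, ← Units.val_mul, ← Subgroup.coe_mul, h1]
    rw [dgU_val, det_dg1] at h2
    have ha : ((a.1 : Fˣ) : F) = ((g.1 : GL (Fin n) F) : Mn).det := guDet'_coe hF g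
    rw [← ha] at h2
    have ha0 : ((a.1 : Fˣ) : F) ≠ 0 := (a.1).ne_zero
    exact mul_left_cancel₀ ha0 (by rw [h2, mul_one])
  refine ⟨a, ⟨⟨((M.1 : GL (Fin n) F) : Mn), hdet⟩, M.2⟩, ?_⟩
  have h3 : toGU (⟨⟨((M.1 : GL (Fin n) F) : Mn), hdet⟩, M.2⟩ : ↥(Cfsg.SU n F q)) = M :=
    Subtype.ext (Units.ext rfl)
  rw [h3]
  show g = dgU hn a * ((dgU hn a)⁻¹ * g)
  group

/-- the diagonal outer automorphisms -/
noncomputable def psiHomU (hn : 0 < n) : ↥(U1 F q) →* Cfsg.Out (Cfsg.PSU n F q) :=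
  (QuotientGroup.mk' (Cfsg.Inn (Cfsg.PSU n F q))).comp
    ((PsiU (F := F) (n := n) (q := q)).comp (dgU hn))

theorem psiHomU_apply (hn : 0 < n) (a : ↥(U1 F q)) :
    psiHomU (n := n) hn a = (QuotientGroup.mk (PsiU (dgU hn a)) : Cfsg.Out (Cfsg.PSU n F q)) := rfl

include hF in
theorem psiHomU_ker (hn : 3 ≤ n) (h32 : ¬ (n = 3 ∧ q = 2)) :
    (psiHomU (F := F) (n := n) (q := q) (by omega)).ker =
      (powMonoidHom n : ↥(U1 F q) →* ↥(U1 F q)).range := by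
  have hn0 : 0 < n := by omega
  ext a
  rw [MonoidHom.mem_ker, psiHomU_apply, QuotientGroup.eq_one_iff, mem_inn_iff_U]
  constructor
  · rintro ⟨s, hs⟩
    rw [PsiU_apply, PhiU_eq_iff hF hn h32, Cfsg.Geo.mem_scalars_iff] at hs
    obtain ⟨c, hc⟩ := hs
    have hsc : (dg1 hn0 a.1 : GL (Fin n) F)⁻¹ * Matrix.SpecialLinearGroup.toGL s.1 =
        PSUAut.scGL n c := by
      apply Units.ext
      rw [PSUAut.scGL_coe]
      exact hc
    have hcGU : PSUAut.scGL n c ∈ Cfsg.GU n F q := by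
      rw [← hsc]
      exact Subgroup.mul_mem _ (Subgroup.inv_mem _ (dgU hn0 a).2) s.2
    have hc1 : c ^ (q + 1) = 1 := pow_eq_one_of_smul_mem_GU hn0 _ hcGU c (PSUAut.scGL_coe c)
    have h1 : Matrix.SpecialLinearGroup.toGL s.1 = dg1 hn0 a.1 * PSUAut.scGL n c := by
      rw [← hsc]; group
    have h3 : (1 : Fˣ) = a.1 * c ^ n := by
      have h4 := congrArg Matrix.GeneralLinearGroup.det h1
      rw [map_mul, det_scGL_U, Cfsg.Agent.Helper40.FieldCent.det_toGL,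
        Cfsg.Agent.Helper40.FieldCent.det_dg1'] at h4
      exact h4
    let cu : ↥(U1 F q) := ⟨c, (mem_U1 c).2 hc1⟩
    refine ⟨cu⁻¹, ?_⟩
    rw [powMonoidHom_apply]
    apply Subtype.ext
    show ((c⁻¹ : Fˣ)) ^ n = a.1
    rw [inv_pow, inv_eq_iff_eq_inv, eq_inv_iff_mul_eq_one, mul_comm]
    exact h3.symm
  · rintro ⟨b, rfl⟩
    rw [powMonoidHom_apply]
    have hb1 : (b.1 : Fˣ) ^ (q + 1) = 1 := (mem_U1 b.1).1 b.2
    have hb1' : ((b.1 : Fˣ)⁻¹) ^ (q + 1) = 1 := by rw [inv_pow, hb1, inv_one]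
    let M : GL (Fin n) F := dg1 hn0 ((b ^ n : ↥(U1 F q)).1) * PSUAut.scGL n ((b.1 : Fˣ)⁻¹)
    have hMGU : M ∈ Cfsg.GU n F q :=
      Subgroup.mul_mem _ (dgU hn0 (b ^ n)).2 (scGL_mem_GU _ hb1')
    have hMdet : Matrix.GeneralLinearGroup.det M = 1 := by
      show Matrix.GeneralLinearGroup.det
        (dg1 hn0 ((b ^ n : ↥(U1 F q)).1) * PSUAut.scGL n ((b.1 : Fˣ)⁻¹)) = 1
      rw [map_mul, det_scGL_U, Cfsg.Agent.Helper40.FieldCent.det_dg1']
      show (b.1 : Fˣ) ^ n * ((b.1 : Fˣ)⁻¹) ^ n = 1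
      rw [← mul_pow, mul_inv_cancel, one_pow]
    have hMdet' : (M : Mn).det = 1 := congrArg (fun t : Fˣ => (t : F)) hMdet
    let s : ↥(Cfsg.SU n F q) := ⟨⟨(M : Mn), hMdet'⟩, hMGU⟩
    refine ⟨s, ?_⟩
    rw [PsiU_apply, PhiU_eq_iff hF hn h32]
    show (dg1 hn0 ((b ^ n : ↥(U1 F q)).1) : GL (Fin n) F)⁻¹ * (toCU s).1 ∈ _
    have hs : (toCU s).1 = M := Units.ext rfl
    rw [hs]
    show (dg1 hn0 ((b ^ n : ↥(U1 F q)).1) : GL (Fin n) F)⁻¹ *
      (dg1 hn0 ((b ^ n : ↥(U1 F q)).1) * PSUAut.scGL n ((b.1 : Fˣ)⁻¹)) ∈ _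
    rw [inv_mul_cancel_left]
    exact scGL_mem _

include hF in
/-- S2603 from the structure hypothesis -/
theorem out_structure_U {p f : ℕ} [Fact p.Prime] (hf : 1 ≤ f) (hq : q = p ^ f) (hn : 3 ≤ n)
    (h32 : ¬ (n = 3 ∧ q = 2)) (hS : StructU n F q) :
    ∃ φ : Cfsg.Out (Cfsg.PSU n F q) →* Multiplicative (ZMod (2 * f)),
      Function.Surjective φ ∧ IsCyclic φ.ker ∧ Nat.card φ.ker = Nat.gcd n (q + 1) := by
  classical
  have hn0 : 0 < n := by omega
  have hF' : Fintype.card F = p ^ (2 * f) := by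
    rw [hF, hq, ← pow_mul, mul_comm]
  have hcp : CharP F p := charP_of_card_eq_prime_pow hF'
  obtain ⟨θ, hθs, hθk⟩ := exists_thetaU hF hn h32 hS
  obtain ⟨e1⟩ := Cfsg.Agent.Helper41.exists_ringAut_equiv_zmod (F := F) p (2 * f) (by omega) hF'
  let θ' : MulAut (Cfsg.PSU n F q) →* Multiplicative (ZMod (2 * f)) := e1.toMonoidHom.comp θ
  have hθ's : Function.Surjective θ' := e1.surjective.comp hθs
  have hθ'k : θ'.ker = (PhiU (F := F) (n := n) (q := q)).range := by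
    rw [← hθk]
    ext β
    rw [MonoidHom.mem_ker, MonoidHom.mem_ker]
    show e1 (θ β) = 1 ↔ θ β = 1
    exact MulEquiv.map_eq_one_iff e1
  have hle : Cfsg.Inn (Cfsg.PSU n F q) ≤ θ'.ker := by
    rw [hθ'k]; exact inn_le_range_U
  let φ : Cfsg.Out (Cfsg.PSU n F q) →* Multiplicative (ZMod (2 * f)) :=
    QuotientGroup.lift (Cfsg.Inn (Cfsg.PSU n F q)) θ' hle
  have hφs : Function.Surjective φ := by
    intro y
    obtain ⟨β, rfl⟩ := hθ's y
    exact ⟨QuotientGroup.mk β, rfl⟩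
  have hker : φ.ker = (psiHomU (F := F) (n := n) (q := q) hn0).range := by
    ext x
    induction x using QuotientGroup.induction_on with
    | H β =>
      rw [MonoidHom.mem_ker]
      show θ' β = 1 ↔ _
      rw [← MonoidHom.mem_ker, hθ'k, ← range_PsiU hF hn h32]
      constructor
      · rintro ⟨g, rfl⟩
        obtain ⟨a, s, rfl⟩ := exists_dgU_mul hF hn0 g
        refine ⟨a, ?_⟩
        rw [psiHomU_apply, map_mul, QuotientGroup.mk_mul,
          (QuotientGroup.eq_one_iff (PsiU (toGU s))).2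
            ((mem_inn_iff_U _).2 ⟨s, PsiU_toGU s⟩), mul_one]
      · rintro ⟨a, ha⟩
        rw [psiHomU_apply] at ha
        have h1 := QuotientGroup.eq.1 ha
        obtain ⟨s, hs⟩ := (mem_inn_iff_U _).1 h1
        refine ⟨dgU hn0 a * toGU s, ?_⟩
        rw [map_mul, PsiU_toGU, ← hs]
        group
  refine ⟨φ, hφs, ?_, ?_⟩
  · rw [hker]
    exact isCyclic_of_surjective (psiHomU (F := F) (n := n) (q := q) hn0).rangeRestrict
      (psiHomU (F := F) (n := n) (q := q) hn0).rangeRestrict_surjective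
  · rw [hker, ← Subgroup.index_ker, psiHomU_ker hF hn h32, IsCyclic.index_powMonoidHom_range,
      card_U1 hF, Nat.gcd_comm]

end Cfsg.Agent.Helper40.AutPSU
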