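import Mathlib
import Cfsg.Agent.Lib.Helper40.AutPSpBasic
import Cfsg.Agent.Lib.Helper5.SpAut4

/-!
# `Aut(PSp_{2m}(F))`: assembling the structure theorem from its parts

Given: every automorphism permutes the transvection groups `Tb v`; two of them commute iff the vectors
are orthogonal; `PhiSp G * fieldAutPSp σ` maps `Tb v` to `Tb (G σ(v))`; rigidity; the fundamental
theorem of projective geometry; and semilinear maps preserving orthogonality come from `GSp`.
Then every automorphism is `PhiSp G * fieldAutPSp σ`.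
-/

set_option autoImplicit false
set_option linter.unusedSectionVars false
set_option linter.unusedSimpArgs false
set_option linter.unusedVariables false

namespace Cfsg.Agent.Helper40.AutPSp

open Matrix Cfsg Cfsg.Agent.Helper13 Cfsg.Agent.Helper84.SpRoot Cfsg.Agent.Helper5
  Cfsg.Agent.Helper5.SpAut

variable {F : Type*} [Field F] {m : ℕ}

local notation "Vm" => (Fin m ⊕ Fin m → F)

/-- the perp-perp criterion for membership in the span of two vectors -/
theorem mem_span_pair_iff_perp (u w x : Vm) :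
    x ∈ Submodule.span F {u, w} ↔
      ∀ y : Vm, sympForm m F y u = 0 → sympForm m F y w = 0 → sympForm m F y x = 0 := by
  constructor
  · intro hx y hu hw
    obtain ⟨a, b, rfl⟩ := Submodule.mem_span_pair.1 hx
    rw [sympForm_add_right, sympForm_smul_right, sympForm_smul_right, hu, hw, mul_zero, mul_zero,
      add_zero]
  · intro h
    by_contra hx
    obtain ⟨ℓ, hℓx, hℓ⟩ := Submodule.exists_dual_map_eq_bot_of_notMem hx inferInstance
    have hℓu : ℓ u = 0 := by
      have : ℓ u ∈ (Submodule.span F {u, w}).map ℓ :=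
        ⟨u, Submodule.subset_span (by simp), rfl⟩
      rw [hℓ] at this
      exact this
    have hℓw : ℓ w = 0 := by
      have : ℓ w ∈ (Submodule.span F {u, w}).map ℓ :=
        ⟨w, Submodule.subset_span (by simp), rfl⟩
      rw [hℓ] at this
      exact this
    -- `ℓ = f(y, ·)` for `y = J c`
    let c : Vm := fun i => ℓ (Pi.single i 1)
    have hℓc : ∀ v : Vm, ℓ v = v ⬝ᵥ c := by
      intro v
      have h1 := LinearMap.pi_apply_eq_sum_univ ℓ v
      rw [h1]
      unfold dotProduct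
      apply Finset.sum_congr rfl
      intro i _
      rw [smul_eq_mul]
      congr 2
      funext j
      simp [Pi.single_apply, eq_comm]
    have hy : ∀ v : Vm, sympForm m F (Matrix.J (Fin m) F *ᵥ c) v = ℓ v := by
      intro v
      unfold sympForm
      rw [J_mulVec_dotProduct_comm, J_mulVec_J_mulVec, neg_dotProduct, neg_neg, hℓc]
    apply hℓx
    rw [← hy]
    exact h _ (by rw [hy, hℓu]) (by rw [hy, hℓw])

theorem Tb_smul {a : F} (ha : a ≠ 0) (v : Vm) : Tb (a • v) = Tb v := by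
  unfold Tb
  rw [T_smul ha]

/-- the parts of the proof of the structure theorem -/
structure Parts (m : ℕ) (F : Type*) [Field F] : Prop where
  perm : ∀ (α : MulAut (PSp m F)) (v : Fin m ⊕ Fin m → F), v ≠ 0 →
    ∃ w : Fin m ⊕ Fin m → F, w ≠ 0 ∧ (Tb v).map α.toMonoidHom = Tb w
  comm_iff : ∀ u v : Fin m ⊕ Fin m → F, u ≠ 0 → v ≠ 0 →
    ((∀ a ∈ Tb u, ∀ b ∈ Tb v, a * b = b * a) ↔ sympForm m F u v = 0)
  map_Tb : ∀ (G : ↥(GSp m F)) (σ : F ≃+* F) (v : Fin m ⊕ Fin m → F),
    (Tb v).map (PhiSp G * fieldAutPSp σ : MulAut (PSp m F)).toMonoidHom =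
      Tb ((G.1 : Matrix (Fin m ⊕ Fin m) (Fin m ⊕ Fin m) F) *ᵥ (σ ∘ v))
  rigid : ∀ β : MulAut (PSp m F),
    (∀ v : Fin m ⊕ Fin m → F, v ≠ 0 → (Tb v).map β.toMonoidHom = Tb v) → β = 1
  semi : ∀ (σ : F ≃+* F) (g : (Fin m ⊕ Fin m → F) → (Fin m ⊕ Fin m → F)),
    (∀ x y, g (x + y) = g x + g y) → (∀ (a : F) x, g (a • x) = σ a • g x) → Function.Injective g →
    (∀ x y, sympForm m F x y = 0 → sympForm m F (g x) (g y) = 0) →
    ∃ G : ↥(GSp m F), ∀ x, g x = (G.1 : Matrix (Fin m ⊕ Fin m) (Fin m ⊕ Fin m) F) *ᵥ (σ ∘ x)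
  ftpg : ∀ Φ : (Fin m ⊕ Fin m → F) → (Fin m ⊕ Fin m → F), (∀ v, v ≠ 0 → Φ v ≠ 0) →
    (∀ u w x : Fin m ⊕ Fin m → F, u ≠ 0 → w ≠ 0 → x ≠ 0 → x ∈ Submodule.span F {u, w} →
      Φ x ∈ Submodule.span F {Φ u, Φ w}) →
    (∀ u w x : Fin m ⊕ Fin m → F, u ≠ 0 → w ≠ 0 → x ≠ 0 → Φ x ∈ Submodule.span F {Φ u, Φ w} →
      x ∈ Submodule.span F {u, w}) →
    ∃ (σ : F →+* F) (L : (Fin m ⊕ Fin m → F) →+ (Fin m ⊕ Fin m → F)),
      (∀ (a : F) (v : Fin m ⊕ Fin m → F), L (a • v) = σ a • L v) ∧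
      ∀ v, v ≠ 0 → ∃ b : F, b ≠ 0 ∧ Φ v = b • L v

/-- commuting of subgroups is transported by an automorphism -/
theorem comm_map_iff {H : Type*} [Group H] (α : H ≃* H) (A B : Subgroup H) :
    (∀ a ∈ A.map α.toMonoidHom, ∀ b ∈ B.map α.toMonoidHom, a * b = b * a) ↔
      (∀ a ∈ A, ∀ b ∈ B, a * b = b * a) := by
  constructor
  · intro h a ha b hb
    have h1 := h (α a) ⟨a, ha, rfl⟩ (α b) ⟨b, hb, rfl⟩
    rw [← map_mul, ← map_mul] at h1
    exact α.injective h1
  · rintro h _ ⟨a, ha, rfl⟩ _ ⟨b, hb, rfl⟩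
    show α a * α b = α b * α a
    rw [← map_mul, ← map_mul, h a ha b hb]

/-- equal transvection groups have proportional vectors -/
theorem prop_of_Tb_eq (P : Parts m F) {u w : Vm} (hu : u ≠ 0) (hw : w ≠ 0) (h : Tb u = Tb w) :
    ∃ c : F, c ≠ 0 ∧ u = c • w := by
  have h1 : u ∈ Submodule.span F {w, w} := by
    rw [mem_span_pair_iff_perp]
    intro y hyw _
    by_cases hy : y = 0
    · rw [hy, sympForm_zero_left]
    · rw [← P.comm_iff y u hy hu, h, P.comm_iff y w hy hw]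
      exact hyw
  obtain ⟨a, b, hab⟩ := Submodule.mem_span_pair.1 h1
  refine ⟨a + b, ?_, ?_⟩
  · intro h0
    apply hu
    rw [← hab, ← add_smul, h0, zero_smul]
  · rw [← hab, add_smul]

/-- the structure theorem from its parts -/
theorem struct_of_parts [Finite F] (hm : 2 ≤ m) (P : Parts m F) : StructSp m F := by
  classical
  intro α
  -- the map on vectors
  let Φ : Vm → Vm := fun v => if h : v = 0 then 0 else Classical.choose (P.perm α v h)
  have hΦ0 : ∀ v : Vm, v ≠ 0 → Φ v ≠ 0 := by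
    intro v hv
    show (if h : v = 0 then (0 : Vm) else Classical.choose (P.perm α v h)) ≠ 0
    rw [dif_neg hv]
    exact (Classical.choose_spec (P.perm α v hv)).1
  have hΦT : ∀ v : Vm, v ≠ 0 → (Tb v).map α.toMonoidHom = Tb (Φ v) := by
    intro v hv
    show _ = Tb (if h : v = 0 then (0 : Vm) else Classical.choose (P.perm α v h))
    rw [dif_neg hv]
    exact (Classical.choose_spec (P.perm α v hv)).2
  -- orthogonality
  have horth : ∀ u v : Vm, u ≠ 0 → v ≠ 0 →
      (sympForm m F u v = 0 ↔ sympForm m F (Φ u) (Φ v) = 0) := by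
    intro u v hu hv
    rw [← P.comm_iff u v hu hv, ← P.comm_iff (Φ u) (Φ v) (hΦ0 u hu) (hΦ0 v hv), ← hΦT u hu,
      ← hΦT v hv, comm_map_iff]
  -- surjectivity on points
  have hsurj : ∀ y' : Vm, y' ≠ 0 → ∃ y : Vm, y ≠ 0 ∧ ∃ c : F, c ≠ 0 ∧ Φ y = c • y' := by
    intro y' hy'
    obtain ⟨y, hy, hyT⟩ := P.perm α⁻¹ y' hy'
    refine ⟨y, hy, ?_⟩
    have h1 : (Tb y).map α.toMonoidHom = Tb y' := by
      rw [← hyT, Subgroup.map_map]
      have h2 : α.toMonoidHom.comp (α⁻¹ : MulAut (PSp m F)).toMonoidHom = MonoidHom.id _ := by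
        ext x
        show α (α⁻¹ x) = x
        rw [← MulAut.mul_apply, mul_inv_cancel, MulAut.one_apply]
      rw [h2, Subgroup.map_id]
    rw [hΦT y hy] at h1
    exact prop_of_Tb_eq P (hΦ0 y hy) hy' h1
  -- collinearity
  have hcol : ∀ u w x : Vm, u ≠ 0 → w ≠ 0 → x ≠ 0 → x ∈ Submodule.span F {u, w} →
      Φ x ∈ Submodule.span F {Φ u, Φ w} := by
    intro u w x hu hw hx hxs
    rw [mem_span_pair_iff_perp] at hxs ⊢
    intro y' hy'u hy'w
    by_cases hy' : y' = 0
    · rw [hy', sympForm_zero_left]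
    · obtain ⟨y, hy, c, hc, hyc⟩ := hsurj y' hy'
      have h1 : sympForm m F y u = 0 := by
        rw [horth y u hy hu, hyc, sympForm_smul_left, hy'u, mul_zero]
      have h2 : sympForm m F y w = 0 := by
        rw [horth y w hy hw, hyc, sympForm_smul_left, hy'w, mul_zero]
      have h3 := (horth y x hy hx).1 (hxs y h1 h2)
      rw [hyc, sympForm_smul_left] at h3
      rcases mul_eq_zero.1 h3 with h4 | h4
      · exact absurd h4 hc
      · exact h4
  have hcol' : ∀ u w x : Vm, u ≠ 0 → w ≠ 0 → x ≠ 0 → Φ x ∈ Submodule.span F {Φ u, Φ w} →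
      x ∈ Submodule.span F {u, w} := by
    intro u w x hu hw hx hxs
    rw [mem_span_pair_iff_perp] at hxs ⊢
    intro y hyu hyw
    by_cases hy : y = 0
    · rw [hy, sympForm_zero_left]
    · rw [horth y x hy hx]
      exact hxs (Φ y) ((horth y u hy hu).1 hyu) ((horth y w hy hw).1 hyw)
  obtain ⟨σ₀, L, hLs, hLΦ⟩ := P.ftpg Φ hΦ0 hcol hcol'
  -- `σ₀` is bijective
  have hσbij : Function.Bijective σ₀ := Finite.injective_iff_bijective.1 σ₀.injective
  let σ : F ≃+* F := RingEquiv.ofBijective σ₀ hσbij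
  have hσ : ∀ a, σ a = σ₀ a := fun a => rfl
  -- `L` is injective
  have hLinj : Function.Injective L := by
    rw [injective_iff_map_eq_zero]
    intro v hv
    by_contra hv0
    obtain ⟨b, hb, hbv⟩ := hLΦ v hv0
    rw [hv, smul_zero] at hbv
    exact hΦ0 v hv0 hbv
  have hLorth : ∀ x y : Vm, sympForm m F x y = 0 → sympForm m F (L x) (L y) = 0 := by
    intro x y hxy
    by_cases hx : x = 0
    · rw [hx, map_zero, sympForm_zero_left]
    by_cases hy : y = 0
    · rw [hy, map_zero, sympForm_zero_right]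
    obtain ⟨b, hb, hbx⟩ := hLΦ x hx
    obtain ⟨b', hb', hby⟩ := hLΦ y hy
    have h1 := (horth x y hx hy).1 hxy
    rw [hbx, hby, sympForm_smul_left, sympForm_smul_right] at h1
    rcases mul_eq_zero.1 h1 with h2 | h2
    · exact absurd h2 hb
    · rcases mul_eq_zero.1 h2 with h3 | h3
      · exact absurd h3 hb'
      · exact h3
  obtain ⟨G, hG⟩ := P.semi σ L (fun x y => map_add L x y) (fun a x => hLs a x) hLinj hLorth
  refine ⟨G, σ, ?_⟩
  set γ : MulAut (PSp m F) := PhiSp G * fieldAutPSp σ with hγ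
  -- `γ⁻¹ α` fixes all transvection groups
  have hfix : ∀ v : Vm, v ≠ 0 → (Tb v).map (γ⁻¹ * α : MulAut (PSp m F)).toMonoidHom = Tb v := by
    intro v hv
    obtain ⟨b, hb, hbv⟩ := hLΦ v hv
    have h1 : (Tb v).map γ.toMonoidHom = Tb (Φ v) := by
      rw [hγ, P.map_Tb G σ v, ← hG, hbv, Tb_smul hb]
    have h2 : (γ⁻¹ * α : MulAut (PSp m F)).toMonoidHom =
        (γ⁻¹ : MulAut (PSp m F)).toMonoidHom.comp α.toMonoidHom := rfl
    rw [h2, ← Subgroup.map_map, hΦT v hv, ← h1, Subgroup.map_map]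
    have h3 : (γ⁻¹ : MulAut (PSp m F)).toMonoidHom.comp γ.toMonoidHom = MonoidHom.id _ := by
      ext x
      show γ⁻¹ (γ x) = x
      rw [← MulAut.mul_apply, inv_mul_cancel, MulAut.one_apply]
    rw [h3, Subgroup.map_id]
  have h4 := P.rigid _ hfix
  exact (inv_mul_eq_one.1 h4).symm

end Cfsg.Agent.Helper40.AutPSp
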