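import Mathlib

set_option autoImplicit false

namespace Cfsg.Agent.Helper40.Par

open Module

variable {K V : Type*} [Field K] [Finite K] [AddCommGroup V] [Module K V] [FiniteDimensional K V]

/-- linearly independent families subordinate to a chain of subspaces -/
def ChainFam (W : ℕ → Submodule K V) (k : ℕ) : Type _ :=
  {s : Fin k → V // LinearIndependent K s ∧ ∀ j : Fin k, s j ∈ W j}

/-- peeling off the last vector -/
noncomputable def chainEquiv (W : ℕ → Submodule K V) (k : ℕ) :
    ChainFam W (k + 1) ≃
      Σ s : ChainFam W k, {v : V // v ∈ W k ∧ v ∉ Submodule.span K (Set.range s.1)} where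
  toFun s := ⟨⟨Fin.init s.1, by
      have h := s.2.1
      rw [← Fin.snoc_init_self s.1, linearIndependent_finSnoc] at h
      exact h.1, fun j => by
      have := s.2.2 j.castSucc
      simpa [Fin.init] using this⟩, ⟨s.1 (Fin.last k), by
      have := s.2.2 (Fin.last k)
      simpa using this, by
      have h := s.2.1
      rw [← Fin.snoc_init_self s.1, linearIndependent_finSnoc] at h
      exact h.2⟩⟩
  invFun p := ⟨Fin.snoc p.1.1 p.2.1, linearIndependent_finSnoc.mpr ⟨p.1.2.1, p.2.2.2⟩, fun j => by
      refine Fin.lastCases ?_ (fun i => ?_) j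
      · simpa using p.2.2.1
      · simpa using p.1.2.2 i⟩
  left_inv s := by
    apply Subtype.ext
    simp
  right_inv p := by
    obtain ⟨⟨s, hs⟩, ⟨v, hv⟩⟩ := p
    have h1 : Fin.init (Fin.snoc s v : Fin (k + 1) → V) = s := Fin.init_snoc _ _
    refine Sigma.ext (Subtype.ext h1) ?_
    refine (Subtype.heq_iff_coe_eq ?_).mpr (by simp)
    intro x
    simp only [h1]

theorem card_fiber (W : Submodule K V) (U : Submodule K V) (hUW : U ≤ W) :
    Nat.card {v : V // v ∈ W ∧ v ∉ U} = Nat.card K ^ finrank K W - Nat.card K ^ finrank K U := by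
  classical
  have : Finite V := Module.finite_of_finite K
  have h1 : Nat.card {v : V // v ∈ W ∧ v ∉ U} = ((W : Set V) \ (U : Set V)).ncard := by
    rw [← Nat.card_coe_set_eq]
    rfl
  rw [h1, Set.ncard_sdiff (by exact_mod_cast hUW), ← Nat.card_coe_set_eq, ← Nat.card_coe_set_eq]
  change Nat.card W - Nat.card U = _
  rw [Module.natCard_eq_pow_finrank (K := K) (V := W),
    Module.natCard_eq_pow_finrank (K := K) (V := U)]

/-- the number of chain-subordinate independent families -/
theorem card_chainFam (W : ℕ → Submodule K V) (hW : ∀ i j, i ≤ j → W i ≤ W j) (k : ℕ) :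
    Nat.card (ChainFam W k) = ∏ j : Fin k, (Nat.card K ^ finrank K (W j) - Nat.card K ^ (j : ℕ)) := by
  classical
  have : Finite V := Module.finite_of_finite K
  induction k with
  | zero =>
    have : Unique (ChainFam W 0) :=
      { default := ⟨Fin.elim0, linearIndependent_empty_type, fun j => j.elim0⟩
        uniq := fun s => Subtype.ext (funext fun j => j.elim0) }
    simp
  | succ k ih =>
    have hfin : Finite (ChainFam W k) := by
      unfold ChainFam
      infer_instance
    have : Fintype (ChainFam W k) := Fintype.ofFinite _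
    rw [Nat.card_congr (chainEquiv W k), Nat.card_sigma]
    have hfib : ∀ s : ChainFam W k,
        Nat.card {v : V // v ∈ W k ∧ v ∉ Submodule.span K (Set.range s.1)} =
          Nat.card K ^ finrank K (W k) - Nat.card K ^ k := by
      intro s
      rw [card_fiber (W k) (Submodule.span K (Set.range s.1))]
      · rw [finrank_span_eq_card s.2.1, Fintype.card_fin]
      · rw [Submodule.span_le]
        rintro _ ⟨j, rfl⟩
        exact hW j k (by have := j.isLt; omega) (s.2.2 j)
    rw [Finset.sum_congr rfl (fun s _ => hfib s), Finset.sum_const, Finset.card_univ,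
      smul_eq_mul, ← Nat.card_eq_fintype_card, ih, Fin.prod_univ_castSucc]
    simp

end Cfsg.Agent.Helper40.Par
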