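import Mathlib

set_option autoImplicit false

namespace Cfsg.Agent.Helper40.Iso

open Polynomial

variable {F : Type*} [Field F] {ι : Type*} [Fintype ι] [DecidableEq ι]

/-- the characteristic polynomial of the inverse matrix -/
theorem charpoly_of_mul_eq_one (A B : Matrix ι ι F) (h : B * A = 1) :
    B.charpoly = C (A.charpoly.coeff 0)⁻¹ * A.charpoly.reverse := by
  have hdet : B.det * A.det = 1 := by rw [← Matrix.det_mul, h, Matrix.det_one]
  have hA0 : A.det ≠ 0 := right_ne_zero_of_mul_eq_one hdet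
  have h1 : B.charmatrix * (C : F →+* F[X]).mapMatrix A =
      -(1 - (X : F[X]) • A.map C) := by
    have h2 : (C : F →+* F[X]).mapMatrix B * (C : F →+* F[X]).mapMatrix A = 1 := by
      rw [← map_mul, h, map_one]
    rw [Matrix.charmatrix, sub_mul, h2, Matrix.scalar_apply, ← Matrix.smul_eq_diagonal_mul,
      RingHom.mapMatrix_apply]
    abel
  have h3 := congrArg Matrix.det h1
  rw [Matrix.det_mul, Matrix.det_neg, ← RingHom.map_det] at h3
  change B.charpoly * C A.det = (-1) ^ Fintype.card ι * A.charpolyRev at h3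
  rw [← Matrix.reverse_charpoly] at h3
  have h4 : A.charpoly.coeff 0 = (-1) ^ Fintype.card ι * A.det := by
    rw [Matrix.det_eq_sign_charpoly_coeff, ← mul_assoc, ← mul_pow]
    simp
  have h5 : ((-1 : F) ^ Fintype.card ι) * ((-1) ^ Fintype.card ι) = 1 := by
    rw [← mul_pow]
    simp
  have h6 : (A.charpoly.coeff 0)⁻¹ = (-1) ^ Fintype.card ι * A.det⁻¹ := by
    rw [h4, mul_inv]
    congr 1
    exact inv_eq_of_mul_eq_one_right h5
  calc B.charpoly = B.charpoly * C A.det * C A.det⁻¹ := by
        rw [mul_assoc, ← C_mul, mul_inv_cancel₀ hA0, C_1, mul_one]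
    _ = (-1) ^ Fintype.card ι * A.charpoly.reverse * C A.det⁻¹ := by rw [h3]
    _ = C (A.charpoly.coeff 0)⁻¹ * A.charpoly.reverse := by
        rw [h6, C_mul, C_pow, C_neg, C_1]
        ring

end Cfsg.Agent.Helper40.Iso
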