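import Mathlib

set_option autoImplicit false

/-!
# The fundamental theorem of projective geometry (vector form)

A map `Φ : V → V` on a vector space of dimension at least `3` that sends nonzero vectors to
nonzero vectors and preserves and reflects membership in the span of two vectors is induced,
up to nonzero scalars, by a semilinear map.
-/

namespace Cfsg.Agent.Helper40.FTPG

section Ind

variable (F : Type*) [Field F] {V : Type*} [AddCommGroup V] [Module F V]

/-- two vectors are linearly independent -/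
def Ind2 (x y : V) : Prop := ∀ a b : F, a • x + b • y = 0 → a = 0 ∧ b = 0

/-- three vectors are linearly independent -/
def Ind3 (x y z : V) : Prop :=
  ∀ a b c : F, a • x + b • y + c • z = 0 → a = 0 ∧ b = 0 ∧ c = 0

variable {F}

theorem Ind2.ne_left {x y : V} (h : Ind2 F x y) : x ≠ 0 := by
  rintro rfl
  exact one_ne_zero (h 1 0 (by simp)).1

theorem Ind2.ne_right {x y : V} (h : Ind2 F x y) : y ≠ 0 := by
  rintro rfl
  exact one_ne_zero (h 0 1 (by simp)).2

theorem Ind2.symm {x y : V} (h : Ind2 F x y) : Ind2 F y x := by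
  intro a b hab
  have := h b a (by rw [add_comm]; exact hab)
  exact ⟨this.2, this.1⟩

theorem Ind2.add_ne {x y : V} (h : Ind2 F x y) : x + y ≠ 0 := by
  intro h0
  exact one_ne_zero (h 1 1 (by rw [one_smul, one_smul]; exact h0)).1

theorem Ind2.eq {x y : V} (h : Ind2 F x y) {a b a' b' : F}
    (he : a • x + b • y = a' • x + b' • y) : a = a' ∧ b = b' := by
  have := h (a - a') (b - b') (by
    have : (a - a') • x + (b - b') • y = (a • x + b • y) - (a' • x + b' • y) := by module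
    rw [this, he, sub_self])
  exact ⟨sub_eq_zero.mp this.1, sub_eq_zero.mp this.2⟩

theorem Ind2.smul {x y : V} (h : Ind2 F x y) {a b : F} (ha : a ≠ 0) (hb : b ≠ 0) :
    Ind2 F (a • x) (b • y) := by
  intro s t hst
  have := h (s * a) (t * b) (by rw [mul_smul, mul_smul]; exact hst)
  exact ⟨(mul_eq_zero.mp this.1).resolve_right ha, (mul_eq_zero.mp this.2).resolve_right hb⟩

theorem Ind2.smul_left {x y : V} (h : Ind2 F x y) {a : F} (ha : a ≠ 0) :
    Ind2 F (a • x) y := by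
  have := h.smul ha one_ne_zero
  rwa [one_smul] at this

theorem Ind2.smul_right {x y : V} (h : Ind2 F x y) {b : F} (hb : b ≠ 0) :
    Ind2 F x (b • y) := by
  have := h.smul one_ne_zero hb
  rwa [one_smul] at this

theorem Ind2.add_smul_right {x y : V} (h : Ind2 F x y) (c : F) : Ind2 F x (c • x + y) := by
  intro a b hab
  have := h (a + b * c) b (by
    have : (a + b * c) • x + b • y = a • x + b • (c • x + y) := by module
    rw [this, hab])
  obtain ⟨h1, h2⟩ := this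
  rw [h2, zero_mul, add_zero] at h1
  exact ⟨h1, h2⟩

theorem Ind2.add_right {x y : V} (h : Ind2 F x y) : Ind2 F x (x + y) := by
  have := h.add_smul_right 1
  rwa [one_smul] at this

theorem ind2_of_not_smul {x y : V} (hx : x ≠ 0) (hy : ∀ c : F, y ≠ c • x) : Ind2 F x y := by
  intro a b hab
  have hb : b = 0 := by
    by_contra hb
    apply hy (-(b⁻¹ * a))
    have : y = b⁻¹ • (a • x + b • y) - (b⁻¹ * a) • x := by
      rw [smul_add, smul_smul, smul_smul, inv_mul_cancel₀ hb, one_smul, add_sub_cancel_left]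
    rw [this, hab, smul_zero, zero_sub, neg_smul]
  refine ⟨?_, hb⟩
  rw [hb, zero_smul, add_zero] at hab
  exact (smul_eq_zero.mp hab).resolve_right hx

theorem exists_smul_of_not_ind2 {x y : V} (hx : x ≠ 0) (h : ¬ Ind2 F x y) :
    ∃ c : F, y = c • x := by
  by_contra hc
  push Not at hc
  exact h (ind2_of_not_smul hx hc)

theorem Ind3.eq {x y z : V} (h : Ind3 F x y z) {a b c a' b' c' : F}
    (he : a • x + b • y + c • z = a' • x + b' • y + c' • z) : a = a' ∧ b = b' ∧ c = c' := by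
  have := h (a - a') (b - b') (c - c') (by
    have : (a - a') • x + (b - b') • y + (c - c') • z
        = (a • x + b • y + c • z) - (a' • x + b' • y + c' • z) := by module
    rw [this, he, sub_self])
  exact ⟨sub_eq_zero.mp this.1, sub_eq_zero.mp this.2.1, sub_eq_zero.mp this.2.2⟩

theorem Ind3.smul {x y z : V} (h : Ind3 F x y z) {b c : F} (hb : b ≠ 0) (hc : c ≠ 0) :
    Ind3 F x (b • y) (c • z) := by
  intro s t r hst
  have := h s (t * b) (r * c) (by rw [mul_smul, mul_smul]; exact hst)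
  exact ⟨this.1, (mul_eq_zero.mp this.2.1).resolve_right hb,
    (mul_eq_zero.mp this.2.2).resolve_right hc⟩

theorem Ind3.ne_left {x y z : V} (h : Ind3 F x y z) : x ≠ 0 := by
  rintro rfl
  exact one_ne_zero (h 1 0 0 (by simp)).1

theorem Ind3.ne_mid {x y z : V} (h : Ind3 F x y z) : y ≠ 0 := by
  rintro rfl
  exact one_ne_zero (h 0 1 0 (by simp)).2.1

theorem Ind3.ne_right {x y z : V} (h : Ind3 F x y z) : z ≠ 0 := by
  rintro rfl
  exact one_ne_zero (h 0 0 1 (by simp)).2.2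

theorem Ind3.mid_ne_smul {x y z : V} (h : Ind3 F x y z) (c : F) : y ≠ c • x := by
  intro hy
  have := h (-c) 1 0 (by rw [hy]; module)
  exact one_ne_zero this.2.1

theorem Ind3.right_ne {x y z : V} (h : Ind3 F x y z) (a b : F) : z ≠ a • x + b • y := by
  intro hz
  have := h (-a) (-b) 1 (by rw [hz]; module)
  exact one_ne_zero this.2.2

theorem ind3_of {x y z : V} (hx : x ≠ 0) (hy : ∀ c : F, y ≠ c • x)
    (hz : ∀ a b : F, z ≠ a • x + b • y) : Ind3 F x y z := by
  intro a b c habc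
  have hc : c = 0 := by
    by_contra hc
    apply hz (-(c⁻¹ * a)) (-(c⁻¹ * b))
    have : z = c⁻¹ • (a • x + b • y + c • z) + (-(c⁻¹ * a)) • x + (-(c⁻¹ * b)) • y := by
      have h1 : c⁻¹ • (a • x + b • y + c • z)
          = (c⁻¹ * a) • x + (c⁻¹ * b) • y + (c⁻¹ * c) • z := by module
      rw [h1, inv_mul_cancel₀ hc]
      module
    rw [this, habc, smul_zero, zero_add]
  rw [hc, zero_smul, add_zero] at habc
  have := ind2_of_not_smul hx hy a b habc
  exact ⟨this.1, this.2, hc⟩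

end Ind

/-- the data of the proof: a collineation-like map, a base vector with a functional, and
two independent vectors in the kernel of the functional -/
structure Setup (F : Type*) [Field F] (V : Type*) [AddCommGroup V] [Module F V] where
  /-- the point map -/
  Φ : V → V
  h0 : ∀ v, v ≠ 0 → Φ v ≠ 0
  hcol : ∀ u w x : V, u ≠ 0 → w ≠ 0 → x ≠ 0 → x ∈ Submodule.span F {u, w} →
    Φ x ∈ Submodule.span F {Φ u, Φ w}
  hcol' : ∀ u w x : V, u ≠ 0 → w ≠ 0 → x ≠ 0 → Φ x ∈ Submodule.span F {Φ u, Φ w} →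
    x ∈ Submodule.span F {u, w}
  /-- the base vector -/
  e : V
  /-- the functional -/
  lam : V →ₗ[F] F
  he : lam e = 1
  /-- first vector of the hyperplane -/
  v1 : V
  /-- second vector of the hyperplane -/
  v2 : V
  hv1 : lam v1 = 0
  hv2 : lam v2 = 0
  h12 : Ind2 F v1 v2

namespace Setup

variable {F : Type*} [Field F] {V : Type*} [AddCommGroup V] [Module F V] (S : Setup F V)

theorem col {u w x : V} (hu : u ≠ 0) (hw : w ≠ 0) (hx : x ≠ 0) {a b : F}
    (h : x = a • u + b • w) : ∃ a' b' : F, S.Φ x = a' • S.Φ u + b' • S.Φ w := by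
  have := S.hcol u w x hu hw hx (Submodule.mem_span_pair.mpr ⟨a, b, h.symm⟩)
  obtain ⟨a', b', h'⟩ := Submodule.mem_span_pair.mp this
  exact ⟨a', b', h'.symm⟩

theorem col' {u w x : V} (hu : u ≠ 0) (hw : w ≠ 0) (hx : x ≠ 0) {a' b' : F}
    (h : S.Φ x = a' • S.Φ u + b' • S.Φ w) : ∃ a b : F, x = a • u + b • w := by
  have := S.hcol' u w x hu hw hx (Submodule.mem_span_pair.mpr ⟨a', b', h.symm⟩)
  obtain ⟨a, b, h'⟩ := Submodule.mem_span_pair.mp this
  exact ⟨a, b, h'.symm⟩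

theorem e_ne : S.e ≠ 0 := by
  intro h
  have := S.he
  rw [h, map_zero] at this
  exact zero_ne_one this

/-- scalar multiples go to scalar multiples -/
theorem map_smul_pt {u : V} (hu : u ≠ 0) {a : F} (ha : a ≠ 0) :
    ∃ c : F, c ≠ 0 ∧ S.Φ (a • u) = c • S.Φ u := by
  have hau : a • u ≠ 0 := smul_ne_zero ha hu
  obtain ⟨a', b', h⟩ := S.col hu hu hau (a := a) (b := 0) (by rw [zero_smul, add_zero])
  refine ⟨a' + b', ?_, by rw [h, add_smul]⟩
  intro h0
  apply S.h0 _ hau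
  rw [h, ← add_smul, h0, zero_smul]

theorem ind2_map {x y : V} (h : Ind2 F x y) : Ind2 F (S.Φ x) (S.Φ y) := by
  refine ind2_of_not_smul (S.h0 _ h.ne_left) ?_
  intro c hc
  obtain ⟨a, b, hab⟩ := S.col' h.ne_left h.ne_left h.ne_right (a' := c) (b' := 0)
    (by rw [hc, zero_smul, add_zero])
  have := h (a + b) (-1) (by rw [hab]; module)
  exact one_ne_zero (neg_eq_zero.mp this.2)

theorem ind3_map {x y z : V} (h : Ind3 F x y z) : Ind3 F (S.Φ x) (S.Φ y) (S.Φ z) := by
  refine ind3_of (S.h0 _ h.ne_left) ?_ ?_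
  · intro c hc
    obtain ⟨a, b, hab⟩ := S.col' h.ne_left h.ne_left h.ne_mid (a' := c) (b' := 0)
      (by rw [hc, zero_smul, add_zero])
    exact h.mid_ne_smul (a + b) (by rw [hab, add_smul])
  · intro a b hab
    obtain ⟨a', b', hab'⟩ := S.col' h.ne_left h.ne_mid h.ne_right hab
    exact h.right_ne a' b' hab'

theorem ind2_e {v : V} (hv : S.lam v = 0) (hv0 : v ≠ 0) : Ind2 F S.e v := by
  intro a b hab
  have h1 := congrArg S.lam hab
  rw [map_add, map_smul, map_smul, S.he, hv, smul_eq_mul, smul_eq_mul, mul_one, mul_zero,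
    add_zero, map_zero] at h1
  rw [h1, zero_smul, zero_add] at hab
  exact ⟨h1, (smul_eq_zero.mp hab).resolve_right hv0⟩

theorem ind3_e {v w : V} (hv : S.lam v = 0) (hw : S.lam w = 0) (h : Ind2 F v w) :
    Ind3 F S.e v w := by
  intro a b c habc
  have h1 := congrArg S.lam habc
  rw [map_add, map_add, map_smul, map_smul, map_smul, S.he, hv, hw, smul_eq_mul, smul_eq_mul,
    smul_eq_mul, mul_one, mul_zero, mul_zero, add_zero, add_zero, map_zero] at h1
  rw [h1, zero_smul, zero_add] at habc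
  have := h b c habc
  exact ⟨h1, this.1, this.2⟩

/-- existence of the normalised image of a vector of the hyperplane -/
theorem exists_Lp {v : V} (hv : S.lam v = 0) (hv0 : v ≠ 0) :
    ∃ y : V, (∃ b : F, b ≠ 0 ∧ y = b • S.Φ v) ∧
      ∃ a : F, a ≠ 0 ∧ S.Φ (S.e + v) = a • (S.Φ S.e + y) := by
  have hi := S.ind2_e hv hv0
  have hne : S.e + v ≠ 0 := hi.add_ne
  obtain ⟨α, β, hαβ⟩ := S.col S.e_ne hv0 hne (a := 1) (b := 1) (by rw [one_smul, one_smul])
  have hα : α ≠ 0 := by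
    rintro rfl
    obtain ⟨a, b, hab⟩ := S.col' hv0 hv0 hne (a' := 0) (b' := β)
      (by rw [hαβ, zero_smul, zero_smul])
    have := hi 1 (1 - a - b) (by
      have : (1 : F) • S.e + (1 - a - b) • v = (S.e + v) - (a • v + b • v) := by module
      rw [this, ← hab, sub_self])
    exact one_ne_zero this.1
  have hβ : β ≠ 0 := by
    rintro rfl
    obtain ⟨a, b, hab⟩ := S.col' S.e_ne S.e_ne hne (a' := α) (b' := 0)
      (by rw [hαβ, zero_smul, zero_smul])
    have := hi (1 - a - b) 1 (by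
      have : (1 - a - b) • S.e + (1 : F) • v = (S.e + v) - (a • S.e + b • S.e) := by module
      rw [this, ← hab, sub_self])
    exact one_ne_zero this.2
  refine ⟨(α⁻¹ * β) • S.Φ v, ⟨α⁻¹ * β, mul_ne_zero (inv_ne_zero hα) hβ, rfl⟩, α, hα, ?_⟩
  rw [hαβ, smul_add, smul_smul, mul_inv_cancel_left₀ hα]

open Classical in
/-- the semilinear map on the hyperplane -/
noncomputable def Lp (v : V) : V :=
  if h : S.lam v = 0 ∧ v ≠ 0 then Classical.choose (S.exists_Lp h.1 h.2) else 0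

theorem Lp_zero : S.Lp 0 = 0 := by
  unfold Lp
  rw [dif_neg]
  rintro ⟨_, h⟩
  exact h rfl

theorem Lp_spec {v : V} (hv : S.lam v = 0) (hv0 : v ≠ 0) :
    (∃ b : F, b ≠ 0 ∧ S.Lp v = b • S.Φ v) ∧
      ∃ a : F, a ≠ 0 ∧ S.Φ (S.e + v) = a • (S.Φ S.e + S.Lp v) := by
  unfold Lp
  rw [dif_pos ⟨hv, hv0⟩]
  exact Classical.choose_spec (S.exists_Lp hv hv0)

theorem Lp_ne_zero {v : V} (hv : S.lam v = 0) (hv0 : v ≠ 0) : S.Lp v ≠ 0 := by
  obtain ⟨⟨b, hb, hbv⟩, -⟩ := S.Lp_spec hv hv0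
  rw [hbv]
  exact smul_ne_zero hb (S.h0 _ hv0)

theorem ind2_Lp {v w : V} (hv : S.lam v = 0) (hw : S.lam w = 0) (h : Ind2 F v w) :
    Ind2 F (S.Lp v) (S.Lp w) := by
  obtain ⟨⟨b, hb, hbv⟩, -⟩ := S.Lp_spec hv h.ne_left
  obtain ⟨⟨c, hc, hcw⟩, -⟩ := S.Lp_spec hw h.ne_right
  rw [hbv, hcw]
  exact (S.ind2_map h).smul hb hc

/-- additivity on independent vectors of the hyperplane -/
theorem Lp_add_of_ind {v w : V} (hv : S.lam v = 0) (hw : S.lam w = 0) (h : Ind2 F v w) :
    S.Lp (v + w) = S.Lp v + S.Lp w := by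
  have hvw : S.lam (v + w) = 0 := by rw [map_add, hv, hw, add_zero]
  have hvw0 : v + w ≠ 0 := h.add_ne
  have hv0 := h.ne_left
  have hw0 := h.ne_right
  have h3 := S.ind3_e hv hw h
  obtain ⟨⟨b₁, hb₁, hLv⟩, a₁, ha₁, hev⟩ := S.Lp_spec hv hv0
  obtain ⟨⟨b₂, hb₂, hLw⟩, a₂, ha₂, hew⟩ := S.Lp_spec hw hw0
  obtain ⟨⟨b₃, hb₃, hLvw⟩, a₃, ha₃, hevw⟩ := S.Lp_spec hvw hvw0
  have hI : Ind3 F (S.Φ S.e) (S.Lp v) (S.Lp w) := by
    rw [hLv, hLw]
    exact (S.ind3_map h3).smul hb₁ hb₂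
  have hΦv : S.Φ v = b₁⁻¹ • S.Lp v := by
    rw [hLv, smul_smul, inv_mul_cancel₀ hb₁, one_smul]
  have hΦw : S.Φ w = b₂⁻¹ • S.Lp w := by
    rw [hLw, smul_smul, inv_mul_cancel₀ hb₂, one_smul]
  have hne1 : S.e + v ≠ 0 := (S.ind2_e hv hv0).add_ne
  have hne2 : S.e + w ≠ 0 := (S.ind2_e hw hw0).add_ne
  have hne3 : S.e + (v + w) ≠ 0 := (S.ind2_e hvw hvw0).add_ne
  -- first decomposition
  obtain ⟨s, t, hst⟩ := S.col hne1 hw0 hne3 (a := 1) (b := 1) (by
    rw [one_smul, one_smul, add_assoc])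
  -- second decomposition
  obtain ⟨s', t', hst'⟩ := S.col hne2 hv0 hne3 (a := 1) (b := 1) (by
    rw [one_smul, one_smul, add_assoc, add_comm w v])
  -- the image of `v + w`
  obtain ⟨p, q, hpq⟩ := S.col hv0 hw0 hvw0 (a := 1) (b := 1) (by rw [one_smul, one_smul])
  set X := S.Φ S.e with hX
  set Y := S.Lp v with hY
  set Z := S.Lp w with hZ
  have hL : S.Lp (v + w) = (b₃ * p * b₁⁻¹) • Y + (b₃ * q * b₂⁻¹) • Z := by
    rw [hLvw, hpq, hΦv, hΦw]
    module
  have e1 : S.Φ (S.e + (v + w)) = (s * a₁) • X + (s * a₁) • Y + (t * b₂⁻¹) • Z := by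
    rw [hst, hev, hΦw]
    module
  have e2 : S.Φ (S.e + (v + w)) = (s' * a₂) • X + (t' * b₁⁻¹) • Y + (s' * a₂) • Z := by
    rw [hst', hew, hΦv]
    module
  have e3 : S.Φ (S.e + (v + w))
      = a₃ • X + (a₃ * (b₃ * p * b₁⁻¹)) • Y + (a₃ * (b₃ * q * b₂⁻¹)) • Z := by
    rw [hevw, hL]
    module
  obtain ⟨c1, c2, -⟩ := hI.eq (e3.symm.trans e1)
  obtain ⟨d1, -, d3⟩ := hI.eq (e3.symm.trans e2)
  have hP : b₃ * p * b₁⁻¹ = 1 := by
    have : a₃ * (b₃ * p * b₁⁻¹) = a₃ * 1 := by rw [c2, ← c1, mul_one]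
    exact mul_left_cancel₀ ha₃ this
  have hQ : b₃ * q * b₂⁻¹ = 1 := by
    have : a₃ * (b₃ * q * b₂⁻¹) = a₃ * 1 := by rw [d3, ← d1, mul_one]
    exact mul_left_cancel₀ ha₃ this
  rw [hL, hP, hQ, one_smul, one_smul]

/-- existence of the scalar by which `Lp` transforms a multiple -/
theorem Lp_smul_exists {v : V} (hv : S.lam v = 0) (a : F) :
    ∃ s : F, S.Lp (a • v) = s • S.Lp v := by
  by_cases hv0 : v = 0
  · exact ⟨0, by rw [hv0, smul_zero, S.Lp_zero, smul_zero]⟩
  by_cases ha : a = 0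
  · exact ⟨0, by rw [ha, zero_smul, zero_smul, S.Lp_zero]⟩
  have hav : S.lam (a • v) = 0 := by rw [map_smul, hv, smul_zero]
  obtain ⟨⟨b, hb, hbv⟩, -⟩ := S.Lp_spec hv hv0
  obtain ⟨⟨b', hb', hbv'⟩, -⟩ := S.Lp_spec hav (smul_ne_zero ha hv0)
  obtain ⟨c, hc, hcv⟩ := S.map_smul_pt hv0 ha
  refine ⟨b' * c * b⁻¹, ?_⟩
  rw [hbv', hcv, hbv, smul_smul, smul_smul, mul_assoc, mul_assoc, inv_mul_cancel₀ hb, mul_one]

/-- the scalar is the same for independent vectors -/
theorem smul_transfer {u v : V} (hu : S.lam u = 0) (hv : S.lam v = 0) (h : Ind2 F u v)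
    {a s : F} (hs : S.Lp (a • u) = s • S.Lp u) : S.Lp (a • v) = s • S.Lp v := by
  by_cases ha : a = 0
  · rw [ha, zero_smul, S.Lp_zero] at hs
    have hs0 : s = 0 := (smul_eq_zero.mp hs.symm).resolve_right (S.Lp_ne_zero hu h.ne_left)
    rw [ha, hs0, zero_smul, zero_smul, S.Lp_zero]
  have huv : S.lam (u + v) = 0 := by rw [map_add, hu, hv, add_zero]
  obtain ⟨s', hs'⟩ := S.Lp_smul_exists hv a
  obtain ⟨s'', hs''⟩ := S.Lp_smul_exists huv a
  have hau : S.lam (a • u) = 0 := by rw [map_smul, hu, smul_zero]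
  have hav : S.lam (a • v) = 0 := by rw [map_smul, hv, smul_zero]
  have h1 := S.Lp_add_of_ind hau hav (h.smul ha ha)
  rw [← smul_add, hs'', S.Lp_add_of_ind hu hv h, hs, hs', smul_add] at h1
  obtain ⟨e1, e2⟩ := (S.ind2_Lp hu hv h).eq h1
  rw [hs', ← e2, e1]

/-- the field endomorphism, as a function -/
noncomputable def sg (a : F) : F := Classical.choose (S.Lp_smul_exists S.hv1 a)

theorem sg_spec (a : F) : S.Lp (a • S.v1) = S.sg a • S.Lp S.v1 :=
  Classical.choose_spec (S.Lp_smul_exists S.hv1 a)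

/-- `Lp` is `sg`-homogeneous on the hyperplane -/
theorem Lp_smul {v : V} (hv : S.lam v = 0) (a : F) : S.Lp (a • v) = S.sg a • S.Lp v := by
  by_cases hv0 : v = 0
  · rw [hv0, smul_zero, S.Lp_zero, smul_zero]
  by_cases hi : Ind2 F S.v1 v
  · exact S.smul_transfer S.hv1 hv hi (S.sg_spec a)
  · obtain ⟨c, hc⟩ := exists_smul_of_not_ind2 S.h12.ne_left hi
    have hc0 : c ≠ 0 := by
      rintro rfl
      rw [zero_smul] at hc
      exact hv0 hc
    have h2 := S.smul_transfer S.hv1 S.hv2 S.h12 (S.sg_spec a)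
    have hi2 : Ind2 F S.v2 v := by
      rw [hc]
      exact S.h12.symm.smul_right hc0
    exact S.smul_transfer S.hv2 hv hi2 h2

theorem Lp_v1_ne : S.Lp S.v1 ≠ 0 := S.Lp_ne_zero S.hv1 S.h12.ne_left

theorem sg_zero : S.sg 0 = 0 := by
  have := S.sg_spec 0
  rw [zero_smul, S.Lp_zero] at this
  exact (smul_eq_zero.mp this.symm).resolve_right S.Lp_v1_ne

theorem sg_one : S.sg 1 = 1 := by
  have := S.sg_spec 1
  rw [one_smul] at this
  have h2 : (1 : F) • S.Lp S.v1 = S.sg 1 • S.Lp S.v1 := by rw [one_smul]; exact this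
  have h3 : ((1 : F) - S.sg 1) • S.Lp S.v1 = 0 := by rw [sub_smul, ← h2, sub_self]
  exact (sub_eq_zero.mp ((smul_eq_zero.mp h3).resolve_right S.Lp_v1_ne)).symm

theorem smul_left_inj' {a b : F} {x : V} (hx : x ≠ 0) (h : a • x = b • x) : a = b := by
  have h3 : (a - b) • x = 0 := by rw [sub_smul, h, sub_self]
  exact sub_eq_zero.mp ((smul_eq_zero.mp h3).resolve_right hx)

theorem sg_mul (a b : F) : S.sg (a * b) = S.sg a * S.sg b := by
  have h1 := S.sg_spec (a * b)
  have hb : S.lam (b • S.v1) = 0 := by rw [map_smul, S.hv1, smul_zero]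
  rw [mul_smul, S.Lp_smul hb a, S.sg_spec b, smul_smul] at h1
  exact (smul_left_inj' S.Lp_v1_ne h1).symm

/-- `Lp (c u + v) = sg c • Lp u + Lp v` for independent `u`, `v` -/
theorem Lp_smul_add {u v : V} (hu : S.lam u = 0) (hv : S.lam v = 0) (h : Ind2 F u v) (c : F) :
    S.Lp (c • u + v) = S.sg c • S.Lp u + S.Lp v := by
  by_cases hc : c = 0
  · rw [hc, zero_smul, zero_add, S.sg_zero, zero_smul, zero_add]
  have hcu : S.lam (c • u) = 0 := by rw [map_smul, hu, smul_zero]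
  rw [S.Lp_add_of_ind hcu hv (h.smul_left hc), S.Lp_smul hu]

theorem sg_add (a b : F) : S.sg (a + b) = S.sg a + S.sg b := by
  have h1 := S.Lp_smul_add S.hv1 S.hv2 S.h12 (a + b)
  have hb : S.lam (b • S.v1 + S.v2) = 0 := by
    rw [map_add, map_smul, S.hv1, S.hv2, smul_zero, add_zero]
  have h2 := S.Lp_smul_add S.hv1 hb (S.h12.add_smul_right b) a
  rw [S.Lp_smul_add S.hv1 S.hv2 S.h12 b] at h2
  have h3 : (a + b) • S.v1 + S.v2 = a • S.v1 + (b • S.v1 + S.v2) := by module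
  rw [h3, h2, ← add_assoc, ← add_smul] at h1
  exact (smul_left_inj' S.Lp_v1_ne (add_right_cancel h1)).symm

/-- the field endomorphism -/
noncomputable def sgHom : F →+* F where
  toFun := S.sg
  map_one' := S.sg_one
  map_mul' := S.sg_mul
  map_zero' := S.sg_zero
  map_add' := S.sg_add

theorem sgHom_apply (a : F) : S.sgHom a = S.sg a := rfl

/-- full additivity on the hyperplane -/
theorem Lp_add {v w : V} (hv : S.lam v = 0) (hw : S.lam w = 0) :
    S.Lp (v + w) = S.Lp v + S.Lp w := by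
  by_cases hv0 : v = 0
  · rw [hv0, zero_add, S.Lp_zero, zero_add]
  by_cases hi : Ind2 F v w
  · exact S.Lp_add_of_ind hv hw hi
  · obtain ⟨c, hc⟩ := exists_smul_of_not_ind2 hv0 hi
    have h1 : v + w = (1 + c) • v := by rw [hc, add_smul, one_smul]
    rw [h1, S.Lp_smul hv, hc, S.Lp_smul hv, S.sg_add, S.sg_one, add_smul, one_smul]

/-- projection to the hyperplane -/
def pr (x : V) : V := x - S.lam x • S.e

theorem lam_pr (x : V) : S.lam (S.pr x) = 0 := by
  unfold pr
  rw [map_sub, map_smul, S.he, smul_eq_mul, mul_one, sub_self]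

theorem pr_add (x y : V) : S.pr (x + y) = S.pr x + S.pr y := by
  unfold pr
  rw [map_add]
  module

theorem pr_smul (a : F) (x : V) : S.pr (a • x) = a • S.pr x := by
  unfold pr
  rw [map_smul, smul_eq_mul]
  module

theorem eq_add_pr (x : V) : x = S.lam x • S.e + S.pr x := by
  unfold pr
  module

/-- the semilinear map on the whole space -/
noncomputable def Lf (x : V) : V := S.sg (S.lam x) • S.Φ S.e + S.Lp (S.pr x)

theorem Lf_add (x y : V) : S.Lf (x + y) = S.Lf x + S.Lf y := by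
  unfold Lf
  rw [map_add, S.sg_add, S.pr_add, S.Lp_add (S.lam_pr x) (S.lam_pr y)]
  module

theorem Lf_smul (a : F) (x : V) : S.Lf (a • x) = S.sg a • S.Lf x := by
  unfold Lf
  rw [map_smul, smul_eq_mul, S.sg_mul, S.pr_smul, S.Lp_smul (S.lam_pr x)]
  module

theorem sg_ne_zero {a : F} (ha : a ≠ 0) : S.sg a ≠ 0 := by
  rw [← S.sgHom_apply]
  exact (map_ne_zero S.sgHom).mpr ha

theorem Lf_spec {x : V} (hx : x ≠ 0) : ∃ b : F, b ≠ 0 ∧ S.Φ x = b • S.Lf x := by
  have hxe := S.eq_add_pr x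
  set a := S.lam x with ha
  set h := S.pr x with hh
  have hlh : S.lam h = 0 := S.lam_pr x
  have hLf : S.Lf x = S.sg a • S.Φ S.e + S.Lp h := rfl
  by_cases h0 : h = 0
  · rw [h0, add_zero] at hxe
    have ha0 : a ≠ 0 := by
      rintro ha0
      rw [ha0, zero_smul] at hxe
      exact hx hxe
    obtain ⟨c, hc, hce⟩ := S.map_smul_pt S.e_ne ha0
    refine ⟨c * (S.sg a)⁻¹, mul_ne_zero hc (inv_ne_zero (S.sg_ne_zero ha0)), ?_⟩
    rw [hLf, h0, S.Lp_zero, add_zero, smul_smul, mul_assoc, inv_mul_cancel₀ (S.sg_ne_zero ha0),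
      mul_one, ← hce, ← hxe]
  by_cases ha0 : a = 0
  · rw [ha0, zero_smul, zero_add] at hxe
    obtain ⟨⟨b, hb, hbh⟩, -⟩ := S.Lp_spec hlh h0
    refine ⟨b⁻¹, inv_ne_zero hb, ?_⟩
    rw [hLf, ha0, S.sg_zero, zero_smul, zero_add, hbh, smul_smul, inv_mul_cancel₀ hb, one_smul,
      ← hxe]
  · have hah : S.lam (a⁻¹ • h) = 0 := by rw [map_smul, hlh, smul_zero]
    have hah0 : a⁻¹ • h ≠ 0 := smul_ne_zero (inv_ne_zero ha0) h0
    obtain ⟨-, a', ha', hea⟩ := S.Lp_spec hah hah0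
    have hne : S.e + a⁻¹ • h ≠ 0 := (S.ind2_e hah hah0).add_ne
    obtain ⟨c, hc, hce⟩ := S.map_smul_pt hne ha0
    have hx2 : x = a • (S.e + a⁻¹ • h) := by
      rw [smul_add, smul_smul, mul_inv_cancel₀ ha0, one_smul]
      exact hxe
    have hsa := S.sg_ne_zero ha0
    refine ⟨c * a' * (S.sg a)⁻¹, mul_ne_zero (mul_ne_zero hc ha') (inv_ne_zero hsa), ?_⟩
    have hinv : S.sg a⁻¹ = (S.sg a)⁻¹ := by
      rw [← S.sgHom_apply, ← S.sgHom_apply, map_inv₀]
    rw [hLf, hx2, hce, hea, S.Lp_smul hlh, hinv]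
    have : (c * a' * (S.sg a)⁻¹) • (S.sg a • S.Φ S.e + S.Lp h)
        = (c * a' * ((S.sg a)⁻¹ * S.sg a)) • S.Φ S.e + (c * a' * (S.sg a)⁻¹) • S.Lp h := by
      module
    rw [this, inv_mul_cancel₀ hsa]
    module

end Setup

/-- **Fundamental theorem of projective geometry**, vector form. -/
theorem ftpg {F : Type*} [Field F] {V : Type*} [AddCommGroup V] [Module F V]
    [FiniteDimensional F V] (hdim : 3 ≤ Module.finrank F V) (Φ : V → V)
    (h0 : ∀ v, v ≠ 0 → Φ v ≠ 0)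
    (hcol : ∀ u w x : V, u ≠ 0 → w ≠ 0 → x ≠ 0 → x ∈ Submodule.span F {u, w} →
      Φ x ∈ Submodule.span F {Φ u, Φ w})
    (hcol' : ∀ u w x : V, u ≠ 0 → w ≠ 0 → x ≠ 0 → Φ x ∈ Submodule.span F {Φ u, Φ w} →
      x ∈ Submodule.span F {u, w}) :
    ∃ (σ : F →+* F) (L : V →+ V), (∀ (a : F) (v : V), L (a • v) = σ a • L v) ∧
      ∀ v, v ≠ 0 → ∃ b : F, b ≠ 0 ∧ Φ v = b • L v := by
  classical
  let b := Module.finBasis F V
  let i0 : Fin (Module.finrank F V) := ⟨0, by omega⟩
  let i1 : Fin (Module.finrank F V) := ⟨1, by omega⟩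
  let i2 : Fin (Module.finrank F V) := ⟨2, by omega⟩
  have h01 : i0 ≠ i1 := by
    intro h; have := congrArg Fin.val h; simp [i0, i1] at this
  have h02 : i0 ≠ i2 := by
    intro h; have := congrArg Fin.val h; simp [i0, i2] at this
  have h12 : i1 ≠ i2 := by
    intro h; have := congrArg Fin.val h; simp [i1, i2] at this
  have hcoord : ∀ i j, b.coord i (b j) = if j = i then 1 else 0 := by
    intro i j
    rw [Module.Basis.coord_apply, Module.Basis.repr_self, Finsupp.single_apply]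
  let S : Setup F V :=
    { Φ := Φ
      h0 := h0
      hcol := hcol
      hcol' := hcol'
      e := b i0
      lam := b.coord i0
      he := by rw [hcoord, if_pos rfl]
      v1 := b i1
      v2 := b i2
      hv1 := by rw [hcoord, if_neg h01.symm]
      hv2 := by rw [hcoord, if_neg h02.symm]
      h12 := by
        intro s t hst
        have e1 := congrArg (b.coord i1) hst
        have e2 := congrArg (b.coord i2) hst
        rw [map_add, map_smul, map_smul, hcoord, hcoord, if_pos rfl, if_neg h12.symm,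
          smul_eq_mul, smul_eq_mul, mul_one, mul_zero, add_zero, map_zero] at e1
        rw [map_add, map_smul, map_smul, hcoord, hcoord, if_pos rfl, if_neg h12,
          smul_eq_mul, smul_eq_mul, mul_one, mul_zero, zero_add, map_zero] at e2
        exact ⟨e1, e2⟩ }
  refine ⟨S.sgHom, AddMonoidHom.mk' S.Lf S.Lf_add, ?_, ?_⟩
  · intro a v
    exact S.Lf_smul a v
  · intro v hv
    exact S.Lf_spec hv

end Cfsg.Agent.Helper40.FTPG
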