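import Cfsg.Agent.Lib.Helper40.FlagPerm

set_option autoImplicit false

namespace Cfsg.Agent.Helper40.Flag

open Cfsg Module Cfsg.Agent.Helper40.Par
open scoped MatrixGroups

section counting

variable {ι : Type*} [Fintype ι]

theorem card_filter_le_succ (f : ι → ℕ) (q : ι → Prop) [DecidablePred q] (s : ℕ) :
    (Finset.univ.filter fun i => f i ≤ s + 1 ∧ q i).card =
      (Finset.univ.filter fun i => f i ≤ s ∧ q i).card +
        (Finset.univ.filter fun i => f i = s + 1 ∧ q i).card := by
  classical
  rw [← Finset.card_union_of_disjoint]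
  · congr 1
    ext i
    simp only [Finset.mem_filter, Finset.mem_univ, true_and, Finset.mem_union]
    constructor
    · rintro ⟨h1, h2⟩
      rcases Nat.lt_or_ge (f i) (s + 1) with h | h
      · exact Or.inl ⟨by omega, h2⟩
      · exact Or.inr ⟨by omega, h2⟩
    · rintro (⟨h1, h2⟩ | ⟨h1, h2⟩)
      · exact ⟨by omega, h2⟩
      · exact ⟨by omega, h2⟩
  · rw [Finset.disjoint_filter]
    intro i _ h1 h2
    omega

theorem card_filter_le_zero (f : ι → ℕ) (q : ι → Prop) [DecidablePred q] :
    (Finset.univ.filter fun i => f i ≤ 0 ∧ q i).card =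
      (Finset.univ.filter fun i => f i = 0 ∧ q i).card := by
  congr 1
  ext i
  simp only [Finset.mem_filter, Finset.mem_univ, true_and, Nat.le_zero]

/-- equal cumulative joint counts give equal joint counts -/
theorem card_eq_of_cum_eq (f g f' g' : ι → ℕ)
    (h : ∀ s t, (Finset.univ.filter fun i => f i ≤ s ∧ g i ≤ t).card =
      (Finset.univ.filter fun i => f' i ≤ s ∧ g' i ≤ t).card) :
    ∀ s t, (Finset.univ.filter fun i => f i = s ∧ g i = t).card =
      (Finset.univ.filter fun i => f' i = s ∧ g' i = t).card := by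
  have h1 : ∀ s t, (Finset.univ.filter fun i => f i = s ∧ g i ≤ t).card =
      (Finset.univ.filter fun i => f' i = s ∧ g' i ≤ t).card := by
    intro s t
    rcases s with _ | s
    · rw [← card_filter_le_zero f (fun i => g i ≤ t), ← card_filter_le_zero f' (fun i => g' i ≤ t)]
      exact h 0 t
    · have e1 := card_filter_le_succ f (fun i => g i ≤ t) s
      have e2 := card_filter_le_succ f' (fun i => g' i ≤ t) s
      have e3 := h (s + 1) t
      have e4 := h s t
      omega
  have hswap : ∀ (f g : ι → ℕ) (s t : ℕ), ∀ P : ℕ → ℕ → Prop, ∀ [DecidablePred (P t)],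
      (Finset.univ.filter fun i => f i = s ∧ P t (g i)).card =
      (Finset.univ.filter fun i => P t (g i) ∧ f i = s).card := by
    intro f g s t P _
    congr 1
    ext i
    simp only [Finset.mem_filter, Finset.mem_univ, true_and]
    exact and_comm
  intro s t
  rcases t with _ | t
  · rw [hswap f g s 0 (fun t x => x = t), hswap f' g' s 0 (fun t x => x = t),
      ← card_filter_le_zero g (fun i => f i = s), ← card_filter_le_zero g' (fun i => f' i = s)]
    have := h1 s 0
    rw [hswap f g s 0 (fun t x => x ≤ t), hswap f' g' s 0 (fun t x => x ≤ t)] at this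
    exact this
  · have e1 := card_filter_le_succ g (fun i => f i = s) t
    have e2 := card_filter_le_succ g' (fun i => f' i = s) t
    have e3 := h1 s (t + 1)
    have e4 := h1 s t
    rw [hswap f g s (t + 1) (fun t x => x ≤ t), hswap f' g' s (t + 1) (fun t x => x ≤ t)] at e3
    rw [hswap f g s t (fun t x => x ≤ t), hswap f' g' s t (fun t x => x ≤ t)] at e4
    rw [hswap f g s (t + 1) (fun t x => x = t), hswap f' g' s (t + 1) (fun t x => x = t)]
    omega

/-- two labellings with the same fibre sizes differ by a permutation -/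
theorem exists_perm_of_card_fiber_eq [DecidableEq ι] {κ : Type*} [DecidableEq κ] (h h' : ι → κ)
    (hc : ∀ k, (Finset.univ.filter fun i => h i = k).card =
      (Finset.univ.filter fun i => h' i = k).card) :
    ∃ ρ : Equiv.Perm ι, ∀ i, h' (ρ i) = h i := by
  have e : ∀ k, {i // h i = k} ≃ {i // h' i = k} := fun k =>
    Fintype.equivOfCardEq (by rw [Fintype.card_subtype, Fintype.card_subtype]; exact hc k)
  refine ⟨(Equiv.sigmaFiberEquiv h).symm.trans ((Equiv.sigmaCongrRight e).trans
    (Equiv.sigmaFiberEquiv h')), ?_⟩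
  intro i
  exact (e (h i) ⟨i, rfl⟩).2

end counting

variable {F : Type*} [Field F] {n : ℕ}

/-- cumulative joint label count of a permutation -/
def cum (α β : Fin n → ℕ) (w : Equiv.Perm (Fin n)) (s t : ℕ) : ℕ :=
  (Finset.univ.filter fun i : Fin n => compLabel α i ≤ s ∧ compLabel β (w⁻¹ i) ≤ t).card

/-- joint label count of a permutation: the matrix of intersection numbers -/
def jointCount (α β : Fin n → ℕ) (w : Equiv.Perm (Fin n)) (s t : ℕ) : ℕ :=
  (Finset.univ.filter fun i : Fin n => compLabel α i = s ∧ compLabel β (w⁻¹ i) = t).card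

theorem finrank_inf_map_pm (α β : Fin n → ℕ) (w : Equiv.Perm (Fin n)) (s t : ℕ) :
    finrank F ↥(coordSub F (fun i : Fin n => compLabel α i ≤ s) ⊓
      Submodule.map (Matrix.toLin' (pmat F w)) (coordSub F (fun i : Fin n => compLabel β i ≤ t))) =
      cum α β w s t := by
  classical
  rw [map_pmat_coordSub, coordSub_inf, finrank_coordSub]
  rfl

theorem toLin'_injective (g : GL (Fin n) F) :
    Function.Injective (Matrix.toLin' (g : Matrix (Fin n) (Fin n) F)) := by
  apply Function.LeftInverse.injective
    (g := Matrix.toLin' ((g⁻¹ : GL (Fin n) F) : Matrix (Fin n) (Fin n) F))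
  intro v
  rw [← LinearMap.comp_apply, ← Matrix.toLin'_mul, ← Units.val_mul, inv_mul_cancel]
  simp

theorem finrank_inf_map_mul (α β : Fin n → ℕ) (p p' g : GL (Fin n) F)
    (hp : p ∈ parabolicGL n F α) (hp' : p' ∈ parabolicGL n F β) (s t : ℕ) :
    finrank F ↥(coordSub F (fun i : Fin n => compLabel α i ≤ s) ⊓
      Submodule.map (Matrix.toLin' ((p * g * p' : GL (Fin n) F) : Matrix (Fin n) (Fin n) F))
        (coordSub F (fun i : Fin n => compLabel β i ≤ t))) =
    finrank F ↥(coordSub F (fun i : Fin n => compLabel α i ≤ s) ⊓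
      Submodule.map (Matrix.toLin' (g : Matrix (Fin n) (Fin n) F))
        (coordSub F (fun i : Fin n => compLabel β i ≤ t))) := by
  have h1 : Submodule.map (Matrix.toLin' ((p * g * p' : GL (Fin n) F) :
      Matrix (Fin n) (Fin n) F)) (coordSub F (fun i : Fin n => compLabel β i ≤ t)) =
      Submodule.map (Matrix.toLin' (p : Matrix (Fin n) (Fin n) F))
        (Submodule.map (Matrix.toLin' (g : Matrix (Fin n) (Fin n) F))
          (coordSub F (fun i : Fin n => compLabel β i ≤ t))) := by
    rw [Units.val_mul, Units.val_mul, Matrix.toLin'_mul, Matrix.toLin'_mul, Submodule.map_comp,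
      Submodule.map_comp, map_eq_of_mem_parabolic β p' hp' t]
  have h2 : coordSub F (fun i : Fin n => compLabel α i ≤ s) =
      Submodule.map (Matrix.toLin' (p : Matrix (Fin n) (Fin n) F))
        (coordSub F (fun i : Fin n => compLabel α i ≤ s)) :=
    (map_eq_of_mem_parabolic α p hp s).symm
  rw [h1]
  conv_lhs => rw [h2]
  rw [← Submodule.map_inf _ (toLin'_injective p)]
  exact (Submodule.equivMapOfInjective _ (toLin'_injective p) _).finrank_eq.symm

/-- the double cosets of permutation matrices with respect to two parabolic subgroups are the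
images of the double cosets of the Young subgroups -/
theorem pm_doubleCoset_iff (α β : Fin n → ℕ) (w w' : Equiv.Perm (Fin n)) :
    (∃ p ∈ parabolicGL n F α, ∃ p' ∈ parabolicGL n F β, pm F n w' = p * pm F n w * p') ↔
      ∃ y ∈ youngSubgroup α, ∃ y' ∈ youngSubgroup β, w' = y * w * y' := by
  classical
  constructor
  · rintro ⟨p, hp, p', hp', heq⟩
    have hcum : ∀ s t, cum α β w' s t = cum α β w s t := by
      intro s t
      rw [← finrank_inf_map_pm (F := F) α β w' s t, ← finrank_inf_map_pm (F := F) α β w s t,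
        ← pm_coe, ← pm_coe, heq]
      exact finrank_inf_map_mul α β p p' (pm F n w) hp hp' s t
    have hjoint := card_eq_of_cum_eq (fun i : Fin n => compLabel α i)
      (fun i => compLabel β (w⁻¹ i)) (fun i : Fin n => compLabel α i)
      (fun i => compLabel β (w'⁻¹ i)) (fun s t => (hcum s t).symm)
    obtain ⟨ρ, hρ⟩ := exists_perm_of_card_fiber_eq
      (fun i : Fin n => (compLabel α i, compLabel β (w⁻¹ i)))
      (fun i : Fin n => (compLabel α i, compLabel β (w'⁻¹ i))) (by
        rintro ⟨s, t⟩
        have := hjoint s t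
        simp only [Prod.mk.injEq]
        exact this)
    have hρ1 : ∀ i, compLabel α (ρ i) = compLabel α i := fun i => (Prod.ext_iff.mp (hρ i)).1
    have hρ2 : ∀ i, compLabel β (w'⁻¹ (ρ i)) = compLabel β (w⁻¹ i) :=
      fun i => (Prod.ext_iff.mp (hρ i)).2
    refine ⟨ρ, hρ1, w⁻¹ * ρ⁻¹ * w', ?_, by group⟩
    intro k
    have := hρ2 (ρ⁻¹ (w' k))
    have e1 : ρ (ρ⁻¹ (w' k)) = w' k := by simp
    have e2 : w'⁻¹ (w' k) = k := by simp
    rw [e1, e2] at this
    simp only [Equiv.Perm.mul_apply]
    exact this.symm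
  · rintro ⟨y, hy, y', hy', rfl⟩
    exact ⟨pm F n y, pm_mem_parabolic α y hy, pm F n y', pm_mem_parabolic β y' hy', by
      rw [map_mul, map_mul]⟩

end Cfsg.Agent.Helper40.Flag
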