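import Cfsg.Agent.Lib.Helper40.FlagBruhat
import Cfsg.Agent.Lib.Helper40.FlagInv
import Cfsg.Agent.Lib.Helper40.FlagOrbit

set_option autoImplicit false

namespace Cfsg.Agent.Helper40.Flag

open Cfsg Module Cfsg.Agent.Helper40.Par
open scoped MatrixGroups

variable {F : Type*} [Field F] {n : ℕ}

/-- every element of `GL_n` lies in a double coset of a permutation matrix -/
theorem exists_pm_doubleCoset (α β : Fin n → ℕ) (hα : ∑ i, α i = n) (hβ : ∑ i, β i = n)
    (g : GL (Fin n) F) :
    ∃ h ∈ parabolicGL n F α, ∃ w : Equiv.Perm (Fin n), ∃ k ∈ parabolicGL n F β,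
      g = h * pm F n w * k := by
  obtain ⟨b, hb, w, b', hb', heq⟩ := bruhat g
  exact ⟨b, borel_le_parabolic α hα hb, w, b', borel_le_parabolic β hβ hb', heq⟩

/-- the orbits of `GL_n` on pairs of flags correspond to the double cosets of Young subgroups -/
theorem card_orbits_GL (α β : Fin n → ℕ) (hα : ∑ i, α i = n) (hβ : ∑ i, β i = n) :
    Nat.card (MulAction.orbitRel.Quotient (GL (Fin n) F)
      ((GL (Fin n) F ⧸ parabolicGL n F α) × (GL (Fin n) F ⧸ parabolicGL n F β))) =
    Nat.card (DoubleCoset.Quotient (youngSubgroup α : Set (Equiv.Perm (Fin n)))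
      (youngSubgroup β : Set (Equiv.Perm (Fin n)))) :=
  card_orbits_of_hom (pm F n) (parabolicGL n F α) (parabolicGL n F β) (youngSubgroup α)
    (youngSubgroup β) (exists_pm_doubleCoset α β hα hβ) (pm_doubleCoset_iff α β)

/-- the orbits of `S_n` on pairs of cosets of Young subgroups -/
theorem card_orbits_perm (α β : Fin n → ℕ) :
    Nat.card (MulAction.orbitRel.Quotient (Equiv.Perm (Fin n))
      ((Equiv.Perm (Fin n) ⧸ youngSubgroup α) × (Equiv.Perm (Fin n) ⧸ youngSubgroup β))) =
    Nat.card (DoubleCoset.Quotient (youngSubgroup α : Set (Equiv.Perm (Fin n)))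
      (youngSubgroup β : Set (Equiv.Perm (Fin n)))) :=
  card_orbits_of_hom (MonoidHom.id _) (youngSubgroup α) (youngSubgroup β) (youngSubgroup α)
    (youngSubgroup β) (fun g => ⟨1, one_mem _, g, 1, one_mem _, by simp⟩) (fun _ _ => Iff.rfl)

/-- the inner product of two flag characters of `GL_n(q)` is the number of double cosets of the
corresponding Young subgroups -/
theorem inner_flag_GL [Fintype (GL (Fin n) F)] (α β : Fin n → ℕ) (hα : ∑ i, α i = n)
    (hβ : ∑ i, β i = n) :
    (Nat.card (GL (Fin n) F) : ℂ)⁻¹ * ∑ g : GL (Fin n) F,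
        fixedPointCharacter (parabolicGL n F α) g * fixedPointCharacter (parabolicGL n F β) g =
      (Nat.card (DoubleCoset.Quotient (youngSubgroup α : Set (Equiv.Perm (Fin n)))
        (youngSubgroup β : Set (Equiv.Perm (Fin n)))) : ℂ) := by
  rw [inner_fixedPoint_eq_card_orbits, card_orbits_GL α β hα hβ]

theorem inner_flag_perm (α β : Fin n → ℕ) :
    (Nat.card (Equiv.Perm (Fin n)) : ℂ)⁻¹ * ∑ σ : Equiv.Perm (Fin n),
        fixedPointCharacter (youngSubgroup α) σ * fixedPointCharacter (youngSubgroup β) σ =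
      (Nat.card (DoubleCoset.Quotient (youngSubgroup α : Set (Equiv.Perm (Fin n)))
        (youngSubgroup β : Set (Equiv.Perm (Fin n)))) : ℂ) := by
  rw [inner_fixedPoint_eq_card_orbits, card_orbits_perm α β]

end Cfsg.Agent.Helper40.Flag
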