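import Cfsg.Agent.Lib.Helper40.ParCard

set_option autoImplicit false

namespace Cfsg.Agent.Helper40.Flag

open Cfsg Module Cfsg.Agent.Helper40.Par
open scoped MatrixGroups

variable {F : Type*} [Field F] {n : ℕ}

/-- the permutation matrix of `w`: it maps `e_j` to `e_{w j}` -/
def pmat (F : Type*) [Field F] (w : Equiv.Perm (Fin n)) : Matrix (Fin n) (Fin n) F :=
  fun i j => if i = w j then 1 else 0

theorem pmat_apply (w : Equiv.Perm (Fin n)) (i j : Fin n) :
    pmat F w i j = if i = w j then 1 else 0 := rfl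

theorem pmat_one : pmat F (1 : Equiv.Perm (Fin n)) = 1 := by
  ext i j
  rw [pmat_apply, Matrix.one_apply]
  rfl

theorem pmat_mul (w w' : Equiv.Perm (Fin n)) : pmat F (w * w') = pmat F w * pmat F w' := by
  ext i j
  rw [Matrix.mul_apply, pmat_apply]
  simp only [pmat_apply, Equiv.Perm.mul_apply]
  rw [Finset.sum_eq_single (w' j)]
  · rw [if_pos rfl, mul_one]
    exact if_congr Iff.rfl rfl rfl
  · intro k _ hk
    rw [if_neg hk, mul_zero]
  · intro h
    exact absurd (Finset.mem_univ _) h

/-- permutation matrices as a homomorphism into the matrix monoid -/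
def pmatHom (F : Type*) [Field F] (n : ℕ) : Equiv.Perm (Fin n) →* Matrix (Fin n) (Fin n) F where
  toFun := pmat F
  map_one' := pmat_one
  map_mul' := pmat_mul

/-- permutation matrices in `GL_n` -/
noncomputable def pm (F : Type*) [Field F] (n : ℕ) : Equiv.Perm (Fin n) →* GL (Fin n) F :=
  (pmatHom F n).toHomUnits

theorem pm_coe (w : Equiv.Perm (Fin n)) :
    ((pm F n w : GL (Fin n) F) : Matrix (Fin n) (Fin n) F) = pmat F w := rfl

theorem pmat_mulVec (w : Equiv.Perm (Fin n)) (v : Fin n → F) (i : Fin n) :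
    (pmat F w).mulVec v i = v (w⁻¹ i) := by
  rw [Matrix.mulVec, dotProduct, Finset.sum_eq_single (w⁻¹ i)]
  · rw [pmat_apply]
    simp
  · intro k _ hk
    rw [pmat_apply, if_neg, zero_mul]
    intro h
    apply hk
    rw [h]
    simp
  · intro h
    exact absurd (Finset.mem_univ _) h

theorem mul_pmat_apply (M : Matrix (Fin n) (Fin n) F) (w : Equiv.Perm (Fin n)) (i j : Fin n) :
    (M * pmat F w) i j = M i (w j) := by
  rw [Matrix.mul_apply, Finset.sum_eq_single (w j)]
  · rw [pmat_apply]
    simp
  · intro k _ hk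
    rw [pmat_apply, if_neg hk, mul_zero]
  · intro h
    exact absurd (Finset.mem_univ _) h

/-- the image of a coordinate subspace under a permutation matrix -/
theorem map_pmat_coordSub (w : Equiv.Perm (Fin n)) (p : Fin n → Prop) :
    Submodule.map (Matrix.toLin' (pmat F w)) (coordSub F p) = coordSub F (fun i => p (w⁻¹ i)) := by
  apply le_antisymm
  · rintro _ ⟨v, hv, rfl⟩
    intro i hi
    rw [Matrix.toLin'_apply, pmat_mulVec]
    exact hv _ hi
  · intro v hv
    refine ⟨fun j => v (w j), ?_, ?_⟩
    · intro j hj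
      apply hv
      simpa using hj
    · funext i
      rw [Matrix.toLin'_apply, pmat_mulVec]
      simp

theorem coordSub_inf (p p' : Fin n → Prop) :
    coordSub F p ⊓ coordSub F p' = coordSub F (fun i => p i ∧ p' i) := by
  ext v
  rw [Submodule.mem_inf, mem_coordSub, mem_coordSub, mem_coordSub]
  constructor
  · rintro ⟨h1, h2⟩ i hi
    by_cases hp : p i
    · exact h2 i (fun hp' => hi ⟨hp, hp'⟩)
    · exact h1 i hp
  · intro h
    exact ⟨fun i hi => h i (fun hh => hi hh.1), fun i hi => h i (fun hh => hi hh.2)⟩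

/-- a block triangular matrix preserves the coordinate subspaces of its labelling -/
theorem map_le_of_blockTriangular (b : Fin n → ℕ) (M : Matrix (Fin n) (Fin n) F)
    (hM : M.BlockTriangular b) (s : ℕ) :
    Submodule.map (Matrix.toLin' M) (coordSub F (fun i => b i ≤ s)) ≤
      coordSub F (fun i => b i ≤ s) := by
  rintro _ ⟨v, hv, rfl⟩
  intro i hi
  rw [Matrix.toLin'_apply, Matrix.mulVec, dotProduct]
  apply Finset.sum_eq_zero
  intro j _
  by_cases hj : b j ≤ s
  · rw [hM (show b j < b i by omega), zero_mul]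
  · rw [hv j hj, mul_zero]

theorem map_eq_of_mem_parabolic (μ : Fin n → ℕ) (g : GL (Fin n) F) (hg : g ∈ parabolicGL n F μ)
    (s : ℕ) :
    Submodule.map (Matrix.toLin' (g : Matrix (Fin n) (Fin n) F))
      (coordSub F (fun i => compLabel μ i ≤ s)) = coordSub F (fun i => compLabel μ i ≤ s) := by
  apply le_antisymm (map_le_of_blockTriangular _ _ hg s)
  have hinv : g⁻¹ ∈ parabolicGL n F μ := inv_mem hg
  have h2 := map_le_of_blockTriangular (compLabel μ) _ hinv s
  intro v hv
  refine ⟨Matrix.toLin' ((g⁻¹ : GL (Fin n) F) : Matrix (Fin n) (Fin n) F) v, h2 ⟨v, hv, rfl⟩, ?_⟩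
  rw [← LinearMap.comp_apply, ← Matrix.toLin'_mul, ← Units.val_mul, mul_inv_cancel]
  simp

/-- Young subgroup elements give block triangular permutation matrices -/
theorem pm_mem_parabolic (μ : Fin n → ℕ) (y : Equiv.Perm (Fin n)) (hy : y ∈ youngSubgroup μ) :
    pm F n y ∈ parabolicGL n F μ := by
  change (pmat F y).BlockTriangular (compLabel μ)
  intro i j hij
  rw [pmat_apply, if_neg]
  intro h
  rw [h, hy j] at hij
  exact lt_irrefl _ hij

/-- the Borel subgroup lies in every standard parabolic subgroup -/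
theorem borel_le_parabolic (μ : Fin n → ℕ) (hμ : ∑ i, μ i = n) :
    upperTriangularGL n F ≤ parabolicGL n F μ := by
  intro g hg
  change (g : Matrix (Fin n) (Fin n) F).BlockTriangular (compLabel μ)
  intro i j hij
  apply hg
  change j < i
  by_contra h
  push Not at h
  have := label_mono hμ h
  omega

end Cfsg.Agent.Helper40.Flag
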