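import Cfsg.Agent.Lib.Helper40.FlagMain

set_option autoImplicit false

namespace Cfsg.Agent.Helper40.Flag

open Cfsg Module Cfsg.Agent.Helper40.Par
open scoped MatrixGroups

/-- orbits of a subgroup coincide with the orbits of the group when the subgroup can imitate
every group element on every point -/
theorem card_orbits_subgroup {G Ω : Type*} [Group G] [MulAction G Ω] (N : Subgroup G)
    (h : ∀ (ω : Ω) (g : G), ∃ s ∈ N, s • ω = g • ω) :
    Nat.card (MulAction.orbitRel.Quotient N Ω) = Nat.card (MulAction.orbitRel.Quotient G Ω) := by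
  apply Nat.card_congr
  unfold MulAction.orbitRel.Quotient
  apply Quotient.congrRight
  intro a b
  rw [MulAction.orbitRel_apply, MulAction.orbitRel_apply, MulAction.mem_orbit_iff,
    MulAction.mem_orbit_iff]
  constructor
  · rintro ⟨s, hs⟩
    exact ⟨(s : G), hs⟩
  · rintro ⟨g, hg⟩
    obtain ⟨s, hsN, hs⟩ := h b g
    refine ⟨⟨s, hsN⟩, ?_⟩
    rw [← hg, ← hs]
    rfl

/-- Burnside's lemma for a subgroup acting on pairs of cosets -/
theorem inner_fixedPoint_subgroup {G : Type*} [Group G] [Fintype G] (N H K : Subgroup G)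
    [Fintype N] :
    (Nat.card N : ℂ)⁻¹ * ∑ s : N, fixedPointCharacter H (s : G) * fixedPointCharacter K (s : G) =
      (Nat.card (MulAction.orbitRel.Quotient N ((G ⧸ H) × (G ⧸ K))) : ℂ) := by
  classical
  have : Finite (G ⧸ H) := Quotient.finite _
  have : Finite (G ⧸ K) := Quotient.finite _
  have : Fintype ((G ⧸ H) × (G ⧸ K)) := Fintype.ofFinite _
  have : Fintype (Quotient (MulAction.orbitRel N ((G ⧸ H) × (G ⧸ K)))) := Fintype.ofFinite _
  have hfix : ∀ s : N, fixedPointCharacter H (s : G) * fixedPointCharacter K (s : G) =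
      ((Fintype.card (MulAction.fixedBy ((G ⧸ H) × (G ⧸ K)) s) : ℕ) : ℂ) := by
    intro s
    unfold fixedPointCharacter
    rw [← Nat.cast_mul, ← Nat.card_prod, ← Nat.card_eq_fintype_card]
    congr 1
    have hset : MulAction.fixedBy ((G ⧸ H) × (G ⧸ K)) s =
        (MulAction.fixedBy (G ⧸ H) (s : G)) ×ˢ (MulAction.fixedBy (G ⧸ K) (s : G)) := by
      ext ⟨x, y⟩
      rw [MulAction.mem_fixedBy, Set.mem_prod, MulAction.mem_fixedBy, MulAction.mem_fixedBy,
        Subgroup.smul_def, Prod.smul_mk, Prod.mk.injEq]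
    rw [hset]
    exact (Nat.card_congr (Equiv.Set.prod _ _)).symm
  rw [Finset.sum_congr rfl (fun g _ => hfix g), ← Nat.cast_sum,
    MulAction.sum_card_fixedBy_eq_card_orbits_mul_card_group N ((G ⧸ H) × (G ⧸ K))]
  have hG : (Nat.card N : ℂ) ≠ 0 := by
    rw [Nat.cast_ne_zero]
    exact Nat.card_pos.ne'
  rw [Nat.card_eq_fintype_card (α := N)] at hG ⊢
  rw [Nat.cast_mul, ← Nat.card_eq_fintype_card (α := Quotient (MulAction.orbitRel N _))]
  change _ = (Nat.card (Quotient (MulAction.orbitRel N ((G ⧸ H) × (G ⧸ K)))) : ℂ)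
  field_simp

variable {F : Type*} [Field F] {n : ℕ}

/-- diagonal matrices in `GL_n` -/
def dg (d : Fin n → Fˣ) : GL (Fin n) F where
  val := Matrix.diagonal fun i => (d i : F)
  inv := Matrix.diagonal fun i => ((d i)⁻¹ : Fˣ)
  val_inv := by
    rw [Matrix.diagonal_mul_diagonal, ← Matrix.diagonal_one]
    congr 1
    funext i
    exact Units.mul_inv (d i)
  inv_val := by
    rw [Matrix.diagonal_mul_diagonal, ← Matrix.diagonal_one]
    congr 1
    funext i
    exact Units.inv_mul (d i)

theorem dg_coe (d : Fin n → Fˣ) :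
    ((dg d : GL (Fin n) F) : Matrix (Fin n) (Fin n) F) = Matrix.diagonal fun i => (d i : F) := rfl

theorem dg_mem_parabolic (d : Fin n → Fˣ) (μ : Fin n → ℕ) : dg d ∈ parabolicGL n F μ := by
  change ((dg d : GL (Fin n) F) : Matrix (Fin n) (Fin n) F).BlockTriangular (compLabel μ)
  rw [dg_coe]
  exact Matrix.blockTriangular_diagonal _

theorem dg_mul_pm (d : Fin n → Fˣ) (w : Equiv.Perm (Fin n)) :
    dg d * pm F n w = pm F n w * dg (fun i => d (w i)) := by
  apply Units.ext
  rw [Units.val_mul, Units.val_mul]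
  change Matrix.diagonal (fun i => (d i : F)) * pmat F w =
    pmat F w * Matrix.diagonal (fun i => (d (w i) : F))
  ext i j
  rw [Matrix.diagonal_mul, Matrix.mul_diagonal, pmat_apply]
  by_cases h : i = w j
  · rw [if_pos h, h, mul_one, one_mul]
  · rw [if_neg h, mul_zero, zero_mul]

theorem det_dg (d : Fin n → Fˣ) :
    ((dg d : GL (Fin n) F) : Matrix (Fin n) (Fin n) F).det = ∏ i, (d i : F) := by
  rw [dg_coe, Matrix.det_diagonal]

/-- the image of `SL_n` in `GL_n` -/
def slRange (n : ℕ) (F : Type*) [Field F] : Subgroup (GL (Fin n) F) :=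
  (Matrix.SpecialLinearGroup.toGL : Matrix.SpecialLinearGroup (Fin n) F →* GL (Fin n) F).range

theorem mem_slRange_of_det {g : GL (Fin n) F}
    (h : (g : Matrix (Fin n) (Fin n) F).det = 1) : g ∈ slRange n F :=
  ⟨⟨(g : Matrix (Fin n) (Fin n) F), h⟩, Units.ext rfl⟩

/-- every element of `GL_n` acts on a given pair of flags like some element of `SL_n` -/
theorem exists_sl_smul_eq (hn : 0 < n) (α β : Fin n → ℕ) (hα : ∑ i, α i = n)
    (hβ : ∑ i, β i = n)
    (ω : (GL (Fin n) F ⧸ parabolicGL n F α) × (GL (Fin n) F ⧸ parabolicGL n F β))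
    (g : GL (Fin n) F) : ∃ s ∈ slRange n F, s • ω = g • ω := by
  obtain ⟨x, y⟩ := ω
  induction x using QuotientGroup.induction_on with
  | H x =>
    induction y using QuotientGroup.induction_on with
    | H y =>
      obtain ⟨h, hh, w, k, hk, heq⟩ := exists_pm_doubleCoset α β hα hβ (x⁻¹ * y)
      set u : Fˣ := (Matrix.GeneralLinearGroup.det g)⁻¹ with hu
      set d : Fin n → Fˣ := Pi.mulSingle (⟨0, hn⟩ : Fin n) u with hd
      set t : GL (Fin n) F := dg d with ht
      set c : GL (Fin n) F := x * h with hc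
      have hfix : (c * t * c⁻¹) •
          ((QuotientGroup.mk x : GL (Fin n) F ⧸ parabolicGL n F α),
            (QuotientGroup.mk y : GL (Fin n) F ⧸ parabolicGL n F β)) =
          ((QuotientGroup.mk x : GL (Fin n) F ⧸ parabolicGL n F α),
            (QuotientGroup.mk y : GL (Fin n) F ⧸ parabolicGL n F β)) := by
        rw [Prod.smul_mk, MulAction.Quotient.smul_mk, MulAction.Quotient.smul_mk, smul_eq_mul,
          smul_eq_mul, Prod.mk.injEq, QuotientGroup.eq, QuotientGroup.eq]
        constructor
        · have : (c * t * c⁻¹ * x)⁻¹ * x = h * t⁻¹ * h⁻¹ := by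
            rw [hc]
            group
          rw [this]
          exact mul_mem (mul_mem hh (inv_mem (dg_mem_parabolic d α))) (inv_mem hh)
        · have hy : y = c * pm F n w * k := by
            rw [hc, mul_assoc, mul_assoc, ← mul_assoc h, ← heq]
            group
          have h1 : (c * t * c⁻¹ * y)⁻¹ * y = k⁻¹ * ((pm F n w)⁻¹ * t⁻¹ * pm F n w) * k := by
            rw [hy]
            group
          have h2 : (pm F n w)⁻¹ * t⁻¹ * pm F n w = (dg (fun i => d (w i)))⁻¹ := by
            rw [eq_inv_iff_mul_eq_one, mul_assoc, mul_assoc, ← dg_mul_pm, ← ht]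
            group
          rw [h1, h2]
          exact mul_mem (mul_mem (inv_mem hk) (inv_mem (dg_mem_parabolic _ β))) hk
      refine ⟨g * (c * t * c⁻¹), ?_, ?_⟩
      · apply mem_slRange_of_det
        have hdet : ((g * (c * t * c⁻¹) : GL (Fin n) F) : Matrix (Fin n) (Fin n) F).det =
            ((Matrix.GeneralLinearGroup.det (g * (c * t * c⁻¹)) : Fˣ) : F) := rfl
        rw [hdet, map_mul, map_mul, map_mul, map_inv, mul_comm (Matrix.GeneralLinearGroup.det c),
          mul_assoc, mul_inv_cancel, mul_one]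
        have htdet : Matrix.GeneralLinearGroup.det t = u := by
          apply Units.ext
          change ((t : GL (Fin n) F) : Matrix (Fin n) (Fin n) F).det = (u : F)
          rw [ht, det_dg, hd]
          rw [← Units.coe_prod, Finset.prod_pi_mulSingle']
          simp
        rw [htdet, hu, mul_inv_cancel, Units.val_one]
      · rw [mul_smul, hfix]

/-- the inner product over `SL_n(q)` of two flag characters equals the inner product over
`GL_n(q)` -/
theorem inner_flag_SL [Fintype (GL (Fin n) F)] [Fintype (Matrix.SpecialLinearGroup (Fin n) F)]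
    (hn : 0 < n) (α β : Fin n → ℕ) (hα : ∑ i, α i = n) (hβ : ∑ i, β i = n) :
    (Nat.card (Matrix.SpecialLinearGroup (Fin n) F) : ℂ)⁻¹ *
        ∑ s : Matrix.SpecialLinearGroup (Fin n) F,
          fixedPointCharacter (parabolicGL n F α) (Matrix.SpecialLinearGroup.toGL s) *
            fixedPointCharacter (parabolicGL n F β) (Matrix.SpecialLinearGroup.toGL s) =
      (Nat.card (DoubleCoset.Quotient (youngSubgroup α : Set (Equiv.Perm (Fin n)))
        (youngSubgroup β : Set (Equiv.Perm (Fin n)))) : ℂ) := by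
  classical
  have : Fintype (slRange n F) := Fintype.ofFinite _
  let e : Matrix.SpecialLinearGroup (Fin n) F ≃* slRange n F :=
    MonoidHom.ofInjective Matrix.SpecialLinearGroup.toGL_injective
  rw [← card_orbits_GL (F := F) α β hα hβ,
    ← card_orbits_subgroup (slRange n F) (exists_sl_smul_eq hn α β hα hβ),
    ← inner_fixedPoint_subgroup]
  congr 1
  · rw [Nat.card_congr e.toEquiv]
  · exact Fintype.sum_equiv e.toEquiv _ _ (fun s => rfl)

end Cfsg.Agent.Helper40.Flag
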