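import Mathlib

set_option autoImplicit false

namespace Cfsg.Agent.Helper40.SS

open Polynomial

variable {F : Type*} [Field F]
variable {V : Type*} [AddCommGroup V] [Module F V]
variable {V' : Type*} [AddCommGroup V'] [Module F V']
variable {V'' : Type*} [AddCommGroup V''] [Module F V'']

/-- two endomorphisms are similar: there is a linear isomorphism intertwining them -/
def Sim (a : Module.End F V) (b : Module.End F V') : Prop :=
  ∃ e : V ≃ₗ[F] V', ∀ v, e (a v) = b (e v)

theorem Sim.refl (a : Module.End F V) : Sim a a := ⟨LinearEquiv.refl F V, fun _ => rfl⟩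

theorem Sim.symm {a : Module.End F V} {b : Module.End F V'} (h : Sim a b) : Sim b a := by
  obtain ⟨e, he⟩ := h
  refine ⟨e.symm, fun v => ?_⟩
  apply e.injective
  rw [he]
  simp

theorem Sim.trans {a : Module.End F V} {b : Module.End F V'} {c : Module.End F V''}
    (h : Sim a b) (h' : Sim b c) : Sim a c := by
  obtain ⟨e, he⟩ := h
  obtain ⟨e', he'⟩ := h'
  exact ⟨e.trans e', fun v => by simp [he, he']⟩

theorem Sim.eq_conj {a : Module.End F V} {b : Module.End F V'} {e : V ≃ₗ[F] V'}
    (he : ∀ v, e (a v) = b (e v)) : b = e.conj a := by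
  ext w
  rw [LinearEquiv.conj_apply]
  simp [he]

theorem Sim.charpoly_eq [FiniteDimensional F V] [FiniteDimensional F V']
    {a : Module.End F V} {b : Module.End F V'} (h : Sim a b) : a.charpoly = b.charpoly := by
  obtain ⟨e, he⟩ := h
  rw [Sim.eq_conj he, LinearEquiv.charpoly_conj]

theorem Sim.aeval_eq_zero {a : Module.End F V} {b : Module.End F V'} (h : Sim a b) (P : F[X])
    (hP : aeval a P = 0) : aeval b P = 0 := by
  obtain ⟨e, he⟩ := h
  have : b = e.conjAlgEquiv F a := Sim.eq_conj he
  rw [this, ← AlgEquiv.coe_toAlgHom, aeval_algHom_apply, hP, map_zero]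

theorem Sim.prodMap {W : Type*} [AddCommGroup W] [Module F W] {W' : Type*} [AddCommGroup W']
    [Module F W'] {a : Module.End F V} {b : Module.End F V'} {c : Module.End F W}
    {d : Module.End F W'} (h : Sim a b) (h' : Sim c d) : Sim (a.prodMap c) (b.prodMap d) := by
  obtain ⟨e, he⟩ := h
  obtain ⟨e', he'⟩ := h'
  refine ⟨e.prodCongr e', fun v => ?_⟩
  ext <;> simp [he, he']

/-- decomposition along invariant complementary subspaces -/
theorem sim_of_isCompl (a : Module.End F V) {W₁ W₂ : Submodule F V} (h : IsCompl W₁ W₂)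
    (h₁ : ∀ v ∈ W₁, a v ∈ W₁) (h₂ : ∀ v ∈ W₂, a v ∈ W₂) :
    Sim ((a.restrict h₁).prodMap (a.restrict h₂)) a := by
  refine ⟨Submodule.prodEquivOfIsCompl W₁ W₂ h, fun v => ?_⟩
  rw [Submodule.coe_prodEquivOfIsCompl', Submodule.coe_prodEquivOfIsCompl']
  simp

theorem commute_aeval (a : Module.End F V) (P : F[X]) : a * aeval a P = aeval a P * a := by
  calc a * aeval a P = aeval a (X * P) := by rw [aeval_mul, aeval_X]
    _ = aeval a (P * X) := by rw [mul_comm]
    _ = aeval a P * a := by rw [aeval_mul, aeval_X]

theorem ker_aeval_invariant (a : Module.End F V) (P : F[X]) :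
    ∀ v ∈ LinearMap.ker (aeval a P), a v ∈ LinearMap.ker (aeval a P) := by
  intro v hv
  rw [LinearMap.mem_ker] at hv ⊢
  have := congrArg (fun f => f v) (commute_aeval a P)
  simp only [Module.End.mul_apply] at this
  rw [← this, hv, map_zero]

theorem aeval_restrict_apply (a : Module.End F V) {W : Submodule F V} (h : ∀ v ∈ W, a v ∈ W)
    (P : F[X]) (w : W) : ((aeval (a.restrict h) P) w : V) = aeval a P w := by
  induction P using Polynomial.induction_on' with
  | add p q hp hq => simp [hp, hq]
  | monomial n c =>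
    simp only [aeval_monomial, Module.End.mul_apply, Module.algebraMap_end_apply,
      Submodule.coe_smul]
    rw [Module.End.pow_restrict n h, LinearMap.restrict_apply]

theorem aeval_restrict_ker (a : Module.End F V) (P : F[X]) :
    aeval (a.restrict (ker_aeval_invariant a P)) P = 0 := by
  ext w
  rw [aeval_restrict_apply]
  simp

theorem aeval_restrict_eq_zero (a : Module.End F V) {W : Submodule F V} (h : ∀ v ∈ W, a v ∈ W)
    (P : F[X]) (hP : aeval a P = 0) : aeval (a.restrict h) P = 0 := by
  ext w
  rw [aeval_restrict_apply, hP]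
  simp

/-- kernel decomposition for a product of coprime polynomials annihilating `a` -/
theorem isCompl_ker_aeval (a : Module.End F V) {p q : F[X]} (hpq : IsCoprime p q)
    (h : aeval a (p * q) = 0) :
    IsCompl (LinearMap.ker (aeval a p)) (LinearMap.ker (aeval a q)) := by
  refine ⟨disjoint_ker_aeval_of_isCoprime a hpq, ?_⟩
  rw [codisjoint_iff, sup_ker_aeval_eq_ker_aeval_mul_of_coprime a hpq, h, LinearMap.ker_zero]

end Cfsg.Agent.Helper40.SS
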