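import Cfsg.Agent.Lib.Helper40.IsoForm
import Cfsg.Agent.Lib.Helper40.SSSim

set_option autoImplicit false

namespace Cfsg.Agent.Helper40.Iso

open Polynomial

variable {F : Type*} [Field F] {τ : F →+* F} {ε : F}
variable {V : Type*} [AddCommGroup V] [Module F V]

/-- `g` preserves the form -/
def IsIsom (β : SForm τ ε V) (g : Module.End F V) : Prop := ∀ u v, β.B (g u) (g v) = β.B u v

variable {β : SForm τ ε V} {g : Module.End F V} {N : ℕ}

theorem mul_pow_pred (hN : 0 < N) (hg : g ^ N = 1) : g * g ^ (N - 1) = 1 := by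
  rw [← pow_succ', Nat.sub_add_cancel hN, hg]

theorem pow_pred_mul (hN : 0 < N) (hg : g ^ N = 1) : g ^ (N - 1) * g = 1 := by
  rw [← pow_succ, Nat.sub_add_cancel hN, hg]

theorem apply_pow_pred (hN : 0 < N) (hg : g ^ N = 1) (v : V) : g ((g ^ (N - 1)) v) = v := by
  have := congrArg (fun f => f v) (mul_pow_pred hN hg)
  simpa using this

theorem pow_pred_apply (hN : 0 < N) (hg : g ^ N = 1) (v : V) : (g ^ (N - 1)) (g v) = v := by
  have := congrArg (fun f => f v) (pow_pred_mul hN hg)
  simpa using this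

theorem IsIsom.adj (h : IsIsom β g) (hN : 0 < N) (hg : g ^ N = 1) (u v : V) :
    β.B (g u) v = β.B u ((g ^ (N - 1)) v) := by
  conv_lhs => rw [← apply_pow_pred hN hg v]
  exact h _ _

theorem IsIsom.inv (h : IsIsom β g) (hN : 0 < N) (hg : g ^ N = 1) : IsIsom β (g ^ (N - 1)) := by
  intro u v
  rw [← h, apply_pow_pred hN hg, apply_pow_pred hN hg]

theorem IsIsom.adj_pow (h : IsIsom β g) (hN : 0 < N) (hg : g ^ N = 1) (k : ℕ) (u v : V) :
    β.B ((g ^ k) u) v = β.B u (((g ^ (N - 1)) ^ k) v) := by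
  induction k generalizing u v with
  | zero => simp
  | succ k ih =>
    rw [pow_succ, Module.End.mul_apply, ih, h.adj hN hg, pow_succ', Module.End.mul_apply]

/-- the adjoint of a polynomial in `g` -/
theorem IsIsom.adj_aeval (hτ : ∀ x, τ (τ x) = x) (h : IsIsom β g) (hN : 0 < N) (hg : g ^ N = 1)
    (r : F[X]) (u v : V) :
    β.B (aeval g r u) v = β.B u (aeval (g ^ (N - 1)) (r.map τ) v) := by
  induction r using Polynomial.induction_on' with
  | add p q hp hq =>
    rw [map_add, LinearMap.add_apply, β.add_left, hp, hq, Polynomial.map_add, map_add,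
      LinearMap.add_apply, β.add_right]
  | monomial n c =>
    rw [Polynomial.map_monomial, aeval_monomial, aeval_monomial]
    simp only [Module.End.mul_apply, Module.algebraMap_end_apply]
    rw [β.smul_left, β.smul_right, hτ, h.adj_pow hN hg]

theorem IsIsom.adj_aeval' (hτ : ∀ x, τ (τ x) = x) (h : IsIsom β g) (hN : 0 < N) (hg : g ^ N = 1)
    (r : F[X]) (u v : V) :
    β.B u (aeval g r v) = β.B (aeval (g ^ (N - 1)) (r.map τ) u) v := by
  rw [β.symm (aeval g r v) u, h.adj_aeval hτ hN hg, β.symm v]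

theorem pow_mem_of_invariant {W : Submodule F V} (hW : ∀ w ∈ W, g w ∈ W) (k : ℕ) :
    ∀ w ∈ W, (g ^ k) w ∈ W := by
  induction k with
  | zero => intro w hw; simpa using hw
  | succ k ih =>
    intro w hw
    rw [pow_succ, Module.End.mul_apply]
    exact ih _ (hW w hw)

theorem aeval_mem_of_invariant {W : Submodule F V} (hW : ∀ w ∈ W, g w ∈ W) (r : F[X]) :
    ∀ w ∈ W, aeval g r w ∈ W := by
  intro w hw
  induction r using Polynomial.induction_on' with
  | add p q hp hq =>
    rw [map_add, LinearMap.add_apply]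
    exact W.add_mem hp hq
  | monomial n c =>
    rw [aeval_monomial]
    simp only [Module.End.mul_apply, Module.algebraMap_end_apply]
    exact W.smul_mem _ (pow_mem_of_invariant hW n w hw)

theorem IsIsom.perp_invariant (h : IsIsom β g) (hN : 0 < N) (hg : g ^ N = 1) {W : Submodule F V}
    (hW : ∀ w ∈ W, g w ∈ W) : ∀ v ∈ β.perp W, g v ∈ β.perp W := by
  intro v hv w hw
  rw [← apply_pow_pred hN hg w, h]
  exact hv _ (pow_mem_of_invariant hW _ _ hw)

theorem IsIsom.restrict (h : IsIsom β g) {W : Submodule F V} (hW : ∀ w ∈ W, g w ∈ W) :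
    IsIsom (β.restrict W) (g.restrict hW) := fun u v => h u v

theorem restrict_pow_eq_one (hg : g ^ N = 1) {W : Submodule F V} (hW : ∀ w ∈ W, g w ∈ W) :
    (g.restrict hW) ^ N = 1 := by
  rw [Module.End.pow_restrict N hW]
  ext w
  simp [hg]

theorem restrict_pow_apply {W : Submodule F V} (hW : ∀ w ∈ W, g w ∈ W) (k : ℕ) (w : W) :
    (((g.restrict hW) ^ k) w : V) = (g ^ k) w := by
  rw [Module.End.pow_restrict k hW]
  rfl

end Cfsg.Agent.Helper40.Iso
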