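import Cfsg.Agent.Lib.Helper40.IsoRoot
import Cfsg.Agent.Lib.Helper40.IsoField

set_option autoImplicit false

namespace Cfsg.Agent.Helper40.Iso

open Polynomial

variable {F : Type*} [Field F] {τ : F →+* F} {ε : F}
variable {p : F[X]} [Fact (Irreducible p)]

/-- the involution of `F[X]/(p)` for a self-dual `p` -/
noncomputable def sdInv (hsd : dualHom τ p p = 0) : AdjoinRoot p →+* AdjoinRoot p :=
  AdjoinRoot.lift ((algebraMap F (AdjoinRoot p)).comp τ) (AdjoinRoot.root p)⁻¹
    (by rw [← dualHom_apply]; exact hsd)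

theorem sdInv_mk (hsd : dualHom τ p p = 0) (r : F[X]) :
    sdInv hsd (AdjoinRoot.mk p r) = dualHom τ p r := AdjoinRoot.lift_mk _ _

theorem sdInv_of (hsd : dualHom τ p p = 0) (c : F) :
    sdInv hsd (algebraMap F (AdjoinRoot p) c) = algebraMap F (AdjoinRoot p) (τ c) := by
  rw [AdjoinRoot.algebraMap_eq]
  exact AdjoinRoot.lift_of _

theorem sdInv_root (hsd : dualHom τ p p = 0) :
    sdInv hsd (AdjoinRoot.root p) = (AdjoinRoot.root p)⁻¹ := AdjoinRoot.lift_root _

theorem sdInv_sdInv (hτ : ∀ x, τ (τ x) = x) (hsd : dualHom τ p p = 0) (x : AdjoinRoot p) :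
    sdInv hsd (sdInv hsd x) = x := by
  have : (sdInv hsd).comp (sdInv hsd) = RingHom.id _ := by
    apply AdjoinRoot.ringHom_ext
    · ext c
      simp only [RingHom.coe_comp, Function.comp_apply, RingHom.id_apply]
      rw [← AdjoinRoot.algebraMap_eq, sdInv_of, sdInv_of, hτ]
    · simp only [RingHom.coe_comp, Function.comp_apply, RingHom.id_apply]
      rw [sdInv_root, map_inv₀, sdInv_root, inv_inv]
  exact congrArg (fun f => f x) this

section one

variable {W : Type*} [AddCommGroup W] [Module F W] [Nontrivial W]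
variable {β : SForm τ ε W} {g : Module.End F W} {N : ℕ}

theorem IsIsom.adj_root (hτ : ∀ x, τ (τ x) = x) (h : IsIsom β g) (hN : 0 < N)
    (hg : g ^ N = 1) (h0 : aeval g p = 0) (hsd : dualHom τ p p = 0) (x : AdjoinRoot p) (u v : W) :
    β.B (SS.rootHom p g h0 x u) v = β.B u (SS.rootHom p g h0 (sdInv hsd x) v) := by
  induction x using AdjoinRoot.induction_on with
  | ih r => rw [sdInv_mk, h.adj_mk hτ hN hg h0]

theorem IsIsom.adj_root' (hτ : ∀ x, τ (τ x) = x) (h : IsIsom β g) (hN : 0 < N)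
    (hg : g ^ N = 1) (h0 : aeval g p = 0) (hsd : dualHom τ p p = 0) (x : AdjoinRoot p) (u v : W) :
    β.B u (SS.rootHom p g h0 x v) = β.B (SS.rootHom p g h0 (sdInv hsd x) u) v := by
  rw [h.adj_root hτ hN hg h0 hsd, sdInv_sdInv hτ]

/-- some `F[X]/(p)`-line is not isotropic -/
theorem exists_form_ne_zero (hτ : ∀ x, τ (τ x) = x) (hβ : β.Nondeg) (h : IsIsom β g) (hN : 0 < N)
    (hg : g ^ N = 1) (h0 : aeval g p = 0) (hsd : dualHom τ p p = 0)
    (hne : ∃ z, sdInv hsd z ≠ z) :
    ∃ (w : W) (x : AdjoinRoot p), β.B (SS.rootHom p g h0 x w) w ≠ 0 := by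
  by_contra hall
  push Not at hall
  set ρ := SS.rootHom p g h0 with hρ
  have hstar : ∀ x u v, β.B (ρ x u) v = - β.B (ρ x v) u := by
    intro x u v
    have h1 := hall (u + v) x
    rw [map_add, β.add_left, β.add_right, β.add_right, hall u x, hall v x, zero_add, add_zero]
      at h1
    exact eq_neg_of_add_eq_zero_left h1
  obtain ⟨z, hz⟩ := hne
  obtain ⟨u, hu⟩ := exists_ne (0 : W)
  apply hu
  have hz' : z - sdInv hsd z ≠ 0 := sub_ne_zero.mpr (Ne.symm hz)
  apply rootHom_injective h0 hz'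
  apply hβ
  intro v
  have e1 : β.B (ρ z u) v = -(ε * τ (β.B (ρ (sdInv hsd z) u) v)) := by
    rw [hstar z u v, h.adj_root hτ hN hg h0 hsd z v u, β.symm (ρ (sdInv hsd z) u) v]
  have e2 : β.B (ρ (sdInv hsd z) u) v = -(ε * τ (β.B (ρ (sdInv hsd z) u) v)) := by
    have := hstar 1 (ρ (sdInv hsd z) u) v
    rw [map_one, Module.End.one_apply, Module.End.one_apply,
      β.symm (ρ (sdInv hsd z) u) v] at this
    exact this
  rw [map_sub, LinearMap.sub_apply, β.sub_left, e1, ← e2, sub_self]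

/-- a non-isotropic line is nondegenerate -/
theorem line_nondeg (hτ : ∀ x, τ (τ x) = x) (h : IsIsom β g) (hN : 0 < N)
    (hg : g ^ N = 1) (h0 : aeval g p = 0) (hsd : dualHom τ p p = 0) (w : W) (x₀ : AdjoinRoot p)
    (hx₀ : β.B (SS.rootHom p g h0 x₀ w) w ≠ 0) (m : AdjoinRoot p)
    (hm : ∀ m₂, β.B (SS.rootHom p g h0 m w) (SS.rootHom p g h0 m₂ w) = 0) :
    SS.rootHom p g h0 m w = 0 := by
  by_contra hne
  have hm0 : m ≠ 0 := by
    rintro rfl
    apply hne
    rw [map_zero, LinearMap.zero_apply]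
  apply hx₀
  have := hm (sdInv hsd (x₀ * m⁻¹))
  rw [h.adj_root' hτ hN hg h0 hsd, sdInv_sdInv hτ, ← Module.End.mul_apply, ← map_mul,
    mul_assoc, inv_mul_cancel₀ hm0, mul_one] at this
  exact this

end one

section two

variable {W : Type*} [AddCommGroup W] [Module F W] [Nontrivial W]
variable {W' : Type*} [AddCommGroup W'] [Module F W'] [Nontrivial W']
variable {β : SForm τ ε W} {g : Module.End F W} {N : ℕ}
variable {β' : SForm τ ε W'} {g' : Module.End F W'}

/-- the functional `x ↦ B (x w) w` -/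
noncomputable def lineFun (β : SForm τ ε W) (g : Module.End F W) (h0 : aeval g p = 0) (w : W) :
    AdjoinRoot p →ₗ[F] F where
  toFun x := β.B (SS.rootHom p g h0 x w) w
  map_add' x y := by rw [map_add, LinearMap.add_apply, β.add_left]
  map_smul' c x := by
    rw [map_smul, LinearMap.smul_apply, β.smul_left]
    rfl

omit [Nontrivial W] in
theorem lineFun_apply (h0 : aeval g p = 0) (w : W) (x : AdjoinRoot p) :
    lineFun β g h0 w x = β.B (SS.rootHom p g h0 x w) w := rfl

theorem lineFun_sdInv (hτ : ∀ x, τ (τ x) = x) (h : IsIsom β g) (hN : 0 < N)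
    (hg : g ^ N = 1) (h0 : aeval g p = 0) (hsd : dualHom τ p p = 0) (w : W) (x : AdjoinRoot p) :
    lineFun β g h0 w (sdInv hsd x) = ε * τ (lineFun β g h0 w x) := by
  rw [lineFun_apply, lineFun_apply, ← h.adj_root' hτ hN hg h0 hsd, β.symm]

/-- a linear functional on the field `F[X]/(p)` which is nonzero somewhere represents every
functional -/
theorem exists_mul_eq (f f' : AdjoinRoot p →ₗ[F] F) (x₀ : AdjoinRoot p) (hx₀ : f x₀ ≠ 0) :
    ∃ y, ∀ x, f (y * x) = f' x := by
  have hfd := SS.finiteDimensional_adjoinRoot (Fact.out : Irreducible p).ne_zero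
  let Φ : AdjoinRoot p →ₗ[F] Module.Dual F (AdjoinRoot p) :=
    (LinearMap.mul F (AdjoinRoot p)).compr₂ f
  have hΦ : ∀ y x, Φ y x = f (y * x) := fun y x => rfl
  have hinj : Function.Injective Φ := by
    rw [← LinearMap.ker_eq_bot, LinearMap.ker_eq_bot']
    intro y hy
    by_contra hy0
    apply hx₀
    have := congrArg (fun l => l (y⁻¹ * x₀)) hy
    simp only [hΦ, LinearMap.zero_apply] at this
    rwa [← mul_assoc, mul_inv_cancel₀ hy0, one_mul] at this
  have hsurj : Function.Surjective Φ :=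
    (LinearMap.injective_iff_surjective_of_finrank_eq_finrank
      (Subspace.dual_finrank_eq (K := F) (V := AdjoinRoot p)).symm).mp hinj
  obtain ⟨y, hy⟩ := hsurj f'
  exact ⟨y, fun x => by rw [← hΦ, hy]⟩

/-- normalisation of a non-isotropic vector -/
theorem exists_normalise [Finite F] (hτ : ∀ x, τ (τ x) = x) (h : IsIsom β g) (h' : IsIsom β' g')
    (hN : 0 < N) (hg : g ^ N = 1) (hg' : g' ^ N = 1) (h0 : aeval g p = 0) (h0' : aeval g' p = 0)
    (hsd : dualHom τ p p = 0) (hne : ∃ z, sdInv hsd z ≠ z) (w : W) (w' : W')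
    (x₀ x₀' : AdjoinRoot p) (hx₀ : β.B (SS.rootHom p g h0 x₀ w) w ≠ 0)
    (hx₀' : β'.B (SS.rootHom p g' h0' x₀' w') w' ≠ 0) :
    ∃ c : AdjoinRoot p, ∀ x, β.B (SS.rootHom p g h0 x (SS.rootHom p g h0 c w))
      (SS.rootHom p g h0 c w) = β'.B (SS.rootHom p g' h0' x w') w' := by
  have hfd := SS.finiteDimensional_adjoinRoot (Fact.out : Irreducible p).ne_zero
  have : Finite (AdjoinRoot p) := Module.finite_of_finite F
  set f := lineFun β g h0 w with hf
  set f' := lineFun β' g' h0' w' with hf'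
  obtain ⟨y, hy⟩ := exists_mul_eq f f' x₀ hx₀
  -- `y` is fixed by the involution
  have hyfix : sdInv hsd y = y := by
    by_contra hne'
    have hd : y - sdInv hsd y ≠ 0 := sub_ne_zero.mpr (Ne.symm hne')
    apply hx₀
    have key : ∀ x, f ((y - sdInv hsd y) * sdInv hsd x) = 0 := by
      intro x
      rw [sub_mul, map_sub, hy, ← map_mul, lineFun_sdInv hτ h' hN hg' h0' hsd,
        lineFun_sdInv hτ h hN hg h0 hsd, hy, sub_self]
    have := key (sdInv hsd ((y - sdInv hsd y)⁻¹ * x₀))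
    rwa [sdInv_sdInv hτ, ← mul_assoc, mul_inv_cancel₀ hd, one_mul] at this
  have hy0 : y ≠ 0 := by
    rintro rfl
    apply hx₀'
    have := hy x₀'
    rw [zero_mul, map_zero] at this
    exact this.symm
  obtain ⟨c, hc⟩ := exists_norm_eq (sdInv hsd) (sdInv_sdInv hτ hsd) hne y hyfix hy0
  refine ⟨c, fun x => ?_⟩
  have e1 : β.B (SS.rootHom p g h0 x (SS.rootHom p g h0 c w)) (SS.rootHom p g h0 c w) =
      f (y * x) := by
    rw [h.adj_root' hτ hN hg h0 hsd, ← Module.End.mul_apply, ← Module.End.mul_apply, ← map_mul,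
      ← map_mul, hf, lineFun_apply]
    congr 3
    rw [← hc]
    ring
  rw [e1, hy]
  rfl

/-- the model of a nondegenerate line common to two self-dual primary spaces -/
theorem sd_model_b [Finite F] (hτ : ∀ x, τ (τ x) = x) (hβ : β.Nondeg) (hβ' : β'.Nondeg)
    (h : IsIsom β g) (h' : IsIsom β' g')
    (hN : 0 < N) (hg : g ^ N = 1) (hg' : g' ^ N = 1) (h0 : aeval g p = 0) (h0' : aeval g' p = 0)
    (hsd : dualHom τ p p = 0) (hne : ∃ z, sdInv hsd z ≠ z) :
    ∃ (j : AdjoinRoot p →ₗ[F] W) (j' : AdjoinRoot p →ₗ[F] W'),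
      Function.Injective j ∧ (∀ m, g (j m) = j (AdjoinRoot.root p * m)) ∧
      (∀ m, g' (j' m) = j' (AdjoinRoot.root p * m)) ∧
      (∀ m₁ m₂, β'.B (j' m₁) (j' m₂) = β.B (j m₁) (j m₂)) ∧
      (∀ m, (∀ m₂, β.B (j m) (j m₂) = 0) → j m = 0) := by
  obtain ⟨w, x₀, hx₀⟩ := exists_form_ne_zero hτ hβ h hN hg h0 hsd hne
  obtain ⟨w', x₀', hx₀'⟩ := exists_form_ne_zero hτ hβ' h' hN hg' h0' hsd hne
  obtain ⟨c, hc⟩ := exists_normalise hτ h h' hN hg hg' h0 h0' hsd hne w w' x₀ x₀' hx₀ hx₀'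
  set w₁ := SS.rootHom p g h0 c w with hw₁
  have hx₁ : β.B (SS.rootHom p g h0 x₀' w₁) w₁ ≠ 0 := by rw [hc]; exact hx₀'
  let j : AdjoinRoot p →ₗ[F] W := (LinearMap.applyₗ w₁).comp (SS.rootHom p g h0).toLinearMap
  let j' : AdjoinRoot p →ₗ[F] W' := (LinearMap.applyₗ w').comp (SS.rootHom p g' h0').toLinearMap
  have hj : ∀ m, j m = SS.rootHom p g h0 m w₁ := fun m => rfl
  have hj' : ∀ m, j' m = SS.rootHom p g' h0' m w' := fun m => rfl
  have hnd := line_nondeg hτ h hN hg h0 hsd w₁ x₀' hx₁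
  refine ⟨j, j', ?_, ?_, ?_, ?_, ?_⟩
  · rw [← LinearMap.ker_eq_bot, LinearMap.ker_eq_bot']
    intro m hm
    by_contra hm0
    apply hx₁
    rw [hj] at hm
    rw [rootHom_injective h0 hm0 hm, map_zero, β.zero_left]
  · intro m
    rw [hj, hj, map_mul, SS.rootHom_root, Module.End.mul_apply]
  · intro m
    rw [hj', hj', map_mul, SS.rootHom_root, Module.End.mul_apply]
  · intro m₁ m₂
    rw [hj, hj, hj', hj', h.adj_root' hτ hN hg h0 hsd, h'.adj_root' hτ hN hg' h0' hsd,
      ← Module.End.mul_apply, ← Module.End.mul_apply, ← map_mul, ← map_mul, hc]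
  · intro m hm
    exact hnd m hm

end two

section three

variable {W : Type*} [AddCommGroup W] [Module F W]
variable {β : SForm τ ε W}

/-- the span of a pair -/
noncomputable def pairMap (u v : W) : F × F →ₗ[F] W :=
  (LinearMap.toSpanSingleton F W u).coprod (LinearMap.toSpanSingleton F W v)

theorem pairMap_apply (u v : W) (m : F × F) : pairMap u v m = m.1 • u + m.2 • v := by
  simp [pairMap, LinearMap.toSpanSingleton_apply]

theorem exists_hyp_pair [Nontrivial W] (hτid : ∀ c, τ c = c) (hβ : β.Nondeg) :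
    ∃ u v : W, β.B u v = 1 := by
  obtain ⟨u, hu⟩ := exists_ne (0 : W)
  have : ∃ v, β.B u v ≠ 0 := by
    by_contra hall
    push Not at hall
    exact hu (hβ u hall)
  obtain ⟨v, hv⟩ := this
  refine ⟨u, (β.B u v)⁻¹ • v, ?_⟩
  rw [β.smul_right, hτid, inv_mul_cancel₀ hv]

theorem hyp_formula (hτid : ∀ c, τ c = c) (hε : ε = -1) (halt : ∀ u, β.B u u = 0) (u v : W)
    (huv : β.B u v = 1) (m₁ m₂ : F × F) :
    β.B (pairMap u v m₁) (pairMap u v m₂) = m₁.1 * m₂.2 - m₁.2 * m₂.1 := by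
  have hvu : β.B v u = -1 := by rw [β.symm u v, huv, hτid, hε, mul_one]
  rw [pairMap_apply, pairMap_apply]
  simp only [β.add_left, β.add_right, β.smul_left, β.smul_right, hτid, halt, huv, hvu]
  ring

end three

section four

variable {W : Type*} [AddCommGroup W] [Module F W] [Nontrivial W]
variable {W' : Type*} [AddCommGroup W'] [Module F W'] [Nontrivial W']
variable {β : SForm τ ε W} {g : Module.End F W} {N : ℕ}
variable {β' : SForm τ ε W'} {g' : Module.End F W'}

/-- the model of a hyperbolic plane common to two spaces on which `g = ± 1` -/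
theorem sd_model_a (hβ : β.Nondeg) (hβ' : β'.Nondeg)
    (hN : 0 < N) (hg : g ^ N = 1) (h0 : aeval g p = 0) (h0' : aeval g' p = 0)
    (hsd : dualHom τ p p = 0) (hid : ∀ z, sdInv hsd z = z)
    (hε : ε = -1) (halt : ∀ u, β.B u u = 0) (halt' : ∀ u, β'.B u u = 0) :
    ∃ (j : F × F →ₗ[F] W) (j' : F × F →ₗ[F] W') (γ : Module.End F (F × F)),
      Function.Injective j ∧ (∀ m, g (j m) = j (γ m)) ∧ (∀ m, g' (j' m) = j' (γ m)) ∧
      (∀ m₁ m₂, β'.B (j' m₁) (j' m₂) = β.B (j m₁) (j m₂)) ∧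
      (∀ m, (∀ m₂, β.B (j m) (j m₂) = 0) → j m = 0) := by
  have hτid : ∀ c, τ c = c := by
    intro c
    have := hid (algebraMap F (AdjoinRoot p) c)
    rw [sdInv_of] at this
    exact (algebraMap F (AdjoinRoot p)).injective this
  have hr0 := root_ne_zero hN hg h0
  have hroot : AdjoinRoot.root p * AdjoinRoot.root p = 1 := by
    have := hid (AdjoinRoot.root p)
    rw [sdInv_root] at this
    calc AdjoinRoot.root p * AdjoinRoot.root p = AdjoinRoot.root p * (AdjoinRoot.root p)⁻¹ := by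
          rw [this]
      _ = 1 := mul_inv_cancel₀ hr0
  have hc₀ : ∃ c₀ : F, AdjoinRoot.root p = algebraMap F (AdjoinRoot p) c₀ := by
    have h2 : (AdjoinRoot.root p - 1) * (AdjoinRoot.root p + 1) = 0 := by
      linear_combination hroot
    rcases mul_eq_zero.mp h2 with h3 | h3
    · exact ⟨1, by rw [map_one]; exact sub_eq_zero.mp h3⟩
    · exact ⟨-1, by rw [map_neg, map_one]; exact eq_neg_of_add_eq_zero_left h3⟩
  obtain ⟨c₀, hc₀⟩ := hc₀
  have hgw : ∀ w, g w = c₀ • w := by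
    intro w
    rw [← SS.rootHom_root p g h0, hc₀, AlgHom.commutes, Module.algebraMap_end_apply]
  have hgw' : ∀ w, g' w = c₀ • w := by
    intro w
    rw [← SS.rootHom_root p g' h0', hc₀, AlgHom.commutes, Module.algebraMap_end_apply]
  obtain ⟨u, v, huv⟩ := exists_hyp_pair hτid hβ
  obtain ⟨u', v', huv'⟩ := exists_hyp_pair hτid hβ'
  have hf := hyp_formula hτid hε halt u v huv
  have hf' := hyp_formula hτid hε halt' u' v' huv'
  have hzero : ∀ m : F × F, (∀ m₂ : F × F, β.B (pairMap u v m) (pairMap u v m₂) = 0) → m = 0 := by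
    intro m hm
    have h1 := hm (0, 1)
    have h2 := hm (1, 0)
    rw [hf] at h1 h2
    simp only [mul_one, mul_zero, sub_zero, zero_sub, neg_eq_zero] at h1 h2
    exact Prod.ext h1 h2
  refine ⟨pairMap u v, pairMap u' v', c₀ • (1 : Module.End F (F × F)), ?_, ?_, ?_, ?_, ?_⟩
  · rw [← LinearMap.ker_eq_bot, LinearMap.ker_eq_bot']
    intro m hm
    apply hzero
    intro m₂
    rw [hm, β.zero_left]
  · intro m
    rw [hgw, LinearMap.smul_apply, Module.End.one_apply, (pairMap u v).map_smul]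
  · intro m
    rw [hgw', LinearMap.smul_apply, Module.End.one_apply, (pairMap u' v').map_smul]
  · intro m₁ m₂
    rw [hf, hf']
  · intro m hm
    rw [hzero m hm, map_zero]

end four

end Cfsg.Agent.Helper40.Iso
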