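import Mathlib

set_option autoImplicit false

namespace Cfsg.Agent.Helper40.SS

open Polynomial TensorProduct

variable {F : Type*} [Field F] {V : Type*} [AddCommGroup V] [Module F V] [FiniteDimensional F V]

/-- every irreducible factor of the characteristic polynomial divides the minimal polynomial -/
theorem dvd_minpoly_of_dvd_charpoly (f : Module.End F V) (q : F[X]) (hq : Irreducible q)
    (hdvd : q ∣ f.charpoly) : q ∣ minpoly F f := by
  have : Fact (Irreducible q) := ⟨hq⟩
  let E := AdjoinRoot q
  let α : E := AdjoinRoot.root q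
  let fE : Module.End E (E ⊗[F] V) := f.baseChange E
  have h1 : fE.charpoly.IsRoot α := by
    rw [LinearMap.charpoly_baseChange, IsRoot, eval_map_algebraMap, AdjoinRoot.aeval_eq,
      AdjoinRoot.mk_eq_zero]
    exact hdvd
  have h2 : (minpoly E fE).IsRoot α :=
    Module.End.hasEigenvalue_iff_isRoot.mp ((Module.End.hasEigenvalue_iff_isRoot_charpoly fE α).mpr h1)
  have h3 : minpoly E fE ∣ (minpoly F f).map (algebraMap F E) := by
    apply minpoly.dvd
    rw [aeval_map_algebraMap]
    have : fE = Module.End.baseChangeHom F E V f := rfl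
    rw [this, aeval_algHom_apply, minpoly.aeval, map_zero]
  have h4 : ((minpoly F f).map (algebraMap F E)).IsRoot α := h2.dvd h3
  rw [IsRoot, eval_map_algebraMap, AdjoinRoot.aeval_eq, AdjoinRoot.mk_eq_zero] at h4
  exact h4

end Cfsg.Agent.Helper40.SS
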