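import Cfsg.Agent.Lib.Helper40.SSPrimary
import Cfsg.Agent.Lib.Helper40.SSIrrFac

set_option autoImplicit false

namespace Cfsg.Agent.Helper40.SS

open Polynomial

universe u v w

variable {F : Type w} [Field F]

section coprime

variable {W : Type*} [AddCommGroup W] [Module F W] [FiniteDimensional F W]
variable {W' : Type*} [AddCommGroup W'] [Module F W'] [FiniteDimensional F W']

/-- endomorphisms killed by coprime polynomials have coprime characteristic polynomials -/
theorem isCoprime_charpoly {p Q : F[X]} (hcop : IsCoprime p Q) (a : Module.End F W)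
    (b : Module.End F W') (ha : aeval a p = 0) (hb : aeval b Q = 0) :
    IsCoprime a.charpoly b.charpoly := by
  apply isCoprime_of_irreducible_dvd
  · rintro ⟨h, -⟩
    exact a.charpoly_monic.ne_zero h
  · intro r hr hra hrb
    have h1 : r ∣ p := (dvd_minpoly_of_dvd_charpoly a r hr hra).trans (minpoly.dvd F a ha)
    have h2 : r ∣ Q := (dvd_minpoly_of_dvd_charpoly b r hr hrb).trans (minpoly.dvd F b hb)
    exact hr.not_isUnit (hcop.isUnit_of_dvd' h1 h2)

variable {U : Type*} [AddCommGroup U] [Module F U] [FiniteDimensional F U]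
variable {U' : Type*} [AddCommGroup U'] [Module F U'] [FiniteDimensional F U']

theorem charpoly_eq_of_coprime {p Q : F[X]} (hcop : IsCoprime p Q) (a₁ : Module.End F W)
    (a₂ : Module.End F U) (b₁ : Module.End F W') (b₂ : Module.End F U')
    (h₁ : aeval a₁ p = 0) (h₂ : aeval a₂ Q = 0) (h₁' : aeval b₁ p = 0) (h₂' : aeval b₂ Q = 0)
    (h : a₁.charpoly * a₂.charpoly = b₁.charpoly * b₂.charpoly) :
    a₁.charpoly = b₁.charpoly ∧ a₂.charpoly = b₂.charpoly := by
  have c1 : IsCoprime a₁.charpoly b₂.charpoly := isCoprime_charpoly hcop a₁ b₂ h₁ h₂'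
  have c2 : IsCoprime b₁.charpoly a₂.charpoly := isCoprime_charpoly hcop b₁ a₂ h₁' h₂
  have d1 : a₁.charpoly ∣ b₁.charpoly := c1.dvd_of_dvd_mul_right (h ▸ dvd_mul_right _ _)
  have d2 : b₁.charpoly ∣ a₁.charpoly := c2.dvd_of_dvd_mul_right (h ▸ dvd_mul_right _ _)
  have e1 : a₁.charpoly = b₁.charpoly :=
    eq_of_monic_of_associated a₁.charpoly_monic b₁.charpoly_monic (associated_of_dvd_dvd d1 d2)
  refine ⟨e1, ?_⟩
  rw [e1] at h
  exact mul_left_cancel₀ b₁.charpoly_monic.ne_zero h

end coprime

section factor

variable {V : Type*} [AddCommGroup V] [Module F V] [FiniteDimensional F V]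

/-- splitting off an irreducible factor of the minimal polynomial -/
theorem exists_factor {P : F[X]} (hP : Squarefree P) [Nontrivial V] (a : Module.End F V)
    (ha : aeval a P = 0) :
    ∃ p Q : F[X], Irreducible p ∧ IsCoprime p Q ∧ P = p * Q ∧
      LinearMap.ker (aeval a p) ≠ ⊥ := by
  have hmin : ¬ IsUnit (minpoly F a) := minpoly.not_isUnit F a
  obtain ⟨p, hp, hpdvd⟩ := WfDvdMonoid.exists_irreducible_factor hmin
    (minpoly.ne_zero (Algebra.IsIntegral.isIntegral a))
  obtain ⟨Q, rfl⟩ : p ∣ P := hpdvd.trans (minpoly.dvd F a ha)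
  have hcop : IsCoprime p Q := (squarefree_mul_iff.mp hP).1.isCoprime
  refine ⟨p, Q, hp, hcop, rfl, fun hbot => ?_⟩
  have hc := isCompl_ker_aeval a hcop ha
  rw [hbot] at hc
  have htop : LinearMap.ker (aeval a Q) = ⊤ := eq_top_of_isCompl_bot hc.symm
  have hQ : aeval a Q = 0 := LinearMap.ker_eq_top.mp htop
  have h2 : p ∣ Q := hpdvd.trans (minpoly.dvd F a hQ)
  exact hp.not_isUnit (hcop.isUnit_of_dvd' dvd_rfl h2)

end factor

/-- **Semisimple endomorphisms with the same characteristic polynomial are similar.** -/
theorem sim_of_charpoly_eq_aux {P : F[X]} (hP : Squarefree P) :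
    ∀ (d : ℕ) {V : Type u} {V' : Type v} [AddCommGroup V] [Module F V] [FiniteDimensional F V]
      [AddCommGroup V'] [Module F V'] [FiniteDimensional F V']
      (a : Module.End F V) (b : Module.End F V'),
      Module.finrank F V = d → aeval a P = 0 → aeval b P = 0 → a.charpoly = b.charpoly →
      Sim a b := by
  intro d
  induction d using Nat.strong_induction_on with
  | _ d ih =>
    intro V V' _ _ _ _ _ _ a b hd ha hb hc
    have hfr : Module.finrank F V = Module.finrank F V' := by
      rw [← LinearMap.charpoly_natDegree a, hc, LinearMap.charpoly_natDegree]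
    by_cases hV : Subsingleton V
    · have h0 : Module.finrank F V = 0 := Module.finrank_zero_iff.mpr hV
      have hV' : Subsingleton V' := Module.finrank_zero_iff.mp (hfr ▸ h0)
      exact ⟨LinearEquiv.ofFinrankEq V V' hfr, fun v => Subsingleton.elim _ _⟩
    · have : Nontrivial V := not_subsingleton_iff_nontrivial.mp hV
      obtain ⟨p, Q, hp, hcop, rfl, hne⟩ := exists_factor hP a ha
      have hcompl := isCompl_ker_aeval a hcop ha
      have hcompl' := isCompl_ker_aeval b hcop hb
      have hsa := sim_of_isCompl a hcompl (ker_aeval_invariant a p) (ker_aeval_invariant a Q)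
      have hsb := sim_of_isCompl b hcompl' (ker_aeval_invariant b p) (ker_aeval_invariant b Q)
      have hca := hsa.charpoly_eq
      have hcb := hsb.charpoly_eq
      rw [LinearMap.charpoly_prodMap] at hca hcb
      obtain ⟨h1, h2⟩ := charpoly_eq_of_coprime hcop _ _ _ _ (aeval_restrict_ker a p)
        (aeval_restrict_ker a Q) (aeval_restrict_ker b p) (aeval_restrict_ker b Q)
        (hca.trans (hc.trans hcb.symm))
      have hs1 : Sim (a.restrict (ker_aeval_invariant a p)) (b.restrict (ker_aeval_invariant b p)) := by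
        apply sim_of_irreducible hp _ _ (aeval_restrict_ker a p) (aeval_restrict_ker b p)
        rw [← LinearMap.charpoly_natDegree (a.restrict (ker_aeval_invariant a p)), h1,
          LinearMap.charpoly_natDegree]
      have hlt : Module.finrank F (LinearMap.ker (aeval a Q)) < d := by
        have h3 := Submodule.finrank_add_eq_of_isCompl hcompl
        have h4 : 0 < Module.finrank F (LinearMap.ker (aeval a p)) := by
          rw [Nat.pos_iff_ne_zero, Ne, Submodule.finrank_eq_zero]
          exact hne
        omega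
      have hs2 : Sim (a.restrict (ker_aeval_invariant a Q)) (b.restrict (ker_aeval_invariant b Q)) :=
        ih _ hlt _ _ rfl (aeval_restrict_eq_zero a _ _ ha) (aeval_restrict_eq_zero b _ _ hb) h2
      exact hsa.symm.trans ((hs1.prodMap hs2).trans hsb)

theorem sim_of_charpoly_eq {P : F[X]} (hP : Squarefree P) {V : Type u} {V' : Type v}
    [AddCommGroup V] [Module F V] [FiniteDimensional F V]
    [AddCommGroup V'] [Module F V'] [FiniteDimensional F V']
    (a : Module.End F V) (b : Module.End F V') (ha : aeval a P = 0) (hb : aeval b P = 0)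
    (hc : a.charpoly = b.charpoly) : Sim a b :=
  sim_of_charpoly_eq_aux hP _ a b rfl ha hb hc

theorem conj_commute {V : Type*} [AddCommGroup V] [Module F V] {W : Type*} [AddCommGroup W]
    [Module F W] (e : W ≃ₗ[F] V) (a : Module.End F V) (c y : Module.End F W) (hae : a = e.conj c)
    (hcy : y * c = c * y) : e.conj y * a = a * e.conj y := by
  subst hae
  rw [Module.End.mul_eq_comp, Module.End.mul_eq_comp, ← LinearEquiv.conj_comp,
    ← LinearEquiv.conj_comp, ← Module.End.mul_eq_comp, ← Module.End.mul_eq_comp, hcy]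

/-- over a finite field, a semisimple endomorphism of a nonzero space commutes with maps of every
determinant -/
theorem exists_commute_det [Finite F] {P : F[X]} (hP : Squarefree P) {V : Type u}
    [AddCommGroup V] [Module F V] [FiniteDimensional F V] [Nontrivial V]
    (a : Module.End F V) (ha : aeval a P = 0) (δ : F) :
    ∃ y : Module.End F V, y * a = a * y ∧ LinearMap.det y = δ := by
  obtain ⟨p, Q, hp, hcop, rfl, hne⟩ := exists_factor hP a ha
  have hcompl := isCompl_ker_aeval a hcop ha
  have : Nontrivial (LinearMap.ker (aeval a p)) := Submodule.nontrivial_iff_ne_bot.mpr hne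
  obtain ⟨y₁, hy₁, hdet⟩ := exists_commute_det_of_irreducible hp
    (a.restrict (ker_aeval_invariant a p)) (aeval_restrict_ker a p) δ
  obtain ⟨e, he⟩ := sim_of_isCompl a hcompl (ker_aeval_invariant a p) (ker_aeval_invariant a Q)
  have hae := Sim.eq_conj he
  refine ⟨e.conj (y₁.prodMap LinearMap.id), ?_, ?_⟩
  · apply conj_commute e a _ _ hae
    rw [LinearMap.prodMap_mul, LinearMap.prodMap_mul, hy₁]
    rfl
  · rw [LinearEquiv.conj_apply, LinearMap.comp_assoc, LinearMap.det_conj, LinearMap.det_prodMap, hdet]
    simp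

end Cfsg.Agent.Helper40.SS
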