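import Cfsg.Agent.Lib.Helper40.IsoNSD
import Cfsg.Agent.Lib.Helper40.IsoSD
import Cfsg.Agent.Lib.Helper40.SSConj

set_option autoImplicit false

namespace Cfsg.Agent.Helper40.Iso

open Polynomial

universe u v w

variable {F : Type w} [Field F] {τ : F →+* F} {ε : F}

section sd

variable {p : F[X]} [Fact (Irreducible p)]
variable {V : Type*} [AddCommGroup V] [Module F V]
variable {β : SForm τ ε V} {g : Module.End F V} {N : ℕ} {Q : F[X]}

theorem T_zero_on_ker (hN : 0 < N) (hg : g ^ N = 1) (hsd : dualHom τ p p = 0)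
    (hU : LinearMap.ker (aeval g p) ≠ ⊥) :
    ∀ u ∈ LinearMap.ker (aeval g p), aeval (g ^ (N - 1)) (p.map τ) u = 0 := by
  intro u hu
  have hUinv := SS.ker_aeval_invariant g p
  have h0U := SS.aeval_restrict_ker g p
  have : Nontrivial (LinearMap.ker (aeval g p)) := Submodule.nontrivial_iff_ne_bot.mpr hU
  have hgU := restrict_pow_eq_one hg hUinv
  have h1 := rootHom_dualHom (τ := τ) hN hgU h0U p
  rw [hsd, map_zero] at h1
  have h2 := congrArg (fun f => ((f (⟨u, hu⟩ : LinearMap.ker (aeval g p)) :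
    LinearMap.ker (aeval g p)) : V)) h1
  simp only [LinearMap.zero_apply, ZeroMemClass.coe_zero] at h2
  rw [coe_aeval_restrict_pow] at h2
  exact h2.symm

omit [Fact (Irreducible p)] in
theorem exists_preimage_of_mem_ker (hcop : IsCoprime p Q) (k : V)
    (hk : k ∈ LinearMap.ker (aeval g Q)) : ∃ k', k = aeval g p k' := by
  obtain ⟨s, t, hst⟩ := hcop
  refine ⟨aeval g s k, ?_⟩
  have h1 := congrArg (fun r => aeval g r k) hst
  simp only [map_add, map_mul, map_one, LinearMap.add_apply, Module.End.mul_apply,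
    Module.End.one_apply] at h1
  rw [LinearMap.mem_ker.mp hk, map_zero, add_zero] at h1
  calc k = aeval g s (aeval g p k) := h1.symm
    _ = aeval g p (aeval g s k) := by
      rw [← Module.End.mul_apply, ← Module.End.mul_apply, ← map_mul, ← map_mul, mul_comm]

/-- the primary part of a self-dual `p` is nondegenerate -/
theorem sd_ker_nondeg (hτ : ∀ x, τ (τ x) = x) (hβ : β.Nondeg) (h : IsIsom β g) (hN : 0 < N)
    (hg : g ^ N = 1) (hcop : IsCoprime p Q) (hPQ : aeval g (p * Q) = 0)
    (hsd : dualHom τ p p = 0) (hU : LinearMap.ker (aeval g p) ≠ ⊥) :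
    (β.restrict (LinearMap.ker (aeval g p))).Nondeg := by
  intro u hu
  apply Subtype.ext
  apply hβ
  intro x
  have hc := SS.isCompl_ker_aeval g hcop hPQ
  obtain ⟨u₂, k, hu₂, hk, rfl⟩ := Submodule.codisjoint_iff_exists_add_eq.mp hc.codisjoint x
  obtain ⟨k', rfl⟩ := exists_preimage_of_mem_ker hcop k hk
  rw [β.add_right, h.adj_aeval' hτ hN hg, T_zero_on_ker hN hg hsd hU _ u.2, β.zero_left,
    add_zero]
  exact hu ⟨u₂, hu₂⟩

end sd

section key

variable {V : Type u} [AddCommGroup V] [Module F V] [FiniteDimensional F V]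
variable {V' : Type v} [AddCommGroup V'] [Module F V'] [FiniteDimensional F V']
variable {β : SForm τ ε V} {g : Module.End F V} {N : ℕ}
variable {β' : SForm τ ε V'} {g' : Module.End F V'}

omit [FiniteDimensional F V] in
theorem aeval_X_pow_sub_one_end (hg : g ^ N = 1) : aeval g (X ^ N - 1 : F[X]) = 0 := by
  simp [hg]

/-- the key step: split off a common nondegenerate piece -/
theorem keyConcl [Finite F] [Nontrivial V] (hτ : ∀ x, τ (τ x) = x) (hN : 0 < N)
    (hsq : Squarefree (X ^ N - 1 : F[X])) (hβ : β.Nondeg) (hβ' : β'.Nondeg)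
    (h : IsIsom β g) (h' : IsIsom β' g') (hg : g ^ N = 1) (hg' : g' ^ N = 1)
    (halt : (∀ c, τ c = c) → ε = -1 ∧ (∀ u, β.B u u = 0) ∧ (∀ u, β'.B u u = 0))
    (hc : g.charpoly = g'.charpoly) : KeyConcl β β' g g' := by
  have ha := aeval_X_pow_sub_one_end hg
  have hb := aeval_X_pow_sub_one_end hg'
  obtain ⟨p, Q, hp, hcop, hPQ, hne⟩ := SS.exists_factor hsq g ha
  rw [hPQ] at ha hb
  have : Fact (Irreducible p) := ⟨hp⟩
  have hcompl := SS.isCompl_ker_aeval g hcop ha
  have hcompl' := SS.isCompl_ker_aeval g' hcop hb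
  have hsa := SS.sim_of_isCompl g hcompl (SS.ker_aeval_invariant g p) (SS.ker_aeval_invariant g Q)
  have hsb := SS.sim_of_isCompl g' hcompl' (SS.ker_aeval_invariant g' p)
    (SS.ker_aeval_invariant g' Q)
  have hca := hsa.charpoly_eq
  have hcb := hsb.charpoly_eq
  rw [LinearMap.charpoly_prodMap] at hca hcb
  obtain ⟨h1, -⟩ := SS.charpoly_eq_of_coprime hcop _ _ _ _ (SS.aeval_restrict_ker g p)
    (SS.aeval_restrict_ker g Q) (SS.aeval_restrict_ker g' p) (SS.aeval_restrict_ker g' Q)
    (hca.trans (hc.trans hcb.symm))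
  have hfr : Module.finrank F (LinearMap.ker (aeval g p)) =
      Module.finrank F (LinearMap.ker (aeval g' p)) := by
    rw [← LinearMap.charpoly_natDegree (g.restrict (SS.ker_aeval_invariant g p)), h1,
      LinearMap.charpoly_natDegree]
  have hsim : SS.Sim (g.restrict (SS.ker_aeval_invariant g p))
      (g'.restrict (SS.ker_aeval_invariant g' p)) :=
    SS.sim_of_irreducible hp _ _ (SS.aeval_restrict_ker g p) (SS.aeval_restrict_ker g' p) hfr
  have hne' : LinearMap.ker (aeval g' p) ≠ ⊥ := by
    intro hbot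
    apply hne
    rw [← Submodule.finrank_eq_zero, hfr, hbot, finrank_bot]
  by_cases hsd : dualHom τ p p = 0
  · have hUinv := SS.ker_aeval_invariant g p
    have hUinv' := SS.ker_aeval_invariant g' p
    have h0U := SS.aeval_restrict_ker g p
    have h0U' := SS.aeval_restrict_ker g' p
    have : Nontrivial (LinearMap.ker (aeval g p)) := Submodule.nontrivial_iff_ne_bot.mpr hne
    have : Nontrivial (LinearMap.ker (aeval g' p)) := Submodule.nontrivial_iff_ne_bot.mpr hne'
    have hndU := sd_ker_nondeg hτ hβ h hN hg hcop ha hsd hne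
    have hndU' := sd_ker_nondeg hτ hβ' h' hN hg' hcop hb hsd hne'
    have hgU := restrict_pow_eq_one hg hUinv
    have hgU' := restrict_pow_eq_one hg' hUinv'
    by_cases hid : ∀ z, sdInv hsd z = z
    · have hτid : ∀ c, τ c = c := by
        intro c
        have := hid (algebraMap F (AdjoinRoot p) c)
        rw [sdInv_of] at this
        exact (algebraMap F (AdjoinRoot p)).injective this
      obtain ⟨hε, halt1, halt2⟩ := halt hτid
      obtain ⟨j, j', γ, hj, hjg, hjg', hB, hnd⟩ := sd_model_a hndU hndU' hN hgU h0U h0U' hsd hid hε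
        (fun u => halt1 u) (fun u => halt2 u)
      exact keyConcl_of_sub_model hUinv hUinv' j j' γ hj hjg hjg' hB hnd
    · push Not at hid
      obtain ⟨j, j', hj, hjg, hjg', hB, hnd⟩ := sd_model_b hτ hndU hndU' (h.restrict hUinv)
        (h'.restrict hUinv') hN hgU hgU' h0U h0U' hsd hid
      exact keyConcl_of_sub_model hUinv hUinv' j j' (LinearMap.mulLeft F (AdjoinRoot.root p)) hj
        hjg hjg' hB hnd
  · exact nsd_keyConcl hτ hβ hβ' h h' hN hg hg' hcop ha hb hsd hne hsim

end key

/-- **Equivariant isometry classification**: semisimple isometries with the same characteristic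
polynomial are conjugate by an isometry. -/
theorem isoEquiv_aux [Finite F] (hτ : ∀ x, τ (τ x) = x) {N : ℕ} (hN : 0 < N)
    (hsq : Squarefree (X ^ N - 1 : F[X])) :
    ∀ (d : ℕ) {V : Type u} {V' : Type v} [AddCommGroup V] [Module F V] [FiniteDimensional F V]
      [AddCommGroup V'] [Module F V'] [FiniteDimensional F V']
      (β : SForm τ ε V) (β' : SForm τ ε V') (g : Module.End F V) (g' : Module.End F V'),
      Module.finrank F V = d → β.Nondeg → β'.Nondeg → IsIsom β g → IsIsom β' g' →
      g ^ N = 1 → g' ^ N = 1 →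
      ((∀ c, τ c = c) → ε = -1 ∧ (∀ u, β.B u u = 0) ∧ (∀ u, β'.B u u = 0)) →
      g.charpoly = g'.charpoly → IsoEquiv β β' g g' := by
  intro d
  induction d using Nat.strong_induction_on with
  | _ d ih =>
    intro V V' _ _ _ _ _ _ β β' g g' hd hβ hβ' h h' hg hg' halt hc
    have hfr : Module.finrank F V = Module.finrank F V' := by
      rw [← LinearMap.charpoly_natDegree g, hc, LinearMap.charpoly_natDegree]
    by_cases hV : Subsingleton V
    · have h0 : Module.finrank F V = 0 := Module.finrank_zero_iff.mpr hV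
      have hV' : Subsingleton V' := Module.finrank_zero_iff.mp (hfr ▸ h0)
      refine ⟨LinearEquiv.ofFinrankEq V V' hfr, fun v => Subsingleton.elim _ _, fun a b => ?_⟩
      rw [Subsingleton.elim a 0, Subsingleton.elim (LinearEquiv.ofFinrankEq V V' hfr 0) 0,
        β.zero_left, β'.zero_left]
    · have : Nontrivial V := not_subsingleton_iff_nontrivial.mp hV
      obtain ⟨V₁, V₁', h₁, h₁', hne, hnd₁, iso₁⟩ := keyConcl hτ hN hsq hβ hβ' h h' hg hg' halt hc
      have hnd₁' := iso₁.nondeg hnd₁
      have hcompl := β.isCompl_perp V₁ hnd₁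
      have hcompl' := β'.isCompl_perp V₁' hnd₁'
      have h₂ := h.perp_invariant hN hg h₁
      have h₂' := h'.perp_invariant hN hg' h₁'
      have hsa := SS.sim_of_isCompl g hcompl h₁ h₂
      have hsb := SS.sim_of_isCompl g' hcompl' h₁' h₂'
      have hca := hsa.charpoly_eq
      have hcb := hsb.charpoly_eq
      rw [LinearMap.charpoly_prodMap] at hca hcb
      have hc₁ := iso₁.sim.charpoly_eq
      have hc₂ : (g.restrict h₂).charpoly = (g'.restrict h₂').charpoly := by
        have := hca.trans (hc.trans hcb.symm)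
        rw [hc₁] at this
        exact mul_left_cancel₀ (LinearMap.charpoly_monic _).ne_zero this
      have hlt : Module.finrank F (β.perp V₁) < d := by
        have h3 := Submodule.finrank_add_eq_of_isCompl hcompl
        have h4 : 0 < Module.finrank F V₁ := by
          rw [Nat.pos_iff_ne_zero, Ne, Submodule.finrank_eq_zero]
          exact hne
        omega
      have iso₂ : IsoEquiv (β.restrict (β.perp V₁)) (β'.restrict (β'.perp V₁'))
          (g.restrict h₂) (g'.restrict h₂') := by
        refine ih _ hlt _ _ _ _ rfl (β.nondeg_perp hβ V₁ hcompl) (β'.nondeg_perp hβ' V₁' hcompl')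
          (h.restrict h₂) (h'.restrict h₂') (restrict_pow_eq_one hg h₂)
          (restrict_pow_eq_one hg' h₂') ?_ hc₂
        intro hτid
        obtain ⟨hε, halt1, halt2⟩ := halt hτid
        exact ⟨hε, fun u => halt1 u, fun u => halt2 u⟩
      exact IsoEquiv.glue hcompl hcompl' h₁ h₂ h₁' h₂' (fun a ha b hb => hb a ha)
        (fun a ha b hb => hb a ha) iso₁ iso₂

theorem isoEquiv_of_charpoly_eq [Finite F] (hτ : ∀ x, τ (τ x) = x) {N : ℕ} (hN : 0 < N)
    (hsq : Squarefree (X ^ N - 1 : F[X])) {V : Type u} {V' : Type v} [AddCommGroup V] [Module F V]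
    [FiniteDimensional F V] [AddCommGroup V'] [Module F V'] [FiniteDimensional F V']
    (β : SForm τ ε V) (β' : SForm τ ε V') (g : Module.End F V) (g' : Module.End F V')
    (hβ : β.Nondeg) (hβ' : β'.Nondeg) (h : IsIsom β g) (h' : IsIsom β' g')
    (hg : g ^ N = 1) (hg' : g' ^ N = 1)
    (halt : (∀ c, τ c = c) → ε = -1 ∧ (∀ u, β.B u u = 0) ∧ (∀ u, β'.B u u = 0))
    (hc : g.charpoly = g'.charpoly) : IsoEquiv β β' g g' :=
  isoEquiv_aux hτ hN hsq _ β β' g g' rfl hβ hβ' h h' hg hg' halt hc

end Cfsg.Agent.Helper40.Iso
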