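import Cfsg.Agent.Lib.Helper40.IsoDet
import Cfsg.Agent.Lib.Helper40.IsoMain

set_option autoImplicit false

namespace Cfsg.Agent.Helper40.Iso

open Polynomial

universe u w

section norm

variable {F : Type*} [Field F] {E : Type*} [Field E] [Algebra F E]

/-- elements of `σ`-norm one with prescribed `F`-norm -/
theorem exists_norm_one_elt [Finite E] (τ : F →+* F) (hτ : ∀ x, τ (τ x) = x)
    (hτne : ∃ c, τ c ≠ c) (σ : E →+* E) (hσ : ∀ x, σ (σ x) = x)
    (hστ : ∀ c, σ (algebraMap F E c) = algebraMap F E (τ c)) (l : F) (hl : l * τ l = 1) :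
    ∃ d : E, d * σ d = 1 ∧ Algebra.norm F d = l := by
  have : Finite F := Finite.of_injective _ (algebraMap F E).injective
  obtain ⟨y, hy0, hy⟩ := hilbert90 τ hτ hτne l hl
  obtain ⟨z, hz⟩ := FiniteField.norm_surjective F E y
  have hz0 : z ≠ 0 := by
    rintro rfl
    rw [Algebra.norm_zero] at hz
    exact hy0 hz.symm
  have hσz0 : σ z ≠ 0 := by
    intro h0
    apply hz0
    rw [← hσ z, h0, map_zero]
  let τe : F ≃+* F := RingEquiv.ofRingHom τ τ (by ext x; simp [hτ]) (by ext x; simp [hτ])
  let σe : E ≃+* E := RingEquiv.ofRingHom σ σ (by ext x; simp [hσ]) (by ext x; simp [hσ])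
  have hnorm : Algebra.norm F (σ z) = τ (Algebra.norm F z) := by
    have he : (algebraMap F E).comp (τe : F →+* F) = (σe : E →+* E).comp (algebraMap F E) := by
      ext c
      exact (hστ c).symm
    have h1 := Algebra.norm_eq_of_equiv_equiv τe σe he z
    have h2 := congrArg τe h1
    rw [RingEquiv.apply_symm_apply] at h2
    exact h2.symm
  refine ⟨z * (σ z)⁻¹, ?_, ?_⟩
  · rw [map_mul, map_inv₀, hσ]
    field_simp
  · have hτy0 : τ y ≠ 0 := by
      intro h0
      apply hy0
      rw [← hτ y, h0, map_zero]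
    have h3 : Algebra.norm F (z * (σ z)⁻¹) * Algebra.norm F (σ z) = Algebra.norm F z := by
      rw [← map_mul, inv_mul_cancel_right₀ hσz0]
    rw [hnorm, hz] at h3
    apply mul_right_cancel₀ hτy0
    rw [h3, hy]

end norm

variable {F : Type w} [Field F] {τ : F →+* F} {ε : F}

section sums

variable {V : Type*} [AddCommGroup V] [Module F V] (β : SForm τ ε V)

theorem SForm.sum_left {ι : Type*} (s : Finset ι) (a : ι → F) (x : ι → V) (v : V) :
    β.B (∑ i ∈ s, a i • x i) v = ∑ i ∈ s, a i * β.B (x i) v := by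
  classical
  induction s using Finset.induction_on with
  | empty => simp [β.zero_left]
  | insert i s hi ih => rw [Finset.sum_insert hi, Finset.sum_insert hi, β.add_left, β.smul_left, ih]

theorem SForm.sum_right {ι : Type*} (s : Finset ι) (a : ι → F) (x : ι → V) (u : V) :
    β.B u (∑ i ∈ s, a i • x i) = ∑ i ∈ s, τ (a i) * β.B u (x i) := by
  classical
  induction s using Finset.induction_on with
  | empty => simp [β.zero_right]
  | insert i s hi ih =>
    rw [Finset.sum_insert hi, Finset.sum_insert hi, β.add_right, β.smul_right, ih]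

end sums

section adjdet

variable {V : Type*} [AddCommGroup V] [Module F V] [FiniteDimensional F V] {β : SForm τ ε V}

/-- the determinant of the inverse adjoint with respect to a perfect pairing of subspaces -/
theorem det_mul_det_dual (hτ : ∀ x, τ (τ x) = x) (U R : Submodule F V)
    (hP1 : ∀ ℓ : U →ₗ[F] F, ∃ r ∈ R, ∀ u : U, ℓ u = β.B (u : V) r)
    (hP2 : ∀ r ∈ R, (∀ u ∈ U, β.B u r = 0) → r = 0)
    (y : U →ₗ[F] U) (ψ : R →ₗ[F] R)
    (hyψ : ∀ (u : U) (r : R), β.B (y u : V) (ψ r : V) = β.B (u : V) (r : V)) :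
    LinearMap.det y * τ (LinearMap.det ψ) = 1 := by
  classical
  set k := Module.finrank F U with hk
  let b : Module.Basis (Fin k) F U := Module.finBasis F U
  choose rr hrrR hrr using fun j : Fin k => hP1 (b.coord j)
  have hδ : ∀ i j, β.B (b i : V) (rr j) = if i = j then 1 else 0 := by
    intro i j
    rw [← hrr j (b i), Module.Basis.coord_apply, Module.Basis.repr_self, Finsupp.single_apply]
  let rs : Fin k → R := fun j => ⟨rr j, hrrR j⟩
  have hτinj : Function.Injective τ := τ.injective
  have hli : LinearIndependent F rs := by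
    rw [linearIndependent_iff']
    intro s c hc i hi
    have h1 : β.B (b i : V) ((∑ j ∈ s, c j • rs j : R) : V) = 0 := by
      rw [hc, ZeroMemClass.coe_zero, β.zero_right]
    rw [Submodule.coe_sum] at h1
    simp only [Submodule.coe_smul] at h1
    rw [β.sum_right] at h1
    simp only [rs, hδ, mul_ite, mul_one, mul_zero] at h1
    rw [Finset.sum_ite_eq s i, if_pos hi] at h1
    exact hτinj (h1.trans (map_zero τ).symm)
  have hspan : ⊤ ≤ Submodule.span F (Set.range rs) := by
    intro r _
    have hr : r = ∑ j, τ (β.B (b j : V) (r : V)) • rs j := by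
      rw [← sub_eq_zero]
      apply Subtype.ext
      apply hP2 _ (r - ∑ j, τ (β.B (b j : V) (r : V)) • rs j).2
      intro u hu
      have hu' : (⟨u, hu⟩ : U) = ∑ i, b.repr ⟨u, hu⟩ i • b i := (b.sum_repr _).symm
      have hu'' : u = ∑ i, b.repr ⟨u, hu⟩ i • (b i : V) := by
        have := congrArg Subtype.val hu'
        rw [Submodule.coe_sum] at this
        simpa using this
      rw [hu'', β.sum_left]
      apply Finset.sum_eq_zero
      intro i _
      rw [Submodule.coe_sub, β.sub_right, Submodule.coe_sum]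
      simp only [Submodule.coe_smul]
      rw [β.sum_right]
      simp only [rs, hδ, hτ, mul_ite, mul_one, mul_zero]
      rw [Finset.sum_ite_eq Finset.univ i, if_pos (Finset.mem_univ i), sub_self, mul_zero]
    rw [hr]
    exact Submodule.sum_mem _ fun j _ => Submodule.smul_mem _ _ (Submodule.subset_span ⟨j, rfl⟩)
  let c : Module.Basis (Fin k) F R := Module.Basis.mk hli hspan
  have hc : ∀ j, (c j : V) = rr j := by
    intro j
    rw [Module.Basis.mk_apply]
  set Y := LinearMap.toMatrix b b y with hY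
  set Z := LinearMap.toMatrix c c ψ with hZ
  have hyb : ∀ j, (y (b j) : V) = ∑ i, Y i j • (b i : V) := by
    intro j
    have h1 : y (b j) = ∑ i, b.repr (y (b j)) i • b i := (b.sum_repr _).symm
    have h2 := congrArg Subtype.val h1
    rw [Submodule.coe_sum] at h2
    simp only [Submodule.coe_smul] at h2
    rw [h2]
    apply Finset.sum_congr rfl
    intro i _
    rw [hY, LinearMap.toMatrix_apply]
  have hψc : ∀ l, (ψ (c l) : V) = ∑ i, Z i l • (c i : V) := by
    intro l
    have h1 : ψ (c l) = ∑ i, c.repr (ψ (c l)) i • c i := (c.sum_repr _).symm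
    have h2 := congrArg Subtype.val h1
    rw [Submodule.coe_sum] at h2
    simp only [Submodule.coe_smul] at h2
    rw [h2]
    apply Finset.sum_congr rfl
    intro i _
    rw [hZ, LinearMap.toMatrix_apply]
  have hmat : Y.transpose * Z.map τ = 1 := by
    ext j l
    have h1 := hyψ (b j) (c l)
    rw [hyb, hψc, β.sum_left] at h1
    simp only [β.sum_right, hc, hδ, mul_ite, mul_one, mul_zero] at h1
    simp only [Finset.sum_ite_eq, Finset.mem_univ, if_true] at h1
    rw [Matrix.mul_apply, Matrix.one_apply]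
    simp only [Matrix.transpose_apply, Matrix.map_apply]
    rw [h1]
  have hdet := congrArg Matrix.det hmat
  rw [Matrix.det_mul, Matrix.det_transpose, Matrix.det_one, ← RingHom.mapMatrix_apply,
    ← RingHom.map_det, hY, hZ, LinearMap.det_toMatrix, LinearMap.det_toMatrix] at hdet
  exact hdet

end adjdet

section main

variable {V : Type u} [AddCommGroup V] [Module F V] [FiniteDimensional F V]
variable {β : SForm τ ε V} {g : Module.End F V} {N : ℕ}

omit [FiniteDimensional F V] in
/-- the self-dual case: an isometry of prescribed determinant supported on a line -/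
theorem isoDet_sd [Finite F] (hτ : ∀ x, τ (τ x) = x)
    (hτne : ∃ c, τ c ≠ c) (hN : 0 < N) (hβ : β.Nondeg) (h : IsIsom β g) (hg : g ^ N = 1)
    {p Q : F[X]} [Fact (Irreducible p)] (hcop : IsCoprime p Q) (ha : aeval g (p * Q) = 0)
    (hne : LinearMap.ker (aeval g p) ≠ ⊥) (hsd : dualHom τ p p = 0) (l : F) (hl : l * τ l = 1) :
    ∃ (V₁ : Submodule F V) (h₁ : ∀ v ∈ V₁, g v ∈ V₁), (β.restrict V₁).Nondeg ∧
      IsoDet (β.restrict V₁) (g.restrict h₁) l := by
  have hp : Irreducible p := Fact.out
  have hUinv := SS.ker_aeval_invariant g p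
  have h0U := SS.aeval_restrict_ker g p
  have : Nontrivial (LinearMap.ker (aeval g p)) := Submodule.nontrivial_iff_ne_bot.mpr hne
  have hgU := restrict_pow_eq_one hg hUinv
  have hndU := sd_ker_nondeg hτ hβ h hN hg hcop ha hsd hne
  have hne' : ∃ z, sdInv hsd z ≠ z := by
    obtain ⟨c, hc⟩ := hτne
    refine ⟨algebraMap F _ c, ?_⟩
    rw [sdInv_of]
    intro h
    exact hc ((algebraMap F (AdjoinRoot p)).injective h)
  have hIU := h.restrict hUinv
  obtain ⟨w, x₀, hx₀⟩ := exists_form_ne_zero hτ hndU hIU hN hgU h0U hsd hne'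
  have hfd := SS.finiteDimensional_adjoinRoot hp.ne_zero
  have : Finite (AdjoinRoot p) := Module.finite_of_finite F
  obtain ⟨d, hd1, hdn⟩ := exists_norm_one_elt τ hτ hτne (sdInv hsd) (sdInv_sdInv hτ hsd)
    (sdInv_of hsd) l hl
  have hd0 : d ≠ 0 := by
    rintro rfl
    simp at hd1
  let j₀ : AdjoinRoot p →ₗ[F] LinearMap.ker (aeval g p) :=
    (LinearMap.applyₗ w).comp (SS.rootHom p (g.restrict hUinv) h0U).toLinearMap
  let j : AdjoinRoot p →ₗ[F] V := (LinearMap.ker (aeval g p)).subtype.comp j₀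
  have hj : ∀ m, j m = ((SS.rootHom p (g.restrict hUinv) h0U m w :
    LinearMap.ker (aeval g p)) : V) := fun m => rfl
  let θ : AdjoinRoot p ≃ₗ[F] AdjoinRoot p :=
    LinearEquiv.ofLinearMap (LinearMap.mulLeft F d) (LinearMap.mulLeft F d⁻¹)
      (by ext x; simp [hd0]) (by ext x; simp [hd0])
  have hθ : ∀ m, θ m = d * m := fun m => rfl
  have hdet : LinearMap.det θ.toLinearMap = l := by
    rw [← hdn, Algebra.norm_apply]
    congr 1
  have hnd := line_nondeg hτ hIU hN hgU h0U hsd w x₀ hx₀
  have hjinj : Function.Injective j := by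
    rw [← LinearMap.ker_eq_bot, LinearMap.ker_eq_bot']
    intro m hm
    by_contra hm0
    apply hx₀
    rw [hj] at hm
    have hm' : SS.rootHom p (g.restrict hUinv) h0U m w = 0 := Subtype.ext hm
    rw [rootHom_injective h0U hm0 hm', map_zero, SForm.zero_left]
  have hjg : ∀ m, g (j m) = j (LinearMap.mulLeft F (AdjoinRoot.root p) m) := by
    intro m
    rw [hj, hj, LinearMap.mulLeft_apply, map_mul, SS.rootHom_root, Module.End.mul_apply]
    rfl
  have hB : ∀ m₁ m₂, β.B (j (θ m₁)) (j (θ m₂)) = β.B (j m₁) (j m₂) := by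
    intro m₁ m₂
    rw [hj, hj, hj, hj, hθ, hθ]
    change (β.restrict _).B _ _ = (β.restrict _).B _ _
    have hvec : ∀ a b : AdjoinRoot p, SS.rootHom p (g.restrict hUinv) h0U a
        (SS.rootHom p (g.restrict hUinv) h0U b w) = SS.rootHom p (g.restrict hUinv) h0U (a * b) w := by
      intro a b
      rw [map_mul, Module.End.mul_apply]
    have hE : sdInv hsd (d * m₂) * (d * m₁) = sdInv hsd m₂ * m₁ := by
      rw [map_mul]
      calc sdInv hsd d * sdInv hsd m₂ * (d * m₁) = (d * sdInv hsd d) * (sdInv hsd m₂ * m₁) := by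
            ring
        _ = sdInv hsd m₂ * m₁ := by rw [hd1, one_mul]
    rw [hIU.adj_root' hτ hN hgU h0U hsd, hIU.adj_root' hτ hN hgU h0U hsd, hvec, hvec, hE]
  have h₁ := range_invariant j (LinearMap.mulLeft F (AdjoinRoot.root p)) hjg
  refine ⟨LinearMap.range j, h₁, nondeg_range j ?_, ?_⟩
  · intro m hm
    rw [hj]
    have := hnd m (fun m₂ => hm m₂)
    rw [this]
    rfl
  · rw [← hdet]
    refine IsoDet.of_model j _ θ hjinj hjg ?_ hB h₁
    intro m
    rw [hθ, hθ, LinearMap.mulLeft_apply, LinearMap.mulLeft_apply]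
    ring

/-- the non-self-dual case: an isometry of prescribed determinant on the hyperbolic piece -/
theorem isoDet_nsd [Finite F] (hτ : ∀ x, τ (τ x) = x)
    (hτne : ∃ c, τ c ≠ c) (hN : 0 < N) (hβ : β.Nondeg) (h : IsIsom β g) (hg : g ^ N = 1)
    {p Q : F[X]} [Fact (Irreducible p)] (hcop : IsCoprime p Q) (ha : aeval g (p * Q) = 0)
    (hne : LinearMap.ker (aeval g p) ≠ ⊥) (hnsd : dualHom τ p p ≠ 0) (l : F)
    (hl : l * τ l = 1) :
    ∃ (V₁ : Submodule F V) (h₁ : ∀ v ∈ V₁, g v ∈ V₁), (β.restrict V₁).Nondeg ∧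
      IsoDet (β.restrict V₁) (g.restrict h₁) l := by
  have hp : Irreducible p := Fact.out
  have hUinv := SS.ker_aeval_invariant g p
  have h0U := SS.aeval_restrict_ker g p
  have : Nontrivial (LinearMap.ker (aeval g p)) := Submodule.nontrivial_iff_ne_bot.mpr hne
  have hRinv := h.perp_invariant hN hg (SS.ker_aeval_invariant g Q)
  obtain ⟨y0, hy0, hy⟩ := hilbert90 τ hτ hτne l hl
  obtain ⟨y, hycomm, hydet⟩ := SS.exists_commute_det_of_irreducible hp (g.restrict hUinv) h0U y0
  have hyunit : IsUnit y :=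
    (LinearMap.isUnit_iff_isUnit_det y).mpr (by rw [hydet]; exact isUnit_iff_ne_zero.mpr hy0)
  have hybij := (Module.End.isUnit_iff y).mp hyunit
  let φ : LinearMap.ker (aeval g p) ≃ₗ[F] LinearMap.ker (aeval g p) :=
    LinearEquiv.ofBijective y hybij
  have hφ : ∀ u, φ u = y u := fun u => rfl
  have hφg : ∀ u, φ (g.restrict hUinv u) = g.restrict hUinv (φ u) := by
    intro u
    have := congrArg (fun f => f u) hycomm
    simpa [hφ] using this
  obtain ⟨ψ, hψ⟩ := exists_dualMap (β := β) (g := g) hβ hcop ha φ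
  have hφpow : ∀ (k : ℕ) (u : LinearMap.ker (aeval g p)),
      (φ (((g.restrict hUinv) ^ k) u) : V) = (g ^ k) (φ u : V) := by
    intro k
    induction k with
    | zero => intro u; simp
    | succ k ih =>
      intro u
      rw [pow_succ, Module.End.mul_apply, ih, hφg, pow_succ, Module.End.mul_apply]
      rfl
  have hψg : ∀ r : β.perp (LinearMap.ker (aeval g Q)),
      ψ (g.restrict hRinv r) = g.restrict hRinv (ψ r) := by
    intro r
    apply dual_vec_unique hβ hcop ha φ
    intro u
    rw [hψ]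
    change β.B (u : V) (g (r : V)) = β.B (φ u : V) (g (ψ r : V))
    rw [h.adj_right hN hg, h.adj_right hN hg, ← hφpow, hψ, restrict_pow_apply]
  have hψinj : Function.Injective ψ := by
    rw [← LinearMap.ker_eq_bot, LinearMap.ker_eq_bot']
    intro r hr
    apply Subtype.ext
    apply pairing_right hβ hcop ha _ r.2
    intro u hu
    have := hψ r ⟨u, hu⟩
    rw [hr, ZeroMemClass.coe_zero, β.zero_right] at this
    exact this.symm
  let ψe : β.perp (LinearMap.ker (aeval g Q)) ≃ₗ[F] β.perp (LinearMap.ker (aeval g Q)) :=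
    LinearEquiv.ofInjectiveEndo ψ hψinj
  have hψe : ∀ r, ψe r = ψ r := fun r => rfl
  have hdetψ : LinearMap.det y * τ (LinearMap.det ψ) = 1 :=
    det_mul_det_dual hτ _ _ (pairing_riesz hβ hcop ha) (pairing_right hβ hcop ha) y ψ
      (fun u r => hψ r u)
  let j : LinearMap.ker (aeval g p) × β.perp (LinearMap.ker (aeval g Q)) →ₗ[F] V :=
    (LinearMap.ker (aeval g p)).subtype.coprod (β.perp (LinearMap.ker (aeval g Q))).subtype
  have hj : ∀ m, j m = (m.1 : V) + (m.2 : V) := fun m => by simp [j]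
  have hiso := ker_isotropic hτ h hN hg hnsd hne
  have hRiso := perp_isotropic hτ hβ h hN hg hcop ha hnsd hne
  have hform : ∀ m₁ m₂, β.B (j m₁) (j m₂) =
      β.B (m₁.1 : V) (m₂.2 : V) + β.B (m₁.2 : V) (m₂.1 : V) := by
    intro m₁ m₂
    rw [hj, hj, β.add_left, β.add_right, β.add_right, hiso _ m₁.1.2 _ m₂.1.2,
      hRiso _ m₁.2.2 _ m₂.2.2, zero_add, add_zero]
  let θ := φ.prodCongr ψe
  have hθ : ∀ m, θ m = (φ m.1, ψ m.2) := fun m => rfl
  have hjinj : Function.Injective j := by
    rw [← LinearMap.ker_eq_bot, LinearMap.ker_eq_bot']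
    intro m hm
    rw [hj] at hm
    have h1 : (m.1 : V) = -(m.2 : V) := eq_neg_of_add_eq_zero_left hm
    have h2 : (m.1 : V) = 0 := by
      apply disjoint_ker_perp hτ hβ h hN hg ha hnsd hne _ m.1.2
      rw [h1]
      exact Submodule.neg_mem _ m.2.2
    have h3 : (m.2 : V) = 0 := by rw [h2, zero_add] at hm; exact hm
    exact Prod.ext (Subtype.ext h2) (Subtype.ext h3)
  have hjg : ∀ m, g (j m) = j (((g.restrict hUinv).prodMap (g.restrict hRinv)) m) := by
    intro m
    rw [hj, hj, map_add]
    rfl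
  have h₁ := range_invariant j _ hjg
  refine ⟨LinearMap.range j, h₁, nondeg_range j ?_, ?_⟩
  · intro m hm
    have h1 : (m.2 : V) = 0 := by
      apply pairing_right hβ hcop ha _ m.2.2
      intro u hu
      have := hm (⟨u, hu⟩, 0)
      rw [hform] at this
      simp only [ZeroMemClass.coe_zero, β.zero_right, zero_add] at this
      exact β.ortho_symm this
    have h2 : (m.1 : V) = 0 := by
      apply pairing_left hβ hcop ha _ m.1.2
      intro r hr
      have := hm (0, ⟨r, hr⟩)
      rw [hform] at this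
      simp only [ZeroMemClass.coe_zero, β.zero_right, add_zero] at this
      exact this
    rw [hj, h1, h2, add_zero]
  · have hdet : LinearMap.det θ.toLinearMap = l := by
      have h1 : θ.toLinearMap = (y.prodMap ψ) := by
        apply LinearMap.ext
        intro m
        rfl
      rw [h1, LinearMap.det_prodMap, hydet]
      have h2 : τ (LinearMap.det ψ) = y0⁻¹ := by
        rw [hydet] at hdetψ
        exact eq_inv_of_mul_eq_one_right hdetψ
      have h3 : LinearMap.det ψ = (τ y0)⁻¹ := by
        rw [← hτ (LinearMap.det ψ), h2, map_inv₀]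
      have hτy0 : τ y0 ≠ 0 := by
        intro h0
        apply hy0
        rw [← hτ y0, h0, map_zero]
      rw [h3, mul_inv_eq_iff_eq_mul₀ hτy0]
      exact hy.symm
    rw [← hdet]
    refine IsoDet.of_model j _ θ hjinj hjg ?_ ?_ h₁
    · intro m
      rw [hθ, hθ, LinearMap.prodMap_apply, LinearMap.prodMap_apply]
      simp only
      rw [hφg, hψg]
    · intro m₁ m₂
      rw [hform, hform, hθ, hθ]
      simp only
      rw [hψ, β.symm (φ m₂.1 : V) (ψ m₁.2 : V), hψ, ← β.symm]

/-- **Centralizers of semisimple isometries have all determinants of norm one.** -/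
theorem isoDet_of_norm_one [Finite F] [Nontrivial V] (hτ : ∀ x, τ (τ x) = x)
    (hτne : ∃ c, τ c ≠ c) (hN : 0 < N) (hsq : Squarefree (X ^ N - 1 : F[X])) (hβ : β.Nondeg)
    (h : IsIsom β g) (hg : g ^ N = 1) (l : F) (hl : l * τ l = 1) : IsoDet β g l := by
  have ha := aeval_X_pow_sub_one_end hg
  obtain ⟨p, Q, hp, hcop, hPQ, hne⟩ := SS.exists_factor hsq g ha
  rw [hPQ] at ha
  have : Fact (Irreducible p) := ⟨hp⟩
  have hs : ∃ (V₁ : Submodule F V) (h₁ : ∀ v ∈ V₁, g v ∈ V₁), (β.restrict V₁).Nondeg ∧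
      IsoDet (β.restrict V₁) (g.restrict h₁) l := by
    by_cases hsd : dualHom τ p p = 0
    · exact isoDet_sd hτ hτne hN hβ h hg hcop ha hne hsd l hl
    · exact isoDet_nsd hτ hτne hN hβ h hg hcop ha hne hsd l hl
  obtain ⟨V₁, h₁, hnd, i₁⟩ := hs
  have hc := β.isCompl_perp V₁ hnd
  have h₂ := h.perp_invariant hN hg h₁
  have := IsoDet.glue hc h₁ h₂ (fun a ha b hb => hb a ha) i₁
    (IsoDet.one (β := β.restrict (β.perp V₁)) (g := g.restrict h₂))
  rwa [mul_one] at this

end main

end Cfsg.Agent.Helper40.Iso
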