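import Cfsg.Agent.Lib.Helper40.IsoGlue

set_option autoImplicit false

namespace Cfsg.Agent.Helper40.Iso

open Polynomial

variable {F : Type*} [Field F] {τ : F →+* F} {ε : F}
variable {V : Type*} [AddCommGroup V] [Module F V]

/-- an isometry commuting with `g` of determinant `δ` exists -/
def IsoDet (β : SForm τ ε V) (g : Module.End F V) (δ : F) : Prop :=
  ∃ e : V ≃ₗ[F] V, (∀ v, e (g v) = g (e v)) ∧ (∀ u v, β.B (e u) (e v) = β.B u v) ∧
    LinearMap.det e.toLinearMap = δ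

variable {β : SForm τ ε V} {g : Module.End F V}

theorem IsoDet.one : IsoDet β g 1 :=
  ⟨LinearEquiv.refl F V, fun _ => rfl, fun _ _ => rfl, by
    change LinearMap.det (LinearMap.id : V →ₗ[F] V) = 1
    exact LinearMap.det_id⟩

/-- gluing along an orthogonal decomposition multiplies determinants -/
theorem IsoDet.glue [FiniteDimensional F V] {V₁ V₂ : Submodule F V} (hc : IsCompl V₁ V₂)
    (h₁ : ∀ v ∈ V₁, g v ∈ V₁) (h₂ : ∀ v ∈ V₂, g v ∈ V₂)
    (ho : ∀ a ∈ V₁, ∀ b ∈ V₂, β.B a b = 0) {δ₁ δ₂ : F}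
    (i₁ : IsoDet (β.restrict V₁) (g.restrict h₁) δ₁)
    (i₂ : IsoDet (β.restrict V₂) (g.restrict h₂) δ₂) : IsoDet β g (δ₁ * δ₂) := by
  obtain ⟨e₁, he₁, hb₁, hd₁⟩ := i₁
  obtain ⟨e₂, he₂, hb₂, hd₂⟩ := i₂
  let P := Submodule.prodEquivOfIsCompl V₁ V₂ hc
  let e : V ≃ₗ[F] V := P.symm ≪≫ₗ (e₁.prodCongr e₂) ≪≫ₗ P
  have key : ∀ (a : V₁) (b : V₂), e ((a : V) + (b : V)) = (e₁ a : V) + (e₂ b : V) := by
    intro a b
    have h1 : P.symm ((a : V) + (b : V)) = (a, b) := by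
      rw [LinearEquiv.symm_apply_eq, Submodule.coe_prodEquivOfIsCompl']
    simp only [e, LinearEquiv.trans_apply, h1, LinearEquiv.prodCongr_apply, P,
      Submodule.coe_prodEquivOfIsCompl']
  have hsplit : ∀ v : V, ∃ (a : V₁) (b : V₂), v = (a : V) + (b : V) := by
    intro v
    obtain ⟨a, b, ha, hb, rfl⟩ := Submodule.codisjoint_iff_exists_add_eq.mp hc.codisjoint v
    exact ⟨⟨a, ha⟩, ⟨b, hb⟩, rfl⟩
  refine ⟨e, ?_, ?_, ?_⟩
  · intro v
    obtain ⟨a, b, rfl⟩ := hsplit v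
    have h1 : g ((a : V) + (b : V)) = ((g.restrict h₁ a : V₁) : V) + ((g.restrict h₂ b : V₂) : V) := by
      rw [map_add]
      rfl
    rw [h1, key, key, he₁, he₂, map_add]
    rfl
  · intro u v
    obtain ⟨a, b, rfl⟩ := hsplit u
    obtain ⟨c, d, rfl⟩ := hsplit v
    rw [key, key, β.add_left, β.add_right, β.add_right, β.add_left, β.add_right, β.add_right,
      ho _ (e₁ a).2 _ (e₂ d).2, β.ortho_symm (ho _ (e₁ c).2 _ (e₂ b).2),
      ho _ a.2 _ d.2, β.ortho_symm (ho _ c.2 _ b.2)]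
    have := hb₁ a c
    have := hb₂ b d
    simp only [SForm.restrict_B] at *
    simp [*]
  · have h1 : e.toLinearMap = (P : (V₁ × V₂) →ₗ[F] V) ∘ₗ
        (e₁.toLinearMap.prodMap e₂.toLinearMap) ∘ₗ (P.symm : V →ₗ[F] (V₁ × V₂)) := by
      apply LinearMap.ext
      intro v
      rfl
    rw [h1, LinearMap.det_conj, LinearMap.det_prodMap, hd₁, hd₂]

section model

variable {M : Type*} [AddCommGroup M] [Module F M]

/-- an automorphism of a model space gives an isometry of its image -/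
theorem IsoDet.of_model (j : M →ₗ[F] V) (γ : Module.End F M) (θ : M ≃ₗ[F] M)
    (hj : Function.Injective j) (hg : ∀ m, g (j m) = j (γ m))
    (hθγ : ∀ m, θ (γ m) = γ (θ m))
    (hθB : ∀ m₁ m₂, β.B (j (θ m₁)) (j (θ m₂)) = β.B (j m₁) (j m₂))
    (h₁ : ∀ v ∈ LinearMap.range j, g v ∈ LinearMap.range j) :
    IsoDet (β.restrict (LinearMap.range j)) (g.restrict h₁) (LinearMap.det θ.toLinearMap) := by
  let J := LinearEquiv.ofInjective j hj
  let e : LinearMap.range j ≃ₗ[F] LinearMap.range j := J.symm ≪≫ₗ θ ≪≫ₗ J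
  have key : ∀ (v : LinearMap.range j) (m : M), j m = (v : V) → (e v : V) = j (θ m) := by
    intro v m hm
    have : J.symm v = m := by
      rw [LinearEquiv.symm_apply_eq]
      apply Subtype.ext
      rw [← hm]
      rfl
    simp only [e, LinearEquiv.trans_apply, this]
    rfl
  refine ⟨e, ?_, ?_, ?_⟩
  · intro v
    obtain ⟨m, hm⟩ := LinearMap.mem_range.mp v.2
    apply Subtype.ext
    have h2 : j (γ m) = ((g.restrict h₁ v : LinearMap.range j) : V) := by
      rw [← hg m, hm]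
      rfl
    rw [key _ (γ m) h2]
    change j (θ (γ m)) = g (e v : V)
    rw [key v m hm, hg, hθγ]
  · intro u v
    obtain ⟨m₁, hm₁⟩ := LinearMap.mem_range.mp u.2
    obtain ⟨m₂, hm₂⟩ := LinearMap.mem_range.mp v.2
    simp only [SForm.restrict_B]
    rw [key u m₁ hm₁, key v m₂ hm₂, hθB, hm₁, hm₂]
  · have h1 : e.toLinearMap = (J : M →ₗ[F] LinearMap.range j) ∘ₗ θ.toLinearMap ∘ₗ
        (J.symm : LinearMap.range j →ₗ[F] M) := by
      apply LinearMap.ext
      intro v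
      rfl
    rw [h1, LinearMap.det_conj]

end model

end Cfsg.Agent.Helper40.Iso
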