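import Mathlib

set_option autoImplicit false

namespace Cfsg.Agent.Helper40.Iso

variable {F : Type*} [Field F]

/-- an unbundled `τ`-sesquilinear, `ε`-hermitian form -/
structure SForm (τ : F →+* F) (ε : F) (V : Type*) [AddCommGroup V] [Module F V] where
  B : V → V → F
  add_left : ∀ u v w, B (u + v) w = B u w + B v w
  smul_left : ∀ (c : F) u v, B (c • u) v = c * B u v
  add_right : ∀ u v w, B u (v + w) = B u v + B u w
  smul_right : ∀ (c : F) u v, B u (c • v) = τ c * B u v
  symm : ∀ u v, B v u = ε * τ (B u v)

namespace SForm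

variable {τ : F →+* F} {ε : F}
variable {V : Type*} [AddCommGroup V] [Module F V]
variable (β : SForm τ ε V)

theorem zero_left (v : V) : β.B 0 v = 0 := by
  have := β.smul_left 0 0 v
  simpa using this

theorem zero_right (u : V) : β.B u 0 = 0 := by
  have := β.smul_right 0 u 0
  simpa using this

theorem neg_left (u v : V) : β.B (-u) v = - β.B u v := by
  have := β.smul_left (-1) u v
  simpa using this

theorem neg_right (u v : V) : β.B u (-v) = - β.B u v := by
  have := β.smul_right (-1) u v
  simpa using this

theorem sub_left (u v w : V) : β.B (u - v) w = β.B u w - β.B v w := by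
  rw [sub_eq_add_neg, β.add_left, β.neg_left, ← sub_eq_add_neg]

theorem sub_right (u v w : V) : β.B u (v - w) = β.B u v - β.B u w := by
  rw [sub_eq_add_neg, β.add_right, β.neg_right, ← sub_eq_add_neg]

theorem ortho_symm {u v : V} (h : β.B u v = 0) : β.B v u = 0 := by
  rw [β.symm u v, h, map_zero, mul_zero]

/-- the functional `u ↦ B u v` -/
def toDual (v : V) : V →ₗ[F] F where
  toFun u := β.B u v
  map_add' u w := β.add_left u w v
  map_smul' c u := β.smul_left c u v

@[simp] theorem toDual_apply (u v : V) : β.toDual v u = β.B u v := rfl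

/-- orthogonal complement -/
def perp (W : Submodule F V) : Submodule F V where
  carrier := {v | ∀ w ∈ W, β.B w v = 0}
  add_mem' := by
    intro a b ha hb w hw
    rw [β.add_right, ha w hw, hb w hw, add_zero]
  zero_mem' := fun w _ => β.zero_right w
  smul_mem' := by
    intro c a ha w hw
    rw [β.smul_right, ha w hw, mul_zero]

theorem mem_perp {W : Submodule F V} {v : V} : v ∈ β.perp W ↔ ∀ w ∈ W, β.B w v = 0 := Iff.rfl

theorem mem_perp' {W : Submodule F V} {v : V} : v ∈ β.perp W ↔ ∀ w ∈ W, β.B v w = 0 :=
  ⟨fun h w hw => β.ortho_symm (h w hw), fun h w hw => β.ortho_symm (h w hw)⟩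

/-- restriction to a subspace -/
def restrict (W : Submodule F V) : SForm τ ε W where
  B u v := β.B u v
  add_left u v w := β.add_left u v w
  smul_left c u v := β.smul_left c u v
  add_right u v w := β.add_right u v w
  smul_right c u v := β.smul_right c u v
  symm u v := β.symm u v

@[simp] theorem restrict_B (W : Submodule F V) (u v : W) : (β.restrict W).B u v = β.B u v := rfl

/-- nondegeneracy -/
def Nondeg : Prop := ∀ u, (∀ v, β.B u v = 0) → u = 0

variable {β}

theorem Nondeg.right (h : β.Nondeg) (v : V) (hv : ∀ u, β.B u v = 0) : v = 0 :=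
  h v fun u => β.ortho_symm (hv u)

theorem Nondeg.eq_of_left (h : β.Nondeg) {u u' : V} (hu : ∀ v, β.B u v = β.B u' v) : u = u' := by
  rw [← sub_eq_zero]
  apply h
  intro v
  rw [β.sub_left, hu v, sub_self]

theorem Nondeg.eq_of_right (h : β.Nondeg) {v v' : V} (hv : ∀ u, β.B u v = β.B u v') : v = v' := by
  rw [← sub_eq_zero]
  apply h.right
  intro u
  rw [β.sub_right, hv u, sub_self]

/-- Riesz representation over a finite field -/
theorem Nondeg.riesz [Finite F] [FiniteDimensional F V] (h : β.Nondeg) (ℓ : V →ₗ[F] F) :
    ∃ v, ∀ u, ℓ u = β.B u v := by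
  have : Finite V := Module.finite_of_finite F
  have hinj : Function.Injective β.toDual := by
    intro v v' hvv
    apply h.eq_of_right
    intro u
    have := congrArg (fun f => f u) hvv
    simpa using this
  have hcard : Nat.card (Module.Dual F V) ≤ Nat.card V := by
    rw [Module.natCard_eq_pow_finrank (K := F) (V := V),
      Module.natCard_eq_pow_finrank (K := F) (V := Module.Dual F V), Subspace.dual_finrank_eq]
  have : Finite (Module.Dual F V) := Module.finite_of_finite F
  obtain ⟨v, hv⟩ := (hinj.bijective_of_nat_card_le hcard).2 ℓ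
  refine ⟨v, fun u => ?_⟩
  rw [← hv]
  rfl

variable (β)

/-- a nondegenerate subspace is complemented by its orthogonal -/
theorem isCompl_perp [Finite F] [FiniteDimensional F V] (W : Submodule F V)
    (hW : (β.restrict W).Nondeg) : IsCompl W (β.perp W) := by
  constructor
  · rw [Submodule.disjoint_def]
    intro v hv hv'
    have := hW ⟨v, hv⟩ (fun w => (β.mem_perp'.mp hv') w w.2)
    exact congrArg Subtype.val this
  · rw [Submodule.codisjoint_iff_exists_add_eq]
    intro v
    obtain ⟨w, hw⟩ := hW.riesz ((β.toDual v).comp W.subtype)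
    refine ⟨w, v - w, w.2, ?_, by abel⟩
    intro u hu
    have := hw ⟨u, hu⟩
    simp only [LinearMap.coe_comp, Submodule.coe_subtype, Function.comp_apply, toDual_apply,
      restrict_B] at this
    rw [β.sub_right, this, sub_self]

theorem nondeg_perp (hβ : β.Nondeg) (W : Submodule F V) (hc : IsCompl W (β.perp W)) :
    (β.restrict (β.perp W)).Nondeg := by
  intro u hu
  apply Subtype.ext
  apply hβ
  intro x
  obtain ⟨w, v, hw, hv, rfl⟩ := Submodule.codisjoint_iff_exists_add_eq.mp hc.codisjoint x
  rw [β.add_right, (β.mem_perp'.mp u.2) w hw, zero_add]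
  exact hu ⟨v, hv⟩

end SForm

end Cfsg.Agent.Helper40.Iso
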