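import Cfsg.Agent.Lib.Helper40.IsoAdjoint

set_option autoImplicit false

namespace Cfsg.Agent.Helper40.Iso

open Polynomial

variable {F : Type*} [Field F] {τ : F →+* F} {ε : F}
variable {V : Type*} [AddCommGroup V] [Module F V]
variable {V' : Type*} [AddCommGroup V'] [Module F V']

/-- an equivariant isometry exists -/
def IsoEquiv (β : SForm τ ε V) (β' : SForm τ ε V') (g : Module.End F V) (g' : Module.End F V') :
    Prop :=
  ∃ e : V ≃ₗ[F] V', (∀ v, e (g v) = g' (e v)) ∧ ∀ u v, β'.B (e u) (e v) = β.B u v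

variable {β : SForm τ ε V} {β' : SForm τ ε V'} {g : Module.End F V} {g' : Module.End F V'}

theorem IsoEquiv.sim (h : IsoEquiv β β' g g') : SS.Sim g g' := by
  obtain ⟨e, he, -⟩ := h
  exact ⟨e, he⟩

theorem IsoEquiv.nondeg (h : IsoEquiv β β' g g') (hβ : β.Nondeg) : β'.Nondeg := by
  obtain ⟨e, -, he⟩ := h
  intro u hu
  have : e.symm u = 0 := by
    apply hβ
    intro v
    rw [← he, e.apply_symm_apply]
    exact hu _
  simpa using congrArg e this

/-- gluing along orthogonal decompositions -/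
theorem IsoEquiv.glue {V₁ V₂ : Submodule F V} {V₁' V₂' : Submodule F V'}
    (hc : IsCompl V₁ V₂) (hc' : IsCompl V₁' V₂')
    (h₁ : ∀ v ∈ V₁, g v ∈ V₁) (h₂ : ∀ v ∈ V₂, g v ∈ V₂)
    (h₁' : ∀ v ∈ V₁', g' v ∈ V₁') (h₂' : ∀ v ∈ V₂', g' v ∈ V₂')
    (ho : ∀ a ∈ V₁, ∀ b ∈ V₂, β.B a b = 0) (ho' : ∀ a ∈ V₁', ∀ b ∈ V₂', β'.B a b = 0)
    (i₁ : IsoEquiv (β.restrict V₁) (β'.restrict V₁') (g.restrict h₁) (g'.restrict h₁'))
    (i₂ : IsoEquiv (β.restrict V₂) (β'.restrict V₂') (g.restrict h₂) (g'.restrict h₂')) :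
    IsoEquiv β β' g g' := by
  obtain ⟨e₁, he₁, hb₁⟩ := i₁
  obtain ⟨e₂, he₂, hb₂⟩ := i₂
  let e : V ≃ₗ[F] V' := (Submodule.prodEquivOfIsCompl V₁ V₂ hc).symm ≪≫ₗ
    (e₁.prodCongr e₂) ≪≫ₗ Submodule.prodEquivOfIsCompl V₁' V₂' hc'
  have key : ∀ (a : V₁) (b : V₂), e ((a : V) + (b : V)) = (e₁ a : V') + (e₂ b : V') := by
    intro a b
    have h1 : (Submodule.prodEquivOfIsCompl V₁ V₂ hc).symm ((a : V) + (b : V)) = (a, b) := by
      rw [LinearEquiv.symm_apply_eq, Submodule.coe_prodEquivOfIsCompl']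
    simp only [e, LinearEquiv.trans_apply, h1, LinearEquiv.prodCongr_apply,
      Submodule.coe_prodEquivOfIsCompl']
  have hsplit : ∀ v : V, ∃ (a : V₁) (b : V₂), v = (a : V) + (b : V) := by
    intro v
    obtain ⟨a, b, ha, hb, rfl⟩ := Submodule.codisjoint_iff_exists_add_eq.mp hc.codisjoint v
    exact ⟨⟨a, ha⟩, ⟨b, hb⟩, rfl⟩
  refine ⟨e, ?_, ?_⟩
  · intro v
    obtain ⟨a, b, rfl⟩ := hsplit v
    have h1 : g ((a : V) + (b : V)) = ((g.restrict h₁ a : V₁) : V) + ((g.restrict h₂ b : V₂) : V) := by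
      rw [map_add]
      rfl
    rw [h1, key, key, he₁, he₂, map_add]
    rfl
  · intro u v
    obtain ⟨a, b, rfl⟩ := hsplit u
    obtain ⟨c, d, rfl⟩ := hsplit v
    rw [key, key, β'.add_left, β'.add_right, β'.add_right, β.add_left, β.add_right, β.add_right,
      ho' _ (e₁ a).2 _ (e₂ d).2, β'.ortho_symm (ho' _ (e₁ c).2 _ (e₂ b).2),
      ho _ a.2 _ d.2, β.ortho_symm (ho _ c.2 _ b.2)]
    have := hb₁ a c
    have := hb₂ b d
    simp only [SForm.restrict_B] at *
    simp [*]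

section model

variable {M : Type*} [AddCommGroup M] [Module F M]

theorem range_invariant (j : M →ₗ[F] V) (γ : Module.End F M) (hg : ∀ m, g (j m) = j (γ m)) :
    ∀ v ∈ LinearMap.range j, g v ∈ LinearMap.range j := by
  intro v hv
  obtain ⟨m, rfl⟩ := LinearMap.mem_range.mp hv
  exact LinearMap.mem_range.mpr ⟨γ m, (hg m).symm⟩

theorem nondeg_range (j : M →ₗ[F] V)
    (hnd : ∀ m, (∀ m₂, β.B (j m) (j m₂) = 0) → j m = 0) :
    (β.restrict (LinearMap.range j)).Nondeg := by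
  intro v h
  obtain ⟨m, hm⟩ := LinearMap.mem_range.mp v.2
  apply Subtype.ext
  rw [← hm]
  apply hnd
  intro m₂
  have := h ⟨j m₂, LinearMap.mem_range_self j m₂⟩
  rw [SForm.restrict_B, ← hm] at this
  exact this

/-- two copies of one model space are equivariantly isometric -/
theorem isoEquiv_range (j : M →ₗ[F] V) (j' : M →ₗ[F] V') (γ : Module.End F M)
    (hj : Function.Injective j) (hj' : Function.Injective j')
    (hg : ∀ m, g (j m) = j (γ m)) (hg' : ∀ m, g' (j' m) = j' (γ m))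
    (hB : ∀ m₁ m₂, β'.B (j' m₁) (j' m₂) = β.B (j m₁) (j m₂))
    (h₁ : ∀ v ∈ LinearMap.range j, g v ∈ LinearMap.range j)
    (h₁' : ∀ v ∈ LinearMap.range j', g' v ∈ LinearMap.range j') :
    IsoEquiv (β.restrict (LinearMap.range j)) (β'.restrict (LinearMap.range j'))
      (g.restrict h₁) (g'.restrict h₁') := by
  let e : LinearMap.range j ≃ₗ[F] LinearMap.range j' :=
    (LinearEquiv.ofInjective j hj).symm ≪≫ₗ LinearEquiv.ofInjective j' hj'
  have key : ∀ (v : LinearMap.range j) (m : M), j m = (v : V) → (e v : V') = j' m := by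
    intro v m hm
    have : (LinearEquiv.ofInjective j hj).symm v = m := by
      rw [LinearEquiv.symm_apply_eq]
      apply Subtype.ext
      rw [← hm]
      rfl
    simp only [e, LinearEquiv.trans_apply, this]
    rfl
  refine ⟨e, ?_, ?_⟩
  · intro v
    obtain ⟨m, hm⟩ := LinearMap.mem_range.mp v.2
    apply Subtype.ext
    have h2 : j (γ m) = ((g.restrict h₁ v : LinearMap.range j) : V) := by
      rw [← hg m, hm]
      rfl
    rw [key _ (γ m) h2]
    change j' (γ m) = g' (e v : V')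
    rw [key v m hm, hg']
  · intro u v
    obtain ⟨m₁, hm₁⟩ := LinearMap.mem_range.mp u.2
    obtain ⟨m₂, hm₂⟩ := LinearMap.mem_range.mp v.2
    simp only [SForm.restrict_B]
    rw [key u m₁ hm₁, key v m₂ hm₂, hB, hm₁, hm₂]

theorem injective_of_isometry (j : M →ₗ[F] V) (j' : M →ₗ[F] V') (hj : Function.Injective j)
    (hB : ∀ m₁ m₂, β'.B (j' m₁) (j' m₂) = β.B (j m₁) (j m₂))
    (hnd : ∀ m, (∀ m₂, β.B (j m) (j m₂) = 0) → j m = 0) : Function.Injective j' := by
  rw [← LinearMap.ker_eq_bot, LinearMap.ker_eq_bot']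
  intro m hm
  apply hj
  rw [map_zero]
  apply hnd
  intro m₂
  rw [← hB, hm, β'.zero_left]

end model

end Cfsg.Agent.Helper40.Iso
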