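import Cfsg.Agent.Lib.Helper40.IsoGlue

set_option autoImplicit false

namespace Cfsg.Agent.Helper40.Iso

open Polynomial

variable {F : Type*} [Field F] {τ : F →+* F} {ε : F}
variable {V : Type*} [AddCommGroup V] [Module F V]
variable {V' : Type*} [AddCommGroup V'] [Module F V']

/-- a nonzero nondegenerate invariant piece of `V` equivariantly isometric to a piece of `V'` -/
def KeyConcl (β : SForm τ ε V) (β' : SForm τ ε V') (g : Module.End F V) (g' : Module.End F V') :
    Prop :=
  ∃ (V₁ : Submodule F V) (V₁' : Submodule F V') (h₁ : ∀ v ∈ V₁, g v ∈ V₁)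
    (h₁' : ∀ v ∈ V₁', g' v ∈ V₁'), V₁ ≠ ⊥ ∧ (β.restrict V₁).Nondeg ∧
      IsoEquiv (β.restrict V₁) (β'.restrict V₁') (g.restrict h₁) (g'.restrict h₁')

variable {β : SForm τ ε V} {β' : SForm τ ε V'} {g : Module.End F V} {g' : Module.End F V'}
variable {M : Type*} [AddCommGroup M] [Module F M]

theorem keyConcl_of_model [Nontrivial M] (j : M →ₗ[F] V) (j' : M →ₗ[F] V') (γ : Module.End F M)
    (hj : Function.Injective j)
    (hg : ∀ m, g (j m) = j (γ m)) (hg' : ∀ m, g' (j' m) = j' (γ m))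
    (hB : ∀ m₁ m₂, β'.B (j' m₁) (j' m₂) = β.B (j m₁) (j m₂))
    (hnd : ∀ m, (∀ m₂, β.B (j m) (j m₂) = 0) → j m = 0) : KeyConcl β β' g g' := by
  have hj' := injective_of_isometry j j' hj hB hnd
  refine ⟨LinearMap.range j, LinearMap.range j', range_invariant j γ hg, range_invariant j' γ hg',
    ?_, nondeg_range j hnd, isoEquiv_range j j' γ hj hj' hg hg' hB _ _⟩
  intro hbot
  rw [LinearMap.range_eq_bot] at hbot
  obtain ⟨m, hm⟩ := exists_ne (0 : M)
  apply hm
  apply hj
  rw [hbot, LinearMap.zero_apply, LinearMap.zero_apply]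

/-- a model inside invariant subspaces -/
theorem keyConcl_of_sub_model [Nontrivial M] {U : Submodule F V} {U' : Submodule F V'}
    (hU : ∀ v ∈ U, g v ∈ U) (hU' : ∀ v ∈ U', g' v ∈ U')
    (j : M →ₗ[F] U) (j' : M →ₗ[F] U') (γ : Module.End F M)
    (hj : Function.Injective j)
    (hg : ∀ m, g.restrict hU (j m) = j (γ m)) (hg' : ∀ m, g'.restrict hU' (j' m) = j' (γ m))
    (hB : ∀ m₁ m₂, (β'.restrict U').B (j' m₁) (j' m₂) = (β.restrict U).B (j m₁) (j m₂))
    (hnd : ∀ m, (∀ m₂, (β.restrict U).B (j m) (j m₂) = 0) → j m = 0) : KeyConcl β β' g g' := by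
  refine keyConcl_of_model (U.subtype.comp j) (U'.subtype.comp j') γ ?_ ?_ ?_ ?_ ?_
  · exact (Submodule.injective_subtype U).comp hj
  · intro m
    have := congrArg Subtype.val (hg m)
    exact this
  · intro m
    have := congrArg Subtype.val (hg' m)
    exact this
  · intro m₁ m₂
    exact hB m₁ m₂
  · intro m hm
    have := hnd m hm
    simp [this]

end Cfsg.Agent.Helper40.Iso
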