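import Cfsg.Agent.Lib.Helper40.SSSim

set_option autoImplicit false

namespace Cfsg.Agent.Helper40.SS

open Polynomial

variable {F : Type*} [Field F]
variable {V : Type*} [AddCommGroup V] [Module F V]
variable {V' : Type*} [AddCommGroup V'] [Module F V']

section tower

variable {E : Type*} [Field E] [Algebra F E] [FiniteDimensional F E]
variable [Module E V] [IsScalarTower F E V] [Module E V'] [IsScalarTower F E V']

/-- two `E`-spaces of the same `F`-dimension: multiplication by `x : E` gives similar maps -/
theorem sim_of_tower [FiniteDimensional F V] [FiniteDimensional F V']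
    (hd : Module.finrank F V = Module.finrank F V') (x : E)
    (a : Module.End F V) (b : Module.End F V') (ha : ∀ v, a v = x • v) (hb : ∀ v, b v = x • v) :
    Sim a b := by
  have h1 := Module.finrank_mul_finrank F E V
  have h2 := Module.finrank_mul_finrank F E V'
  have hpos : 0 < Module.finrank F E := Module.finrank_pos
  have hfin : Module.Finite E V := Module.Finite.of_restrictScalars_finite F E V
  have hfin' : Module.Finite E V' := Module.Finite.of_restrictScalars_finite F E V'
  have h3 : Module.finrank E V = Module.finrank E V' := by
    apply Nat.eq_of_mul_eq_mul_left hpos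
    rw [h1, h2, hd]
  let e : V ≃ₗ[E] V' := LinearEquiv.ofFinrankEq V V' h3
  refine ⟨e.restrictScalars F, fun v => ?_⟩
  rw [ha, hb]
  exact e.map_smul x v

/-- over a finite field, an `E`-space `V ≠ 0` has `E`-linear maps of any prescribed `F`-determinant -/
theorem exists_linear_det [Finite E] [FiniteDimensional F V] [Nontrivial V] (δ : F) :
    ∃ y : V →ₗ[E] V, LinearMap.det (y.restrictScalars F) = δ := by
  classical
  have hfin : Module.Finite E V := Module.Finite.of_restrictScalars_finite F E V
  have hpos : 0 < Module.finrank E V := Module.finrank_pos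
  let bs := Module.finBasis E V
  let i₀ : Fin (Module.finrank E V) := ⟨0, hpos⟩
  obtain ⟨l, hl⟩ := FiniteField.norm_surjective F E δ
  refine ⟨Matrix.toLin bs bs (Matrix.diagonal (fun i => if i = i₀ then l else 1)), ?_⟩
  rw [LinearMap.det_restrictScalars, LinearMap.det_toLin, Matrix.det_diagonal,
    Finset.prod_ite_eq' Finset.univ i₀ (fun _ => l)]
  simpa using hl

end tower

section adjoin

/-- the algebra hom `AdjoinRoot p → End V` sending the root to `a` -/
noncomputable def rootHom (p : F[X]) (a : Module.End F V) (ha : aeval a p = 0) :
    AdjoinRoot p →ₐ[F] Module.End F V :=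
  Ideal.Quotient.liftₐ (Ideal.span {p}) (aeval a) (fun x hx => by
    obtain ⟨c, rfl⟩ := Ideal.mem_span_singleton.mp hx
    rw [map_mul, ha, zero_mul])

theorem rootHom_mk (p : F[X]) (a : Module.End F V) (ha : aeval a p = 0) (f : F[X]) :
    rootHom p a ha (AdjoinRoot.mk p f) = aeval a f := rfl

theorem rootHom_root (p : F[X]) (a : Module.End F V) (ha : aeval a p = 0) :
    rootHom p a ha (AdjoinRoot.root p) = a := by
  rw [AdjoinRoot.root, rootHom_mk, aeval_X]

/-- the `AdjoinRoot p`-module structure on a space whose endomorphism `a` is killed by `p` -/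
@[instance_reducible] noncomputable def rootModule (p : F[X]) (a : Module.End F V) (ha : aeval a p = 0) :
    Module (AdjoinRoot p) V :=
  Module.compHom V ((rootHom p a ha : AdjoinRoot p →ₐ[F] Module.End F V) :
    AdjoinRoot p →+* Module.End F V)

theorem rootModule_smul (p : F[X]) (a : Module.End F V) (ha : aeval a p = 0) (x : AdjoinRoot p)
    (v : V) : (rootModule p a ha).smul x v = rootHom p a ha x v := rfl

theorem rootModule_tower (p : F[X]) (a : Module.End F V) (ha : aeval a p = 0) :
    @IsScalarTower F (AdjoinRoot p) V _ (rootModule p a ha).toSMul _ := by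
  let := rootModule p a ha
  refine ⟨fun c x v => ?_⟩
  change rootHom p a ha (c • x) v = c • rootHom p a ha x v
  rw [map_smul]
  rfl

theorem finiteDimensional_adjoinRoot {p : F[X]} (hp : p ≠ 0) :
    FiniteDimensional F (AdjoinRoot p) := (AdjoinRoot.powerBasis hp).finite

/-- two endomorphisms killed by the same irreducible polynomial, on spaces of equal dimension,
are similar -/
theorem sim_of_irreducible {p : F[X]} (hp : Irreducible p) [FiniteDimensional F V]
    [FiniteDimensional F V'] (a : Module.End F V) (b : Module.End F V') (ha : aeval a p = 0)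
    (hb : aeval b p = 0) (hd : Module.finrank F V = Module.finrank F V') : Sim a b := by
  have : Fact (Irreducible p) := ⟨hp⟩
  let := rootModule p a ha
  let := rootModule p b hb
  have := rootModule_tower p a ha
  have := rootModule_tower p b hb
  have := finiteDimensional_adjoinRoot hp.ne_zero
  refine sim_of_tower (E := AdjoinRoot p) hd (AdjoinRoot.root p) a b (fun v => ?_) (fun v => ?_)
  · change a v = rootHom p a ha (AdjoinRoot.root p) v
    rw [rootHom_root]
  · change b v = rootHom p b hb (AdjoinRoot.root p) v
    rw [rootHom_root]

/-- over a finite field: an endomorphism of a nonzero space killed by an irreducible polynomial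
commutes with maps of every determinant -/
theorem exists_commute_det_of_irreducible [Finite F] {p : F[X]} (hp : Irreducible p)
    [FiniteDimensional F V] [Nontrivial V] (a : Module.End F V) (ha : aeval a p = 0) (δ : F) :
    ∃ y : Module.End F V, y * a = a * y ∧ LinearMap.det y = δ := by
  have : Fact (Irreducible p) := ⟨hp⟩
  let := rootModule p a ha
  have := rootModule_tower p a ha
  have := finiteDimensional_adjoinRoot hp.ne_zero
  have : Finite (AdjoinRoot p) := Module.finite_of_finite F
  obtain ⟨y, hy⟩ := exists_linear_det (F := F) (E := AdjoinRoot p) (V := V) δ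
  refine ⟨y.restrictScalars F, ?_, hy⟩
  ext v
  have hav : ∀ w : V, a w = (AdjoinRoot.root p) • w := by
    intro w
    change a w = rootHom p a ha (AdjoinRoot.root p) w
    rw [rootHom_root]
  simp only [Module.End.mul_apply, LinearMap.coe_restrictScalars]
  rw [hav, hav, map_smul]

end adjoin

end Cfsg.Agent.Helper40.SS
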