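import Cfsg.Agent.Lib.Helper40.IsoGlue
import Cfsg.Agent.Lib.Helper40.SSPrimary

set_option autoImplicit false

namespace Cfsg.Agent.Helper40.Iso

open Polynomial

variable {F : Type*} [Field F] (τ : F →+* F) {ε : F}
variable (p : F[X]) [Fact (Irreducible p)]

/-- `r ↦ r^τ(ζ⁻¹)` where `ζ` is the root in `F[X]/(p)` -/
noncomputable def dualHom : F[X] →+* AdjoinRoot p :=
  Polynomial.eval₂RingHom ((algebraMap F (AdjoinRoot p)).comp τ) (AdjoinRoot.root p)⁻¹

theorem dualHom_apply (r : F[X]) :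
    dualHom τ p r = r.eval₂ ((algebraMap F (AdjoinRoot p)).comp τ) (AdjoinRoot.root p)⁻¹ := rfl

variable {τ} {p}
variable {W : Type*} [AddCommGroup W] [Module F W]
variable {β : SForm τ ε W} {g : Module.End F W} {N : ℕ}

theorem root_ne_zero [Nontrivial W] (hN : 0 < N) (hg : g ^ N = 1) (h0 : aeval g p = 0) :
    AdjoinRoot.root p ≠ 0 := by
  intro h
  have h1 : g = 0 := by
    rw [← SS.rootHom_root p g h0, h, map_zero]
  rw [h1, zero_pow hN.ne'] at hg
  exact zero_ne_one hg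

theorem rootHom_inv_root [Nontrivial W] (hN : 0 < N) (hg : g ^ N = 1) (h0 : aeval g p = 0) :
    SS.rootHom p g h0 (AdjoinRoot.root p)⁻¹ = g ^ (N - 1) := by
  have hr := root_ne_zero hN hg h0
  calc SS.rootHom p g h0 (AdjoinRoot.root p)⁻¹
      = SS.rootHom p g h0 (AdjoinRoot.root p)⁻¹ * (g * g ^ (N - 1)) := by
        rw [mul_pow_pred hN hg, mul_one]
    _ = SS.rootHom p g h0 ((AdjoinRoot.root p)⁻¹ * AdjoinRoot.root p) * g ^ (N - 1) := by
        rw [map_mul, SS.rootHom_root, mul_assoc]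
    _ = g ^ (N - 1) := by rw [inv_mul_cancel₀ hr, map_one, one_mul]

theorem rootHom_dualHom [Nontrivial W] (hN : 0 < N) (hg : g ^ N = 1) (h0 : aeval g p = 0)
    (r : F[X]) : SS.rootHom p g h0 (dualHom τ p r) = aeval (g ^ (N - 1)) (r.map τ) := by
  rw [dualHom_apply, ← AlgHom.coe_toRingHom, Polynomial.hom_eval₂, AlgHom.coe_toRingHom,
    rootHom_inv_root hN hg h0, aeval_def, Polynomial.eval₂_map, ← RingHom.comp_assoc,
    AlgHom.comp_algebraMap]

/-- the adjoint of the action of `F[X]/(p)` -/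
theorem IsIsom.adj_mk [Nontrivial W] (hτ : ∀ x, τ (τ x) = x) (h : IsIsom β g) (hN : 0 < N)
    (hg : g ^ N = 1) (h0 : aeval g p = 0) (r : F[X]) (u v : W) :
    β.B (SS.rootHom p g h0 (AdjoinRoot.mk p r) u) v =
      β.B u (SS.rootHom p g h0 (dualHom τ p r) v) := by
  rw [SS.rootHom_mk, rootHom_dualHom hN hg h0, h.adj_aeval hτ hN hg]

theorem rootHom_unit (h0 : aeval g p = 0) {x : AdjoinRoot p} (hx : x ≠ 0) (w : W) :
    SS.rootHom p g h0 x⁻¹ (SS.rootHom p g h0 x w) = w := by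
  rw [← Module.End.mul_apply, ← map_mul, inv_mul_cancel₀ hx, map_one, Module.End.one_apply]

theorem rootHom_unit' (h0 : aeval g p = 0) {x : AdjoinRoot p} (hx : x ≠ 0) (w : W) :
    SS.rootHom p g h0 x (SS.rootHom p g h0 x⁻¹ w) = w := by
  rw [← Module.End.mul_apply, ← map_mul, mul_inv_cancel₀ hx, map_one, Module.End.one_apply]

theorem rootHom_injective (h0 : aeval g p = 0) {x : AdjoinRoot p} (hx : x ≠ 0) {w : W}
    (hw : SS.rootHom p g h0 x w = 0) : w = 0 := by
  rw [← rootHom_unit h0 hx w, hw, map_zero]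

end Cfsg.Agent.Helper40.Iso
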