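import Cfsg.Agent.Lib.Helper40.IsoKey
import Cfsg.Agent.Lib.Helper40.IsoRoot

set_option autoImplicit false

namespace Cfsg.Agent.Helper40.Iso

open Polynomial

variable {F : Type*} [Field F] {τ : F →+* F} {ε : F}
variable {p : F[X]} [Fact (Irreducible p)]

section single

variable {V : Type*} [AddCommGroup V] [Module F V]
variable {β : SForm τ ε V} {g : Module.End F V} {N : ℕ}

omit [Fact (Irreducible p)] in
theorem coe_aeval_restrict_pow {U : Submodule F V} (hU : ∀ v ∈ U, g v ∈ U) (k : ℕ) (r : F[X])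
    (u : U) : ((aeval ((g.restrict hU) ^ k) r u : U) : V) = aeval (g ^ k) r (u : V) := by
  rw [Module.End.pow_restrict k hU, SS.aeval_restrict_apply]

/-- on the `p`-primary part, the adjoint of `p(g)` is onto when `p` is not self-dual -/
theorem T_surj_on_ker (hN : 0 < N) (hg : g ^ N = 1) (hnsd : dualHom τ p p ≠ 0)
    (hU : LinearMap.ker (aeval g p) ≠ ⊥) :
    ∀ u ∈ LinearMap.ker (aeval g p), ∃ u₂ ∈ LinearMap.ker (aeval g p),
      aeval (g ^ (N - 1)) (p.map τ) u₂ = u := by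
  intro u hu
  have hUinv := SS.ker_aeval_invariant g p
  have h0U := SS.aeval_restrict_ker g p
  have : Nontrivial (LinearMap.ker (aeval g p)) := Submodule.nontrivial_iff_ne_bot.mpr hU
  have hgU := restrict_pow_eq_one hg hUinv
  have h1 := rootHom_unit' h0U hnsd (⟨u, hu⟩ : LinearMap.ker (aeval g p))
  rw [rootHom_dualHom hN hgU h0U] at h1
  refine ⟨_, (SS.rootHom p (g.restrict hUinv) h0U (dualHom τ p p)⁻¹ ⟨u, hu⟩).2, ?_⟩
  have h2 := congrArg Subtype.val h1
  rw [coe_aeval_restrict_pow] at h2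
  exact h2

theorem T_inj_on_ker (hN : 0 < N) (hg : g ^ N = 1) (hnsd : dualHom τ p p ≠ 0)
    (hU : LinearMap.ker (aeval g p) ≠ ⊥) :
    ∀ u ∈ LinearMap.ker (aeval g p), aeval (g ^ (N - 1)) (p.map τ) u = 0 → u = 0 := by
  intro u hu h0
  have hUinv := SS.ker_aeval_invariant g p
  have h0U := SS.aeval_restrict_ker g p
  have : Nontrivial (LinearMap.ker (aeval g p)) := Submodule.nontrivial_iff_ne_bot.mpr hU
  have hgU := restrict_pow_eq_one hg hUinv
  have h1 : SS.rootHom p (g.restrict hUinv) h0U (dualHom τ p p)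
      (⟨u, hu⟩ : LinearMap.ker (aeval g p)) = 0 := by
    rw [rootHom_dualHom hN hgU h0U]
    apply Subtype.ext
    rw [coe_aeval_restrict_pow]
    exact h0
  exact congrArg Subtype.val (rootHom_injective h0U hnsd h1)

/-- the primary part of a non-self-dual `p` is totally isotropic -/
theorem ker_isotropic (hτ : ∀ x, τ (τ x) = x) (h : IsIsom β g) (hN : 0 < N) (hg : g ^ N = 1)
    (hnsd : dualHom τ p p ≠ 0) (hU : LinearMap.ker (aeval g p) ≠ ⊥) :
    ∀ u ∈ LinearMap.ker (aeval g p), ∀ u' ∈ LinearMap.ker (aeval g p), β.B u u' = 0 := by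
  intro u hu u' hu'
  obtain ⟨u₂, -, rfl⟩ := T_surj_on_ker hN hg hnsd hU u' hu'
  rw [← h.adj_aeval hτ hN hg, LinearMap.mem_ker.mp hu, β.zero_left]

variable {Q : F[X]}

omit [Fact (Irreducible p)] in
theorem aeval_mem_ker (hPQ : aeval g (p * Q) = 0) (a : V) :
    aeval g p a ∈ LinearMap.ker (aeval g Q) := by
  rw [LinearMap.mem_ker, ← Module.End.mul_apply, ← map_mul, mul_comm, hPQ, LinearMap.zero_apply]

omit [Fact (Irreducible p)] in
/-- the dual of the `p`-primary part is killed by the adjoint of `p(g)` -/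
theorem perp_ker_T (hτ : ∀ x, τ (τ x) = x) (hβ : β.Nondeg) (h : IsIsom β g) (hN : 0 < N)
    (hg : g ^ N = 1) (hPQ : aeval g (p * Q) = 0) :
    ∀ r ∈ β.perp (LinearMap.ker (aeval g Q)), aeval (g ^ (N - 1)) (p.map τ) r = 0 := by
  intro r hr
  apply hβ.right
  intro a
  rw [← h.adj_aeval hτ hN hg]
  exact hr _ (aeval_mem_ker hPQ a)

theorem disjoint_ker_perp (hτ : ∀ x, τ (τ x) = x) (hβ : β.Nondeg) (h : IsIsom β g) (hN : 0 < N)
    (hg : g ^ N = 1) (hPQ : aeval g (p * Q) = 0) (hnsd : dualHom τ p p ≠ 0)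
    (hU : LinearMap.ker (aeval g p) ≠ ⊥) :
    ∀ v ∈ LinearMap.ker (aeval g p), v ∈ β.perp (LinearMap.ker (aeval g Q)) → v = 0 := by
  intro v hv hv'
  exact T_inj_on_ker hN hg hnsd hU v hv (perp_ker_T hτ hβ h hN hg hPQ v hv')

theorem perp_le_ker (hτ : ∀ x, τ (τ x) = x) (hβ : β.Nondeg) (h : IsIsom β g) (hN : 0 < N)
    (hg : g ^ N = 1) (hcop : IsCoprime p Q) (hPQ : aeval g (p * Q) = 0)
    (hnsd : dualHom τ p p ≠ 0) (hU : LinearMap.ker (aeval g p) ≠ ⊥) :
    β.perp (LinearMap.ker (aeval g Q)) ≤ LinearMap.ker (aeval g Q) := by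
  intro r hr
  have hc := SS.isCompl_ker_aeval g hcop hPQ
  obtain ⟨u, k, hu, hk, rfl⟩ := Submodule.codisjoint_iff_exists_add_eq.mp hc.codisjoint r
  have hT := perp_ker_T hτ hβ h hN hg hPQ _ hr
  rw [map_add] at hT
  have hUinv : ∀ v ∈ LinearMap.ker (aeval g p), (g ^ (N - 1)) v ∈ LinearMap.ker (aeval g p) :=
    pow_mem_of_invariant (SS.ker_aeval_invariant g p) _
  have hKinv : ∀ v ∈ LinearMap.ker (aeval g Q), (g ^ (N - 1)) v ∈ LinearMap.ker (aeval g Q) :=
    pow_mem_of_invariant (SS.ker_aeval_invariant g Q) _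
  have hTu := aeval_mem_of_invariant hUinv (p.map τ) u hu
  have hTk := aeval_mem_of_invariant hKinv (p.map τ) k hk
  have hTu' : aeval (g ^ (N - 1)) (p.map τ) u ∈ LinearMap.ker (aeval g Q) := by
    rw [eq_neg_of_add_eq_zero_left hT]
    exact Submodule.neg_mem _ hTk
  have hTu0 : aeval (g ^ (N - 1)) (p.map τ) u = 0 :=
    Submodule.disjoint_def.mp hc.disjoint _ hTu hTu'
  rw [T_inj_on_ker hN hg hnsd hU u hu hTu0, zero_add]
  exact hk

theorem perp_isotropic (hτ : ∀ x, τ (τ x) = x) (hβ : β.Nondeg) (h : IsIsom β g) (hN : 0 < N)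
    (hg : g ^ N = 1) (hcop : IsCoprime p Q) (hPQ : aeval g (p * Q) = 0)
    (hnsd : dualHom τ p p ≠ 0) (hU : LinearMap.ker (aeval g p) ≠ ⊥) :
    ∀ r ∈ β.perp (LinearMap.ker (aeval g Q)), ∀ r' ∈ β.perp (LinearMap.ker (aeval g Q)),
      β.B r r' = 0 := by
  intro r hr r' hr'
  exact hr' r (perp_le_ker hτ hβ h hN hg hcop hPQ hnsd hU hr)

omit [Fact (Irreducible p)] in
/-- every functional on the `p`-primary part is represented by a vector of the dual part -/
theorem pairing_riesz [Finite F] [FiniteDimensional F V] (hβ : β.Nondeg)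
    (hcop : IsCoprime p Q) (hPQ : aeval g (p * Q) = 0)
    (ℓ : LinearMap.ker (aeval g p) →ₗ[F] F) :
    ∃ r ∈ β.perp (LinearMap.ker (aeval g Q)), ∀ u : LinearMap.ker (aeval g p),
      ℓ u = β.B (u : V) r := by
  have hc := SS.isCompl_ker_aeval g hcop hPQ
  obtain ⟨v, hv⟩ := hβ.riesz (ℓ.comp (Submodule.projectionOnto _ _ hc))
  refine ⟨v, ?_, ?_⟩
  · intro k hk
    rw [← hv, LinearMap.comp_apply, Submodule.projectionOnto_apply_of_mem_right hc hk, map_zero]
  · intro u
    rw [← hv, LinearMap.comp_apply, Submodule.projectionOnto_apply_left]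

omit [Fact (Irreducible p)] in
theorem pairing_right (hβ : β.Nondeg)
    (hcop : IsCoprime p Q) (hPQ : aeval g (p * Q) = 0) :
    ∀ r ∈ β.perp (LinearMap.ker (aeval g Q)),
      (∀ u ∈ LinearMap.ker (aeval g p), β.B u r = 0) → r = 0 := by
  intro r hr hall
  have hc := SS.isCompl_ker_aeval g hcop hPQ
  apply hβ.right
  intro x
  obtain ⟨u, k, hu, hk, rfl⟩ := Submodule.codisjoint_iff_exists_add_eq.mp hc.codisjoint x
  rw [β.add_left, hall u hu, hr k hk, add_zero]

omit [Fact (Irreducible p)] in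
theorem pairing_left [Finite F] [FiniteDimensional F V] (hβ : β.Nondeg)
    (hcop : IsCoprime p Q) (hPQ : aeval g (p * Q) = 0) :
    ∀ u ∈ LinearMap.ker (aeval g p),
      (∀ r ∈ β.perp (LinearMap.ker (aeval g Q)), β.B u r = 0) → u = 0 := by
  intro u hu hall
  have : (⟨u, hu⟩ : LinearMap.ker (aeval g p)) = 0 := by
    rw [← Module.forall_dual_apply_eq_zero_iff F]
    intro ℓ
    obtain ⟨r, hr, hℓ⟩ := pairing_riesz hβ hcop hPQ ℓ
    rw [hℓ]
    exact hall r hr
  exact congrArg Subtype.val this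

theorem IsIsom.adj_right (h : IsIsom β g) (hN : 0 < N) (hg : g ^ N = 1) (u v : V) :
    β.B u (g v) = β.B ((g ^ (N - 1)) u) v := by
  rw [← h ((g ^ (N - 1)) u) v, apply_pow_pred hN hg]

end single

section double

variable {V : Type*} [AddCommGroup V] [Module F V]
variable {V' : Type*} [AddCommGroup V'] [Module F V']
variable {β : SForm τ ε V} {g : Module.End F V} {N : ℕ}
variable {β' : SForm τ ε V'} {g' : Module.End F V'} {Q : F[X]}

omit [Fact (Irreducible p)] in
theorem exists_dual_vec [Finite F] [FiniteDimensional F V'] (hβ' : β'.Nondeg)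
    (hcop : IsCoprime p Q) (hPQ' : aeval g' (p * Q) = 0)
    (φ : LinearMap.ker (aeval g p) ≃ₗ[F] LinearMap.ker (aeval g' p)) (r : V) :
    ∃ r' ∈ β'.perp (LinearMap.ker (aeval g' Q)), ∀ u : LinearMap.ker (aeval g p),
      β'.B (φ u : V') r' = β.B (u : V) r := by
  obtain ⟨r', hr', hℓ⟩ := pairing_riesz hβ' hcop hPQ'
    ((β.toDual r).comp ((LinearMap.ker (aeval g p)).subtype.comp φ.symm.toLinearMap))
  refine ⟨r', hr', fun u => ?_⟩
  rw [← hℓ]
  simp

omit [Fact (Irreducible p)] in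
theorem dual_vec_unique (hβ' : β'.Nondeg)
    (hcop : IsCoprime p Q) (hPQ' : aeval g' (p * Q) = 0)
    (φ : LinearMap.ker (aeval g p) ≃ₗ[F] LinearMap.ker (aeval g' p))
    (r₁ r₂ : β'.perp (LinearMap.ker (aeval g' Q)))
    (hr : ∀ u : LinearMap.ker (aeval g p), β'.B (φ u : V') r₁ = β'.B (φ u : V') r₂) :
    r₁ = r₂ := by
  rw [← sub_eq_zero]
  apply Subtype.ext
  apply pairing_right hβ' hcop hPQ' _ (r₁ - r₂).2
  intro u hu
  have := hr (φ.symm ⟨u, hu⟩)
  rw [φ.apply_symm_apply] at this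
  rw [Submodule.coe_sub, β'.sub_right, this, sub_self]

omit [Fact (Irreducible p)] in
/-- the inverse adjoint of `φ` -/
theorem exists_dualMap [Finite F] [FiniteDimensional F V'] (hβ' : β'.Nondeg)
    (hcop : IsCoprime p Q) (hPQ' : aeval g' (p * Q) = 0)
    (φ : LinearMap.ker (aeval g p) ≃ₗ[F] LinearMap.ker (aeval g' p)) :
    ∃ ψ : β.perp (LinearMap.ker (aeval g Q)) →ₗ[F] β'.perp (LinearMap.ker (aeval g' Q)),
      ∀ (r : β.perp (LinearMap.ker (aeval g Q))) (u : LinearMap.ker (aeval g p)),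
        β'.B (φ u : V') (ψ r : V') = β.B (u : V) (r : V) := by
  choose f hf using fun r : β.perp (LinearMap.ker (aeval g Q)) =>
    exists_dual_vec (β := β) hβ' hcop hPQ' φ (r : V)
  refine ⟨{ toFun := fun r => ⟨f r, (hf r).1⟩, map_add' := ?_, map_smul' := ?_ }, ?_⟩
  · intro r₁ r₂
    apply dual_vec_unique hβ' hcop hPQ' φ
    intro u
    change β'.B (φ u : V') (f (r₁ + r₂)) = β'.B (φ u : V') (f r₁ + f r₂)
    rw [β'.add_right, (hf _).2, (hf _).2, (hf _).2, Submodule.coe_add, β.add_right]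
  · intro c r
    apply dual_vec_unique hβ' hcop hPQ' φ
    intro u
    change β'.B (φ u : V') (f (c • r)) = β'.B (φ u : V') (c • f r)
    rw [β'.smul_right, (hf _).2, (hf _).2, Submodule.coe_smul, β.smul_right]
  · intro r u
    exact (hf r).2 u

/-- the hyperbolic piece attached to a non-self-dual irreducible factor -/
theorem nsd_keyConcl [Finite F] [FiniteDimensional F V] [FiniteDimensional F V']
    (hτ : ∀ x, τ (τ x) = x) (hβ : β.Nondeg) (hβ' : β'.Nondeg) (h : IsIsom β g) (h' : IsIsom β' g')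
    (hN : 0 < N) (hg : g ^ N = 1) (hg' : g' ^ N = 1) (hcop : IsCoprime p Q)
    (hPQ : aeval g (p * Q) = 0) (hPQ' : aeval g' (p * Q) = 0) (hnsd : dualHom τ p p ≠ 0)
    (hU : LinearMap.ker (aeval g p) ≠ ⊥)
    (hsim : SS.Sim (g.restrict (SS.ker_aeval_invariant g p))
      (g'.restrict (SS.ker_aeval_invariant g' p))) : KeyConcl β β' g g' := by
  obtain ⟨φ, hφ⟩ := hsim
  have : Nontrivial (LinearMap.ker (aeval g p)) := Submodule.nontrivial_iff_ne_bot.mpr hU
  have hU' : LinearMap.ker (aeval g' p) ≠ ⊥ := by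
    have : Nontrivial (LinearMap.ker (aeval g' p)) := φ.toEquiv.symm.nontrivial
    exact Submodule.nontrivial_iff_ne_bot.mp this
  obtain ⟨ψ, hψ⟩ := exists_dualMap (β := β) hβ' hcop hPQ' φ
  have hUinv := SS.ker_aeval_invariant g p
  have hUinv' := SS.ker_aeval_invariant g' p
  have hRinv := h.perp_invariant hN hg (SS.ker_aeval_invariant g Q)
  have hRinv' := h'.perp_invariant hN hg' (SS.ker_aeval_invariant g' Q)
  -- `φ` commutes with powers
  have hφpow : ∀ (k : ℕ) (u : LinearMap.ker (aeval g p)),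
      (φ (((g.restrict hUinv) ^ k) u) : V') = (g' ^ k) (φ u : V') := by
    intro k
    induction k with
    | zero => intro u; simp
    | succ k ih =>
      intro u
      rw [pow_succ, Module.End.mul_apply, ih, hφ, pow_succ, Module.End.mul_apply]
      rfl
  -- `ψ` is equivariant
  have hψg : ∀ r : β.perp (LinearMap.ker (aeval g Q)),
      ψ (g.restrict hRinv r) = g'.restrict hRinv' (ψ r) := by
    intro r
    apply dual_vec_unique hβ' hcop hPQ' φ
    intro u
    rw [hψ]
    change β.B (u : V) (g (r : V)) = β'.B (φ u : V') (g' (ψ r : V'))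
    rw [h.adj_right hN hg, h'.adj_right hN hg', ← hφpow, hψ, restrict_pow_apply]
  let j : LinearMap.ker (aeval g p) × β.perp (LinearMap.ker (aeval g Q)) →ₗ[F] V :=
    (LinearMap.ker (aeval g p)).subtype.coprod (β.perp (LinearMap.ker (aeval g Q))).subtype
  let j' : LinearMap.ker (aeval g p) × β.perp (LinearMap.ker (aeval g Q)) →ₗ[F] V' :=
    ((LinearMap.ker (aeval g' p)).subtype.comp φ.toLinearMap).coprod
      ((β'.perp (LinearMap.ker (aeval g' Q))).subtype.comp ψ)
  have hj : ∀ m, j m = (m.1 : V) + (m.2 : V) := fun m => by simp [j]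
  have hj' : ∀ m, j' m = (φ m.1 : V') + (ψ m.2 : V') := fun m => by simp [j']
  have hiso := ker_isotropic hτ h hN hg hnsd hU
  have hiso' := ker_isotropic hτ h' hN hg' hnsd hU'
  have hRiso := perp_isotropic hτ hβ h hN hg hcop hPQ hnsd hU
  have hRiso' := perp_isotropic hτ hβ' h' hN hg' hcop hPQ' hnsd hU'
  have hform : ∀ m₁ m₂, β.B (j m₁) (j m₂) = β.B (m₁.1 : V) (m₂.2 : V) + β.B (m₁.2 : V) (m₂.1 : V) := by
    intro m₁ m₂
    rw [hj, hj, β.add_left, β.add_right, β.add_right, hiso _ m₁.1.2 _ m₂.1.2,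
      hRiso _ m₁.2.2 _ m₂.2.2, zero_add, add_zero]
  refine keyConcl_of_model j j' ((g.restrict hUinv).prodMap (g.restrict hRinv)) ?_ ?_ ?_ ?_ ?_
  · rw [← LinearMap.ker_eq_bot, LinearMap.ker_eq_bot']
    intro m hm
    rw [hj] at hm
    have h1 : (m.1 : V) = -(m.2 : V) := eq_neg_of_add_eq_zero_left hm
    have h2 : (m.1 : V) = 0 := by
      apply disjoint_ker_perp hτ hβ h hN hg hPQ hnsd hU _ m.1.2
      rw [h1]
      exact Submodule.neg_mem _ m.2.2
    have h3 : (m.2 : V) = 0 := by rw [h2, zero_add] at hm; exact hm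
    exact Prod.ext (Subtype.ext h2) (Subtype.ext h3)
  · intro m
    rw [hj, hj, map_add]
    rfl
  · intro m
    rw [hj', hj', map_add, LinearMap.prodMap_apply]
    simp only
    rw [hφ, hψg]
    rfl
  · intro m₁ m₂
    rw [hform, hj', hj', β'.add_left, β'.add_right, β'.add_right, hiso' _ (φ m₁.1).2 _ (φ m₂.1).2,
      hRiso' _ (ψ m₁.2).2 _ (ψ m₂.2).2, zero_add, add_zero, hψ,
      β'.symm (φ m₂.1 : V') (ψ m₁.2 : V'), hψ, ← β.symm]
  · intro m hm
    have h1 : (m.2 : V) = 0 := by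
      apply pairing_right hβ hcop hPQ _ m.2.2
      intro u hu
      have := hm (⟨u, hu⟩, 0)
      rw [hform] at this
      simp only [ZeroMemClass.coe_zero, β.zero_right, zero_add] at this
      exact β.ortho_symm this
    have h2 : (m.1 : V) = 0 := by
      apply pairing_left hβ hcop hPQ _ m.1.2
      intro r hr
      have := hm (0, ⟨r, hr⟩)
      rw [hform] at this
      simp only [ZeroMemClass.coe_zero, β.zero_right, add_zero] at this
      exact this
    rw [hj, h1, h2, add_zero]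

end double

end Cfsg.Agent.Helper40.Iso
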