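import Cfsg.Agent.Lib.Helper40.IsoMain

set_option autoImplicit false

namespace Cfsg.Agent.Helper40.Iso

open Polynomial

universe u v w

variable {F : Type w} [Field F] {τ : F →+* F} {ε : F}

section key

variable {V : Type u} [AddCommGroup V] [Module F V] [FiniteDimensional F V]
variable {V' : Type v} [AddCommGroup V'] [Module F V'] [FiniteDimensional F V']
variable {β : SForm τ ε V} {g : Module.End F V} {N : ℕ}
variable {β' : SForm τ ε V'} {g' : Module.End F V'}

/-- the key step for forms of any type, when `g` has no eigenvalue `±1` -/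
theorem keyConcl_ne [Finite F] [Nontrivial V] (hτ : ∀ x, τ (τ x) = x) (hN : 0 < N)
    (hsq : Squarefree (X ^ N - 1 : F[X])) (hβ : β.Nondeg) (hβ' : β'.Nondeg)
    (h : IsIsom β g) (h' : IsIsom β' g') (hg : g ^ N = 1) (hg' : g' ^ N = 1)
    (hne1 : ∀ v, g (g v) = v → v = 0)
    (hc : g.charpoly = g'.charpoly) : KeyConcl β β' g g' := by
  have ha := aeval_X_pow_sub_one_end hg
  have hb := aeval_X_pow_sub_one_end hg'
  obtain ⟨p, Q, hp, hcop, hPQ, hne⟩ := SS.exists_factor hsq g ha
  rw [hPQ] at ha hb
  have : Fact (Irreducible p) := ⟨hp⟩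
  have hcompl := SS.isCompl_ker_aeval g hcop ha
  have hcompl' := SS.isCompl_ker_aeval g' hcop hb
  have hsa := SS.sim_of_isCompl g hcompl (SS.ker_aeval_invariant g p) (SS.ker_aeval_invariant g Q)
  have hsb := SS.sim_of_isCompl g' hcompl' (SS.ker_aeval_invariant g' p)
    (SS.ker_aeval_invariant g' Q)
  have hca := hsa.charpoly_eq
  have hcb := hsb.charpoly_eq
  rw [LinearMap.charpoly_prodMap] at hca hcb
  obtain ⟨h1, -⟩ := SS.charpoly_eq_of_coprime hcop _ _ _ _ (SS.aeval_restrict_ker g p)
    (SS.aeval_restrict_ker g Q) (SS.aeval_restrict_ker g' p) (SS.aeval_restrict_ker g' Q)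
    (hca.trans (hc.trans hcb.symm))
  have hfr : Module.finrank F (LinearMap.ker (aeval g p)) =
      Module.finrank F (LinearMap.ker (aeval g' p)) := by
    rw [← LinearMap.charpoly_natDegree (g.restrict (SS.ker_aeval_invariant g p)), h1,
      LinearMap.charpoly_natDegree]
  have hsim : SS.Sim (g.restrict (SS.ker_aeval_invariant g p))
      (g'.restrict (SS.ker_aeval_invariant g' p)) :=
    SS.sim_of_irreducible hp _ _ (SS.aeval_restrict_ker g p) (SS.aeval_restrict_ker g' p) hfr
  have hne' : LinearMap.ker (aeval g' p) ≠ ⊥ := by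
    intro hbot
    apply hne
    rw [← Submodule.finrank_eq_zero, hfr, hbot, finrank_bot]
  by_cases hsd : dualHom τ p p = 0
  · have hUinv := SS.ker_aeval_invariant g p
    have hUinv' := SS.ker_aeval_invariant g' p
    have h0U := SS.aeval_restrict_ker g p
    have h0U' := SS.aeval_restrict_ker g' p
    have : Nontrivial (LinearMap.ker (aeval g p)) := Submodule.nontrivial_iff_ne_bot.mpr hne
    have : Nontrivial (LinearMap.ker (aeval g' p)) := Submodule.nontrivial_iff_ne_bot.mpr hne'
    have hndU := sd_ker_nondeg hτ hβ h hN hg hcop ha hsd hne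
    have hndU' := sd_ker_nondeg hτ hβ' h' hN hg' hcop hb hsd hne'
    have hgU := restrict_pow_eq_one hg hUinv
    have hgU' := restrict_pow_eq_one hg' hUinv'
    by_cases hid : ∀ z, sdInv hsd z = z
    · exfalso
      have hrootN : (AdjoinRoot.root p) ^ N = 1 := by
        have h1 : AdjoinRoot.mk p (X ^ N - 1) = 0 := by
          rw [AdjoinRoot.mk_eq_zero, hPQ]
          exact dvd_mul_right p Q
        rw [map_sub, map_pow, AdjoinRoot.mk_X, map_one, sub_eq_zero] at h1
        exact h1
      have hroot0 : AdjoinRoot.root p ≠ 0 := by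
        intro h0
        rw [h0, zero_pow hN.ne'] at hrootN
        exact zero_ne_one hrootN
      have hrr : AdjoinRoot.root p = (AdjoinRoot.root p)⁻¹ := by
        have := hid (AdjoinRoot.root p)
        rw [sdInv_root] at this
        exact this.symm
      have hsq1 : (AdjoinRoot.root p) ^ 2 = 1 := by
        rw [pow_two]
        nth_rewrite 2 [hrr]
        exact mul_inv_cancel₀ hroot0
      have hdvd : p ∣ X ^ 2 - 1 := by
        rw [← AdjoinRoot.mk_eq_zero, map_sub, map_pow, AdjoinRoot.mk_X, map_one, hsq1, sub_self]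
      obtain ⟨r, hr⟩ := hdvd
      obtain ⟨u, hu, hu0⟩ := Submodule.exists_mem_ne_zero_of_ne_bot hne
      apply hu0
      apply hne1
      have h2 : aeval g (X ^ 2 - 1 : F[X]) u = 0 := by
        rw [hr, mul_comm, map_mul, Module.End.mul_apply, LinearMap.mem_ker.mp hu, map_zero]
      rw [map_sub, map_pow, aeval_X, map_one, LinearMap.sub_apply, Module.End.one_apply,
        pow_two, Module.End.mul_apply, sub_eq_zero] at h2
      exact h2
    · push Not at hid
      obtain ⟨j, j', hj, hjg, hjg', hB, hnd⟩ := sd_model_b hτ hndU hndU' (h.restrict hUinv)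
        (h'.restrict hUinv') hN hgU hgU' h0U h0U' hsd hid
      exact keyConcl_of_sub_model hUinv hUinv' j j' (LinearMap.mulLeft F (AdjoinRoot.root p)) hj
        hjg hjg' hB hnd
  · exact nsd_keyConcl hτ hβ hβ' h h' hN hg hg' hcop ha hb hsd hne hsim

end key

/-- **Equivariant isometry classification, any type of form**: semisimple isometries without
eigenvalues `±1` with the same characteristic polynomial are conjugate by an isometry. -/
theorem isoEquiv_aux_ne [Finite F] (hτ : ∀ x, τ (τ x) = x) {N : ℕ} (hN : 0 < N)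
    (hsq : Squarefree (X ^ N - 1 : F[X])) :
    ∀ (d : ℕ) {V : Type u} {V' : Type v} [AddCommGroup V] [Module F V] [FiniteDimensional F V]
      [AddCommGroup V'] [Module F V'] [FiniteDimensional F V']
      (β : SForm τ ε V) (β' : SForm τ ε V') (g : Module.End F V) (g' : Module.End F V'),
      Module.finrank F V = d → β.Nondeg → β'.Nondeg → IsIsom β g → IsIsom β' g' →
      g ^ N = 1 → g' ^ N = 1 → (∀ v, g (g v) = v → v = 0) →
      g.charpoly = g'.charpoly → IsoEquiv β β' g g' := by
  intro d
  induction d using Nat.strong_induction_on with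
  | _ d ih =>
    intro V V' _ _ _ _ _ _ β β' g g' hd hβ hβ' h h' hg hg' hne1 hc
    have hfr : Module.finrank F V = Module.finrank F V' := by
      rw [← LinearMap.charpoly_natDegree g, hc, LinearMap.charpoly_natDegree]
    by_cases hV : Subsingleton V
    · have h0 : Module.finrank F V = 0 := Module.finrank_zero_iff.mpr hV
      have hV' : Subsingleton V' := Module.finrank_zero_iff.mp (hfr ▸ h0)
      refine ⟨LinearEquiv.ofFinrankEq V V' hfr, fun v => Subsingleton.elim _ _, fun a b => ?_⟩
      rw [Subsingleton.elim a 0, Subsingleton.elim (LinearEquiv.ofFinrankEq V V' hfr 0) 0,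
        β.zero_left, β'.zero_left]
    · have : Nontrivial V := not_subsingleton_iff_nontrivial.mp hV
      obtain ⟨V₁, V₁', h₁, h₁', hne, hnd₁, iso₁⟩ :=
        keyConcl_ne hτ hN hsq hβ hβ' h h' hg hg' hne1 hc
      have hnd₁' := iso₁.nondeg hnd₁
      have hcompl := β.isCompl_perp V₁ hnd₁
      have hcompl' := β'.isCompl_perp V₁' hnd₁'
      have h₂ := h.perp_invariant hN hg h₁
      have h₂' := h'.perp_invariant hN hg' h₁'
      have hsa := SS.sim_of_isCompl g hcompl h₁ h₂
      have hsb := SS.sim_of_isCompl g' hcompl' h₁' h₂'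
      have hca := hsa.charpoly_eq
      have hcb := hsb.charpoly_eq
      rw [LinearMap.charpoly_prodMap] at hca hcb
      have hc₁ := iso₁.sim.charpoly_eq
      have hc₂ : (g.restrict h₂).charpoly = (g'.restrict h₂').charpoly := by
        have := hca.trans (hc.trans hcb.symm)
        rw [hc₁] at this
        exact mul_left_cancel₀ (LinearMap.charpoly_monic _).ne_zero this
      have hlt : Module.finrank F (β.perp V₁) < d := by
        have h3 := Submodule.finrank_add_eq_of_isCompl hcompl
        have h4 : 0 < Module.finrank F V₁ := by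
          rw [Nat.pos_iff_ne_zero, Ne, Submodule.finrank_eq_zero]
          exact hne
        omega
      have iso₂ : IsoEquiv (β.restrict (β.perp V₁)) (β'.restrict (β'.perp V₁'))
          (g.restrict h₂) (g'.restrict h₂') := by
        refine ih _ hlt _ _ _ _ rfl (β.nondeg_perp hβ V₁ hcompl) (β'.nondeg_perp hβ' V₁' hcompl')
          (h.restrict h₂) (h'.restrict h₂') (restrict_pow_eq_one hg h₂)
          (restrict_pow_eq_one hg' h₂') ?_ hc₂
        intro v hv
        apply Subtype.ext
        apply hne1
        have := congrArg Subtype.val hv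
        exact this
      exact IsoEquiv.glue hcompl hcompl' h₁ h₂ h₁' h₂' (fun a ha b hb => hb a ha)
        (fun a ha b hb => hb a ha) iso₁ iso₂

theorem isoEquiv_of_charpoly_eq_ne [Finite F] (hτ : ∀ x, τ (τ x) = x) {N : ℕ} (hN : 0 < N)
    (hsq : Squarefree (X ^ N - 1 : F[X])) {V : Type u} {V' : Type v} [AddCommGroup V] [Module F V]
    [FiniteDimensional F V] [AddCommGroup V'] [Module F V'] [FiniteDimensional F V']
    (β : SForm τ ε V) (β' : SForm τ ε V') (g : Module.End F V) (g' : Module.End F V')
    (hβ : β.Nondeg) (hβ' : β'.Nondeg) (h : IsIsom β g) (h' : IsIsom β' g')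
    (hg : g ^ N = 1) (hg' : g' ^ N = 1) (hne1 : ∀ v, g (g v) = v → v = 0)
    (hc : g.charpoly = g'.charpoly) : IsoEquiv β β' g g' :=
  isoEquiv_aux_ne hτ hN hsq _ β β' g g' rfl hβ hβ' h h' hg hg' hne1 hc

end Cfsg.Agent.Helper40.Iso
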