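import Mathlib

/-!
helper40: piece (T13b) `normalizer_elt_structure` of helper35's lemma server "JPC" (row S4150).
Route: transport to `Fin 13` with the standard 11-cycle, then the 110 affine candidates by `decide`.
-/

set_option autoImplicit false

namespace Cfsg.Agent.Helper40.JPC

open Equiv Equiv.Perm MulAction Subgroup

universe u

namespace T13b

/-- inverse of `j+1` modulo 11 -/
def invT : Fin 10 → ℕ := ![1, 6, 4, 3, 9, 2, 8, 7, 5, 10]

/-- the affine map `t ↦ (j+1) t + e` on `{0..10}`, identity on `{11, 12}` -/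
def F (j : Fin 10) (e : Fin 11) (t : Fin 13) : Fin 13 :=
  if h : t.val < 11 then ⟨((j.val + 1) * t.val + e.val) % 11, by omega⟩ else t

def Finv (j : Fin 10) (e : Fin 11) (t : Fin 13) : Fin 13 :=
  if h : t.val < 11 then ⟨(invT j * (t.val + 11 - e.val)) % 11, by omega⟩ else t

theorem F_left : ∀ (j : Fin 10) (e : Fin 11) (t : Fin 13), Finv j e (F j e t) = t := by decide

theorem F_right : ∀ (j : Fin 10) (e : Fin 11) (t : Fin 13), F j e (Finv j e t) = t := by decide

/-- the affine permutation -/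
def N (j : Fin 10) (e : Fin 11) : Perm (Fin 13) :=
  ⟨F j e, Finv j e, F_left j e, F_right j e⟩

set_option maxRecDepth 100000 in
theorem final : ∀ (j : Fin 10) (e : Fin 11), j ≠ 0 → Equiv.Perm.sign (N j e) = 1 →
    (N j e) ^ 5 = 1 ∧ (N j e).support.card = 10 := by decide

/-- the standard 11-cycle -/
def c0 : Perm (Fin 13) := N 0 1

set_option maxRecDepth 100000 in
theorem c0_pow : ∀ k : Fin 11, c0 ^ k.val = N 0 k := by decide

set_option maxRecDepth 100000 in
theorem c0_pow11 : c0 ^ 11 = 1 := by decide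

theorem c0_ne_one : c0 ≠ 1 := by decide

theorem N_zero_zero : N 0 0 = 1 := by decide

set_option maxRecDepth 100000 in
theorem lemA : ∀ (k s : Fin 11), (N 0 k) ^ s.val = N 0 ⟨(k.val * s.val) % 11, Nat.mod_lt _ (by norm_num)⟩ := by
  decide

set_option maxRecDepth 100000 in
theorem lemB : ∀ (j : Fin 10) (e s : Fin 11),
    N 0 ⟨((j.val + 1) * s.val) % 11, Nat.mod_lt _ (by norm_num)⟩ ⟨e.val, by omega⟩
      = N j e ⟨s.val, by omega⟩ := by
  decide

theorem lemC : ∀ s : Fin 11, N 0 s 0 = ⟨s.val, by omega⟩ := by decide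

theorem lemD : ∀ (j : Fin 10) (e : Fin 11), N j e 11 = 11 ∧ N j e 12 = 12 := by decide

theorem c0_support : c0.support.card = 11 := by decide

theorem c0_sameCycle : ∀ y : Fin 13, c0 y ≠ y → ∃ i : Fin 11, (c0 ^ i.val) 0 = y := by decide

theorem c0_isCycle : c0.IsCycle := by
  refine ⟨0, by decide, fun y hy => ?_⟩
  obtain ⟨i, hi⟩ := c0_sameCycle y hy
  exact ⟨(i.val : ℤ), by rw [zpow_natCast]; exact hi⟩

theorem c0_orderOf : orderOf c0 = 11 := by
  have : Fact (Nat.Prime 11) := ⟨by norm_num⟩
  exact orderOf_eq_prime c0_pow11 c0_ne_one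

/-- the core statement on `Fin 13` with the standard 11-cycle. -/
theorem core (n : Perm (Fin 13)) (hn : Equiv.Perm.sign n = 1) (h11 : n 11 = 11) (h12 : n 12 = 12)
    (hnorm : n * c0 * n⁻¹ ∈ zpowers c0) (hnot : n ∉ zpowers c0) :
    n ^ 5 = 1 ∧ n.support.card = 10 := by
  -- `n c0 n⁻¹ = N 0 k`
  obtain ⟨z, hz⟩ := Subgroup.mem_zpowers_iff.mp hnorm
  have hz1 : c0 ^ (z % 11) = c0 ^ z := by
    have := zpow_mod_orderOf c0 z
    rw [c0_orderOf] at this
    exact this
  have hz0 : 0 ≤ z % 11 := Int.emod_nonneg z (by norm_num)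
  have hz2 : z % 11 < 11 := Int.emod_lt_of_pos z (by norm_num)
  obtain ⟨m, hm⟩ := Int.eq_ofNat_of_zero_le hz0
  have hm11 : m < 11 := by omega
  have hk : n * c0 * n⁻¹ = N 0 ⟨m, hm11⟩ := by
    rw [← hz, ← hz1, hm, zpow_natCast]
    exact c0_pow ⟨m, hm11⟩
  set k : Fin 11 := ⟨m, hm11⟩ with hkdef
  have hsemi : SemiconjBy n c0 (N 0 k) := by
    show n * c0 = N 0 k * n
    rw [← hk]; group
  -- `k ≠ 0`
  have hk0 : k ≠ 0 := by
    intro h0
    rw [h0, N_zero_zero] at hk
    apply c0_ne_one
    have : c0 = n⁻¹ * (n * c0 * n⁻¹) * n := by group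
    rw [this, hk]; group
  -- `e = n 0 < 11`
  have he : (n 0).val < 11 := by
    by_contra hcon
    have h1 : n 0 = 11 ∨ n 0 = 12 := by
      have : (n 0).val = 11 ∨ (n 0).val = 12 := by omega
      rcases this with h | h
      · left; exact Fin.ext h
      · right; exact Fin.ext h
    rcases h1 with h | h
    · have := n.injective (h.trans h11.symm)
      exact absurd this (by decide)
    · have := n.injective (h.trans h12.symm)
      exact absurd this (by decide)
  set e : Fin 11 := ⟨(n 0).val, he⟩ with hedef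
  have hkpos : 0 < k.val := by
    rcases Nat.eq_zero_or_pos k.val with h | h
    · exact absurd (Fin.ext h) hk0
    · exact h
  set j : Fin 10 := ⟨k.val - 1, by omega⟩ with hjdef
  have hjk : j.val + 1 = k.val := by simp only [hjdef]; omega
  -- `n = N j e`
  have hval : ∀ s : Fin 11, n ⟨s.val, by omega⟩ = N j e ⟨s.val, by omega⟩ := by
    intro s
    have h1 : (⟨s.val, by omega⟩ : Fin 13) = (c0 ^ s.val) 0 := by
      rw [c0_pow s, lemC s]
    have h2 : n ((c0 ^ s.val) 0) = ((N 0 k) ^ s.val) (n 0) := by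
      have := (hsemi.pow_right s.val).eq
      have h3 := congrArg (fun p : Perm (Fin 13) => p 0) this
      simpa [Perm.mul_apply] using h3
    have hL : n ⟨s.val, by omega⟩ = (N 0 ⟨(k.val * s.val) % 11, Nat.mod_lt _ (by norm_num)⟩) (n 0) := by
      rw [h1, h2, lemA k s]
    have e1 : (⟨(k.val * s.val) % 11, Nat.mod_lt _ (by norm_num)⟩ : Fin 11)
        = ⟨((j.val + 1) * s.val) % 11, Nat.mod_lt _ (by norm_num)⟩ := by
      apply Fin.ext
      simp only [hjk]
    have e2 : n 0 = (⟨e.val, by omega⟩ : Fin 13) := Fin.ext rfl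
    rw [hL, e1, e2]
    exact lemB j e s
  have hnN : n = N j e := by
    apply Equiv.ext
    intro t
    by_cases ht : t.val < 11
    · have := hval ⟨t.val, ht⟩
      simpa using this
    · have h1 : t = 11 ∨ t = 12 := by
        have : t.val = 11 ∨ t.val = 12 := by omega
        rcases this with h | h
        · left; exact Fin.ext h
        · right; exact Fin.ext h
      rcases h1 with h | h
      · rw [h, h11, (lemD j e).1]
      · rw [h, h12, (lemD j e).2]
  -- `j ≠ 0`
  have hj0 : j ≠ 0 := by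
    intro h0
    apply hnot
    rw [hnN, h0, ← c0_pow e]
    exact Subgroup.pow_mem _ (Subgroup.mem_zpowers c0) _
  rw [hnN] at hn ⊢
  exact final j e hj0 hn

end T13b

/-- `permCongr` preserves cycles. -/
theorem t13b_isCycle_permCongr {α β : Type*} [DecidableEq α] [DecidableEq β] (e : α ≃ β) {p : Perm α}
    (hp : p.IsCycle) : (e.permCongr p).IsCycle := by
  obtain ⟨x, hx, hall⟩ := hp
  refine ⟨e x, ?_, ?_⟩
  · rw [Equiv.permCongr_apply, Equiv.symm_apply_apply]
    exact fun h => hx (e.injective h)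
  · intro y hy
    have hy' : p (e.symm y) ≠ e.symm y := by
      intro h
      apply hy
      rw [Equiv.permCongr_apply, h, Equiv.apply_symm_apply]
    obtain ⟨i, hi⟩ := hall hy'
    refine ⟨i, ?_⟩
    have h1 : (e.permCongr p) ^ i = e.permCongr (p ^ i) := (map_zpow e.permCongrHom p i).symm
    rw [h1, Equiv.permCongr_apply, Equiv.symm_apply_apply, hi, Equiv.apply_symm_apply]

/-- `permCongr` preserves the size of the support. -/
theorem t13b_support_permCongr {α β : Type*} [DecidableEq α] [DecidableEq β] [Fintype α] [Fintype β]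
    (e : α ≃ β) (p : Perm α) : (e.permCongr p).support.card = p.support.card := by
  have : (e.permCongr p).support = p.support.map e.toEmbedding := by
    ext y
    simp only [mem_support, Finset.mem_map, Equiv.coe_toEmbedding, Equiv.permCongr_apply]
    constructor
    · intro h
      refine ⟨e.symm y, ?_, Equiv.apply_symm_apply e y⟩
      intro h2
      apply h
      rw [h2, Equiv.apply_symm_apply]
    · rintro ⟨x, hx, rfl⟩
      rw [Equiv.symm_apply_apply]
      exact fun h => hx (e.injective h)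
  rw [this, Finset.card_map]

theorem normalizer_elt_structure {Ω : Type u} [Fintype Ω] [DecidableEq Ω]
    (hcard : Fintype.card Ω = 13) {g n : Perm Ω} (hgc : g.IsCycle) (hg11 : g.support.card = 11)
    (hn : n ∈ alternatingGroup Ω) (hfix : ∀ t, t ∉ g.support → n t = t)
    (hnorm : n * g * n⁻¹ ∈ zpowers g) (hnot : n ∉ zpowers g) :
    n ^ 5 = 1 ∧ n.support.card = 10 := by
  -- an equivalence with `Fin 13` carrying `g` to the standard 11-cycle
  let e₀ : Ω ≃ Fin 13 := Fintype.equivFinOfCardEq hcard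
  have hc1 : (e₀.permCongr g).cycleType = T13b.c0.cycleType := by
    rw [(t13b_isCycle_permCongr e₀ hgc).cycleType, T13b.c0_isCycle.cycleType,
      t13b_support_permCongr, hg11, T13b.c0_support]
  obtain ⟨x, hx⟩ := isConj_iff.mp (isConj_iff_cycleType_eq.mpr hc1)
  -- `φ = conj x ∘ permCongr e₀`
  let φ : Perm Ω ≃* Perm (Fin 13) := e₀.permCongrHom.trans (MulAut.conj x)
  have hφ : ∀ p : Perm Ω, φ p = x * e₀.permCongr p * x⁻¹ := fun p => rfl
  have hφg : φ g = T13b.c0 := by rw [hφ]; exact hx
  -- as a `permCongr`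
  let L : Ω ≃ Fin 13 := e₀.trans x
  have hφL : ∀ p : Perm Ω, φ p = L.permCongr p := by
    intro p
    apply Equiv.ext
    intro t
    rw [hφ]
    simp [L, Equiv.permCongr_apply, Perm.mul_apply, Perm.inv_def]
  -- fixed points
  have hfixL : ∀ t : Fin 13, T13b.c0 t = t → (φ n) t = t := by
    intro t ht
    have h1 : g (L.symm t) = L.symm t := by
      have := ht
      rw [← hφg, hφL, Equiv.permCongr_apply] at this
      have h2 := congrArg L.symm this
      rwa [Equiv.symm_apply_apply] at h2
    have h2 : n (L.symm t) = L.symm t := hfix _ (notMem_support.mpr h1)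
    rw [hφL, Equiv.permCongr_apply, h2, Equiv.apply_symm_apply]
  have hsign : Equiv.Perm.sign (φ n) = 1 := by
    rw [hφL, sign_permCongr]
    exact mem_alternatingGroup.mp hn
  have hnorm' : φ n * T13b.c0 * (φ n)⁻¹ ∈ zpowers T13b.c0 := by
    rw [← hφg, ← map_inv, ← map_mul, ← map_mul]
    obtain ⟨i, hi⟩ := Subgroup.mem_zpowers_iff.mp hnorm
    rw [← hi, map_zpow]
    exact Subgroup.zpow_mem _ (Subgroup.mem_zpowers _) _
  have hnot' : φ n ∉ zpowers T13b.c0 := by
    intro h
    apply hnot
    obtain ⟨i, hi⟩ := Subgroup.mem_zpowers_iff.mp h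
    rw [← hφg, ← map_zpow] at hi
    have := φ.injective hi
    rw [← this]
    exact Subgroup.zpow_mem _ (Subgroup.mem_zpowers _) _
  obtain ⟨h5, h10⟩ := T13b.core (φ n) hsign (hfixL 11 (by decide)) (hfixL 12 (by decide)) hnorm' hnot'
  constructor
  · apply φ.injective
    rw [map_pow, h5, map_one]
  · rw [hφL, t13b_support_permCongr] at h10
    exact h10

end Cfsg.Agent.Helper40.JPC
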