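import Mathlib
import Cfsg.Agent.Lib.Helper13.GraphAutPSL

/-!
# Products of graph automorphisms `gam A = PhiL A * ι` of `PSL_n(F)`

`gam A * gam B = PhiL (A * invT B)`; for a symmetric `B` this is `PhiL (A * B⁻¹)`; powers.
-/

set_option autoImplicit false

namespace Cfsg.Agent.Helper40.L37

open Matrix Cfsg.Agent.Helper13.PSLAut Cfsg.Agent.Helper13.GraphAutPSL

variable {F : Type*} [Field F] {n : ℕ}

theorem gam_mul_gam (A B : GL (Fin n) F) : gam A * gam B = PhiL (A * invT B) := by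
  unfold gam
  calc PhiL A * iotaAut * (PhiL B * iotaAut) = PhiL A * (iotaAut * PhiL B) * iotaAut := by group
    _ = PhiL A * (PhiL (invT B) * iotaAut) * iotaAut := by rw [iotaAut_mul_PhiL]
    _ = PhiL A * PhiL (invT B) * (iotaAut * iotaAut) := by group
    _ = PhiL (A * invT B) := by rw [iotaAut_mul_self, mul_one, map_mul]

/-- `invT B = B⁻¹` for a symmetric `B`. -/
theorem invT_of_symm (B : GL (Fin n) F)
    (hB : ((B : GL (Fin n) F) : Matrix (Fin n) (Fin n) F)ᵀ = (B : Matrix (Fin n) (Fin n) F)) :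
    invT B = B⁻¹ := by
  apply Units.ext
  rw [invT_coe]
  have h1 : ((B⁻¹ : GL (Fin n) F) : Matrix (Fin n) (Fin n) F)ᵀ * (B : Matrix (Fin n) (Fin n) F) = 1 := by
    conv_lhs => rw [← hB]
    rw [← Matrix.transpose_mul, coe_mul_inv, Matrix.transpose_one]
  have h2 : ((B⁻¹ : GL (Fin n) F) : Matrix (Fin n) (Fin n) F) * (B : Matrix (Fin n) (Fin n) F) = 1 :=
    coe_inv_mul B
  calc ((B⁻¹ : GL (Fin n) F) : Matrix (Fin n) (Fin n) F)ᵀ
      = ((B⁻¹ : GL (Fin n) F) : Matrix (Fin n) (Fin n) F)ᵀ *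
          ((B : Matrix (Fin n) (Fin n) F) * ((B⁻¹ : GL (Fin n) F) : Matrix (Fin n) (Fin n) F)) := by
        rw [coe_mul_inv, Matrix.mul_one]
    _ = ((B⁻¹ : GL (Fin n) F) : Matrix (Fin n) (Fin n) F) := by
        rw [← Matrix.mul_assoc, h1, Matrix.one_mul]

theorem gam_mul_gam_of_symm (A B : GL (Fin n) F)
    (hB : ((B : GL (Fin n) F) : Matrix (Fin n) (Fin n) F)ᵀ = (B : Matrix (Fin n) (Fin n) F)) :
    gam A * gam B = PhiL (A * B⁻¹) := by
  rw [gam_mul_gam, invT_of_symm B hB]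

theorem gam_mul_gam_pow (A B : GL (Fin n) F) (m : ℕ) :
    (gam A * gam B) ^ m = PhiL ((A * invT B) ^ m) := by
  rw [gam_mul_gam, map_pow]

/-- The Coxeter relation `(s t)^m = 1` for two graph automorphisms with symmetric matrices holds as
soon as `(A B⁻¹)^m` is a scalar matrix. -/
theorem gam_mul_gam_pow_eq_one (hn : 0 < n) (A B : GL (Fin n) F)
    (hB : ((B : GL (Fin n) F) : Matrix (Fin n) (Fin n) F)ᵀ = (B : Matrix (Fin n) (Fin n) F)) (m : ℕ)
    (h : (A * B⁻¹) ^ m ∈ Cfsg.Geo.scalars (Fin n) F) :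
    (gam A * gam B) ^ m = 1 := by
  rw [gam_mul_gam_of_symm A B hB, ← map_pow]
  exact (PhiL_eq_one_iff hn _).2 h

/-- `gam A` is an involution for a symmetric `A`. -/
theorem gam_mul_self_of_symm (A : GL (Fin n) F)
    (hA : ((A : GL (Fin n) F) : Matrix (Fin n) (Fin n) F)ᵀ = (A : Matrix (Fin n) (Fin n) F)) :
    gam A * gam A = 1 := by
  rw [gam_mul_gam_of_symm A A hA, mul_inv_cancel, map_one]

end Cfsg.Agent.Helper40.L37
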