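import Mathlib
import Cfsg.Prelude.Def_KGroupFacts
import Cfsg.Agent.Lib.Helper5.SL

/-!
# `Inn(PSL_n(𝔽_p)) ≤ R` as soon as `R` contains the inner automorphisms of the unit elementary
transvections `T_ij(1)` (prime field: `T_ij(c) = T_ij(1)^c`; `SL_n` is generated by transvections).
-/

set_option autoImplicit false

namespace Cfsg.Agent.Helper40.L37

open Matrix

theorem transvection_natCast {ι F : Type*} [DecidableEq ι] [Fintype ι] [Field F] {i j : ι}
    (hij : i ≠ j) (k : ℕ) :
    Matrix.SpecialLinearGroup.transvection hij (k : F) =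
      (Matrix.SpecialLinearGroup.transvection hij (1 : F)) ^ k := by
  induction k with
  | zero => simp
  | succ k ih =>
    rw [Nat.cast_succ, Matrix.SpecialLinearGroup.transvection_add, ih, pow_succ]

/-- Over a prime field, a subgroup of `Aut(PSL_n)` containing the inner automorphisms of the unit
elementary transvections contains all inner automorphisms. -/
theorem inn_le_of_unit_transvections {p : ℕ} [Fact p.Prime] {n : ℕ} (hn : 2 ≤ n)
    (R : Subgroup (MulAut (Matrix.ProjectiveSpecialLinearGroup (Fin n) (ZMod p))))
    (h : ∀ (i j : Fin n) (hij : i ≠ j),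
      MulAut.conj (QuotientGroup.mk (Matrix.SpecialLinearGroup.transvection hij (1 : ZMod p)) :
        Matrix.ProjectiveSpecialLinearGroup (Fin n) (ZMod p)) ∈ R) :
    Cfsg.Inn (Matrix.ProjectiveSpecialLinearGroup (Fin n) (ZMod p)) ≤ R := by
  have : Nontrivial (Fin n) := Fin.nontrivial_iff_two_le.2 hn
  rintro _ ⟨x, rfl⟩
  induction x using QuotientGroup.induction_on with
  | H s =>
    refine Cfsg.Agent.Helper5.transvection_induction
      (fun s : Matrix.SpecialLinearGroup (Fin n) (ZMod p) =>
        MulAut.conj (QuotientGroup.mk s : Matrix.ProjectiveSpecialLinearGroup (Fin n) (ZMod p)) ∈ R)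
      ?_ ?_ s
    · intro i j hij c
      have hc : c = ((ZMod.val c : ℕ) : ZMod p) := (ZMod.natCast_zmod_val c).symm
      rw [hc, transvection_natCast, QuotientGroup.mk_pow, map_pow]
      exact R.pow_mem (h i j hij) _
    · intro A B hA hB
      rw [QuotientGroup.mk_mul, map_mul]
      exact R.mul_mem hA hB

end Cfsg.Agent.Helper40.L37
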