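import Mathlib
import Cfsg.Agent.Lib.Helper28.L37KDefs
import Cfsg.Agent.Lib.Helper40.L37Gam
import Cfsg.Agent.Lib.Helper40.L37Inn

/-!
# The matrix side of S1693 (L37): `theta : K →* Aut(PSL(3,7))`

`K = L37KGroup` (helper28's sub-presentation of the O'Nan presentation on `a, …, f`).  The generator `s`
goes to the graph automorphism `gam (A_s) = PhiL (A_s) * ι` for helper28's six symmetric matrices
`A_s` over `ZMod 7` (polarities of `PG(2,7)`).  All relators are checked by `decide` on `3 × 3`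
matrices.  `theta` is onto a group containing `Inn` (six even words for the unit elementary
transvections, found by a breadth-first search) and `theta a = ι` is outer.
-/

set_option autoImplicit false

namespace Cfsg.Agent.Helper40.L37

open Matrix Cfsg.Agent.Helper13.PSLAut Cfsg.Agent.Helper13.GraphAutPSL Cfsg.Agent.Helper28

instance fact_prime_7 : Fact (Nat.Prime 7) := ⟨by norm_num⟩

/-- `3 × 3` matrices over `𝔽₇` -/
abbrev M3 : Type := Matrix (Fin 3) (Fin 3) (ZMod 7)

/-- `PSL(3, 7)` -/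
abbrev PSL37 : Type := Matrix.ProjectiveSpecialLinearGroup (Fin 3) (ZMod 7)

/-- helper28's six symmetric matrices -/
def Am : L37K.Gen → M3
  | .a => !![1,0,0;0,1,0;0,0,1]
  | .b => !![1,0,0;0,2,0;0,0,4]
  | .c => !![1,2,2;2,1,5;2,5,1]
  | .d => !![0,0,1;0,1,0;1,0,0]
  | .e => !![0,1,0;1,0,0;0,0,6]
  | .f => !![0,0,1;0,6,0;1,0,0]

/-- their inverses -/
def Aim : L37K.Gen → M3
  | .a => !![1,0,0;0,1,0;0,0,1]
  | .b => !![1,0,0;0,4,0;0,0,2]
  | .c => !![4,1,1;1,4,6;1,6,4]
  | .d => !![0,0,1;0,1,0;1,0,0]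
  | .e => !![0,1,0;1,0,0;0,0,6]
  | .f => !![0,0,1;0,6,0;1,0,0]

theorem Am_mul_Aim (s : L37K.Gen) : Am s * Aim s = 1 := by cases s <;> decide

theorem Aim_mul_Am (s : L37K.Gen) : Aim s * Am s = 1 := by cases s <;> decide

theorem Am_symm (s : L37K.Gen) : (Am s)ᵀ = Am s := by cases s <;> decide

/-- the six matrices as elements of `GL(3, 7)` -/
def AG (s : L37K.Gen) : GL (Fin 3) (ZMod 7) := ⟨Am s, Aim s, Am_mul_Aim s, Aim_mul_Am s⟩

theorem AG_val (s : L37K.Gen) : ((AG s : GL (Fin 3) (ZMod 7)) : M3) = Am s := rfl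

theorem AG_inv_val (s : L37K.Gen) : (((AG s)⁻¹ : GL (Fin 3) (ZMod 7)) : M3) = Aim s := rfl

theorem AG_symm (s : L37K.Gen) :
    ((AG s : GL (Fin 3) (ZMod 7)) : Matrix (Fin 3) (Fin 3) (ZMod 7))ᵀ =
      ((AG s : GL (Fin 3) (ZMod 7)) : Matrix (Fin 3) (Fin 3) (ZMod 7)) := Am_symm s

/-- the image of the generator `s`: the graph automorphism `PhiL (A_s) * ι` -/
noncomputable def theta0 (s : L37K.Gen) : MulAut PSL37 := gam (AG s)

theorem mem_scalars_of_val (g : GL (Fin 3) (ZMod 7)) (c : ZMod 7) (hc : c ≠ 0)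
    (h : (g : M3) = c • (1 : M3)) : g ∈ Cfsg.Geo.scalars (Fin 3) (ZMod 7) :=
  (Cfsg.Geo.mem_scalars_iff g).2 ⟨Units.mk0 c hc, h⟩

/-- proportional matrices induce the same automorphism -/
theorem PhiL_eq_of_val (X Y : GL (Fin 3) (ZMod 7)) (c : ZMod 7) (hc : c ≠ 0)
    (h : (X : M3) = c • (Y : M3)) : PhiL X = PhiL Y := by
  rw [eq_comm, PhiL_eq_iff (by norm_num)]
  refine mem_scalars_of_val _ c hc ?_
  rw [Units.val_mul, h, Matrix.mul_smul, coe_inv_mul]

/-! ### the relators -/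

set_option maxRecDepth 100000 in
theorem cox_mat (x y : L37K.Gen) : ∃ c : ZMod 7, c ≠ 0 ∧
    (Am x * Aim y) ^ (Cfsg.Spor.coxLabel L37K.edges x y) = c • (1 : M3) := by
  cases x <;> cases y <;> decide

theorem theta0_cox (x y : L37K.Gen) :
    (theta0 x * theta0 y) ^ (Cfsg.Spor.coxLabel L37K.edges x y) = 1 := by
  obtain ⟨c, hc, h⟩ := cox_mat x y
  refine gam_mul_gam_pow_eq_one (by norm_num) (AG x) (AG y) (AG_symm y) _ ?_
  refine mem_scalars_of_val _ c hc ?_
  rw [Units.val_pow_eq_pow_val, Units.val_mul, AG_val, AG_inv_val]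
  exact h

set_option maxRecDepth 100000 in
theorem extra_mat : ∃ c : ZMod 7, c ≠ 0 ∧
    Am L37K.Gen.a * Aim L37K.Gen.f = c • (Am L37K.Gen.c * Aim L37K.Gen.d) ^ 4 := by decide

theorem theta0_extra :
    theta0 L37K.Gen.a * theta0 L37K.Gen.f * ((theta0 L37K.Gen.c * theta0 L37K.Gen.d) ^ 4)⁻¹ = 1 := by
  rw [mul_inv_eq_one]
  unfold theta0
  rw [gam_mul_gam_of_symm _ _ (AG_symm L37K.Gen.f), gam_mul_gam_of_symm _ _ (AG_symm L37K.Gen.d),
    ← map_pow]
  obtain ⟨c, hc, h⟩ := extra_mat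
  refine PhiL_eq_of_val _ _ c hc ?_
  rw [Units.val_mul, Units.val_pow_eq_pow_val, Units.val_mul, AG_val, AG_inv_val, AG_val, AG_inv_val]
  exact h

theorem theta0_rel :
    ∀ r ∈ (Cfsg.Spor.coxRelators L37K.edges ∪ {r | r ∈ L37K.extra}),
      FreeGroup.lift theta0 r = 1 := by
  rintro r (⟨x, _, y, _, rfl⟩ | hr)
  · rw [map_pow, map_mul, FreeGroup.lift_apply_of, FreeGroup.lift_apply_of]
    exact theta0_cox x y
  · have hr' : r = (L37K.a * L37K.f) * (((L37K.c * L37K.d) ^ 4)⁻¹) := by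
      simpa [L37K.extra] using hr
    subst hr'
    simp only [map_mul, map_inv, map_pow, FreeGroup.lift_apply_of]
    exact theta0_extra

/-- **The homomorphism** `K →* Aut(PSL(3,7))`. -/
noncomputable def theta : L37KGroup →* MulAut PSL37 := PresentedGroup.toGroup theta0_rel

theorem theta_of (s : L37K.Gen) : theta (PresentedGroup.of s) = theta0 s :=
  PresentedGroup.toGroup.of theta0_rel

theorem theta_mk (w : FreeGroup L37K.Gen) :
    theta (PresentedGroup.mk _ w) = FreeGroup.lift theta0 w := rfl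

/-! ### `theta a` is outer -/

theorem conjSL_toGL' (s t : Matrix.SpecialLinearGroup (Fin 3) (ZMod 7)) :
    conjSL (Matrix.SpecialLinearGroup.toGL s) t = s * t * s⁻¹ := by
  apply Subtype.ext
  rw [conjSL_coe, Matrix.SpecialLinearGroup.coe_mul, Matrix.SpecialLinearGroup.coe_mul]
  have h2 : (((Matrix.SpecialLinearGroup.toGL s)⁻¹ : GL (Fin 3) (ZMod 7)) : M3) =
      ((s⁻¹ : Matrix.SpecialLinearGroup (Fin 3) (ZMod 7)) : M3) := by
    rw [← map_inv]; rfl
  rw [h2]
  rfl

theorem PhiL_toGL' (s : Matrix.SpecialLinearGroup (Fin 3) (ZMod 7)) :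
    PhiL (Matrix.SpecialLinearGroup.toGL s) = MulAut.conj (QuotientGroup.mk s : PSL37) := by
  apply MulEquiv.ext
  intro x
  induction x using QuotientGroup.induction_on with
  | H t =>
    rw [PhiL_mk, MulAut.conj_apply, conjSL_toGL']
    rfl

theorem theta_out :
    ∃ k : L37KGroup, theta k ∉ (MulAut.conj : PSL37 →* MulAut PSL37).range := by
  refine ⟨PresentedGroup.of L37K.Gen.a, ?_⟩
  rw [theta_of]
  rintro ⟨x, hx⟩
  induction x using QuotientGroup.induction_on with
  | H s =>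
    rw [← PhiL_toGL'] at hx
    have h1 : (iotaAut : MulAut PSL37) =
        PhiL ((AG L37K.Gen.a)⁻¹ * Matrix.SpecialLinearGroup.toGL s) := by
      rw [map_mul, map_inv, hx, theta0, gam]
      group
    exact iotaAut_ne_PhiL (le_refl 3) _ h1

/-! ### `Inn ≤ theta.range` -/

/-- the even word of a list of pairs of generators -/
def pairWord (l : List (L37K.Gen × L37K.Gen)) : FreeGroup L37K.Gen :=
  (l.map fun p => FreeGroup.of p.1 * FreeGroup.of p.2).prod

/-- its matrix `∏ A_s A_t⁻¹` in `GL` -/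
def pairGL (l : List (L37K.Gen × L37K.Gen)) : GL (Fin 3) (ZMod 7) :=
  (l.map fun p => AG p.1 * (AG p.2)⁻¹).prod

/-- its matrix `∏ A_s A_t⁻¹` -/
def pairMat (l : List (L37K.Gen × L37K.Gen)) : M3 :=
  (l.map fun p => Am p.1 * Aim p.2).prod

theorem lift_pairWord (l : List (L37K.Gen × L37K.Gen)) :
    FreeGroup.lift theta0 (pairWord l) = PhiL (pairGL l) := by
  induction l with
  | nil => simp [pairWord, pairGL]
  | cons p l ih =>
    have h1 : pairWord (p :: l) = FreeGroup.of p.1 * FreeGroup.of p.2 * pairWord l := by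
      simp [pairWord]
    have h2 : pairGL (p :: l) = AG p.1 * (AG p.2)⁻¹ * pairGL l := by
      simp [pairGL]
    rw [h1, h2, map_mul, map_mul, FreeGroup.lift_apply_of, FreeGroup.lift_apply_of, ih, map_mul]
    congr 1
    unfold theta0
    exact gam_mul_gam_of_symm _ _ (AG_symm p.2)

theorem pairGL_val (l : List (L37K.Gen × L37K.Gen)) :
    ((pairGL l : GL (Fin 3) (ZMod 7)) : M3) = pairMat l := by
  induction l with
  | nil => simp [pairGL, pairMat]
  | cons p l ih =>
    have h2 : pairGL (p :: l) = AG p.1 * (AG p.2)⁻¹ * pairGL l := by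
      simp [pairGL]
    have h3 : pairMat (p :: l) = Am p.1 * Aim p.2 * pairMat l := by
      simp [pairMat]
    rw [h2, h3, Units.val_mul, Units.val_mul, ih, AG_val, AG_inv_val]

/-- even words for the unit elementary transvections `T_ij(1)` (breadth-first search) -/
def tvWord (i j : Fin 3) : List (L37K.Gen × L37K.Gen) :=
    if i = 0 ∧ j = 1 then
      [(.a, .b), (.c, .d), (.c, .b), (.d, .e), (.d, .c), (.b, .d), (.c, .b), (.e, .d), (.c, .b), (.a, .d), (.c, .e), (.d, .c), (.b, .a)]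
    else
    if i = 0 ∧ j = 2 then
      [(.b, .a), (.c, .e), (.d, .c), (.b, .f), (.e, .d), (.c, .b), (.d, .c), (.b, .d), (.e, .d), (.c, .b), (.d, .c), (.e, .d), (.c, .b), (.f, .e)]
    else
    if i = 1 ∧ j = 0 then
      [(.b, .a), (.c, .d), (.c, .b), (.e, .d), (.c, .b), (.d, .c), (.b, .d), (.e, .d), (.c, .b), (.d, .c), (.e, .d), (.c, .b)]
    else
    if i = 1 ∧ j = 2 then
      [(.a, .b), (.a, .d), (.c, .d), (.c, .b), (.e, .d), (.c, .b), (.d, .c), (.b, .d), (.e, .d), (.c, .b), (.d, .c), (.e, .d), (.c, .b), (.a, .d)]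
    else
    if i = 2 ∧ j = 0 then
      [(.a, .b), (.a, .e), (.d, .c), (.d, .c), (.b, .e), (.d, .c), (.b, .d), (.c, .b), (.d, .e), (.d, .c), (.b, .d), (.c, .e), (.d, .c), (.b, .a), (.d, .e)]
    else
    if i = 2 ∧ j = 1 then
      [(.b, .a), (.c, .d), (.c, .b), (.f, .e), (.d, .c), (.b, .d), (.c, .b), (.d, .e), (.d, .c), (.b, .d), (.c, .e), (.d, .c), (.b, .f)]
    else
      []

set_option maxRecDepth 100000 in
theorem tv_mat : ∀ i j : Fin 3, i ≠ j → ∃ c : ZMod 7, c ≠ 0 ∧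
    pairMat (tvWord i j) = c • ((1 : M3) + Matrix.single i j 1) := by decide

theorem conj_transvection_mem (i j : Fin 3) (hij : i ≠ j) :
    MulAut.conj (QuotientGroup.mk (Matrix.SpecialLinearGroup.transvection hij (1 : ZMod 7)) : PSL37) ∈
      theta.range := by
  refine ⟨PresentedGroup.mk _ (pairWord (tvWord i j)), ?_⟩
  rw [theta_mk, lift_pairWord, ← PhiL_toGL']
  obtain ⟨c, hc, h⟩ := tv_mat i j hij
  refine PhiL_eq_of_val _ _ c hc ?_
  rw [pairGL_val, h]
  rfl

/-- `Inn(PSL(3,7)) ≤ theta.range` -/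
theorem inn_le_theta_range : (MulAut.conj : PSL37 →* MulAut PSL37).range ≤ theta.range :=
  inn_le_of_unit_transvections (p := 7) (n := 3) (by norm_num) theta.range conj_transvection_mem

end Cfsg.Agent.Helper40.L37
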