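import Mathlib

set_option autoImplicit false

namespace Cfsg.Agent.Helper40.LS

open Matrix

variable {F K' : Type*} [Field F] [Fintype F] [Field K'] {m d : ℕ}

theorem sum_char_dot_zero (ψ : AddChar F K') :
    ∑ u : Fin m → F, ψ ((0 : Fin m → F) ⬝ᵥ u) = (Fintype.card F : K') ^ m := by
  simp [Finset.card_univ]

/-- orthogonality of the additive characters of `F^m` -/
theorem sum_char_dot_of_ne (ψ : AddChar F K') (hψ : ψ.IsPrimitive) (z : Fin m → F) (hz : z ≠ 0) :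
    ∑ u : Fin m → F, ψ (z ⬝ᵥ u) = 0 := by
  classical
  let f : (Fin m → F) →+ F :=
    { toFun := fun u => z ⬝ᵥ u, map_zero' := dotProduct_zero z, map_add' := dotProduct_add z }
  let χ : AddChar (Fin m → F) K' := ψ.compAddMonoidHom f
  have hχ : χ ≠ 1 := by
    obtain ⟨i, hi⟩ : ∃ i, z i ≠ 0 := by
      by_contra h
      push Not at h
      exact hz (funext h)
    have h1 := hψ hi
    rw [AddChar.ne_one_iff] at h1 ⊢
    obtain ⟨x, hx⟩ := h1
    refine ⟨Pi.single i x, ?_⟩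
    have : χ (Pi.single i x) = ψ (z i * x) := by
      change ψ (z ⬝ᵥ Pi.single i x) = _
      rw [dotProduct_single]
    rw [this]
    rwa [AddChar.mulShift_apply] at hx
  exact AddChar.sum_eq_zero_of_ne_one hχ

section core

variable {G : Type*} [Group G]
variable (ψ : AddChar F K') (Φ : G →* Matrix (Fin d) (Fin d) K') (A : (Fin m → F) → G)

/-- the isotypic projectors (up to the scalar `q^m`) -/
noncomputable def E (y : Fin m → F) : Matrix (Fin d) (Fin d) K' :=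
  ∑ u : Fin m → F, ψ (-(y ⬝ᵥ u)) • Φ (A u)

variable {ψ Φ A}

theorem mul_E (hAadd : ∀ u v, A (u + v) = A u * A v) (u y : Fin m → F) :
    Φ (A u) * E ψ Φ A y = ψ (y ⬝ᵥ u) • E ψ Φ A y := by
  unfold E
  rw [Finset.mul_sum, Finset.smul_sum]
  calc ∑ v : Fin m → F, Φ (A u) * (ψ (-(y ⬝ᵥ v)) • Φ (A v))
      = ∑ v : Fin m → F, ψ (y ⬝ᵥ u) • ψ (-(y ⬝ᵥ (u + v))) • Φ (A (u + v)) := by
        apply Finset.sum_congr rfl
        intro v _
        rw [Matrix.mul_smul, ← map_mul, ← hAadd, smul_smul, ← AddChar.map_add_eq_mul]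
        congr 2
        rw [dotProduct_add]; ring
    _ = ∑ w : Fin m → F, ψ (y ⬝ᵥ u) • ψ (-(y ⬝ᵥ w)) • Φ (A w) :=
        Equiv.sum_comp (Equiv.addLeft u) (fun w => ψ (y ⬝ᵥ u) • ψ (-(y ⬝ᵥ w)) • Φ (A w))

theorem E_mul (y₀ : Fin m → F) (M : Matrix (Fin d) (Fin d) K') :
    E ψ Φ A y₀ * M = ∑ u : Fin m → F, ψ (-(y₀ ⬝ᵥ u)) • (Φ (A u) * M) := by
  rw [E, Finset.sum_mul]
  apply Finset.sum_congr rfl
  intro u _
  rw [Matrix.smul_mul]

theorem E_mul_E_of_ne (hψ : ψ.IsPrimitive) (hAadd : ∀ u v, A (u + v) = A u * A v)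
    (y₀ y : Fin m → F) (hne : y₀ ≠ y) : E ψ Φ A y₀ * E ψ Φ A y = 0 := by
  rw [E_mul]
  have h2 : ∀ u : Fin m → F, ψ (-(y₀ ⬝ᵥ u)) • (Φ (A u) * E ψ Φ A y)
      = ψ ((y - y₀) ⬝ᵥ u) • E ψ Φ A y := by
    intro u
    rw [mul_E hAadd, smul_smul, ← AddChar.map_add_eq_mul]
    congr 2
    rw [sub_dotProduct]; ring
  simp only [h2]
  rw [← Finset.sum_smul, sum_char_dot_of_ne ψ hψ (y - y₀) (sub_ne_zero.mpr hne.symm), zero_smul]

theorem E_mul_E_self (hAadd : ∀ u v, A (u + v) = A u * A v)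
    (y : Fin m → F) : E ψ Φ A y * E ψ Φ A y = ((Fintype.card F : K') ^ m) • E ψ Φ A y := by
  rw [E_mul]
  have h2 : ∀ u : Fin m → F, ψ (-(y ⬝ᵥ u)) • (Φ (A u) * E ψ Φ A y)
      = ψ ((0 : Fin m → F) ⬝ᵥ u) • E ψ Φ A y := by
    intro u
    rw [mul_E hAadd, smul_smul, ← AddChar.map_add_eq_mul]
    congr 2
    rw [zero_dotProduct]; ring
  simp only [h2]
  rw [← Finset.sum_smul, sum_char_dot_zero]

theorem sum_E (hψ : ψ.IsPrimitive) (hA0 : A 0 = 1) :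
    ∑ y : Fin m → F, E ψ Φ A y = ((Fintype.card F : K') ^ m) • (1 : Matrix (Fin d) (Fin d) K') := by
  classical
  unfold E
  rw [Finset.sum_comm]
  have h : ∀ u : Fin m → F, ∑ y : Fin m → F, ψ (-(y ⬝ᵥ u)) • Φ (A u)
      = if u = 0 then ((Fintype.card F : K') ^ m) • (1 : Matrix (Fin d) (Fin d) K') else 0 := by
    intro u
    rw [← Finset.sum_smul]
    have e : ∀ y : Fin m → F, ψ (-(y ⬝ᵥ u)) = ψ ((-u) ⬝ᵥ y) := by
      intro y; rw [neg_dotProduct, dotProduct_comm]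
    simp only [e]
    split_ifs with hu
    · subst hu
      rw [neg_zero, sum_char_dot_zero, hA0, map_one]
    · rw [sum_char_dot_of_ne ψ hψ (-u) (neg_ne_zero.mpr hu), zero_smul]
  simp only [h]
  rw [Finset.sum_ite_eq' Finset.univ (0 : Fin m → F)]
  simp

/-- conjugation permutes the projectors -/
theorem conj_E (z φ : Fin m → F) (hφz : φ ⬝ᵥ z = 0) (g : G)
    (hg : ∀ u, g * A u * g⁻¹ = A (u + (φ ⬝ᵥ u) • z)) (y : Fin m → F) :
    Φ g * E ψ Φ A y * Φ g⁻¹ = E ψ Φ A (y - (y ⬝ᵥ z) • φ) := by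
  let σ : (Fin m → F) ≃ (Fin m → F) :=
    { toFun := fun u => u + (φ ⬝ᵥ u) • z
      invFun := fun u => u - (φ ⬝ᵥ u) • z
      left_inv := fun u => by
        simp only [dotProduct_add, dotProduct_smul, hφz, smul_eq_mul, mul_zero, add_zero]
        abel
      right_inv := fun u => by
        simp only [dotProduct_sub, dotProduct_smul, hφz, smul_eq_mul, mul_zero, sub_zero]
        abel }
  unfold E
  rw [Finset.mul_sum, Finset.sum_mul]
  calc ∑ u : Fin m → F, Φ g * (ψ (-(y ⬝ᵥ u)) • Φ (A u)) * Φ g⁻¹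
      = ∑ u : Fin m → F, ψ (-((y - (y ⬝ᵥ z) • φ) ⬝ᵥ σ u)) • Φ (A (σ u)) := by
        apply Finset.sum_congr rfl
        intro u _
        rw [Matrix.mul_smul, Matrix.smul_mul, ← map_mul, ← map_mul, hg]
        congr 3
        change y ⬝ᵥ u = (y - (y ⬝ᵥ z) • φ) ⬝ᵥ (u + (φ ⬝ᵥ u) • z)
        simp only [sub_dotProduct, dotProduct_add, dotProduct_smul, smul_dotProduct, hφz, smul_eq_mul]
        ring
    _ = ∑ w : Fin m → F, ψ (-((y - (y ⬝ᵥ z) • φ) ⬝ᵥ w)) • Φ (A w) :=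
        Equiv.sum_comp σ (fun w => ψ (-((y - (y ⬝ᵥ z) • φ) ⬝ᵥ w)) • Φ (A w))

theorem E_ne_zero_of_conj (z φ : Fin m → F) (hφz : φ ⬝ᵥ z = 0) (g : G)
    (hg : ∀ u, g * A u * g⁻¹ = A (u + (φ ⬝ᵥ u) • z)) (y : Fin m → F)
    (hy : E ψ Φ A y ≠ 0) : E ψ Φ A (y - (y ⬝ᵥ z) • φ) ≠ 0 := by
  intro h0
  apply hy
  have h1 := conj_E (ψ := ψ) (Φ := Φ) z φ hφz g hg y
  rw [h0] at h1
  have h2 : Φ g⁻¹ * Φ g = 1 := by rw [← map_mul, inv_mul_cancel, map_one]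
  calc E ψ Φ A y = (Φ g⁻¹ * Φ g) * E ψ Φ A y * (Φ g⁻¹ * Φ g) := by rw [h2, one_mul, mul_one]
    _ = Φ g⁻¹ * (Φ g * E ψ Φ A y * Φ g⁻¹) * Φ g := by simp only [Matrix.mul_assoc]
    _ = 0 := by rw [h1, mul_zero, zero_mul]

/-- two vectors are linked when some `z` pairs to one with both -/
theorem E_ne_zero_of_link
    (hconj : ∀ z φ : Fin m → F, φ ⬝ᵥ z = 0 → ∃ g : G, ∀ u, g * A u * g⁻¹ = A (u + (φ ⬝ᵥ u) • z))
    (y y' z : Fin m → F) (h1 : y ⬝ᵥ z = 1) (h2 : y' ⬝ᵥ z = 1) (hy : E ψ Φ A y ≠ 0) :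
    E ψ Φ A y' ≠ 0 := by
  have hφz : (y - y') ⬝ᵥ z = 0 := by rw [sub_dotProduct, h1, h2, sub_self]
  obtain ⟨g, hg⟩ := hconj z (y - y') hφz
  have := E_ne_zero_of_conj (ψ := ψ) (Φ := Φ) z (y - y') hφz g hg y hy
  rwa [h1, one_smul, sub_sub_cancel] at this

theorem link_single (y : Fin m → F) (i j : Fin m) (hi : y i ≠ 0) (hij : j ≠ i) :
    ∃ z : Fin m → F, y ⬝ᵥ z = 1 ∧ (Pi.single j (1 : F) : Fin m → F) ⬝ᵥ z = 1 := by
  classical
  refine ⟨Pi.single i ((1 - y j) / y i) + Pi.single j 1, ?_, ?_⟩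
  · rw [dotProduct_add, dotProduct_single, dotProduct_single]
    field_simp
    ring
  · rw [dotProduct_add, single_dotProduct, single_dotProduct, Pi.single_eq_of_ne hij,
      Pi.single_eq_same]
    ring

theorem E_ne_zero_all (hm : 2 ≤ m)
    (hconj : ∀ z φ : Fin m → F, φ ⬝ᵥ z = 0 → ∃ g : G, ∀ u, g * A u * g⁻¹ = A (u + (φ ⬝ᵥ u) • z))
    (y : Fin m → F) (hy0 : y ≠ 0) (hy : E ψ Φ A y ≠ 0) (y' : Fin m → F) (hy'0 : y' ≠ 0) :
    E ψ Φ A y' ≠ 0 := by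
  classical
  have : Nontrivial (Fin m) := Fin.nontrivial_iff_two_le.mpr hm
  obtain ⟨i, hi⟩ : ∃ i, y i ≠ 0 := by
    by_contra h
    push Not at h
    exact hy0 (funext h)
  obtain ⟨i', hi'⟩ : ∃ i, y' i ≠ 0 := by
    by_contra h
    push Not at h
    exact hy'0 (funext h)
  obtain ⟨j, hj⟩ := exists_ne i
  obtain ⟨j', hj'⟩ := exists_ne i'
  obtain ⟨z₁, a1, b1⟩ := link_single y i j hi hj
  obtain ⟨z₃, a3, b3⟩ := link_single y' i' j' hi' hj'
  have s1 := E_ne_zero_of_link (ψ := ψ) (Φ := Φ) hconj y _ z₁ a1 b1 hy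
  have s2 := E_ne_zero_of_link (ψ := ψ) (Φ := Φ) hconj (Pi.single j 1) (Pi.single j' 1) (fun _ => 1)
    (by rw [single_dotProduct]; ring) (by rw [single_dotProduct]; ring) s1
  exact E_ne_zero_of_link (ψ := ψ) (Φ := Φ) hconj _ y' z₃ b3 a3 s2

theorem exists_E_ne_zero (hψ : ψ.IsPrimitive) (hq : (Fintype.card F : K') ≠ 0) (hA0 : A 0 = 1)
    (hAadd : ∀ u v, A (u + v) = A u * A v) (hfaith : ∃ u, Φ (A u) ≠ 1) :
    ∃ y : Fin m → F, y ≠ 0 ∧ E ψ Φ A y ≠ 0 := by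
  classical
  by_contra hcon
  push Not at hcon
  obtain ⟨u, hu⟩ := hfaith
  apply hu
  have hsum := sum_E (ψ := ψ) (Φ := Φ) (A := A) hψ hA0
  rw [Finset.sum_eq_single (0 : Fin m → F) (fun y _ hy => hcon y hy)
    (fun h => absurd (Finset.mem_univ _) h)] at hsum
  have h1 := mul_E (ψ := ψ) (Φ := Φ) hAadd u 0
  rw [zero_dotProduct, AddChar.map_zero_eq_one, one_smul, hsum, Matrix.mul_smul, mul_one] at h1
  exact smul_right_injective _ (pow_ne_zero m hq) h1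

theorem exists_mulVec_ne_zero (M : Matrix (Fin d) (Fin d) K') (hM : M ≠ 0) :
    ∃ t : Fin d → K', M *ᵥ t ≠ 0 := by
  classical
  by_contra hcon
  push Not at hcon
  apply hM
  ext i j
  have := congrFun (hcon (Pi.single j 1)) i
  simpa using this

/-- the abstract Landazuri--Seitz bound -/
theorem card_le (hm : 2 ≤ m) (hψ : ψ.IsPrimitive) (hq : (Fintype.card F : K') ≠ 0) (hA0 : A 0 = 1)
    (hAadd : ∀ u v, A (u + v) = A u * A v)
    (hconj : ∀ z φ : Fin m → F, φ ⬝ᵥ z = 0 → ∃ g : G, ∀ u, g * A u * g⁻¹ = A (u + (φ ⬝ᵥ u) • z))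
    (hfaith : ∃ u, Φ (A u) ≠ 1) : Fintype.card F ^ m - 1 ≤ d := by
  classical
  obtain ⟨y₁, hy₁0, hy₁⟩ := exists_E_ne_zero (ψ := ψ) (Φ := Φ) hψ hq hA0 hAadd hfaith
  have hall : ∀ y : {y : Fin m → F // y ≠ 0}, ∃ t : Fin d → K', E ψ Φ A y.1 *ᵥ t ≠ 0 := fun y =>
    exists_mulVec_ne_zero _ (E_ne_zero_all (ψ := ψ) (Φ := Φ) hm hconj y₁ hy₁0 hy₁ y.1 y.2)
  choose t ht using hall
  have hli : LinearIndependent K' (fun y : {y : Fin m → F // y ≠ 0} => E ψ Φ A y.1 *ᵥ t y) := by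
    rw [Fintype.linearIndependent_iff]
    intro c hc y₀
    have h1 := congrArg (fun w => E ψ Φ A y₀.1 *ᵥ w) hc
    simp only [Matrix.mulVec_sum, Matrix.mulVec_smul, Matrix.mulVec_mulVec, Matrix.mulVec_zero] at h1
    rw [Finset.sum_eq_single y₀] at h1
    · rw [E_mul_E_self hAadd, Matrix.smul_mulVec, smul_smul] at h1
      rcases smul_eq_zero.mp h1 with h | h
      · exact (mul_eq_zero.mp h).resolve_right (pow_ne_zero m hq)
      · exact absurd h (ht y₀)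
    · intro y _ hne
      rw [E_mul_E_of_ne hψ hAadd y₀.1 y.1 (fun h => hne (Subtype.ext h.symm)), Matrix.zero_mulVec,
        smul_zero]
    · intro h
      exact absurd (Finset.mem_univ _) h
  have hcard := hli.fintype_card_le_finrank
  rw [Module.finrank_fin_fun] at hcard
  have hS : Fintype.card {y : Fin m → F // y ≠ 0} = Fintype.card F ^ m - 1 := by
    rw [Fintype.card_subtype_compl, Fintype.card_subtype_eq, Fintype.card_fun, Fintype.card_fin]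
  rw [← hS]
  exact hcard

end core

end Cfsg.Agent.Helper40.LS
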