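import Mathlib
import Cfsg.Agent.Lib.Helper40.LSCore

set_option autoImplicit false

namespace Cfsg.Agent.Helper40.LS

open Matrix

variable {F K' : Type*} [Field F] [Fintype F] [Field K'] {m d : ℕ}
variable {G : Type*} [Group G]
variable {ψ : AddChar F K'} {Φ : G →* Matrix (Fin d) (Fin d) K'} {A : (Fin m → F) → G}

/-- conjugation permutes the projectors (general form) -/
theorem conj_E' (σ : (Fin m → F) ≃ (Fin m → F)) (y y' : Fin m → F)
    (hyy' : ∀ u, y' ⬝ᵥ σ u = y ⬝ᵥ u) (g : G) (hg : ∀ u, g * A u * g⁻¹ = A (σ u)) :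
    Φ g * E ψ Φ A y * Φ g⁻¹ = E ψ Φ A y' := by
  unfold E
  rw [Finset.mul_sum, Finset.sum_mul]
  calc ∑ u : Fin m → F, Φ g * (ψ (-(y ⬝ᵥ u)) • Φ (A u)) * Φ g⁻¹
      = ∑ u : Fin m → F, ψ (-(y' ⬝ᵥ σ u)) • Φ (A (σ u)) := by
        apply Finset.sum_congr rfl
        intro u _
        rw [Matrix.mul_smul, Matrix.smul_mul, ← map_mul, ← map_mul, hg, hyy']
    _ = ∑ w : Fin m → F, ψ (-(y' ⬝ᵥ w)) • Φ (A w) :=
        Equiv.sum_comp σ (fun w => ψ (-(y' ⬝ᵥ w)) • Φ (A w))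

theorem E_ne_zero_of_conj' (σ : (Fin m → F) ≃ (Fin m → F)) (y y' : Fin m → F)
    (hyy' : ∀ u, y' ⬝ᵥ σ u = y ⬝ᵥ u) (g : G) (hg : ∀ u, g * A u * g⁻¹ = A (σ u))
    (hy : E ψ Φ A y ≠ 0) : E ψ Φ A y' ≠ 0 := by
  intro h0
  apply hy
  have h1 := conj_E' (ψ := ψ) (Φ := Φ) σ y y' hyy' g hg
  rw [h0] at h1
  have h2 : Φ g⁻¹ * Φ g = 1 := by rw [← map_mul, inv_mul_cancel, map_one]
  calc E ψ Φ A y = (Φ g⁻¹ * Φ g) * E ψ Φ A y * (Φ g⁻¹ * Φ g) := by rw [h2, one_mul, mul_one]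
    _ = Φ g⁻¹ * (Φ g * E ψ Φ A y * Φ g⁻¹) * Φ g := by simp only [Matrix.mul_assoc]
    _ = 0 := by rw [h1, mul_zero, zero_mul]

/-- a set of characters all occurring gives a lower bound for the degree -/
theorem card_le_of_ne_zero (hψ : ψ.IsPrimitive) (hq : (Fintype.card F : K') ≠ 0)
    (hAadd : ∀ u v, A (u + v) = A u * A v) (S : Finset (Fin m → F))
    (hS : ∀ y ∈ S, E ψ Φ A y ≠ 0) : S.card ≤ d := by
  classical
  have hall : ∀ y : {y // y ∈ S}, ∃ t : Fin d → K', E ψ Φ A y.1 *ᵥ t ≠ 0 := fun y =>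
    exists_mulVec_ne_zero _ (hS y.1 y.2)
  choose t ht using hall
  have hli : LinearIndependent K' (fun y : {y // y ∈ S} => E ψ Φ A y.1 *ᵥ t y) := by
    rw [Fintype.linearIndependent_iff]
    intro c hc y₀
    have h1 := congrArg (fun w => E ψ Φ A y₀.1 *ᵥ w) hc
    simp only [Matrix.mulVec_sum, Matrix.mulVec_smul, Matrix.mulVec_mulVec, Matrix.mulVec_zero] at h1
    rw [Finset.sum_eq_single y₀] at h1
    · rw [E_mul_E_self hAadd, Matrix.smul_mulVec, smul_smul] at h1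
      rcases smul_eq_zero.mp h1 with h | h
      · exact (mul_eq_zero.mp h).resolve_right (pow_ne_zero m hq)
      · exact absurd h (ht y₀)
    · intro y _ hne
      rw [E_mul_E_of_ne hψ hAadd y₀.1 y.1 (fun h => hne (Subtype.ext h.symm)), Matrix.zero_mulVec,
        smul_zero]
    · intro h
      exact absurd (Finset.mem_univ _) h
  have hcard := hli.fintype_card_le_finrank
  rw [Module.finrank_fin_fun, Fintype.card_coe] at hcard
  exact hcard

/-- a character occurs which is nontrivial on a given element acting nontrivially -/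
theorem exists_E_ne_zero_of (hψ : ψ.IsPrimitive) (hq : (Fintype.card F : K') ≠ 0) (hA0 : A 0 = 1)
    (hAadd : ∀ u v, A (u + v) = A u * A v) (u₀ : Fin m → F) (h : Φ (A u₀) ≠ 1) :
    ∃ y : Fin m → F, E ψ Φ A y ≠ 0 ∧ y ⬝ᵥ u₀ ≠ 0 := by
  classical
  by_contra hcon
  push Not at hcon
  apply h
  have hsum := sum_E (ψ := ψ) (Φ := Φ) (A := A) hψ hA0
  have hfix : ∀ y : Fin m → F, Φ (A u₀) * E ψ Φ A y = E ψ Φ A y := by
    intro y
    by_cases hy : E ψ Φ A y = 0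
    · rw [hy, mul_zero]
    · rw [mul_E hAadd, hcon y hy, AddChar.map_zero_eq_one, one_smul]
  have h1 : Φ (A u₀) * ∑ y : Fin m → F, E ψ Φ A y = ∑ y : Fin m → F, E ψ Φ A y := by
    rw [Finset.mul_sum]
    exact Finset.sum_congr rfl (fun y _ => hfix y)
  rw [hsum, Matrix.mul_smul, mul_one] at h1
  exact smul_right_injective _ (pow_ne_zero m hq) h1

end Cfsg.Agent.Helper40.LS
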