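import Mathlib

/-!
# Twisted Burnside counting for multiply transitive actions

For a finite group `G` acting on `Ω`, `j`-transitively, and a permutation `σ` of `Fin j`, the
number of pairs `(g, x)` with `x : Fin j → Ω` injective and `g • x i = x (σ i)` for all `i`
is the order of `G`.
-/

set_option autoImplicit false
set_option linter.unusedSectionVars false

namespace Cfsg.Agent.Helper40.MT4

open Finset

section TB

variable {G Y : Type*} [Group G] [Fintype G] [MulAction G Y] [DecidableEq Y]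

/-- the number of group elements taking `x` to `y` -/
noncomputable def transp (x y : Y) : ℕ := (univ.filter (fun g : G => g • x = y)).card

theorem transp_eq_of_smul {x y : Y} (g₀ : G) (h : g₀ • x = y) :
    transp (G := G) x y = transp (G := G) x x := by
  unfold transp
  refine Finset.card_nbij' (fun g => g₀⁻¹ * g) (fun g => g₀ * g) ?_ ?_ ?_ ?_
  · intro g hg
    simp only [coe_filter, mem_univ, true_and, Set.mem_ofPred_eq] at hg ⊢
    rw [mul_smul, hg, ← h, inv_smul_smul]
  · intro g hg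
    simp only [coe_filter, mem_univ, true_and, Set.mem_ofPred_eq] at hg ⊢
    rw [mul_smul, hg, h]
  · intro g _
    simp
  · intro g _
    simp

theorem sum_transp (X : Finset Y) (hstab : ∀ g : G, ∀ x ∈ X, g • x ∈ X) {x : Y} (hx : x ∈ X) :
    ∑ y ∈ X, transp (G := G) x y = Fintype.card G := by
  unfold transp
  rw [← Finset.card_univ (α := G)]
  exact (Finset.card_eq_sum_card_fiberwise (f := fun g : G => g • x) (s := univ) (t := X)
    (fun g _ => hstab g x hx)).symm

theorem card_mul_transp (X : Finset Y) (hstab : ∀ g : G, ∀ x ∈ X, g • x ∈ X)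
    (htrans : ∀ x ∈ X, ∀ y ∈ X, ∃ g : G, g • x = y) {x : Y} (hx : x ∈ X) :
    X.card * transp (G := G) x x = Fintype.card G := by
  rw [← sum_transp X hstab hx, ← smul_eq_mul, ← Finset.sum_const]
  refine Finset.sum_congr rfl (fun y hy => ?_)
  obtain ⟨g₀, hg₀⟩ := htrans x hx y hy
  exact (transp_eq_of_smul g₀ hg₀).symm

/-- twisted Burnside counting -/
theorem twisted_burnside (X : Finset Y) (hne : X.Nonempty) (hstab : ∀ g : G, ∀ x ∈ X, g • x ∈ X)
    (htrans : ∀ x ∈ X, ∀ y ∈ X, ∃ g : G, g • x = y) (τ : Y → Y) (hτ : ∀ x ∈ X, τ x ∈ X) :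
    ∑ g : G, (X.filter (fun x => g • x = τ x)).card = Fintype.card G := by
  have h1 : ∑ g : G, (X.filter (fun x => g • x = τ x)).card =
      ∑ x ∈ X, transp (G := G) x (τ x) := by
    unfold transp
    simp_rw [Finset.card_filter]
    rw [Finset.sum_comm]
  rw [h1]
  have h2 : ∀ x ∈ X, transp (G := G) x (τ x) = transp (G := G) x x := by
    intro x hx
    obtain ⟨g₀, hg₀⟩ := htrans x hx (τ x) (hτ x hx)
    exact transp_eq_of_smul g₀ hg₀
  rw [Finset.sum_congr rfl h2]
  have hpos : 0 < X.card := Finset.card_pos.2 hne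
  have h3 : X.card * ∑ x ∈ X, transp (G := G) x x = X.card * Fintype.card G := by
    rw [Finset.mul_sum, Finset.sum_congr rfl (fun x hx => card_mul_transp X hstab htrans hx),
      Finset.sum_const, smul_eq_mul]
  exact Nat.eq_of_mul_eq_mul_left hpos h3

end TB


section Count

variable {G Ω : Type*} [Group G] [Fintype G] [MulAction G Ω] [Fintype Ω] [DecidableEq Ω]

/-- the number of injective `j`-tuples `x` with `g • x i = x (σ i)` -/
def N (j : ℕ) (σ : Fin j → Fin j) (g : G) : ℕ :=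
  (univ.filter (fun x : Fin j → Ω => Function.Injective x ∧ ∀ i, g • x i = x (σ i))).card

theorem sum_N (j : ℕ) (hj : j ≤ Fintype.card Ω) (htr : MulAction.IsMultiplyPretransitive G Ω j)
    (σ : Fin j → Fin j) (hσ : Function.Injective σ) :
    ∑ g : G, N (Ω := Ω) j σ g = Fintype.card G := by
  have hne : (univ.filter (fun x : Fin j → Ω => Function.Injective x)).Nonempty := by
    have : Nonempty (Fin j ↪ Ω) := Function.Embedding.nonempty_of_card_le (by simpa using hj)
    obtain ⟨e⟩ := this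
    exact ⟨e, by simp [e.injective]⟩
  have h := twisted_burnside (G := G) (univ.filter (fun x : Fin j → Ω => Function.Injective x)) hne
    (fun g x hx => by
      simp only [mem_filter, mem_univ, true_and] at hx ⊢
      intro a b hab
      have : g • x a = g • x b := hab
      exact hx (MulAction.injective g this))
    (fun x hx y hy => by
      simp only [mem_filter, mem_univ, true_and] at hx hy
      obtain ⟨g, hg⟩ := htr.exists_smul_eq (⟨x, hx⟩ : Fin j ↪ Ω) ⟨y, hy⟩
      refine ⟨g, funext (fun i => ?_)⟩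
      have := congrArg (fun e : Fin j ↪ Ω => e i) hg
      simpa using this)
    (fun x => x ∘ σ)
    (fun x hx => by
      simp only [mem_filter, mem_univ, true_and] at hx ⊢
      exact hx.comp hσ)
  rw [← h]
  refine Finset.sum_congr rfl (fun g _ => ?_)
  unfold N
  rw [Finset.filter_filter]
  congr 1
  refine Finset.filter_congr (fun x _ => ?_)
  rw [funext_iff]
  simp only [Pi.smul_apply, Function.comp_apply]

/-- the fixed points of `g` -/
def fixF (g : G) : Finset Ω := univ.filter (fun a => g • a = a)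

/-- the number of fixed points of `g` -/
def fx (g : G) : ℕ := (fixF (Ω := Ω) g).card

/-- the ordered pairs swapped by `g` -/
def Sw (g : G) : Finset (Ω × Ω) := univ.filter (fun t => g • t.1 = t.2 ∧ g • t.2 = t.1 ∧ t.1 ≠ t.2)

/-- the number of ordered pairs swapped by `g` -/
def sw (g : G) : ℕ := (Sw (Ω := Ω) g).card

theorem mem_fixF {g : G} {a : Ω} : a ∈ fixF g ↔ g • a = a := by
  simp [fixF]

theorem mem_Sw {g : G} {t : Ω × Ω} : t ∈ Sw g ↔ g • t.1 = t.2 ∧ g • t.2 = t.1 ∧ t.1 ≠ t.2 := by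
  simp [Sw]

theorem N_id (j : ℕ) (g : G) : N (Ω := Ω) j id g = (fx (Ω := Ω) g).descFactorial j := by
  unfold N fx
  rw [← Fintype.card_subtype]
  have e : {x : Fin j → Ω // Function.Injective x ∧ ∀ i, g • x i = x (id i)} ≃
      (Fin j ↪ {a : Ω // a ∈ fixF g}) :=
    { toFun := fun x => ⟨fun i => ⟨x.1 i, mem_fixF.2 (x.2.2 i)⟩, fun i k h =>
        x.2.1 (congrArg Subtype.val h)⟩
      invFun := fun e => ⟨fun i => (e i).1, fun i k h => e.injective (Subtype.ext h),
        fun i => mem_fixF.1 (e i).2⟩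
      left_inv := fun x => rfl
      right_inv := fun e => rfl }
  rw [Fintype.card_congr e, Fintype.card_embedding_eq, Fintype.card_fin, Fintype.card_coe]


theorem inj2 {a b : Ω} (hab : a ≠ b) : Function.Injective ![a, b] := by
  intro i k h
  fin_cases i <;> fin_cases k <;> simp_all

theorem inj3 {a b c : Ω} (hab : a ≠ b) (hac : a ≠ c) (hbc : b ≠ c) :
    Function.Injective ![a, b, c] := by
  intro i k h
  fin_cases i <;> fin_cases k <;> simp_all

theorem inj4 {a b c d : Ω} (hab : a ≠ b) (hac : a ≠ c) (had : a ≠ d) (hbc : b ≠ c) (hbd : b ≠ d)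
    (hcd : c ≠ d) : Function.Injective ![a, b, c, d] := by
  intro i k h
  fin_cases i <;> fin_cases k <;> simp_all

theorem vec2_eta (x : Fin 2 → Ω) : ![x 0, x 1] = x := by
  funext i
  fin_cases i <;> rfl

theorem vec3_eta (x : Fin 3 → Ω) : ![x 0, x 1, x 2] = x := by
  funext i
  fin_cases i <;> rfl

theorem vec4_eta (x : Fin 4 → Ω) : ![x 0, x 1, x 2, x 3] = x := by
  funext i
  fin_cases i <;> rfl

/-- a fixed point is not part of a swapped pair -/
theorem ne_of_fix_of_swap {g : G} {a b c : Ω} (hab : g • a = b) (hne : a ≠ b) (hc : g • c = c) :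
    a ≠ c := by
  rintro rfl
  exact hne (hc.symm.trans hab)

theorem N_swap2 (g : G) : N (Ω := Ω) 2 ![1, 0] g = sw (Ω := Ω) g := by
  unfold N sw
  refine Finset.card_nbij' (fun x => (x 0, x 1)) (fun t => ![t.1, t.2]) ?_ ?_ ?_ ?_
  · intro x hx
    simp only [coe_filter, mem_univ, true_and, Set.mem_ofPred_eq] at hx
    simp only [Finset.mem_coe, mem_Sw]
    have h0 := hx.2 0
    have h1 := hx.2 1
    simp only [Matrix.cons_val_zero, Matrix.cons_val_one] at h0 h1
    exact ⟨h0, h1, fun h => by simpa using hx.1 h⟩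
  · intro t ht
    simp only [Finset.mem_coe, mem_Sw] at ht
    simp only [coe_filter, mem_univ, true_and, Set.mem_ofPred_eq]
    refine ⟨inj2 ht.2.2, fun i => ?_⟩
    fin_cases i
    · simpa using ht.1
    · simpa using ht.2.1
  · intro x _
    exact vec2_eta x
  · intro t _
    rfl

theorem N_swap3 (g : G) : N (Ω := Ω) 3 ![1, 0, 2] g = sw (Ω := Ω) g * fx (Ω := Ω) g := by
  unfold N sw fx
  rw [← Finset.card_product]
  refine Finset.card_nbij' (fun x => ((x 0, x 1), x 2)) (fun t => ![t.1.1, t.1.2, t.2]) ?_ ?_ ?_ ?_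
  · intro x hx
    simp only [coe_filter, mem_univ, true_and, Set.mem_ofPred_eq] at hx
    simp only [Finset.mem_coe, Finset.mem_product, mem_Sw, mem_fixF]
    have h0 := hx.2 0
    have h1 := hx.2 1
    have h2 := hx.2 2
    simp only [Matrix.cons_val_zero, Matrix.cons_val_one, Matrix.cons_val] at h0 h1 h2
    exact ⟨⟨h0, h1, fun h => by simpa using hx.1 h⟩, h2⟩
  · intro t ht
    simp only [Finset.mem_coe, Finset.mem_product, mem_Sw, mem_fixF] at ht
    simp only [coe_filter, mem_univ, true_and, Set.mem_ofPred_eq]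
    obtain ⟨⟨h0, h1, hne⟩, h2⟩ := ht
    refine ⟨inj3 hne (ne_of_fix_of_swap h0 hne h2) (ne_of_fix_of_swap h1 hne.symm h2),
      fun i => ?_⟩
    fin_cases i
    · simpa using h0
    · simpa using h1
    · simpa using h2
  · intro x _
    exact vec3_eta x
  · intro t _
    rfl

theorem N_swap4 (g : G) : N (Ω := Ω) 4 ![1, 0, 2, 3] g =
    sw (Ω := Ω) g * (fx (Ω := Ω) g * fx (Ω := Ω) g - fx (Ω := Ω) g) := by
  unfold N sw fx
  rw [← Finset.offDiag_card, ← Finset.card_product]
  refine Finset.card_nbij' (fun x => ((x 0, x 1), (x 2, x 3)))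
    (fun t => ![t.1.1, t.1.2, t.2.1, t.2.2]) ?_ ?_ ?_ ?_
  · intro x hx
    simp only [coe_filter, mem_univ, true_and, Set.mem_ofPred_eq] at hx
    simp only [Finset.mem_coe, Finset.mem_product, mem_Sw, Finset.mem_offDiag, mem_fixF]
    have h0 := hx.2 0
    have h1 := hx.2 1
    have h2 := hx.2 2
    have h3 := hx.2 3
    simp only [Matrix.cons_val_zero, Matrix.cons_val_one, Matrix.cons_val] at h0 h1 h2 h3
    exact ⟨⟨h0, h1, fun h => by simpa using hx.1 h⟩, h2, h3, fun h => by simpa using hx.1 h⟩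
  · intro t ht
    simp only [Finset.mem_coe, Finset.mem_product, mem_Sw, Finset.mem_offDiag, mem_fixF] at ht
    simp only [coe_filter, mem_univ, true_and, Set.mem_ofPred_eq]
    obtain ⟨⟨h0, h1, hne⟩, h2, h3, hne'⟩ := ht
    refine ⟨inj4 hne (ne_of_fix_of_swap h0 hne h2) (ne_of_fix_of_swap h0 hne h3)
      (ne_of_fix_of_swap h1 hne.symm h2) (ne_of_fix_of_swap h1 hne.symm h3) hne', fun i => ?_⟩
    fin_cases i
    · simpa using h0
    · simpa using h1
    · simpa using h2
    · simpa using h3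
  · intro x _
    exact vec4_eta x
  · intro t _
    rfl


theorem swap_mem_Sw {g : G} {t : Ω × Ω} (ht : t ∈ Sw g) : t.swap ∈ Sw g := by
  rw [mem_Sw] at ht ⊢
  exact ⟨ht.2.1, ht.1, ht.2.2.symm⟩

theorem swap_ne_of_mem_Sw {g : G} {t : Ω × Ω} (ht : t ∈ Sw g) : t.swap ≠ t := by
  rw [mem_Sw] at ht
  intro h
  have := congrArg Prod.fst h
  simp only [Prod.fst_swap] at this
  exact ht.2.2 this.symm

theorem N_dswap4 (g : G) : N (Ω := Ω) 4 ![1, 0, 3, 2] g + 2 * sw (Ω := Ω) g =
    sw (Ω := Ω) g * sw (Ω := Ω) g := by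
  have h1 : N (Ω := Ω) 4 ![1, 0, 3, 2] g =
      ((Sw (Ω := Ω) g ×ˢ Sw (Ω := Ω) g).filter
        (fun q => ¬ (q.2 = q.1 ∨ q.2 = q.1.swap))).card := by
    unfold N
    refine Finset.card_nbij' (fun x => ((x 0, x 1), (x 2, x 3)))
      (fun t => ![t.1.1, t.1.2, t.2.1, t.2.2]) ?_ ?_ ?_ ?_
    · intro x hx
      simp only [coe_filter, mem_univ, true_and, Set.mem_ofPred_eq] at hx
      simp only [Finset.mem_coe, Finset.mem_filter, Finset.mem_product, mem_Sw]
      have h0 := hx.2 0
      have h1 := hx.2 1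
      have h2 := hx.2 2
      have h3 := hx.2 3
      simp only [Matrix.cons_val_zero, Matrix.cons_val_one, Matrix.cons_val] at h0 h1 h2 h3
      refine ⟨⟨⟨h0, h1, fun h => by simpa using hx.1 h⟩, h2, h3, fun h => by simpa using hx.1 h⟩, ?_⟩
      rintro (h | h)
      · have := congrArg Prod.fst h
        simpa using hx.1 this
      · have := congrArg Prod.fst h
        simp only [Prod.fst_swap] at this
        simpa using hx.1 this
    · intro t ht
      simp only [Finset.mem_coe, Finset.mem_filter, Finset.mem_product, mem_Sw] at ht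
      simp only [coe_filter, mem_univ, true_and, Set.mem_ofPred_eq]
      obtain ⟨⟨⟨h0, h1, hne⟩, h2, h3, hne'⟩, hnot⟩ := ht
      have hac : t.1.1 ≠ t.2.1 := by
        intro h
        apply hnot
        left
        refine Prod.ext h.symm ?_
        rw [← h2, ← h, h0]
      have had : t.1.1 ≠ t.2.2 := by
        intro h
        apply hnot
        right
        refine Prod.ext ?_ h.symm
        simp only [Prod.fst_swap]
        rw [← h3, ← h, h0]
      have hbc : t.1.2 ≠ t.2.1 := by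
        intro h
        apply hnot
        right
        refine Prod.ext h.symm ?_
        simp only [Prod.snd_swap]
        rw [← h2, ← h, h1]
      have hbd : t.1.2 ≠ t.2.2 := by
        intro h
        apply hnot
        left
        refine Prod.ext ?_ h.symm
        rw [← h3, ← h, h1]
      refine ⟨inj4 hne hac had hbc hbd hne', fun i => ?_⟩
      fin_cases i
      · simpa using h0
      · simpa using h1
      · simpa using h2
      · simpa using h3
    · intro x _
      exact vec4_eta x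
    · intro t _
      rfl
  have h2 : ((Sw (Ω := Ω) g ×ˢ Sw (Ω := Ω) g).filter (fun q => q.2 = q.1 ∨ q.2 = q.1.swap)).card =
      2 * sw (Ω := Ω) g := by
    rw [Finset.filter_or, Finset.card_union_of_disjoint]
    · have ha : ((Sw (Ω := Ω) g ×ˢ Sw (Ω := Ω) g).filter (fun q => q.2 = q.1)).card =
          sw (Ω := Ω) g := by
        unfold sw
        refine Finset.card_nbij' (fun q => q.1) (fun t => (t, t)) ?_ ?_ ?_ ?_
        · intro q hq
          simp only [coe_filter, Finset.mem_product, Set.mem_ofPred_eq] at hq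
          exact hq.1.1
        · intro t ht
          simp only [coe_filter, Finset.mem_product, Set.mem_ofPred_eq]
          exact ⟨⟨ht, ht⟩, trivial⟩
        · intro q hq
          simp only [coe_filter, Finset.mem_product, Set.mem_ofPred_eq] at hq
          exact Prod.ext rfl hq.2.symm
        · intro t _
          rfl
      have hb : ((Sw (Ω := Ω) g ×ˢ Sw (Ω := Ω) g).filter (fun q => q.2 = q.1.swap)).card =
          sw (Ω := Ω) g := by
        unfold sw
        refine Finset.card_nbij' (fun q => q.1) (fun t => (t, t.swap)) ?_ ?_ ?_ ?_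
        · intro q hq
          simp only [coe_filter, Finset.mem_product, Set.mem_ofPred_eq] at hq
          exact hq.1.1
        · intro t ht
          simp only [coe_filter, Finset.mem_product, Set.mem_ofPred_eq]
          exact ⟨⟨ht, swap_mem_Sw ht⟩, trivial⟩
        · intro q hq
          simp only [coe_filter, Finset.mem_product, Set.mem_ofPred_eq] at hq
          exact Prod.ext rfl hq.2.symm
        · intro t _
          rfl
      rw [ha, hb]
      ring
    · rw [Finset.disjoint_filter]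
      intro q hq h1 h2
      simp only [Finset.mem_product] at hq
      exact swap_ne_of_mem_Sw hq.1 (h2.symm.trans h1)
  have h3 := Finset.card_filter_add_card_filter_not (s := Sw (Ω := Ω) g ×ˢ Sw (Ω := Ω) g)
    (fun q => q.2 = q.1 ∨ q.2 = q.1.swap)
  rw [Finset.card_product, h2, ← h1] at h3
  unfold sw at h3 ⊢
  omega


open scoped Pointwise

/-- the 2-subsets fixed by `g` -/
def P2 (g : G) : Finset (Finset Ω) := univ.filter (fun t => t.card = 2 ∧ g • t = t)

/-- the number of 2-subsets fixed by `g` -/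
def p2 (g : G) : ℕ := (P2 (Ω := Ω) g).card

theorem pair_eq_pair {a b c d : Ω} :
    ({a, b} : Finset Ω) = {c, d} ↔ a = c ∧ b = d ∨ a = d ∧ b = c := by
  rw [← Finset.coe_inj, Finset.coe_pair, Finset.coe_pair, Set.pair_eq_pair_iff]

theorem smul_pair (g : G) (a b : Ω) : g • ({a, b} : Finset Ω) = {g • a, g • b} := by
  rw [Finset.smul_finset_insert, Finset.smul_finset_singleton]

theorem two_p2 (g : G) : 2 * p2 (Ω := Ω) g =
    (fx (Ω := Ω) g * fx (Ω := Ω) g - fx (Ω := Ω) g) + sw (Ω := Ω) g := by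
  set Q : Finset (Ω × Ω) :=
    univ.filter (fun q => q.1 ≠ q.2 ∧ g • ({q.1, q.2} : Finset Ω) = {q.1, q.2}) with hQ
  have hmemQ : ∀ q : Ω × Ω, q ∈ Q ↔ q.1 ≠ q.2 ∧ g • ({q.1, q.2} : Finset Ω) = {q.1, q.2} := by
    intro q
    simp [hQ]
  have hmemP : ∀ t : Finset Ω, t ∈ P2 g ↔ t.card = 2 ∧ g • t = t := by
    intro t
    simp [P2]
  have h1 : Q.card = 2 * p2 (Ω := Ω) g := by
    have hmap : ∀ q ∈ Q, ({q.1, q.2} : Finset Ω) ∈ P2 g := by
      intro q hq
      rw [hmemQ] at hq
      rw [hmemP]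
      exact ⟨Finset.card_pair hq.1, hq.2⟩
    rw [Finset.card_eq_sum_card_fiberwise (f := fun q : Ω × Ω => ({q.1, q.2} : Finset Ω)) hmap]
    have hfib : ∀ t ∈ P2 g,
        (Q.filter (fun q : Ω × Ω => ({q.1, q.2} : Finset Ω) = t)).card = 2 := by
      intro t ht
      rw [hmemP] at ht
      obtain ⟨a, b, hab, rfl⟩ := Finset.card_eq_two.1 ht.1
      have : Q.filter (fun q : Ω × Ω => ({q.1, q.2} : Finset Ω) = {a, b}) = {(a, b), (b, a)} := by
        ext q
        simp only [Finset.mem_filter, hmemQ, Finset.mem_insert, Finset.mem_singleton]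
        constructor
        · rintro ⟨_, h⟩
          rcases pair_eq_pair.1 h with ⟨h1, h2⟩ | ⟨h1, h2⟩
          · left; exact Prod.ext h1 h2
          · right; exact Prod.ext h1 h2
        · rintro (rfl | rfl)
          · exact ⟨⟨hab, ht.2⟩, rfl⟩
          · refine ⟨⟨hab.symm, ?_⟩, Finset.pair_comm b a⟩
            simp only
            rw [Finset.pair_comm b a]
            exact ht.2
      rw [this, Finset.card_pair]
      intro h
      exact hab (congrArg Prod.fst h)
    rw [Finset.sum_congr rfl hfib, Finset.sum_const, smul_eq_mul, mul_comm]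
    rfl
  have h2 : Q = (fixF (Ω := Ω) g).offDiag ∪ Sw (Ω := Ω) g := by
    ext q
    rw [hmemQ, Finset.mem_union, Finset.mem_offDiag, mem_Sw, mem_fixF, mem_fixF, smul_pair,
      pair_eq_pair]
    tauto
  have h3 : Disjoint (fixF (Ω := Ω) g).offDiag (Sw (Ω := Ω) g) := by
    rw [Finset.disjoint_left]
    intro q hq hq'
    rw [Finset.mem_offDiag, mem_fixF, mem_fixF] at hq
    rw [mem_Sw] at hq'
    exact hq.2.2 (hq.1.symm.trans hq'.1)
  rw [← h1, h2, Finset.card_union_of_disjoint h3, Finset.offDiag_card]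
  rfl

end Count


section Moments

variable {G Ω : Type*} [Group G] [Fintype G] [MulAction G Ω] [Fintype Ω] [DecidableEq Ω]

theorem df2 (n : ℕ) : ((n.descFactorial 2 : ℕ) : ℤ) = n * (n - 1) := by
  rcases n with _ | n
  · simp
  · simp only [Nat.descFactorial_succ, Nat.descFactorial_zero]
    have : n + 1 - 1 = n := by omega
    rw [this]
    push_cast
    ring

theorem df3 (n : ℕ) : ((n.descFactorial 3 : ℕ) : ℤ) = n * (n - 1) * (n - 2) := by
  rcases n with _ | _ | n
  · simp
  · simp [Nat.descFactorial_succ]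
  · simp only [Nat.descFactorial_succ, Nat.descFactorial_zero]
    have h1 : n + 1 + 1 - 1 = n + 1 := by omega
    have h2 : n + 1 + 1 - 2 = n := by omega
    rw [h1, h2]
    push_cast
    ring

theorem df4 (n : ℕ) : ((n.descFactorial 4 : ℕ) : ℤ) = n * (n - 1) * (n - 2) * (n - 3) := by
  rcases n with _ | _ | _ | n
  · simp
  · simp [Nat.descFactorial_succ]
  · simp [Nat.descFactorial_succ]
  · simp only [Nat.descFactorial_succ, Nat.descFactorial_zero]
    have h1 : n + 1 + 1 + 1 - 1 = n + 2 := by omega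
    have h2 : n + 1 + 1 + 1 - 2 = n + 1 := by omega
    have h3 : n + 1 + 1 + 1 - 3 = n := by omega
    rw [h1, h2, h3]
    push_cast
    ring

theorem sum_descFactorial (j : ℕ) (hj : j ≤ Fintype.card Ω)
    (htr : MulAction.IsMultiplyPretransitive G Ω j) :
    ∑ g : G, (fx (Ω := Ω) g).descFactorial j = Fintype.card G := by
  rw [← sum_N (Ω := Ω) j hj htr id Function.injective_id]
  exact Finset.sum_congr rfl (fun g _ => (N_id j g).symm)

theorem pretrans_of_le (h4 : MulAction.IsMultiplyPretransitive G Ω 4) (hΩ : 4 ≤ Fintype.card Ω)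
    (j : ℕ) (hj : j ≤ 4) : MulAction.IsMultiplyPretransitive G Ω j := by
  have := h4
  exact MulAction.isMultiplyPretransitive_of_le (n := 4) hj
    (by rw [Nat.card_eq_fintype_card]; exact hΩ)

/-- all the moment sums, as integers -/
theorem zsums (h4 : MulAction.IsMultiplyPretransitive G Ω 4) (hΩ : 4 ≤ Fintype.card Ω) :
    (∑ g : G, (fx (Ω := Ω) g : ℤ) = Fintype.card G) ∧
    (∑ g : G, (fx (Ω := Ω) g : ℤ) * (fx (Ω := Ω) g - 1) = Fintype.card G) ∧
    (∑ g : G, (fx (Ω := Ω) g : ℤ) * (fx (Ω := Ω) g - 1) * (fx (Ω := Ω) g - 2) =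
      Fintype.card G) ∧
    (∑ g : G, (fx (Ω := Ω) g : ℤ) * (fx (Ω := Ω) g - 1) * (fx (Ω := Ω) g - 2) *
      (fx (Ω := Ω) g - 3) = Fintype.card G) ∧
    (∑ g : G, (sw (Ω := Ω) g : ℤ) = Fintype.card G) ∧
    (∑ g : G, (sw (Ω := Ω) g : ℤ) * fx (Ω := Ω) g = Fintype.card G) ∧
    (∑ g : G, (sw (Ω := Ω) g : ℤ) * (fx (Ω := Ω) g * fx (Ω := Ω) g - fx (Ω := Ω) g) =
      Fintype.card G) ∧
    (∑ g : G, ((sw (Ω := Ω) g : ℤ) * sw (Ω := Ω) g - 2 * sw (Ω := Ω) g) = Fintype.card G) := by
  have t1 := pretrans_of_le h4 hΩ 1 (by norm_num)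
  have t2 := pretrans_of_le h4 hΩ 2 (by norm_num)
  have t3 := pretrans_of_le h4 hΩ 3 (by norm_num)
  refine ⟨?_, ?_, ?_, ?_, ?_, ?_, ?_, ?_⟩
  · have h := sum_descFactorial (G := G) (Ω := Ω) 1 (by omega) t1
    have h' := congrArg (fun n : ℕ => (n : ℤ)) h
    simp only [Nat.cast_sum, Nat.descFactorial_one] at h'
    exact h'
  · have h := sum_descFactorial (G := G) (Ω := Ω) 2 (by omega) t2
    have h' := congrArg (fun n : ℕ => (n : ℤ)) h
    simp only [Nat.cast_sum, df2] at h'
    exact h'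
  · have h := sum_descFactorial (G := G) (Ω := Ω) 3 (by omega) t3
    have h' := congrArg (fun n : ℕ => (n : ℤ)) h
    simp only [Nat.cast_sum, df3] at h'
    exact h'
  · have h := sum_descFactorial (G := G) (Ω := Ω) 4 hΩ h4
    have h' := congrArg (fun n : ℕ => (n : ℤ)) h
    simp only [Nat.cast_sum, df4] at h'
    exact h'
  · have h := sum_N (G := G) (Ω := Ω) 2 (by omega) t2 ![1, 0] (by decide)
    have h' := congrArg (fun n : ℕ => (n : ℤ)) h
    simp only [Nat.cast_sum, N_swap2] at h'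
    exact h'
  · have h := sum_N (G := G) (Ω := Ω) 3 (by omega) t3 ![1, 0, 2] (by decide)
    have h' := congrArg (fun n : ℕ => (n : ℤ)) h
    simp only [Nat.cast_sum, N_swap3, Nat.cast_mul] at h'
    exact h'
  · have h := sum_N (G := G) (Ω := Ω) 4 hΩ h4 ![1, 0, 2, 3] (by decide)
    have h' := congrArg (fun n : ℕ => (n : ℤ)) h
    simp only [Nat.cast_sum, N_swap4, Nat.cast_mul] at h'
    rw [← h']
    refine Finset.sum_congr rfl (fun g _ => ?_)
    rw [Nat.cast_sub (Nat.le_mul_self _), Nat.cast_mul]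
  · have h := sum_N (G := G) (Ω := Ω) 4 hΩ h4 ![1, 0, 3, 2] (by decide)
    have h' := congrArg (fun n : ℕ => (n : ℤ)) h
    simp only [Nat.cast_sum] at h'
    rw [← h']
    refine Finset.sum_congr rfl (fun g _ => ?_)
    have := N_dswap4 (Ω := Ω) g
    have h2 : ((N (Ω := Ω) 4 ![1, 0, 3, 2] g : ℕ) : ℤ) + 2 * sw (Ω := Ω) g =
        (sw (Ω := Ω) g : ℤ) * sw (Ω := Ω) g := by exact_mod_cast this
    linarith

theorem sum_sq_theta1 (h4 : MulAction.IsMultiplyPretransitive G Ω 4) (hΩ : 4 ≤ Fintype.card Ω) :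
    ∑ g : G, ((fx (Ω := Ω) g : ℤ) - 1) ^ 2 = (Fintype.card G : ℤ) := by
  obtain ⟨h1, h2, -, -, -, -, -, -⟩ := zsums (G := G) (Ω := Ω) h4 hΩ
  have key : ∀ g : G, ((fx (Ω := Ω) g : ℤ) - 1) ^ 2 =
      (fx (Ω := Ω) g : ℤ) * (fx (Ω := Ω) g - 1) - fx (Ω := Ω) g + 1 := by
    intro g; ring
  rw [Finset.sum_congr rfl (fun g _ => key g), Finset.sum_add_distrib, Finset.sum_sub_distrib,
    h1, h2]
  simp

theorem sum_sq_theta2 (h4 : MulAction.IsMultiplyPretransitive G Ω 4) (hΩ : 4 ≤ Fintype.card Ω) :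
    ∑ g : G, ((fx (Ω := Ω) g : ℤ) ^ 2 - 3 * fx (Ω := Ω) g + sw (Ω := Ω) g) ^ 2 =
      4 * (Fintype.card G : ℤ) := by
  obtain ⟨h1, h2, -, h4', s1, s3, s4, d4⟩ := zsums (G := G) (Ω := Ω) h4 hΩ
  have key : ∀ g : G, ((fx (Ω := Ω) g : ℤ) ^ 2 - 3 * fx (Ω := Ω) g + sw (Ω := Ω) g) ^ 2 =
      (fx (Ω := Ω) g : ℤ) * (fx (Ω := Ω) g - 1) * (fx (Ω := Ω) g - 2) * (fx (Ω := Ω) g - 3)
      - 2 * ((fx (Ω := Ω) g : ℤ) * (fx (Ω := Ω) g - 1)) + 4 * (fx (Ω := Ω) g : ℤ)
      + 2 * ((sw (Ω := Ω) g : ℤ) * (fx (Ω := Ω) g * fx (Ω := Ω) g - fx (Ω := Ω) g))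
      - 4 * ((sw (Ω := Ω) g : ℤ) * fx (Ω := Ω) g)
      + (sw (Ω := Ω) g : ℤ) * sw (Ω := Ω) g := by
    intro g; ring
  have d4' : ∑ g : G, (sw (Ω := Ω) g : ℤ) * sw (Ω := Ω) g = 3 * (Fintype.card G : ℤ) := by
    rw [Finset.sum_sub_distrib, ← Finset.mul_sum, s1] at d4
    linarith
  rw [Finset.sum_congr rfl (fun g _ => key g)]
  simp only [Finset.sum_add_distrib, Finset.sum_sub_distrib, ← Finset.mul_sum]
  rw [h1, h2, h4', s3, s4, d4']
  ring

theorem sum_sq_theta3 (h4 : MulAction.IsMultiplyPretransitive G Ω 4) (hΩ : 4 ≤ Fintype.card Ω) :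
    ∑ g : G, (((fx (Ω := Ω) g : ℤ) - 1) * (fx (Ω := Ω) g - 2) - sw (Ω := Ω) g) ^ 2 =
      4 * (Fintype.card G : ℤ) := by
  obtain ⟨h1, h2, -, h4', s1, s3, s4, d4⟩ := zsums (G := G) (Ω := Ω) h4 hΩ
  have key : ∀ g : G, (((fx (Ω := Ω) g : ℤ) - 1) * (fx (Ω := Ω) g - 2) - sw (Ω := Ω) g) ^ 2 =
      (fx (Ω := Ω) g : ℤ) * (fx (Ω := Ω) g - 1) * (fx (Ω := Ω) g - 2) * (fx (Ω := Ω) g - 3)
      + 2 * ((fx (Ω := Ω) g : ℤ) * (fx (Ω := Ω) g - 1)) - 4 * (fx (Ω := Ω) g : ℤ) + 4
      - 2 * ((sw (Ω := Ω) g : ℤ) * (fx (Ω := Ω) g * fx (Ω := Ω) g - fx (Ω := Ω) g))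
      + 4 * ((sw (Ω := Ω) g : ℤ) * fx (Ω := Ω) g)
      + (sw (Ω := Ω) g : ℤ) * sw (Ω := Ω) g - 4 * (sw (Ω := Ω) g : ℤ) := by
    intro g; ring
  have d4' : ∑ g : G, (sw (Ω := Ω) g : ℤ) * sw (Ω := Ω) g = 3 * (Fintype.card G : ℤ) := by
    rw [Finset.sum_sub_distrib, ← Finset.mul_sum, s1] at d4
    linarith
  rw [Finset.sum_congr rfl (fun g _ => key g)]
  simp only [Finset.sum_add_distrib, Finset.sum_sub_distrib, ← Finset.mul_sum]
  rw [h1, h2, h4', s1, s3, s4, d4']
  simp only [Finset.sum_const, Finset.card_univ, nsmul_eq_mul]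
  ring

end Moments

end Cfsg.Agent.Helper40.MT4
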