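import Cfsg.Agent.Lib.Helper40.MT4Base

/-!
# Fixed points and swapped pairs of a permutation from its cycle type; even permutations of
2-power order and of order 3 with prescribed numbers of fixed points
-/

set_option autoImplicit false
set_option linter.unusedSectionVars false

namespace Cfsg.Agent.Helper40.MT4

open Finset

variable {α : Type*} [Fintype α] [DecidableEq α]

theorem fx_perm (σ : Equiv.Perm α) :
    fx (Ω := α) σ = Fintype.card α - σ.cycleType.sum := by
  rw [← Equiv.Perm.card_fixedPoints]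
  unfold fx fixF
  rw [← Fintype.card_coe]
  refine Fintype.card_congr (Equiv.subtypeEquivRight (fun a => ?_))
  simp [Function.mem_fixedPoints, Function.IsFixedPt]

theorem sw_perm_eq_zero (σ : Equiv.Perm α) (h2 : 2 ∉ σ.cycleType) : sw (Ω := α) σ = 0 := by
  unfold sw
  rw [Finset.card_eq_zero, Finset.eq_empty_iff_forall_notMem]
  intro t ht
  rw [mem_Sw] at ht
  obtain ⟨h1, h1', hne⟩ := ht
  have e1 : σ t.1 = t.2 := h1
  have e2 : σ t.2 = t.1 := h1'
  apply h2
  have hx : σ t.1 ≠ t.1 := by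
    rw [e1]
    exact hne.symm
  have hc := Equiv.Perm.isCycle_cycleOf σ hx
  have hx' : σ.cycleOf t.1 t.1 ≠ t.1 := by
    rwa [Equiv.Perm.cycleOf_apply_self]
  have hpow : (σ.cycleOf t.1 ^ 2) = 1 := by
    rw [hc.pow_eq_one_iff' hx', Equiv.Perm.cycleOf_pow_apply_self, pow_two, Equiv.Perm.mul_apply,
      e1, e2]
  have hord : orderOf (σ.cycleOf t.1) ∣ 2 := orderOf_dvd_of_pow_eq_one hpow
  rw [hc.orderOf] at hord
  have h2le := hc.two_le_card_support
  have hcard : (σ.cycleOf t.1).support.card = 2 :=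
    le_antisymm (Nat.le_of_dvd (by norm_num) hord) h2le
  rw [← hcard, Equiv.Perm.cycleType_def, Multiset.mem_map]
  refine ⟨σ.cycleOf t.1, ?_, rfl⟩
  rwa [← Finset.mem_def, Equiv.Perm.cycleOf_mem_cycleFactorsFinset_iff, Equiv.Perm.mem_support]

/-- an even permutation of 2-power order with `a` 2-cycles, `b` 4-cycles, `c` 8-cycles -/
theorem exists_two_elt (a b c : ℕ) (h : 2 * a + 4 * b + 8 * c ≤ Fintype.card α)
    (heven : Even (a + b + c)) :
    ∃ σ : Equiv.Perm α, σ ∈ alternatingGroup α ∧ (∃ j : ℕ, orderOf σ = 2 ^ j) ∧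
      fx (Ω := α) σ = Fintype.card α - (2 * a + 4 * b + 8 * c) ∧ (a = 0 → sw (Ω := α) σ = 0) := by
  set m : Multiset ℕ := Multiset.replicate a 2 + Multiset.replicate b 4 + Multiset.replicate c 8
    with hm
  have hsum : m.sum = 2 * a + 4 * b + 8 * c := by
    simp [hm, Multiset.sum_replicate]
    ring
  have hcard : Multiset.card m = a + b + c := by
    simp [hm]
  have hmem : ∀ x ∈ m, x = 2 ∧ 0 < a ∨ x = 4 ∨ x = 8 := by
    intro x hx
    simp only [hm, Multiset.mem_add, Multiset.mem_replicate] at hx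
    rcases hx with (⟨h0, rfl⟩ | ⟨_, rfl⟩) | ⟨_, rfl⟩
    · left; exact ⟨rfl, Nat.pos_of_ne_zero h0⟩
    · right; left; rfl
    · right; right; rfl
  obtain ⟨σ, hσ⟩ := (Equiv.Perm.exists_with_cycleType_iff α (m := m)).2
    ⟨by rw [hsum]; exact h, fun x hx => by rcases hmem x hx with ⟨rfl, _⟩ | rfl | rfl <;> norm_num⟩
  refine ⟨σ, ?_, ?_, ?_, ?_⟩
  · rw [Equiv.Perm.mem_alternatingGroup, Equiv.Perm.sign_of_cycleType, hσ, hsum, hcard]
    have : Even (2 * a + 4 * b + 8 * c + (a + b + c)) := by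
      apply Even.add _ heven
      exact ⟨a + 2 * b + 4 * c, by ring⟩
    exact this.neg_one_pow
  · have hdvd : orderOf σ ∣ 2 ^ 3 := by
      rw [← Equiv.Perm.lcm_cycleType, hσ, Multiset.lcm_dvd]
      intro x hx
      rcases hmem x hx with ⟨rfl, _⟩ | rfl | rfl <;> norm_num
    obtain ⟨j, _, hj⟩ := (Nat.dvd_prime_pow Nat.prime_two).1 hdvd
    exact ⟨j, hj⟩
  · rw [fx_perm, hσ, hsum]
  · intro ha
    apply sw_perm_eq_zero
    rw [hσ]
    intro h2
    rcases hmem 2 h2 with ⟨_, hpos⟩ | h | h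
    · omega
    · omega
    · omega

/-- an even permutation of order 3 with `k` 3-cycles -/
theorem exists_three_elt (k : ℕ) (hk : 1 ≤ k) (h : 3 * k ≤ Fintype.card α) :
    ∃ σ : Equiv.Perm α, σ ∈ alternatingGroup α ∧ orderOf σ = 3 ∧
      fx (Ω := α) σ = Fintype.card α - 3 * k ∧ sw (Ω := α) σ = 0 := by
  set m : Multiset ℕ := Multiset.replicate k 3 with hm
  have hsum : m.sum = 3 * k := by
    simp [hm, Multiset.sum_replicate]
    ring
  have hcard : Multiset.card m = k := by
    simp [hm]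
  have hmem : ∀ x ∈ m, x = 3 := by
    intro x hx
    simp only [hm, Multiset.mem_replicate] at hx
    exact hx.2
  obtain ⟨σ, hσ⟩ := (Equiv.Perm.exists_with_cycleType_iff α (m := m)).2
    ⟨by rw [hsum]; exact h, fun x hx => by rw [hmem x hx]; norm_num⟩
  refine ⟨σ, ?_, ?_, ?_, ?_⟩
  · rw [Equiv.Perm.mem_alternatingGroup, Equiv.Perm.sign_of_cycleType, hσ, hsum, hcard]
    have : Even (3 * k + k) := ⟨2 * k, by ring⟩
    exact this.neg_one_pow
  · have hdvd : orderOf σ ∣ 3 := by
      rw [← Equiv.Perm.lcm_cycleType, hσ, Multiset.lcm_dvd]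
      intro x hx
      rw [hmem x hx]
    rcases (Nat.dvd_prime Nat.prime_three).1 hdvd with h1 | h3
    · exfalso
      rw [orderOf_eq_one_iff] at h1
      have : σ.cycleType = 0 := Equiv.Perm.cycleType_eq_zero.2 h1
      rw [hσ] at this
      have hc : Multiset.card m = 0 := by rw [this]; rfl
      omega
    · exact h3
  · rw [fx_perm, hσ, hsum]
  · apply sw_perm_eq_zero
    rw [hσ]
    intro h2
    have := hmem 2 h2
    omega

end Cfsg.Agent.Helper40.MT4
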