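import Mathlib
import Cfsg.Prelude.Def_Characters
import Cfsg.Prelude.Def_Blocks
import Cfsg.Agent.Lib.Helper81.CharCorr
import Cfsg.Agent.Lib.Helper79.Orthogonality
import Cfsg.Agent.Lib.Helper79.Integrality
import Cfsg.Agent.Lib.Helper80.CharBasic
import Cfsg.Agent.Lib.Helper76.CD2Struct4
import Cfsg.Agent.Lib.Helper74.LinChar
import Cfsg.Agent.Lib.Helper74.AFT1
import Cfsg.Agent.S0169

set_option autoImplicit false

/-! General character-counting lemmas used for the McKay equality of `SL₂(q)`. -/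

namespace Cfsg.Agent.Helper40.McKay

open Cfsg

universe u

section transport

variable {H K : Type u} [Group H] [Group K]

/-- transport of irreducible characters along a group isomorphism -/
noncomputable def irrCongr (e : H ≃* K) : IrrCharacter H ≃ IrrCharacter K where
  toFun χ := ⟨fun k => (χ : H → ℂ) (e.symm k),
    Cfsg.Agent.Helper81.isIrrCharacter_comp_equiv e.symm χ.2⟩
  invFun ψ := ⟨fun h => (ψ : K → ℂ) (e h), Cfsg.Agent.Helper81.isIrrCharacter_comp_equiv e ψ.2⟩
  left_inv χ := by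
    apply Subtype.ext
    funext h
    simp
  right_inv ψ := by
    apply Subtype.ext
    funext k
    simp

theorem charDegree_irrCongr (e : H ≃* K) (χ : IrrCharacter H) :
    charDegree ((irrCongr e χ : IrrCharacter K) : K → ℂ) = charDegree (χ : H → ℂ) := by
  unfold charDegree
  simp [irrCongr]

theorem card_lprime_congr (e : H ≃* K) (ℓ : ℕ) :
    Nat.card {χ : IrrCharacter H // ¬ ℓ ∣ charDegree (χ : H → ℂ)} =
      Nat.card {ψ : IrrCharacter K // ¬ ℓ ∣ charDegree (ψ : K → ℂ)} := by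
  apply Nat.card_congr
  refine Equiv.subtypeEquiv (irrCongr e) ?_
  intro χ
  rw [charDegree_irrCongr]

end transport

section general

variable {H : Type u} [Group H] [Finite H]

theorem card_lprime_of_all (ℓ : ℕ)
    (hall : ∀ χ : IrrCharacter H, ¬ ℓ ∣ charDegree (χ : H → ℂ)) :
    Nat.card {χ : IrrCharacter H // ¬ ℓ ∣ charDegree (χ : H → ℂ)} = Nat.card (ConjClasses H) := by
  rw [← Cfsg.Agent.Helper80.card_irr]
  exact Nat.card_congr (Equiv.subtypeUnivEquiv hall)

theorem degree_le_two (A : Subgroup H) (hA : ∀ a ∈ A, ∀ b ∈ A, a * b = b * a)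
    (hidx : Nat.card H = 2 * Nat.card A) (χ : IrrCharacter H) :
    charDegree (χ : H → ℂ) ≤ 2 := by
  have h := Cfsg.Agent.Helper76.CD2.degree_le_index_of_comm χ A hA
  rw [hidx] at h
  have hpos : 0 < Nat.card A := Nat.card_pos
  exact Nat.le_of_mul_le_mul_right h hpos

theorem not_dvd_of_le_two (ℓ : ℕ) (hℓ : ℓ.Prime) (hℓ2 : ℓ ≠ 2) (χ : IrrCharacter H)
    (h : charDegree (χ : H → ℂ) ≤ 2) : ¬ ℓ ∣ charDegree (χ : H → ℂ) := by
  intro hd
  have hpos := Cfsg.Agent.Helper80.charDegree_pos χ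
  have := Nat.le_of_dvd hpos hd
  have h2 := hℓ.two_le
  omega

/-- Ito's theorem -/
theorem ito_dvd (N : Subgroup H) [N.Normal] (hcomm : ∀ a ∈ N, ∀ b ∈ N, a * b = b * a)
    (χ : IrrCharacter H) : charDegree (χ : H → ℂ) ∣ N.index := by
  obtain ⟨n, ρ, hirr, hχ⟩ := χ.2
  have h1 := Cfsg.Agent.S0169.result ρ N hcomm
  have h2 : charDegree (χ : H → ℂ) = Module.finrank ℂ (Fin n → ℂ) := by
    unfold charDegree
    rw [← hχ, Representation.char_one]
    simp
  rw [h2]
  exact h1

end general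

end Cfsg.Agent.Helper40.McKay
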