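import Mathlib
import Cfsg.Agent.Lib.Helper40.McKayBase
import Cfsg.Agent.Lib.Helper40.IndexTwo

set_option autoImplicit false

/-! Counting odd-degree characters of dicyclic groups and of groups of order 24. -/

namespace Cfsg.Agent.Helper40.McKay

open Cfsg

universe u

variable {H : Type u} [Group H] [Finite H]

/-- a generalized quaternion / dicyclic group has exactly four linear characters, and these are
its irreducible characters of odd degree -/
theorem card_odd_dic (A : Subgroup H) (s : H)
    (hcomm : ∀ a ∈ A, ∀ b ∈ A, a * b = b * a) (hs : s ∉ A)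
    (hcover : ∀ g, g ∈ A ∨ s⁻¹ * g ∈ A) (hinv : ∀ a ∈ A, s * a * s⁻¹ = a⁻¹)
    (h2 : Nat.card {a : A // a * a = 1} = 2) :
    Nat.card {χ : IrrCharacter H // ¬ 2 ∣ charDegree (χ : H → ℂ)} = 4 := by
  classical
  have := Fintype.ofFinite H
  have hk := card_conjClasses_index_two A s hcomm hs hcover hinv h2
  have hH := card_index_two A s hs hcover
  have hdeg : ∀ χ : IrrCharacter H, charDegree (χ : H → ℂ) = 1 ∨ charDegree (χ : H → ℂ) = 2 := by
    intro χ
    have h1 := degree_le_two A hcomm hH χ
    have h0 := Cfsg.Agent.Helper80.charDegree_pos χ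
    omega
  have hsum : ∑ χ : IrrCharacter H, (charDegree (χ : H → ℂ)) ^ 2 = Nat.card H :=
    Cfsg.Agent.Helper79.sum_sq_degree_nat
  have hsum' : ∑ χ : IrrCharacter H, (charDegree (χ : H → ℂ)) ^ 2 =
      ∑ χ : IrrCharacter H, (if charDegree (χ : H → ℂ) = 1 then 1 else 4) := by
    apply Finset.sum_congr rfl
    intro χ _
    rcases hdeg χ with h | h <;> rw [h] <;> simp
  rw [hsum', Finset.sum_ite, Finset.sum_const, Finset.sum_const, smul_eq_mul, smul_eq_mul,
    mul_one] at hsum
  have hcard := Finset.card_filter_add_card_filter_not (s := (Finset.univ : Finset (IrrCharacter H)))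
    (fun χ : IrrCharacter H => charDegree (χ : H → ℂ) = 1)
  have hIrr : (Finset.univ : Finset (IrrCharacter H)).card = Nat.card (ConjClasses H) := by
    rw [Finset.card_univ, ← Nat.card_eq_fintype_card, Cfsg.Agent.Helper80.card_irr]
  have hgoal : Nat.card {χ : IrrCharacter H // ¬ 2 ∣ charDegree (χ : H → ℂ)} =
      (Finset.univ.filter (fun χ : IrrCharacter H => charDegree (χ : H → ℂ) = 1)).card := by
    rw [Nat.card_eq_fintype_card, Fintype.card_subtype]
    congr 1
    ext χ
    simp only [Finset.mem_filter, Finset.mem_univ, true_and]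
    rcases hdeg χ with h | h <;> rw [h] <;> norm_num
  rw [hgoal]
  omega

/-- a group of order 24 whose commutator subgroup has index 3 has exactly four irreducible
characters of odd degree -/
theorem card_odd_24 (hcard : Nat.card H = 24) (hidx : (commutator H).index = 3) :
    Nat.card {χ : IrrCharacter H // ¬ 2 ∣ charDegree (χ : H → ℂ)} = 4 := by
  classical
  have := Fintype.ofFinite H
  have hsum : ∑ χ : IrrCharacter H, (charDegree (χ : H → ℂ)) ^ 2 = Nat.card H :=
    Cfsg.Agent.Helper79.sum_sq_degree_nat
  rw [hcard] at hsum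
  have hdeg : ∀ χ : IrrCharacter H, charDegree (χ : H → ℂ) ∈ ({1, 2, 3, 4} : Finset ℕ) := by
    intro χ
    have h0 := Cfsg.Agent.Helper80.charDegree_pos χ
    have hd := Cfsg.Agent.Helper79.irr_degree_dvd_card χ
    rw [hcard] at hd
    have hle : (charDegree (χ : H → ℂ)) ^ 2 ≤ 24 := by
      rw [← hsum]
      exact Finset.single_le_sum (f := fun χ : IrrCharacter H => (charDegree (χ : H → ℂ)) ^ 2)
        (fun _ _ => Nat.zero_le _) (Finset.mem_univ χ)
    have h5 : charDegree (χ : H → ℂ) < 5 := by nlinarith
    simp only [Finset.mem_insert, Finset.mem_singleton]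
    omega
  have hfib := Finset.sum_fiberwise_of_maps_to (s := (Finset.univ : Finset (IrrCharacter H)))
    (t := ({1, 2, 3, 4} : Finset ℕ)) (g := fun χ : IrrCharacter H => charDegree (χ : H → ℂ))
    (fun χ _ => hdeg χ) (fun χ : IrrCharacter H => (charDegree (χ : H → ℂ)) ^ 2)
  rw [hsum] at hfib
  have hinner : ∀ j : ℕ, ∑ χ ∈ Finset.univ.filter (fun χ : IrrCharacter H => charDegree (χ : H → ℂ) = j),
      (charDegree (χ : H → ℂ)) ^ 2 =
        (Finset.univ.filter (fun χ : IrrCharacter H => charDegree (χ : H → ℂ) = j)).card * j ^ 2 := by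
    intro j
    rw [Finset.sum_congr rfl (fun χ hχ => by rw [(Finset.mem_filter.mp hχ).2]), Finset.sum_const,
      smul_eq_mul]
  simp only [hinner] at hfib
  rw [Finset.sum_insert (by decide), Finset.sum_insert (by decide), Finset.sum_insert (by decide),
    Finset.sum_singleton] at hfib
  -- linear characters
  have hlin : (Finset.univ.filter (fun χ : IrrCharacter H => charDegree (χ : H → ℂ) = 1)).card = 3 := by
    rw [← hidx, ← Cfsg.Agent.Helper74.Lin.card_linear, Nat.card_eq_fintype_card, Fintype.card_subtype]
    congr 1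
    ext χ
    simp only [Finset.mem_filter, Finset.mem_univ, true_and]
    exact Cfsg.Agent.Helper74.AFT.charDegree_eq_one_iff χ
  have hgoal : Nat.card {χ : IrrCharacter H // ¬ 2 ∣ charDegree (χ : H → ℂ)} =
      (Finset.univ.filter (fun χ : IrrCharacter H => charDegree (χ : H → ℂ) = 1)).card +
      (Finset.univ.filter (fun χ : IrrCharacter H => charDegree (χ : H → ℂ) = 3)).card := by
    rw [Nat.card_eq_fintype_card, Fintype.card_subtype, ← Finset.card_union_of_disjoint]
    · congr 1
      ext χ
      simp only [Finset.mem_filter, Finset.mem_univ, true_and, Finset.mem_union]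
      have := hdeg χ
      simp only [Finset.mem_insert, Finset.mem_singleton] at this
      rcases this with h | h | h | h <;> rw [h] <;> norm_num
    · rw [Finset.disjoint_left]
      intro χ h1 h3
      rw [Finset.mem_filter] at h1 h3
      omega
  rw [hgoal, hlin]
  rw [hlin] at hfib
  omega

end Cfsg.Agent.Helper40.McKay
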