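import Mathlib
import Cfsg.Agent.S2299
import Cfsg.Agent.Lib.Helper81.CharSylInd

set_option autoImplicit false
set_option linter.unusedSectionVars false

/-! The number of irreducible characters of `SL₂(q)`, `q` odd, of degree prime to `ℓ`. -/

namespace Cfsg.Agent.Helper40.McKay

open Matrix Cfsg Cfsg.Agent.Helper38

section

variable {F : Type*} [Field F] [Fintype F] [DecidableEq F] [Fintype (N F)]

variable {ε : MulChar F ℂ}

open scoped Classical in
/-- the number of irreducible characters of given degree, in closed form -/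
theorem closed_formula (hε : QuadData ε) (m : ℕ) (hm : Fintype.card Fˣ = 2 * m) (k : ℕ) :
    (Finset.univ.filter (fun ψ : IrrCharacter (N F) => (ψ : N F → ℂ) 1 = (k : ℂ))).card =
      (if 1 = k then 1 else 0) + (if 2 * m + 1 = k then 1 else 0) + (if m + 1 = k then 2 else 0)
      + (if 2 * m + 2 = k then m - 1 else 0) + (if m = k then 2 else 0)
      + (if 2 * m = k then m else 0) := by
  obtain ⟨sP, uP, sC, uC, e1, e2, e3, e4, hform⟩ := card_degree_formula hε k
  have hSP := card_SP (F := F)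
  have hSC := card_SC (F := F)
  have hn := card_units_pos (F := F)
  rw [hm] at e1 e3 hSP hSC hform hn
  have hm0 : 0 < m := by omega
  obtain ⟨m', rfl⟩ : ∃ m', m = m' + 1 := ⟨m - 1, by omega⟩
  have hsP : sP = m' + 1 := by omega
  have hsC : sC = m' + 1 := by omega
  have huP : uP = 2 * (m' + 1) * m' := by
    have : 2 * (SP F).card = 2 * (2 * (m' + 1) * (m' + 1) - (m' + 1)) := by
      have : 2 * (m' + 1) * (2 * (m' + 1)) = 2 * (2 * (m' + 1) * (m' + 1)) := by ring
      have h3 : (m' + 1) ≤ 2 * (m' + 1) * (m' + 1) := by nlinarith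
      omega
    have h4 : (SP F).card = 2 * (m' + 1) * (m' + 1) - (m' + 1) := by omega
    have h5 : 2 * (m' + 1) * (m' + 1) = 2 * (m' + 1) * m' + 2 * (m' + 1) := by ring
    omega
  have huC : uC = 2 * (m' + 1) * (m' + 1) := by
    have : 2 * (m' + 1) * (2 * (m' + 1)) = 2 * (2 * (m' + 1) * (m' + 1)) := by ring
    omega
  rw [hsP, huP, hsC, huC] at hform
  have c1 : (2 * (m' + 1) + 2 = 2 * k) ↔ (m' + 1 + 1 = k) := by omega
  have c2 : (2 * (m' + 1) = 2 * k) ↔ (m' + 1 = k) := by omega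
  simp only [c1, c2] at hform
  have key : 2 * (m' + 1) * (Finset.univ.filter (fun ψ : IrrCharacter (N F) => (ψ : N F → ℂ) 1 = (k : ℂ))).card =
      2 * (m' + 1) * ((if 1 = k then 1 else 0) + (if 2 * (m' + 1) + 1 = k then 1 else 0)
        + (if m' + 1 + 1 = k then 2 else 0)
        + (if 2 * (m' + 1) + 2 = k then m' + 1 - 1 else 0) + (if m' + 1 = k then 2 else 0)
        + (if 2 * (m' + 1) = k then m' + 1 else 0)) := by
    rw [hform]
    have e : m' + 1 - 1 = m' := by omega
    rw [e]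
    split_ifs <;> ring
  exact Nat.eq_of_mul_eq_mul_left (by omega) key

theorem sum_pick (K a x ℓ : ℕ) (ha : a < K) :
    ∑ k ∈ Finset.range K, (if ℓ ∣ k then 0 else if a = k then x else 0) = if ℓ ∣ a then 0 else x := by
  rw [Finset.sum_eq_single a]
  · simp
  · intro b _ hb
    have : ¬ a = b := fun h => hb h.symm
    simp [this]
  · intro h
    exact absurd (Finset.mem_range.mpr ha) h

open scoped Classical in
theorem card_lprime_N (hodd : Odd (Fintype.card F)) (hε : QuadData ε) (m : ℕ)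
    (hm : Fintype.card Fˣ = 2 * m) (ℓ : ℕ) :
    (Finset.univ.filter (fun ψ : IrrCharacter (N F) => ¬ ℓ ∣ charDegree (ψ : N F → ℂ))).card =
      (if ℓ ∣ 1 then 0 else 1) + (if ℓ ∣ 2 * m + 1 then 0 else 1) + (if ℓ ∣ m + 1 then 0 else 2)
      + (if ℓ ∣ 2 * m + 2 then 0 else m - 1) + (if ℓ ∣ m then 0 else 2)
      + (if ℓ ∣ 2 * m then 0 else m) := by
  have hn := card_units_pos (F := F)
  have hm0 : 0 < m := by omega
  have hdeg : ∀ ψ : IrrCharacter (N F), ∀ k : ℕ,
      (charDegree (ψ : N F → ℂ) = k ↔ (ψ : N F → ℂ) 1 = (k : ℂ)) := by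
    intro ψ k
    obtain ⟨j, -, hj⟩ := Cfsg.Agent.Helper81.irr_one_pos ψ.2
    rw [Cfsg.Agent.Helper81.charDegree_eq_of_one j hj, hj]
    constructor
    · intro h; rw [h]
    · intro h; exact_mod_cast h
  have hmaps : ∀ ψ ∈ Finset.univ.filter (fun ψ : IrrCharacter (N F) => ¬ ℓ ∣ charDegree (ψ : N F → ℂ)),
      charDegree (ψ : N F → ℂ) ∈ Finset.range (2 * m + 3) := by
    intro ψ _
    obtain ⟨k, hk, hcases⟩ := Cfsg.Agent.S2299.degree_cases hε ψ
    rw [(hdeg ψ k).mpr hk, Finset.mem_range]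
    omega
  rw [Finset.card_eq_sum_card_fiberwise hmaps]
  have hfib : ∀ k ∈ Finset.range (2 * m + 3),
      ((Finset.univ.filter (fun ψ : IrrCharacter (N F) => ¬ ℓ ∣ charDegree (ψ : N F → ℂ))).filter
        (fun ψ : IrrCharacter (N F) => charDegree (ψ : N F → ℂ) = k)).card =
      (if ℓ ∣ k then 0 else if 1 = k then 1 else 0) +
      (if ℓ ∣ k then 0 else if 2 * m + 1 = k then 1 else 0) +
      (if ℓ ∣ k then 0 else if m + 1 = k then 2 else 0) +
      (if ℓ ∣ k then 0 else if 2 * m + 2 = k then m - 1 else 0) +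
      (if ℓ ∣ k then 0 else if m = k then 2 else 0) +
      (if ℓ ∣ k then 0 else if 2 * m = k then m else 0) := by
    intro k _
    by_cases hℓk : ℓ ∣ k
    · simp only [if_pos hℓk, add_zero]
      rw [Finset.card_eq_zero, Finset.filter_eq_empty_iff]
      intro ψ hψ hk
      rw [Finset.mem_filter] at hψ
      rw [hk] at hψ
      exact hψ.2 hℓk
    · simp only [if_neg hℓk]
      rw [← closed_formula hε m hm k]
      congr 1
      ext ψ
      simp only [Finset.mem_filter, Finset.mem_univ, true_and]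
      rw [← hdeg ψ k]
      constructor
      · intro h; exact h.2
      · intro h; exact ⟨by rw [h]; exact hℓk, h⟩
  rw [Finset.sum_congr rfl hfib]
  simp only [Finset.sum_add_distrib]
  rw [sum_pick _ _ _ _ (by omega), sum_pick _ _ _ _ (by omega), sum_pick _ _ _ _ (by omega),
    sum_pick _ _ _ _ (by omega), sum_pick _ _ _ _ (by omega), sum_pick _ _ _ _ (by omega)]

end

/-- the count of `ℓ'`-degree characters of `SL₂(F)` -/
theorem card_lprime_SL2 {F : Type*} [Field F] [Fintype F] (hodd : Odd (Fintype.card F)) (m : ℕ)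
    (hm : Fintype.card F = 2 * m + 1) (ℓ : ℕ) :
    Nat.card {χ : IrrCharacter (Matrix.SpecialLinearGroup (Fin 2) F) //
        ¬ ℓ ∣ charDegree (χ : Matrix.SpecialLinearGroup (Fin 2) F → ℂ)} =
      (if ℓ ∣ 1 then 0 else 1) + (if ℓ ∣ 2 * m + 1 then 0 else 1) + (if ℓ ∣ m + 1 then 0 else 2)
      + (if ℓ ∣ 2 * m + 2 then 0 else m - 1) + (if ℓ ∣ m then 0 else 2)
      + (if ℓ ∣ 2 * m then 0 else m) := by
  classical
  have : Fintype (N F) := Fintype.ofFinite _
  obtain ⟨ε, hε1, hε2, hε3⟩ := exists_quadratic hodd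
  have hε : QuadData ε := ⟨hε1, hε2, hε3⟩
  have hF := card_F_eq (F := F)
  have hnm : Fintype.card Fˣ = 2 * m := by omega
  rw [← card_lprime_N hodd hε m hnm ℓ, ← Fintype.card_subtype, ← Nat.card_eq_fintype_card]
  apply Nat.card_congr
  symm
  refine Equiv.subtypeEquiv Cfsg.Agent.S2299.irrEquiv ?_
  intro ψ
  have : charDegree ((Cfsg.Agent.S2299.irrEquiv ψ : IrrCharacter (Matrix.SpecialLinearGroup (Fin 2) F)) :
      Matrix.SpecialLinearGroup (Fin 2) F → ℂ) = charDegree (ψ : N F → ℂ) := by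
    unfold charDegree
    simp [Cfsg.Agent.S2299.irrEquiv]
  rw [this]

end Cfsg.Agent.Helper40.McKay
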