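import Mathlib
import Cfsg.Agent.Lib.Helper40.McKayCount
import Cfsg.Agent.Lib.Helper40.SylowTwo

set_option autoImplicit false

/-! Odd-degree characters of the normalizer of a Sylow 2-subgroup in a group with a dicyclic
torus normalizer (`DicData`). -/

namespace Cfsg.Agent.Helper40

open Cfsg

universe u

variable {G : Type u} [Group G]

namespace DicData

variable {T : Subgroup G} {s z : G} {k m : ℕ}

/-- the generalized quaternion group `S₀` has four irreducible characters of odd degree -/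
theorem card_odd_S₀ [Finite G] (h : DicData T s z k m) :
    Nat.card {χ : IrrCharacter ↥h.S₀ // ¬ 2 ∣ charDegree (χ : ↥h.S₀ → ℂ)} = 4 := by
  let A : Subgroup h.S₀ := h.T₂.subgroupOf h.S₀
  let s' : h.S₀ := ⟨s, h.s_mem_S₀⟩
  have hA : ∀ a : h.S₀, a ∈ A ↔ (a : G) ∈ h.T₂ := fun a => Subgroup.mem_subgroupOf
  apply McKay.card_odd_dic A s'
  · intro a ha b hb
    apply Subtype.ext
    exact h.comm _ (h.T₂_le ((hA a).mp ha)) _ (h.T₂_le ((hA b).mp hb))
  · intro hs
    exact h.s_not_mem (h.T₂_le ((hA s').mp hs))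
  · intro g
    rcases (h.mem_S₀ g).mp g.2 with hg | hg
    · left; exact (hA g).mpr hg
    · right; rw [hA]; exact hg
  · intro a ha
    apply Subtype.ext
    exact h.inv₂ a ((hA a).mp ha)
  · rw [Nat.card_eq_two_iff]
    have hone : ((1 : A) * 1 = 1) := one_mul 1
    let m1 : A := ⟨⟨z, h.T₂_le_S₀ h.z_mem_T₂⟩, (hA _).mpr h.z_mem_T₂⟩
    have hm1 : m1 * m1 = 1 := by
      apply Subtype.ext
      apply Subtype.ext
      exact h.z_sq
    refine ⟨⟨1, hone⟩, ⟨m1, hm1⟩, ?_, ?_⟩
    · intro h'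
      have h'' := congrArg (fun y : {a : A // a * a = 1} => ((y.1 : h.S₀) : G)) h'
      exact h.z_ne h''.symm
    · ext ⟨a, ha⟩
      simp only [Set.mem_insert_iff, Set.mem_singleton_iff, Set.mem_univ, iff_true]
      have ha' : ((a : h.S₀) : G) * ((a : h.S₀) : G) = 1 := by
        have := congrArg (fun y : A => ((y : h.S₀) : G)) ha
        simpa using this
      rcases h.sq_one _ (h.T₂_le ((hA a).mp a.2)) ha' with h1 | h1
      · left
        apply Subtype.ext
        apply Subtype.ext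
        apply Subtype.ext
        exact h1
      · right
        apply Subtype.ext
        apply Subtype.ext
        apply Subtype.ext
        exact h1

/-- facts about the extra element of order 3 when `k = 2` -/
theorem witness_facts [Finite G] [IsCyclic T] (h : DicData T s z k m) (hk : k = 2)
    (g i : G) (hiT : i ∈ T) (hii : i * i = z) (hgs : g * s * g⁻¹ = i) (hgi : g * i * g⁻¹ = i * s) :
    i ∈ h.T₂ ∧ Subgroup.zpowers i = h.T₂ ∧ g ∈ Subgroup.normalizer (h.S₀ : Set G) := by
  have hcardT₂ : Nat.card h.T₂ = 4 := by rw [h.card_T₂, hk]; norm_num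
  have hi4 : i ^ 4 = 1 := by
    rw [pow_four_eq, hii, h.z_sq]
  have hi2 : ¬ i ^ 2 ^ 1 = 1 := by
    rw [pow_one, pow_two, hii]; exact h.z_ne
  have hordi : orderOf i = 4 := by
    have := orderOf_eq_prime_pow (p := 2) (n := 1) hi2 (by norm_num; exact hi4)
    rw [this]; norm_num
  have hiT₂ : i ∈ h.T₂ := ⟨hiT, by rw [hk]; norm_num; exact hi4⟩
  have hzp : Subgroup.zpowers i = h.T₂ := by
    apply Subgroup.eq_of_le_of_card_ge
    · rw [Subgroup.zpowers_le]; exact hiT₂
    · rw [Nat.card_zpowers, hordi, hcardT₂]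
  have his : i * s ∈ h.S₀ := by
    right
    have : s⁻¹ * (i * s) = i⁻¹ := by
      rw [← inv_conj_of_inverts T s h.inv i hiT]; group
    rw [this]
    exact h.T₂.inv_mem hiT₂
  have hgT₂ : ∀ t ∈ h.T₂, g * t * g⁻¹ ∈ h.S₀ := by
    intro t ht
    rw [← hzp, Subgroup.mem_zpowers_iff] at ht
    obtain ⟨j, rfl⟩ := ht
    rw [← conj_zpow, hgi]
    exact h.S₀.zpow_mem his j
  have hgN : g ∈ Subgroup.normalizer (h.S₀ : Set G) := by
    apply mem_normalizer_of_conj_mem
    rintro x (hx | hx)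
    · exact hgT₂ x hx
    · have e : g * x * g⁻¹ = (g * s * g⁻¹) * (g * (s⁻¹ * x) * g⁻¹) := by group
      rw [e, hgs]
      exact h.S₀.mul_mem (h.T₂_le_S₀ hiT₂) (hgT₂ _ hx)
  exact ⟨hiT₂, hzp, hgN⟩

/-- for `k = 2` the commutator subgroup of the normalizer of `S₀` has index 3 -/
theorem commutator_index_normalizer_S₀ [Finite G] [IsCyclic T] (h : DicData T s z k m) (hk : k = 2)
    (hval : (Nat.card G).factorization 2 = k + 1)
    (hw : ∃ g i : G, i ∈ T ∧ i * i = z ∧ g * s * g⁻¹ = i ∧ g * i * g⁻¹ = i * s) :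
    (commutator ↥(Subgroup.normalizer (h.S₀ : Set G))).index = 3 := by
  have hcardN := h.card_normalizer_S₀ hk hval hw
  obtain ⟨g, i, hiT, hii, hgs, hgi⟩ := hw
  obtain ⟨hiT₂, hzp, hgN⟩ := h.witness_facts hk g i hiT hii hgs hgi
  have hcardS₀ : Nat.card h.S₀ = 8 := by rw [h.card_S₀, hk]; norm_num
  set N₀ := Subgroup.normalizer (h.S₀ : Set G) with hN₀
  have hle : h.S₀ ≤ N₀ := Subgroup.le_normalizer
  let K : Subgroup N₀ := h.S₀.subgroupOf N₀
  have hKn : K.Normal := Subgroup.normal_in_normalizer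
  have hcardK : Nat.card K = 8 := by
    rw [Nat.card_congr (Subgroup.subgroupOfEquivOfLe hle).toEquiv, hcardS₀]
  have hidxK : K.index = 3 := by
    have := Subgroup.index_mul_card K
    rw [hcardK, hcardN] at this
    omega
  -- the commutator is contained in `K`
  have h1 : commutator N₀ ≤ K := by
    have hcardQ : Nat.card (N₀ ⧸ K) = 3 := by
      rw [← Subgroup.index_eq_card]; exact hidxK
    have : Fact (Nat.Prime 3) := ⟨by norm_num⟩
    have hcyc : IsCyclic (N₀ ⧸ K) := isCyclic_of_prime_card hcardQ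
    let _ : CommGroup (N₀ ⧸ K) := IsCyclic.commGroup
    have := Abelianization.commutator_subset_ker (QuotientGroup.mk' K)
    rwa [QuotientGroup.ker_mk'] at this
  -- `K` is contained in the commutator
  let i' : N₀ := ⟨i, hle (h.T₂_le_S₀ hiT₂)⟩
  let s' : N₀ := ⟨s, hle h.s_mem_S₀⟩
  let g' : N₀ := ⟨g, hgN⟩
  let C : Subgroup G := (commutator N₀).map N₀.subtype
  have hcomm : ∀ a b : N₀, (a : G) * (b : G) * (a : G)⁻¹ * (b : G)⁻¹ ∈ C := by
    intro a b
    have hm : a * b * a⁻¹ * b⁻¹ ∈ commutator N₀ := by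
      rw [← commutatorElement_def]
      exact Subgroup.commutator_mem_commutator (Subgroup.mem_top a) (Subgroup.mem_top b)
    exact Subgroup.mem_map_of_mem N₀.subtype hm
  have hsinv : s * i⁻¹ * s⁻¹ = i := by
    have := h.inv i⁻¹ (T.inv_mem hiT)
    rwa [inv_inv] at this
  have hzC : z ∈ C := by
    have := hcomm i' s'
    have e : i * s * i⁻¹ * s⁻¹ = z := by
      calc i * s * i⁻¹ * s⁻¹ = i * (s * i⁻¹ * s⁻¹) := by group
        _ = z := by rw [hsinv, hii]
    rwa [show ((i' : N₀) : G) = i from rfl, show ((s' : N₀) : G) = s from rfl, e] at this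
  have hsC : s ∈ C := by
    have := hcomm g' i'
    have e : g * i * g⁻¹ * i⁻¹ = z * s := by
      rw [hgi]
      calc i * s * i⁻¹ = (i * (s * i⁻¹ * s⁻¹)) * s := by group
        _ = z * s := by rw [hsinv, hii]
    rw [show ((g' : N₀) : G) = g from rfl, show ((i' : N₀) : G) = i from rfl, e] at this
    have e2 : s = z⁻¹ * (z * s) := by group
    rw [e2]
    exact C.mul_mem (C.inv_mem hzC) this
  have hiC : i ∈ C := by
    have := hcomm g' s'
    rw [show ((g' : N₀) : G) = g from rfl, show ((s' : N₀) : G) = s from rfl, hgs] at this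
    have e2 : i = (i * s⁻¹) * s := by group
    rw [e2]
    exact C.mul_mem this hsC
  have hS₀C : h.S₀ ≤ C := by
    have hT₂C : h.T₂ ≤ C := by
      rw [← hzp, Subgroup.zpowers_le]; exact hiC
    rintro x (hx | hx)
    · exact hT₂C hx
    · have e : x = s * (s⁻¹ * x) := by group
      rw [e]
      exact C.mul_mem hsC (hT₂C hx)
  have h2 : K ≤ commutator N₀ := by
    intro x hx
    have hx' : (x : G) ∈ C := hS₀C (Subgroup.mem_subgroupOf.mp hx)
    obtain ⟨y, hy, hyx⟩ := Subgroup.mem_map.mp hx'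
    have : y = x := Subtype.ext hyx
    rwa [← this]
  rw [le_antisymm h1 h2]
  exact hidxK

end DicData

/-- McKay at the prime 2 for a group with dicyclic torus normalizer: the normalizer of a Sylow
2-subgroup has exactly four irreducible characters of odd degree -/
theorem sylow_two_mckay [Finite G] {T : Subgroup G} {s z : G} {k m : ℕ} [IsCyclic T]
    (h : DicData T s z k m) (hval : (Nat.card G).factorization 2 = k + 1)
    (hw : k = 2 → ∀ i ∈ T, i * i = z → ∃ g : G, g * s * g⁻¹ = i ∧ g * i * g⁻¹ = i * s)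
    (S : Sylow 2 G) :
    Nat.card {χ : IrrCharacter ↥(Subgroup.normalizer ((S : Subgroup G) : Set G)) //
      ¬ 2 ∣ charDegree (χ : ↥(Subgroup.normalizer ((S : Subgroup G) : Set G)) → ℂ)} = 4 := by
  obtain ⟨x, hx⟩ := exists_conj_of_card h.S₀ (by rw [h.card_S₀, hval]) S
  rw [normalizer_eq_of_conj _ _ x hx]
  refine (McKay.card_lprime_congr
    ((MulAut.conj x).subgroupMap (Subgroup.normalizer (h.S₀ : Set G))) 2).symm.trans ?_
  by_cases hk : 3 ≤ k
  · rw [h.normalizer_S₀ hk]
    exact h.card_odd_S₀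
  · have hk2 : k = 2 := by have := h.two_le; omega
    obtain ⟨i, hiT, hii⟩ := h.exists_sq_eq_z hk2
    obtain ⟨g, hg1, hg2⟩ := hw hk2 i hiT hii
    have hw' : ∃ g i : G, i ∈ T ∧ i * i = z ∧ g * s * g⁻¹ = i ∧ g * i * g⁻¹ = i * s :=
      ⟨g, i, hiT, hii, hg1, hg2⟩
    exact McKay.card_odd_24 (h.card_normalizer_S₀ hk2 hval hw')
      (h.commutator_index_normalizer_S₀ hk2 hval hw')

end Cfsg.Agent.Helper40
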