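import Mathlib
import Cfsg.Agent.Lib.Helper40.McKayTwo
import Cfsg.Agent.Lib.Helper5.SL2Sylow
import Cfsg.Agent.S2431
import Cfsg.Agent.S2437

set_option autoImplicit false

/-! The `ℓ'`-degree character counts of Sylow normalizers in `SL₂(q)`, `q` odd. -/

namespace Cfsg.Agent.Helper40.McKay

open Cfsg Cfsg.Agent.Helper40 Matrix

variable {F : Type*} [Field F]

local notation "SL2F" => Matrix.SpecialLinearGroup (Fin 2) F
local notation "M2F" => Matrix (Fin 2) (Fin 2) F

/-! ### the prime 2 -/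

theorem rhs_two [Fintype F] (hodd : Odd (Fintype.card F)) (S : Sylow 2 SL2F) :
    Nat.card {χ : IrrCharacter ↥(Subgroup.normalizer ((S : Subgroup SL2F) : Set SL2F)) //
      ¬ 2 ∣ charDegree (χ : ↥(Subgroup.normalizer ((S : Subgroup SL2F) : Set SL2F)) → ℂ)} = 4 := by
  classical
  have hodd' : Fintype.card F % 2 = 1 := Nat.odd_iff.mp hodd
  have h2 : (2 : F) ≠ 0 := S2431.char_ne_two hodd'
  have hq : 1 < Fintype.card F := Fintype.one_lt_card
  have h4 : Fintype.card F % 4 = 1 ∨ Fintype.card F % 4 = 3 := by omega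
  rcases h4 with hq4 | hq4
  · have D := S2431.sp_dicData hq4 h2
    have := S2430.isCyclic_spTorus (F := F)
    have hval : (Nat.card SL2F).factorization 2 = (Fintype.card F - 1).factorization 2 + 1 := by
      rw [card_SL2]
      apply S2431.val_card _ _ hq _ hodd'
      rw [S2431.fact_two_one (Fintype.card F + 1) (by omega)]
    exact sylow_two_mckay D hval
      (fun _ i hi hii => S2431.exists_witness h2 i S2431.sW hii S2431.sW_sq (D.inv i hi)) S
  · have hF : ringChar F ≠ 2 := fun h => by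
      have := FiniteField.even_card_of_char_two h
      omega
    obtain ⟨δ, hδ⟩ := FiniteField.exists_nonsquare hF
    obtain ⟨s₀, hs₀⟩ := exists_nsTwist δ (nonsquare_ne_zero hδ) hodd'
    have D := S2431.ns_dicData hq4 hδ h2 s₀ hs₀
    have := isCyclic_nsTorus hδ
    have hval : (Nat.card SL2F).factorization 2 = (Fintype.card F + 1).factorization 2 + 1 := by
      rw [card_SL2]
      apply S2431.val_card _ _ hq _ hodd'
      rw [S2431.fact_two_one (Fintype.card F - 1) (by omega)]
      omega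
    exact sylow_two_mckay D hval
      (fun _ i hi hii => S2431.exists_witness h2 i s₀ hii D.s_sq (D.inv i hi)) S

/-! ### odd primes dividing `q - 1` -/

theorem rhs_split [Fintype F] (hodd : Odd (Fintype.card F)) (ℓ : ℕ) [Fact ℓ.Prime] (hℓ : ℓ ≠ 2)
    (P : Sylow ℓ SL2F) (hdvd : ℓ ∣ Fintype.card F - 1) :
    Nat.card {χ : IrrCharacter ↥(Subgroup.normalizer ((P : Subgroup SL2F) : Set SL2F)) //
      ¬ ℓ ∣ charDegree (χ : ↥(Subgroup.normalizer ((P : Subgroup SL2F) : Set SL2F)) → ℂ)} =
      (Fintype.card F + 5) / 2 := by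
  classical
  have hℓp : ℓ.Prime := Fact.out
  have hq : 1 < Fintype.card F := Fintype.one_lt_card
  have hcardT := S2430.card_spTorus (F := F)
  have hdvdT : ℓ ∣ Nat.card (S2430.spTorus (F := F)) := by rw [hcardT]; exact hdvd
  obtain ⟨d₀, hd₀⟩ := exists_prime_orderOf_dvd_card' (G := S2430.spTorus (F := F)) ℓ hdvdT
  have hd₀' : orderOf (d₀ : SL2F) = ℓ := by rw [Subgroup.orderOf_coe]; exact hd₀
  have hd₀T : (d₀ : SL2F) ∈ S2430.spTorus := d₀.2
  have hda : ((d₀ : SL2F) : M2F) 0 0 ^ 2 ≠ 1 :=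
    S2430.sq_ne_one_of_orderOf ℓ hℓp hℓ (d₀ : SL2F) hd₀T hd₀'
  obtain ⟨hd01, hd10⟩ := (S2430.mem_spTorus _).mp hd₀T
  have hTeq : Subgroup.centralizer ({(d₀ : SL2F)} : Set SL2F) = S2430.spTorus := by
    ext g
    rw [S2428.mem_cent _ hd01 hd10 hda, S2430.mem_spTorus]
  have hmemN := S2428.mem_norm _ hd01 hd10 hda
  rw [hTeq] at hmemN
  have hres := S2428.result hodd _ hd01 hd10 hda
  rw [hTeq] at hres
  obtain ⟨-, hcardN, hclasses, -⟩ := hres
  obtain ⟨x, -, hN⟩ := sylow_cent_norm ℓ (S2430.spTorus (F := F))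
    (fun a ha b hb => S2430.spTorus_comm a b ha hb)
    (by
      intro n hn t ht
      rcases (hmemN n).mp hn with h | h
      · left
        rw [S2430.spTorus_comm n t h ht, mul_inv_cancel_right]
      · right
        obtain ⟨h00, h11⟩ := h
        obtain ⟨t01, t10⟩ := ht
        have hdet := det2 n
        rw [h00, h11] at hdet
        rw [eq_iff2']
        simp only [mul_00, mul_01, mul_10, mul_11, inv_00, inv_01, inv_10, inv_11, h00, h11, t01, t10]
        refine ⟨?_, by ring, by ring, ?_⟩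
        · linear_combination (t : M2F) 1 1 * hdet
        · linear_combination (t : M2F) 0 0 * hdet)
    (by
      intro g hg hord y hy
      have hga := S2430.sq_ne_one_of_orderOf ℓ hℓp hℓ g hg hord
      obtain ⟨g01, g10⟩ := hg
      rw [S2430.mem_spTorus, ← S2428.mem_cent g g01 g10 hga, Subgroup.mem_centralizer_iff]
      intro z hz
      rw [Set.mem_singleton_iff] at hz
      rw [hz, hy])
    hdvdT
    (by rw [hcardT, card_SL2]; exact S2430.val_sub _ ℓ hq hℓp hℓ hdvd)
    P
  rw [hN]
  refine (card_lprime_congr ((MulAut.conj x).subgroupMap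
    (Subgroup.normalizer ((S2430.spTorus (F := F) : Subgroup SL2F) : Set SL2F))) ℓ).symm.trans ?_
  set N₀ := Subgroup.normalizer ((S2430.spTorus (F := F) : Subgroup SL2F) : Set SL2F) with hN₀
  rw [card_lprime_of_all ℓ, hclasses]
  intro χ
  apply not_dvd_of_le_two ℓ hℓp hℓ
  apply degree_le_two ((S2430.spTorus (F := F)).subgroupOf N₀)
  · intro a ha b hb
    apply Subtype.ext
    exact S2430.spTorus_comm _ _ (Subgroup.mem_subgroupOf.mp ha) (Subgroup.mem_subgroupOf.mp hb)
  · rw [hcardN, Nat.card_congr (Subgroup.subgroupOfEquivOfLe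
      (Subgroup.le_normalizer (H := S2430.spTorus (F := F)))).toEquiv, hcardT]

/-! ### odd primes dividing `q + 1` -/

/-- the number of conjugacy classes of the normalizer of the non-split torus -/
theorem ns_classes [Fintype F] (hodd : Odd (Fintype.card F)) {δ : F} (hδ : ¬ IsSquare δ)
    (h2 : (2 : F) ≠ 0) :
    Nat.card (ConjClasses ↥(Subgroup.normalizer ((nsTorus δ : Subgroup SL2F) : Set SL2F))) =
      (Fintype.card F + 7) / 2 := by
  classical
  have hodd' : Fintype.card F % 2 = 1 := Nat.odd_iff.mp hodd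
  have hδ0 := nonsquare_ne_zero hδ
  obtain ⟨s₀, hs₀⟩ := exists_nsTwist δ hδ0 hodd'
  have hmemN := mem_normalizer_nsTorus hδ h2
  have hs₀N : s₀ ∈ Subgroup.normalizer ((nsTorus δ : Subgroup SL2F) : Set SL2F) :=
    (hmemN s₀).mpr (Or.inr hs₀)
  let N := Subgroup.normalizer ((nsTorus δ : Subgroup SL2F) : Set SL2F)
  let A : Subgroup N := (nsTorus δ).subgroupOf N
  let s : N := ⟨s₀, hs₀N⟩
  have hA : ∀ a : N, a ∈ A ↔ (a : SL2F) ∈ nsTorus δ := fun a => Subgroup.mem_subgroupOf
  have hcommA : ∀ a ∈ A, ∀ b ∈ A, a * b = b * a := by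
    intro a ha b hb
    apply Subtype.ext
    exact nsTorus_comm δ a b ((hA a).mp ha) ((hA b).mp hb)
  have hsA : s ∉ A := by
    intro h
    exact nsTwist_not_mem δ h2 s₀ hs₀ ((hA s).mp h)
  have hcover : ∀ g : N, g ∈ A ∨ s⁻¹ * g ∈ A := by
    intro g
    rcases (hmemN g).mp g.2 with h | h
    · left; exact (hA g).mpr h
    · right
      rw [hA]
      exact nsTwist_mul δ _ _ (nsTwist_inv δ s₀ hs₀) h
  have hinvA : ∀ a ∈ A, s * a * s⁻¹ = a⁻¹ := by
    intro a ha
    apply Subtype.ext
    exact nsTwist_conj δ s₀ a hs₀ ((hA a).mp ha)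
  have hcardA : Nat.card A = Fintype.card F + 1 := by
    rw [Nat.card_congr (Subgroup.subgroupOfEquivOfLe (Subgroup.le_normalizer (H := nsTorus δ))).toEquiv]
    exact card_nsTorus hδ h2
  have h2A : Nat.card {a : A // a * a = 1} = 2 := by
    rw [Nat.card_eq_two_iff]
    have hone : ((1 : A) * 1 = 1) := one_mul 1
    have hnegN : (S2429.negOne : SL2F) ∈ N := Subgroup.le_normalizer (S2429.negOne_mem δ)
    let m1 : A := ⟨⟨S2429.negOne, hnegN⟩, (hA _).mpr (S2429.negOne_mem δ)⟩
    have hm1 : m1 * m1 = 1 := by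
      apply Subtype.ext
      apply Subtype.ext
      exact S2429.negOne_sq
    refine ⟨⟨1, hone⟩, ⟨m1, hm1⟩, ?_, ?_⟩
    · intro h
      have h' := congrArg (fun z : {a : A // a * a = 1} => ((z.1 : N) : SL2F)) h
      exact S2429.negOne_ne_one h2 h'.symm
    · ext ⟨a, ha⟩
      simp only [Set.mem_insert_iff, Set.mem_singleton_iff, Set.mem_univ, iff_true]
      have ha' : ((a : N) : SL2F) * ((a : N) : SL2F) = 1 := by
        have := congrArg (fun z : A => ((z : N) : SL2F)) ha
        simpa using this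
      rcases S2429.sq_eq_one_of_mem h2 hδ _ ((hA a).mp a.2) ha' with h | h
      · left
        apply Subtype.ext
        apply Subtype.ext
        apply Subtype.ext
        exact h
      · right
        apply Subtype.ext
        apply Subtype.ext
        apply Subtype.ext
        exact h
  have hclasses := card_conjClasses_index_two A s hcommA hsA hcover hinvA h2A
  rw [hcardA] at hclasses
  change Nat.card (ConjClasses N) = _
  omega

theorem rhs_nonsplit [Fintype F] (hodd : Odd (Fintype.card F)) (ℓ : ℕ) [Fact ℓ.Prime] (hℓ : ℓ ≠ 2)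
    (P : Sylow ℓ SL2F) (hdvd : ℓ ∣ Fintype.card F + 1) :
    Nat.card {χ : IrrCharacter ↥(Subgroup.normalizer ((P : Subgroup SL2F) : Set SL2F)) //
      ¬ ℓ ∣ charDegree (χ : ↥(Subgroup.normalizer ((P : Subgroup SL2F) : Set SL2F)) → ℂ)} =
      (Fintype.card F + 7) / 2 := by
  classical
  have hℓp : ℓ.Prime := Fact.out
  have hF : ringChar F ≠ 2 := by
    intro h
    have := FiniteField.even_card_of_char_two h
    rcases hodd with ⟨k, hk⟩
    omega
  have h2 : (2 : F) ≠ 0 := Ring.two_ne_zero hF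
  have hq : 1 < Fintype.card F := Fintype.one_lt_card
  obtain ⟨δ, hδ⟩ := FiniteField.exists_nonsquare hF
  have hcardT := card_nsTorus hδ h2
  have hmemN := mem_normalizer_nsTorus hδ h2
  obtain ⟨x, -, hN⟩ := sylow_cent_norm ℓ (nsTorus δ)
    (fun a ha b hb => nsTorus_comm δ a b ha hb)
    (by
      intro n hn t ht
      rcases (hmemN n).mp hn with h | h
      · left
        rw [nsTorus_comm δ n t h ht, mul_inv_cancel_right]
      · right
        exact nsTwist_conj δ n t h ht)
    (by
      intro g hg hord y hy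
      obtain ⟨h1, hm1⟩ := S2430.ne_of_orderOf_prime ℓ hℓp hℓ g hord
      have hb := nsTorus_b_ne_zero δ g hg h1 hm1
      rw [← centralizer_nsTorus_elt hδ g hg hb, Subgroup.mem_centralizer_iff]
      intro z hz
      rw [Set.mem_singleton_iff] at hz
      rw [hz, hy])
    (by rw [hcardT]; exact hdvd)
    (by rw [hcardT, card_SL2]; exact S2430.val_add _ ℓ hq hℓp hℓ hdvd)
    P
  rw [hN]
  refine (card_lprime_congr ((MulAut.conj x).subgroupMap
    (Subgroup.normalizer ((nsTorus δ : Subgroup SL2F) : Set SL2F))) ℓ).symm.trans ?_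
  set N₀ := Subgroup.normalizer ((nsTorus δ : Subgroup SL2F) : Set SL2F) with hN₀
  rw [card_lprime_of_all ℓ, ns_classes hodd hδ h2]
  intro χ
  apply not_dvd_of_le_two ℓ hℓp hℓ
  apply degree_le_two ((nsTorus δ).subgroupOf N₀)
  · intro a ha b hb
    apply Subtype.ext
    exact nsTorus_comm δ _ _ (Subgroup.mem_subgroupOf.mp ha) (Subgroup.mem_subgroupOf.mp hb)
  · rw [S2430.ns_card_normalizer hodd hδ h2, Nat.card_congr (Subgroup.subgroupOfEquivOfLe
      (Subgroup.le_normalizer (H := nsTorus δ))).toEquiv, hcardT]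

/-! ### the defining characteristic -/

section char

open Cfsg.Agent.Helper5

/-- the upper unitriangular element -/
abbrev tv (x : F) : SL2F := SpecialLinearGroup.transvection (zero_ne_one (α := Fin 2)) x

theorem tv_00 (x : F) : ((tv x : SL2F) : M2F) 0 0 = 1 := by
  simp [tv, SpecialLinearGroup.transvection_coe]

theorem tv_01 (x : F) : ((tv x : SL2F) : M2F) 0 1 = x := by
  simp [tv, SpecialLinearGroup.transvection_coe]

theorem tv_10 (x : F) : ((tv x : SL2F) : M2F) 1 0 = 0 := by
  simp [tv, SpecialLinearGroup.transvection_coe]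

theorem tv_11 (x : F) : ((tv x : SL2F) : M2F) 1 1 = 1 := by
  simp [tv, SpecialLinearGroup.transvection_coe]

theorem slU_le_borel : slU F ≤ borel F := by
  intro u hu
  obtain ⟨x, rfl⟩ := mem_slU_iff.mp hu
  rw [mem_borel]
  exact tv_10 x

theorem slU_comm (a b : SL2F) (ha : a ∈ slU F) (hb : b ∈ slU F) : a * b = b * a := by
  obtain ⟨x, rfl⟩ := mem_slU_iff.mp ha
  obtain ⟨y, rfl⟩ := mem_slU_iff.mp hb
  rw [← SpecialLinearGroup.transvection_add, ← SpecialLinearGroup.transvection_add, add_comm]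

theorem normalizer_slU [Finite F] :
    Subgroup.normalizer ((slU F : Subgroup SL2F) : Set SL2F) = borel F := by
  ext n
  constructor
  · intro hn
    have h1 : tv (1 : F) ∈ slU F := mem_slU_iff.mpr ⟨1, rfl⟩
    have h2 := (Subgroup.mem_normalizer_iff.mp hn _).mp h1
    obtain ⟨y, hy⟩ := mem_slU_iff.mp h2
    have h3 : ((n * tv (1 : F) * n⁻¹ : SL2F) : M2F) 1 0 = 0 := by
      rw [← hy]; exact tv_10 y
    rw [S2428.cj_10, tv_10, tv_01, tv_00, tv_11] at h3
    rw [mem_borel]
    have : (n : M2F) 1 0 ^ 2 = 0 := by linear_combination -h3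
    exact pow_eq_zero_iff (two_ne_zero) |>.mp this
  · intro hn
    rw [mem_borel] at hn
    apply mem_normalizer_of_conj_mem
    intro u hu
    obtain ⟨x, rfl⟩ := mem_slU_iff.mp hu
    rw [sl_upperTri_conj hn x, mul_inv_cancel_right]
    exact mem_slU_iff.mpr ⟨_, rfl⟩

theorem rhs_char [Fintype F] (hodd : Odd (Fintype.card F)) (p : ℕ) [Fact p.Prime] [CharP F p]
    (P : Sylow p SL2F) :
    Nat.card {χ : IrrCharacter ↥(Subgroup.normalizer ((P : Subgroup SL2F) : Set SL2F)) //
      ¬ p ∣ charDegree (χ : ↥(Subgroup.normalizer ((P : Subgroup SL2F) : Set SL2F)) → ℂ)} =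
      Fintype.card F + 3 := by
  classical
  have hp : p.Prime := Fact.out
  obtain ⟨g, hg⟩ := MulAction.exists_smul_eq SL2F (slUSylow (F := F) p) P
  have hmem : ∀ x, x ∈ (P : Subgroup SL2F) ↔ g⁻¹ * x * g ∈ slU F := by
    intro x
    rw [← hg]
    exact mem_smul_slUSylow_iff p g x
  rw [normalizer_eq_of_conj _ _ g hmem, normalizer_slU]
  refine (card_lprime_congr ((MulAut.conj g).subgroupMap (borel F)) p).symm.trans ?_
  rw [card_lprime_of_all p, S2437.result hodd]
  intro χ
  let U : Subgroup (borel F) := (slU F).subgroupOf (borel F)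
  have hUn : U.Normal := by
    rw [Subgroup.normal_subgroupOf_iff_le_normalizer slU_le_borel, normalizer_slU]
  have hUc : ∀ a ∈ U, ∀ b ∈ U, a * b = b * a := by
    intro a ha b hb
    apply Subtype.ext
    exact slU_comm _ _ (Subgroup.mem_subgroupOf.mp ha) (Subgroup.mem_subgroupOf.mp hb)
  have hdvd := ito_dvd U hUc χ
  have hcardU : Nat.card U = Fintype.card F := by
    rw [Nat.card_congr (Subgroup.subgroupOfEquivOfLe slU_le_borel).toEquiv]
    exact card_slU rfl
  have hidx : U.index * Fintype.card F = Fintype.card F * (Fintype.card F - 1) := by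
    rw [← hcardU, Subgroup.index_mul_card, card_borel, hcardU]
  have hq : 0 < Fintype.card F := Fintype.card_pos
  have hidx' : U.index = Fintype.card F - 1 := by
    apply Nat.eq_of_mul_eq_mul_right hq
    rw [hidx, mul_comm]
  rw [hidx'] at hdvd
  intro hpd
  have h1 : p ∣ Fintype.card F - 1 := dvd_trans hpd hdvd
  obtain ⟨e, _, he⟩ := FiniteField.card F p
  have h2 : p ∣ Fintype.card F := by
    rw [he]
    exact dvd_pow_self p e.pos.ne'
  have h3 : p ∣ 1 := by
    have := Nat.dvd_sub h2 h1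
    rwa [Nat.sub_sub_self hq] at this
  exact hp.one_lt.ne' (Nat.dvd_one.mp h3)

end char

end Cfsg.Agent.Helper40.McKay
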