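import Mathlib
import Cfsg.Agent.Lib.Helper73.N4800Base
import Cfsg.Agent.Lib.Helper17.Burnside

/-!
# N4800 (BC) `exists_complement_in` (helper73's server, S0983 order 4800): Burnside's normal
`p`-complement theorem inside a subgroup `H`.
-/

set_option autoImplicit false

namespace Cfsg.Agent.Helper40.N4800

open Cfsg.Agent.Helper17 Cfsg.Agent.Helper73.N4800

universe u

variable {G : Type u} [Group G] [Finite G]

/-- (BC) Burnside inside `H`: if the abelian Sylow `P ≤ H` has `N_H(P) = P` then `H` has a
normal `p`-complement `L`. -/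
theorem exists_complement_in {p : ℕ} [Fact p.Prime] (P : Sylow p G) (H : Subgroup G)
    (hPH : (P : Subgroup G) ≤ H)
    (hab : (P : Subgroup G) ≤ Subgroup.centralizer ((P : Subgroup G) : Set G))
    (hN : H ⊓ Subgroup.normalizer ((P : Subgroup G) : Set G) = (P : Subgroup G)) :
    ∃ L : Subgroup G, L ≤ H ∧ H ≤ Subgroup.normalizer (L : Set G) ∧
      Nat.card L * Nat.card (P : Subgroup G) = Nat.card H := by
  have hcoe : ((P.subtype hPH : Sylow p ↥H) : Subgroup ↥H) = (P : Subgroup G).subgroupOf H := rfl
  have hNC : Subgroup.normalizer (((P.subtype hPH : Sylow p ↥H) : Subgroup ↥H) : Set ↥H) ≤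
      Subgroup.centralizer (((P.subtype hPH : Sylow p ↥H) : Subgroup ↥H) : Set ↥H) := by
    intro g hg
    rw [hcoe, ← Subgroup.subgroupOf_normalizer_eq hPH, Subgroup.mem_subgroupOf] at hg
    have hgP : (g : G) ∈ (P : Subgroup G) := by
      rw [← hN]; exact ⟨g.2, hg⟩
    rw [Subgroup.mem_centralizer_iff]
    intro x hx
    have hx' : (x : G) ∈ (P : Subgroup G) := by
      have : x ∈ (P : Subgroup G).subgroupOf H := hx
      exact Subgroup.mem_subgroupOf.1 this
    have := Subgroup.mem_centralizer_iff.1 (hab hgP) (x : G) hx'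
    exact Subtype.ext this
  obtain ⟨K, hKn, hKc, -⟩ := Cfsg.Agent.Helper17.exists_normal_pcomplement (P.subtype hPH) hNC
  refine ⟨K.map H.subtype, Subgroup.map_subtype_le K, ?_, ?_⟩
  · apply (Subgroup.normal_subgroupOf_iff_le_normalizer (Subgroup.map_subtype_le K)).1
    have : (K.map H.subtype).subgroupOf H = K := by
      rw [Subgroup.subgroupOf, Subgroup.comap_map_eq_self_of_injective Subtype.coe_injective]
    rw [this]
    exact hKn
  · have h1 : Nat.card (K.map H.subtype) = Nat.card K :=
      Nat.card_congr (K.equivMapOfInjective H.subtype Subtype.coe_injective).symm.toEquiv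
    have h2 : Nat.card ((P.subtype hPH : Sylow p ↥H) : Subgroup ↥H) = Nat.card (P : Subgroup G) :=
      Nat.card_congr (Subgroup.subgroupOfEquivOfLe hPH).toEquiv
    rw [h1, ← h2]
    exact hKc

end Cfsg.Agent.Helper40.N4800
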