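import Mathlib
import Cfsg.Agent.Lib.Helper73.N4800Base

/-!
# N4800 (F6) `false_of_six` (helper73's server, S0983 order 4800): a self-centralizing group `P` of
order `25` cannot normalize a subgroup `L` of order `6`.
-/

set_option autoImplicit false

namespace Cfsg.Agent.Helper40.N4800

open Cfsg.Agent.Helper17 Cfsg.Agent.Helper73.N4800

universe u

variable {G : Type u} [Group G] [Finite G]

/-- (F6) The subgroup of order `3` of `L` has index `2`, so it contains every element of order `3` of
`L`; `P` permutes `{x, x⁻¹}`, and has odd order, so it centralizes `x`: `x ∈ C(P) = P`, `3 ∣ 25`. -/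
theorem false_of_six (P : Sylow 5 G) (hP : Nat.card (P : Subgroup G) = 25)
    (hC : Subgroup.centralizer ((P : Subgroup G) : Set G) = (P : Subgroup G))
    (L : Subgroup G) (hL : Nat.card L = 6)
    (hPL : (P : Subgroup G) ≤ Subgroup.normalizer (L : Set G)) : False := by
  classical
  have : Fact (Nat.Prime 3) := ⟨Nat.prime_three⟩
  obtain ⟨x0, hx0⟩ := exists_prime_orderOf_dvd_card' (G := ↥L) 3 (by rw [hL]; norm_num)
  set x : G := (x0 : G) with hx
  have hxL : x ∈ L := x0.2
  have hox : orderOf x = 3 := by rw [hx, Subgroup.orderOf_coe, hx0]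
  have hx3 : x ^ 3 = 1 := by rw [← hox]; exact pow_orderOf_eq_one x
  have hx1 : x ≠ 1 := by
    intro h
    rw [h, orderOf_one] at hox
    norm_num at hox
  have hQL : Subgroup.zpowers x ≤ L := Subgroup.zpowers_le.2 hxL
  have hQcard : Nat.card (Subgroup.zpowers x) = 3 := by rw [Nat.card_zpowers, hox]
  have hidx : ((Subgroup.zpowers x).subgroupOf L).index = 2 := by
    have h1 := ((Subgroup.zpowers x).subgroupOf L).card_mul_index
    have h2 : Nat.card ((Subgroup.zpowers x).subgroupOf L) = Nat.card (Subgroup.zpowers x) :=
      Nat.card_congr (Subgroup.subgroupOfEquivOfLe hQL).toEquiv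
    rw [h2, hQcard, hL] at h1
    omega
  -- every element of `L` with cube `1` lies in `zpowers x`
  have hmem : ∀ y ∈ L, y ^ 3 = 1 → y ∈ Subgroup.zpowers x := by
    intro y hy hy3
    have h := Subgroup.mul_self_mem_of_index_two hidx (⟨y, hy⟩ : ↥L)
    rw [Subgroup.mem_subgroupOf] at h
    have h' : y * y ∈ Subgroup.zpowers x := h
    have h4 : (y * y) * (y * y) = y := by
      calc (y * y) * (y * y) = y ^ 3 * y := by
            simp only [pow_succ, pow_zero, one_mul, mul_assoc]
        _ = y := by rw [hy3, one_mul]
    rw [← h4]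
    exact Subgroup.mul_mem _ h' h'
  -- every element of `P` commutes with `x`
  have hcomm : ∀ g ∈ (P : Subgroup G), g * x = x * g := by
    intro g hg
    have hgN := hPL hg
    rw [Subgroup.mem_normalizer_iff] at hgN
    have hyL : g * x * g⁻¹ ∈ L := (hgN x).1 hxL
    have hy3 : (g * x * g⁻¹) ^ 3 = 1 := by rw [conj_pow, hx3, mul_one, mul_inv_cancel]
    have hyQ := hmem _ hyL hy3
    rw [mem_zpowers_iff_mem_range_orderOf, hox] at hyQ
    have hrange : Finset.range 3 = {0, 1, 2} := by decide
    rw [hrange] at hyQ
    simp only [Finset.image_insert, Finset.image_singleton, Finset.mem_insert,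
      Finset.mem_singleton, pow_zero, pow_one] at hyQ
    have hg25 : g ^ 25 = 1 := by
      have h := pow_card_eq_one' (G := ↥(P : Subgroup G)) (x := ⟨g, hg⟩)
      rw [hP] at h
      have := congrArg Subtype.val h
      simpa using this
    rcases hyQ with h | h | h
    · exfalso
      apply hx1
      have : x = g⁻¹ * (g * x * g⁻¹) * g := by group
      rw [this, h]; group
    · calc g * x = (g * x * g⁻¹) * g := by group
        _ = x * g := by rw [h]
    · have h1 : SemiconjBy g x (x ^ 2) := by
        unfold SemiconjBy
        calc g * x = (g * x * g⁻¹) * g := by group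
          _ = x ^ 2 * g := by rw [h]
      have h2 : SemiconjBy g (x ^ 2) x := by
        have := h1.pow_right 2
        have hx4 : (x ^ 2) ^ 2 = x := by
          calc (x ^ 2) ^ 2 = x ^ 3 * x := by
                simp only [pow_succ, pow_zero, one_mul, mul_assoc]
            _ = x := by rw [hx3, one_mul]
        rwa [hx4] at this
      have h3 : Commute (g * g) x := h2.mul_left h1
      have h4 : Commute ((g * g) ^ 13) x := h3.pow_left 13
      have h5 : (g * g) ^ 13 = g := by
        calc (g * g) ^ 13 = g ^ 25 * g := by
              rw [← pow_two, ← pow_mul, ← pow_succ]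
          _ = g := by rw [hg25, one_mul]
      rw [h5] at h4
      exact h4.eq
  have hxC : x ∈ Subgroup.centralizer ((P : Subgroup G) : Set G) := by
    rw [Subgroup.mem_centralizer_iff]
    intro g hg
    exact hcomm g hg
  rw [hC] at hxC
  have hdvd : orderOf x ∣ Nat.card (P : Subgroup G) := by
    have := orderOf_dvd_natCard (⟨x, hxC⟩ : ↥(P : Subgroup G))
    rwa [Subgroup.orderOf_mk] at this
  rw [hox, hP] at hdvd
  norm_num at hdvd

end Cfsg.Agent.Helper40.N4800
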