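import Mathlib

/-!
# O175560 (N17556), fusion lemma: in a group with a subgroup `T` of order `4` whose centralizer has
index `3` in its normalizer, every involution of `T` is moved by some element of `N(T)`.
-/

set_option autoImplicit false

namespace Cfsg.Agent.Helper40.O175560

universe u

variable {G : Type u} [Group G]

theorem h40_conj_zpowers (g k h : G) (hgk : g * k * g⁻¹ = k) (hh : h ∈ Subgroup.zpowers k) :
    g * h * g⁻¹ = h := by
  obtain ⟨n, rfl⟩ := Subgroup.mem_zpowers_iff.1 hh
  rw [← conj_zpow, hgk]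

theorem h40_sq_one_of_mem_zpowers (k h : G) (hk : k * k = 1) (hh : h ∈ Subgroup.zpowers k) :
    h * h = 1 := by
  obtain ⟨n, rfl⟩ := Subgroup.mem_zpowers_iff.1 hh
  rw [← zpow_add, ← two_mul, zpow_mul, zpow_two, hk, one_zpow]

/-- The centralizer of `T` is normal in the normalizer of `T`. -/
theorem h40_centralizer_normal (T : Subgroup G) :
    ((Subgroup.centralizer (T : Set G)).subgroupOf (Subgroup.normalizer (T : Set G))).Normal := by
  constructor
  intro n hn g
  rw [Subgroup.mem_subgroupOf] at hn ⊢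
  rw [Subgroup.mem_centralizer_iff] at hn ⊢
  intro t ht
  have hgt : (g : G)⁻¹ * t * (g : G) ∈ T := by
    have := (Subgroup.mem_normalizer_iff.1 (inv_mem g.2) t).1 ht
    simpa using this
  have h := hn _ hgt
  have hc : ((g * n * g⁻¹ : ↥(Subgroup.normalizer (T : Set G))) : G) =
      (g : G) * (n : G) * (g : G)⁻¹ := by simp
  rw [hc]
  calc t * ((g : G) * (n : G) * (g : G)⁻¹)
      = (g : G) * (((g : G)⁻¹ * t * (g : G)) * (n : G)) * (g : G)⁻¹ := by group
    _ = (g : G) * ((n : G) * ((g : G)⁻¹ * t * (g : G))) * (g : G)⁻¹ := by rw [h]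
    _ = (g : G) * (n : G) * (g : G)⁻¹ * t := by group

/-- Fusion: some element of `N(T)` moves the involution `k`. -/
theorem h40_fusion [Finite G] (T : Subgroup G) (hT : Nat.card T = 4)
    (hrel : (Subgroup.centralizer (T : Set G)).relIndex (Subgroup.normalizer (T : Set G)) = 3)
    (k : G) (hkT : k ∈ T) (hk : orderOf k = 2) :
    ∃ g ∈ Subgroup.normalizer (T : Set G), g * k * g⁻¹ ≠ k := by
  by_contra hcon
  push Not at hcon
  have hkk : k * k = 1 := by
    have := pow_orderOf_eq_one k
    rw [hk, pow_two] at this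
    exact this
  have hHT : Subgroup.zpowers k ≤ T := Subgroup.zpowers_le.2 hkT
  have hidx : ((Subgroup.zpowers k).subgroupOf T).index = 2 := by
    have h1 := ((Subgroup.zpowers k).subgroupOf T).card_mul_index
    have h2 : Nat.card ((Subgroup.zpowers k).subgroupOf T) = Nat.card (Subgroup.zpowers k) :=
      Nat.card_congr (Subgroup.subgroupOfEquivOfLe hHT).toEquiv
    rw [h2, Nat.card_zpowers, hk, hT] at h1
    omega
  -- squares of elements of `N(T)` centralize `T`
  have hsq : ∀ g ∈ Subgroup.normalizer (T : Set G), g * g ∈ Subgroup.centralizer (T : Set G) := by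
    intro g hg
    rw [Subgroup.mem_centralizer_iff]
    intro t ht
    have hgk := hcon g hg
    have hgk' : g⁻¹ * k * g⁻¹⁻¹ = k := hcon g⁻¹ (inv_mem hg)
    have hs : g * t * g⁻¹ ∈ T := (Subgroup.mem_normalizer_iff.1 hg t).1 ht
    have hiff : (t⁻¹ ∈ Subgroup.zpowers k ↔ g * t * g⁻¹ ∈ Subgroup.zpowers k) := by
      constructor
      · intro h
        have h' : t ∈ Subgroup.zpowers k := by simpa using inv_mem h
        rw [h40_conj_zpowers g k t hgk h']
        exact h'
      · intro h
        have h2 := h40_conj_zpowers g⁻¹ k _ hgk' h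
        have h3 : g⁻¹ * (g * t * g⁻¹) * g⁻¹⁻¹ = t := by group
        rw [h3] at h2
        rw [h2]
        exact inv_mem h
    have hmem : (⟨t⁻¹, inv_mem ht⟩ * ⟨g * t * g⁻¹, hs⟩ : ↥T) ∈ (Subgroup.zpowers k).subgroupOf T := by
      rw [Subgroup.mul_mem_iff_of_index_two hidx]
      simp only [Subgroup.mem_subgroupOf]
      exact hiff
    have hh : t⁻¹ * (g * t * g⁻¹) ∈ Subgroup.zpowers k := by
      rw [Subgroup.mem_subgroupOf] at hmem
      exact hmem
    have hgh := h40_conj_zpowers g k _ hgk hh
    have hh2 := h40_sq_one_of_mem_zpowers k _ hkk hh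
    -- g * (g * t * g⁻¹) * g⁻¹ = t
    have e : g * (g * t * g⁻¹) * g⁻¹ = t := by
      have e1 : g * t * g⁻¹ = t * (t⁻¹ * (g * t * g⁻¹)) := by group
      calc g * (g * t * g⁻¹) * g⁻¹
          = g * (t * (t⁻¹ * (g * t * g⁻¹))) * g⁻¹ := by rw [← e1]
        _ = (g * t * g⁻¹) * (g * (t⁻¹ * (g * t * g⁻¹)) * g⁻¹) := by group
        _ = (g * t * g⁻¹) * (t⁻¹ * (g * t * g⁻¹)) := by rw [hgh]
        _ = t * ((t⁻¹ * (g * t * g⁻¹)) * (t⁻¹ * (g * t * g⁻¹))) := by group
        _ = t := by rw [hh2, mul_one]
    calc t * (g * g) = (g * (g * t * g⁻¹) * g⁻¹) * (g * g) := by rw [e]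
      _ = g * g * t := by group
  have hle : Subgroup.normalizer (T : Set G) ≤ Subgroup.centralizer (T : Set G) := by
    intro g hg
    have hnorm := h40_centralizer_normal T
    have h3 : g ^ 3 ∈ Subgroup.centralizer (T : Set G) := by
      have := Subgroup.pow_index_mem ((Subgroup.centralizer (T : Set G)).subgroupOf
        (Subgroup.normalizer (T : Set G))) (⟨g, hg⟩ : ↥(Subgroup.normalizer (T : Set G)))
      have hi : ((Subgroup.centralizer (T : Set G)).subgroupOf
        (Subgroup.normalizer (T : Set G))).index = 3 := hrel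
      rw [hi, Subgroup.mem_subgroupOf] at this
      simpa using this
    have h2 := hsq g hg
    have : g = g ^ 3 * (g * g)⁻¹ := by group
    rw [this]
    exact Subgroup.mul_mem _ h3 (inv_mem h2)
  have := Subgroup.relIndex_eq_one.2 hle
  omega

end Cfsg.Agent.Helper40.O175560
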