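import Mathlib
import Cfsg.Agent.Lib.Helper17.PrimeTIOrders
import Cfsg.Agent.Lib.Helper17.PrimeTIApp
import Cfsg.Agent.Lib.Helper17.PrimeTID

/-!
# O175560 (N17556), character half (helper24's server for S4274)

A simple group of order `17556 = 2^2 * 3 * 7 * 11 * 19` has no abelian T.I. subgroup `K` of order `76`
with `C(k) ≤ K` for `k ∈ K ∖ {1}` and `|N(K)| = 228`: `Helper17.PrimeTI.ti_degree_equation_ext` with
`e = 3`, `t = 25` gives `25 * S + w² = 76`, so `S = 3`, `w = ±1`; every nontrivial non-exceptional `ψ` has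
`a ψ = 0` or (`a ψ = 1` and degree `77`); the degree equation `1 + 77 * 2 + d * w = 0` forces `d = 155`,
which does not divide `17556`.
-/

set_option autoImplicit false
set_option linter.style.haveILetI false
set_option linter.unusedSectionVars false

namespace Cfsg.Agent.Helper40.O175560

open Cfsg
open Cfsg.Agent.Helper17.PrimeTI

universe u

theorem arith17556_aux : ∀ x ∈ Nat.divisors 17556, x ≠ 1 →
    (x % 76 = 1 → x = 77) ∧ x % 76 ≠ 75 := by
  decide +kernel

theorem not_dvd17556_aux : ¬ 155 ∣ 17556 := by decide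

/-- The character half of order `17556`. -/
theorem ti76_false {G : Type u} [Group G] [Finite G] [IsSimpleGroup G] (hG : Nat.card G = 17556)
    (K : Subgroup G) (hK : Nat.card K = 76)
    (hab : ∀ a ∈ K, ∀ b ∈ K, a * b = b * a)
    (hC : ∀ k ∈ K, k ≠ 1 → Subgroup.centralizer ({k} : Set G) ≤ K)
    (hTI : ∀ g : G, g ∉ Subgroup.normalizer (K : Set G) → ∀ k ∈ K, g * k * g⁻¹ ∈ K → k = 1)
    (hN : Nat.card (Subgroup.normalizer (K : Set G)) = 228) : False := by
  classical
  have := Fintype.ofFinite G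
  have hnp : ¬ (Nat.card G).Prime := by rw [hG]; norm_num
  have hperf : commutator G = ⊤ := perfect_of_simple hnp
  have hle : K ≤ Subgroup.normalizer (K : Set G) := Subgroup.le_normalizer
  have hlt : K < Subgroup.normalizer (K : Set G) := by
    apply lt_of_le_of_ne hle
    intro h
    have h1 : Nat.card K = Nat.card (Subgroup.normalizer (K : Set G)) := by rw [← h]
    rw [hK, hN] at h1
    omega
  have hrel : K.relIndex (Subgroup.normalizer (K : Set G)) = 3 := by
    have h1 := (K.subgroupOf (Subgroup.normalizer (K : Set G))).card_mul_index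
    have h2 : Nat.card (K.subgroupOf (Subgroup.normalizer (K : Set G))) = Nat.card K :=
      Nat.card_congr (Subgroup.subgroupOfEquivOfLe hle).toEquiv
    rw [h2, hK, hN] at h1
    have : (K.subgroupOf (Subgroup.normalizer (K : Set G))).index = 3 := by omega
    exact this
  obtain ⟨w, d, E, a, hEcard, hEdeg, hEne, haE, haK, hcong, hnorm, hdegeq, -, -⟩ :=
    ti_degree_equation_ext K hTI hlt hC hab 3 25 hrel (by rw [hK]) (by norm_num)
  set ψ1 : IrrCharacter G := ⟨fun _ => 1, Cfsg.Agent.Helper81.isIrrCharacter_one⟩ with hψ1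
  have hψ1E : ψ1 ∉ E := fun h => hEne ψ1 h rfl
  obtain ⟨k, hk, hk1⟩ : ∃ k ∈ K, k ≠ 1 := by
    have : Finite K := Nat.finite_of_card_ne_zero (by rw [hK]; norm_num)
    have h1 : 1 < Nat.card K := by rw [hK]; norm_num
    rw [Subgroup.one_lt_card_iff_ne_bot] at h1
    obtain ⟨k, hk⟩ := (Subgroup.ne_bot_iff_exists_ne_one (H := K)).1 h1
    exact ⟨(k : G), k.2, fun h => hk (Subtype.ext h)⟩
  have ha1 : a ψ1 = 1 := by
    have h := haK ψ1 hψ1E k hk hk1
    have h' : ((1 : ℤ) : ℂ) = ((a ψ1 : ℤ) : ℂ) := by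
      rw [← h]; simp [hψ1]
    exact_mod_cast h'.symm
  have hdeg1 : charDegree (ψ1 : G → ℂ) = 1 := charDegree_one
  have hEne' : E.Nonempty := Finset.card_pos.1 (by omega : 0 < E.card)
  have hddvd : d ∣ 17556 := by
    obtain ⟨ψ, hψ⟩ := hEne'
    rw [← hEdeg ψ hψ, ← hG]
    exact Cfsg.Agent.Helper79.irr_degree_dvd_card ψ
  have hsplit1 := Finset.add_sum_erase Finset.univ (fun ψ => (a ψ) ^ 2) (Finset.mem_univ ψ1)
  have hsplit2 := Finset.add_sum_erase Finset.univ
    (fun ψ => a ψ * (charDegree (ψ : G → ℂ) : ℤ)) (Finset.mem_univ ψ1)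
  simp only [ha1, hdeg1] at hsplit1 hsplit2
  rw [← hsplit1, hK] at hnorm
  rw [← hsplit2] at hdegeq
  have hS0 : 0 ≤ ∑ ψ ∈ Finset.univ.erase ψ1, (a ψ) ^ 2 :=
    Finset.sum_nonneg (fun i _ => sq_nonneg _)
  push_cast at hnorm hdegeq
  have hSle : ∑ ψ ∈ Finset.univ.erase ψ1, (a ψ) ^ 2 ≤ 2 := by nlinarith [sq_nonneg w]
  have hkey : ∀ ψ ∈ Finset.univ.erase ψ1,
      a ψ = 0 ∨ (a ψ = 1 ∧ charDegree (ψ : G → ℂ) = 77) := by
    intro ψ hψ
    by_cases h0 : a ψ = 0
    · left; exact h0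
    right
    have hne1 : ψ ≠ ψ1 := (Finset.mem_erase.1 hψ).1
    have hψE : ψ ∉ E := fun h => h0 (haE ψ h)
    have hsq : (a ψ) ^ 2 ≤ ∑ ψ ∈ Finset.univ.erase ψ1, (a ψ) ^ 2 :=
      Finset.single_le_sum (f := fun ψ => (a ψ) ^ 2) (fun i _ => sq_nonneg _) hψ
    have hale : a ψ ≤ 1 := by nlinarith
    have hage : -1 ≤ a ψ := by nlinarith
    have hx : (76 : ℤ) ∣ (charDegree (ψ : G → ℂ) : ℤ) - a ψ := by
      have := hcong ψ hψE
      rw [hK] at this
      exact_mod_cast this
    have hxd : charDegree (ψ : G → ℂ) ∣ 17556 := by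
      rw [← hG]; exact Cfsg.Agent.Helper79.irr_degree_dvd_card ψ
    have hx1 : charDegree (ψ : G → ℂ) ≠ 1 := by
      intro h
      apply hne1
      apply Subtype.ext
      exact linear_trivial_of_perfect hperf ψ h
    have hmem : charDegree (ψ : G → ℂ) ∈ Nat.divisors 17556 :=
      Nat.mem_divisors.2 ⟨hxd, by norm_num⟩
    obtain ⟨h1, h2⟩ := arith17556_aux _ hmem hx1
    have hmod := Int.emod_eq_zero_of_dvd hx
    have hcases : a ψ = -1 ∨ a ψ = 1 := by omega
    rcases hcases with h | h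
    · exfalso; rw [h] at hmod; apply h2; omega
    · refine ⟨h, h1 ?_⟩; rw [h] at hmod; omega
  have hsum : ∑ ψ ∈ Finset.univ.erase ψ1, a ψ * (charDegree (ψ : G → ℂ) : ℤ) =
      77 * ∑ ψ ∈ Finset.univ.erase ψ1, (a ψ) ^ 2 := by
    rw [Finset.mul_sum]
    apply Finset.sum_congr rfl
    intro ψ hψ
    rcases hkey ψ hψ with h | ⟨h, hd⟩
    · rw [h]; ring
    · rw [h, hd]; norm_num
  rw [hsum] at hdegeq
  have hd0 : (0 : ℤ) ≤ d := by positivity
  have hwle : w ≤ 8 := by nlinarith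
  have hwge : -8 ≤ w := by nlinarith
  generalize ∑ ψ ∈ Finset.univ.erase ψ1, (a ψ) ^ 2 = S at *
  have hd155 : (d : ℤ) = 155 := by
    interval_cases w <;> omega
  apply not_dvd17556_aux
  have : d = 155 := by exact_mod_cast hd155
  rw [← this]
  exact hddvd

end Cfsg.Agent.Helper40.O175560
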