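import Mathlib
import Cfsg.Agent.S1017
import Cfsg.Agent.S0992
import Cfsg.Agent.Lib.Helper17.Simple
import Cfsg.Agent.Lib.Helper40.O175560K76
import Cfsg.Agent.Lib.Helper40.O175560Fus

/-!
# O175560 (N17556), helper24's server for S4274: no simple group of order `17556 = 2^2 * 3 * 7 * 11 * 19`

`n_19 = 77`, `|N(P)| = 228`, `|C(P)| ∈ {38, 76, 114}`; an involution `u ∈ C(P)` fixes exactly one Sylow
`19`-subgroup, so `C(u) ≤ N(P)` and conjugates of `u` lying in `N(P)` are `N(P)`-conjugate to `u`. The fusion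
in `N(T)` (`S0992`) puts a second involution of the Sylow `2`-subgroup `T ∋ u` into `C(P)`, so `T ≤ C(P)`,
`K = C(P) = P × T` is abelian of order `76`, `C(k) ≤ K` for `k ∈ K ∖ {1}`, `K` is T.I., `N(K) = N(P)`:
`ti76_false`.
-/

set_option autoImplicit false
set_option linter.style.haveILetI false
set_option linter.unusedSectionVars false

namespace Cfsg.Agent.Helper40.O175560

open Cfsg MulAction

universe u

theorem h40_div924_aux : ∀ n ∈ Nat.divisors 924, n % 19 = 1 → n ≠ 1 → n = 77 := by decide +kernel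

theorem h40_num (n e c : ℕ) (h : n * (e * (19 * c)) = 17556) (hmod : n % 19 = 1) (hn1 : n ≠ 1)
    (he : e ∣ 18) (he1 : e ≠ 1) :
    n = 77 ∧ (e = 2 ∧ c = 6 ∨ e = 3 ∧ c = 4 ∨ e = 6 ∧ c = 2) := by
  have h924 : n * (e * c) = 924 := by
    have : 19 * (n * (e * c)) = 19 * 924 := by
      have h' : 19 * (n * (e * c)) = n * (e * (19 * c)) := by ring
      rw [h', h]
    exact Nat.eq_of_mul_eq_mul_left (by norm_num) this
  have hn : n = 77 :=
    h40_div924_aux n (Nat.mem_divisors.2 ⟨Dvd.intro _ h924, by norm_num⟩) hmod hn1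
  refine ⟨hn, ?_⟩
  rw [hn] at h924
  have hec : e * c = 12 := by omega
  have he18 : e ≤ 18 := Nat.le_of_dvd (by norm_num) he
  have he0 : 0 < e := Nat.pos_of_dvd_of_pos he (by norm_num)
  interval_cases e <;> omega

variable {G : Type u} [Group G] [Finite G]

/-- The centralizer of `P` is normalized by the normalizer of `P`. -/
theorem h40_conj_mem_centralizer (P : Subgroup G) (n c : G)
    (hn : n ∈ Subgroup.normalizer (P : Set G)) (hc : c ∈ Subgroup.centralizer (P : Set G)) :
    n * c * n⁻¹ ∈ Subgroup.centralizer (P : Set G) := by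
  rw [Subgroup.mem_centralizer_iff] at hc ⊢
  intro t ht
  have hnt : n⁻¹ * t * n ∈ P := by
    have := (Subgroup.mem_normalizer_iff.1 (inv_mem hn) t).1 ht
    simpa using this
  have h := hc _ hnt
  calc t * (n * c * n⁻¹) = n * ((n⁻¹ * t * n) * c) * n⁻¹ := by group
    _ = n * (c * (n⁻¹ * t * n)) * n⁻¹ := by rw [h]
    _ = n * c * n⁻¹ * t := by group


/-- (N17556) No simple group has order `17556 = 2^2 * 3 * 7 * 11 * 19`. -/
theorem no_17556 {G : Type u} [Group G] [Finite G] [IsSimpleGroup G] : Nat.card G ≠ 17556 := by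
  intro hG
  classical
  haveI : Fact (Nat.Prime 19) := ⟨by norm_num⟩
  haveI : Fact (Nat.Prime 2) := ⟨Nat.prime_two⟩
  obtain ⟨P⟩ : Nonempty (Sylow 19 G) := inferInstance
  have hP : Nat.card (P : Subgroup G) = 19 := by
    have := Cfsg.Agent.S1017.sylow_card_eq P 1 924 (by rw [hG]; norm_num) (by norm_num)
    simpa using this
  obtain ⟨e, c, he18, he1, hKc, hNc⟩ :=
    Cfsg.Agent.S1017.normalizer_structure P hP (by rw [hG]; norm_num)
  have hmul := Cfsg.Agent.S1017.card_sylow_mul_card_normalizer P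
  have hmod := Cfsg.Agent.S1017.card_sylow_mod (G := G) (p := 19)
  have hne1 := Cfsg.Agent.S1017.sylow_count_ne_one P (by rw [hP]; norm_num)
    (by rw [hP, hG]; norm_num)
  rw [hNc, hG] at hmul
  obtain ⟨hn77, hec⟩ := h40_num _ e c hmul hmod hne1 (by simpa using he18) he1
  have hN228 : Nat.card (Subgroup.normalizer ((P : Subgroup G) : Set G)) = 228 := by
    rw [hNc]
    rcases hec with ⟨rfl, rfl⟩ | ⟨rfl, rfl⟩ | ⟨rfl, rfl⟩ <;> norm_num
  -- notation
  set N : Subgroup G := Subgroup.normalizer ((P : Subgroup G) : Set G) with hNdef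
  set K : Subgroup G := Subgroup.centralizer ((P : Subgroup G) : Set G) with hKdef
  have hKN : K ≤ N := Subgroup.centralizer_le_normalizer _
  have hPK : (P : Subgroup G) ≤ K := Cfsg.Agent.S1017.le_centralizer_self P hP
  have h2K : 2 ∣ Nat.card K := by
    rw [hKc]
    rcases hec with ⟨-, rfl⟩ | ⟨-, rfl⟩ | ⟨-, rfl⟩ <;> norm_num
  obtain ⟨u0, hu0⟩ := exists_prime_orderOf_dvd_card' (G := ↥K) 2 h2K
  have huK : (u0 : G) ∈ K := u0.2
  have hu : orderOf (u0 : G) = 2 := by rw [Subgroup.orderOf_coe, hu0]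
  have hnt : ∃ (g : G) (Q : Sylow 19 G), g • Q ≠ Q :=
    Cfsg.Agent.S1017.sylow_action_nontrivial (by rw [hn77]; norm_num)
  have h2G : 2 < Nat.card G := by rw [hG]; norm_num
  -- involutions of `K` fix exactly one Sylow 19-subgroup
  have hfix : ∀ v ∈ K, orderOf v = 2 → Nat.card (fixedBy (Sylow 19 G) v) = 1 := by
    intro v hv hv2
    have h1 := Cfsg.Agent.S1017.card_fixedBy_sylow_modEq P hP v hv
    have h2 := Cfsg.Agent.S1017.card_fixedBy_mod_four h2G (α := Sylow 19 G) v hv2
    have h3 := Cfsg.Agent.S1017.card_fixedBy_le (α := Sylow 19 G) v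
    have h4 := Cfsg.Agent.S1017.card_fixedBy_ne hnt v
      (Cfsg.Agent.S1017.ne_one_of_orderOf_prime v Nat.prime_two hv2)
    rw [hn77] at h2 h3 h4
    unfold Nat.ModEq at h1 h2
    omega
  -- control: if `v • (g • P) = g • P` then `g ∈ N`
  have hctl : ∀ v ∈ K, orderOf v = 2 → ∀ g : G, v • (g • P) = g • P → g ∈ N := by
    intro v hv hv2 g hg
    have hc := hfix v hv hv2
    have hsub : Subsingleton (fixedBy (Sylow 19 G) v) := (Nat.card_eq_one_iff_unique.1 hc).1
    have hPfix : P ∈ fixedBy (Sylow 19 G) v := by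
      rw [mem_fixedBy]
      exact Sylow.smul_eq_iff_mem_normalizer.2 (hKN hv)
    have hgfix : g • P ∈ fixedBy (Sylow 19 G) v := by
      rw [mem_fixedBy]; exact hg
    have := congrArg Subtype.val (hsub.elim ⟨g • P, hgfix⟩ ⟨P, hPfix⟩)
    exact Sylow.smul_eq_iff_mem_normalizer.1 this
  -- `C(v) ≤ N`
  have hCvN : ∀ v ∈ K, orderOf v = 2 → Subgroup.centralizer ({v} : Set G) ≤ N := by
    intro v hv hv2 g hg
    apply hctl v hv hv2 g
    have hvg : v * g = g * v := (Subgroup.mem_centralizer_iff.1 hg v rfl)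
    have hvP : v • P = P := Sylow.smul_eq_iff_mem_normalizer.2 (hKN hv)
    rw [← mul_smul, hvg, mul_smul, hvP]
  -- fusion control
  have hfus : ∀ v ∈ K, orderOf v = 2 → ∀ g : G, g * v * g⁻¹ ∈ N → g ∈ N := by
    intro v hv hv2 g hg
    have h1 : (g * v * g⁻¹) • P = P := Sylow.smul_eq_iff_mem_normalizer.2 hg
    have h2 : v • (g⁻¹ • P) = g⁻¹ • P := by
      have : g⁻¹ • ((g * v * g⁻¹) • P) = g⁻¹ • P := by rw [h1]
      rw [← mul_smul] at this
      have e : g⁻¹ * (g * v * g⁻¹) = v * g⁻¹ := by group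
      rw [e, mul_smul] at this
      exact this
    have := hctl v hv hv2 g⁻¹ h2
    simpa using inv_mem this
  -- the Sylow 2-subgroup
  have hnp : ¬ (Nat.card G).Prime := by rw [hG]; norm_num
  have hnc : ¬ IsMulCommutative G := Cfsg.Agent.Helper17.not_comm_of_not_prime hnp
  have hev : Even (Nat.card G) := by rw [hG]; decide
  have h8 : ¬ 8 ∣ Nat.card G := by rw [hG]; decide
  -- every 2-element of order dividing 4 is an involution or trivial
  have hklein : ∀ T : Sylow 2 G, Nat.card (T : Subgroup G) = 4 ∧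
      (∀ t ∈ (T : Subgroup G), t * t = 1) ∧
      (∀ s ∈ (T : Subgroup G), ∀ t ∈ (T : Subgroup G), s * t = t * s) ∧
      (Subgroup.centralizer ((T : Subgroup G) : Set G)).relIndex
        (Subgroup.normalizer ((T : Subgroup G) : Set G)) = 3 := by
    intro T
    obtain ⟨hKF, hrel⟩ := Cfsg.Agent.S0992.result hnc hev h8 T
    refine ⟨hKF.card_four, ?_, ?_, hrel⟩
    · intro t ht
      have := Monoid.pow_exponent_eq_one (⟨t, ht⟩ : ↥(T : Subgroup G))
      rw [hKF.exponent_two, pow_two] at this
      exact congrArg Subtype.val this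
    · intro s hs t ht
      have := mul_comm_of_exponent_two hKF.exponent_two (⟨s, hs⟩ : ↥(T : Subgroup G)) ⟨t, ht⟩
      exact congrArg Subtype.val this
  obtain ⟨T, huT⟩ := Cfsg.Agent.S1017.exists_sylow_mem_of_orderOf (p := 2) (u0 : G) hu
  obtain ⟨hT4, hTsq, hTab, hTrel⟩ := hklein T
  have hTN : (T : Subgroup G) ≤ N := by
    intro t ht
    apply hCvN (u0 : G) huK hu
    rw [Subgroup.mem_centralizer_iff]
    intro h hh
    rw [Set.mem_singleton_iff] at hh
    rw [hh]
    exact hTab _ huT _ ht
  -- a second involution of `T` in `K`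
  obtain ⟨g, hgNT, hgk⟩ := h40_fusion (T : Subgroup G) hT4 hTrel (u0 : G) huT hu
  have hv1T : g * (u0 : G) * g⁻¹ ∈ (T : Subgroup G) :=
    (Subgroup.mem_normalizer_iff.1 hgNT _).1 huT
  have hgN : g ∈ N := hfus (u0 : G) huK hu g (hTN hv1T)
  have hv1K : g * (u0 : G) * g⁻¹ ∈ K := h40_conj_mem_centralizer (P : Subgroup G) g _ hgN huK
  have hu1 : (u0 : G) ≠ 1 := Cfsg.Agent.S1017.ne_one_of_orderOf_prime _ Nat.prime_two hu
  -- `T ≤ K`
  have hTK : (T : Subgroup G) ≤ K := by
    have hSle : (T : Subgroup G) ⊓ K ≤ (T : Subgroup G) := inf_le_left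
    have hdvd : Nat.card ↥((T : Subgroup G) ⊓ K) ∣ 2 ^ 2 := by
      have := Subgroup.card_dvd_of_le hSle
      rwa [hT4] at this
    obtain ⟨i, hi, hci⟩ := (Nat.dvd_prime_pow Nat.prime_two).1 hdvd
    have huS : (u0 : G) ∈ (T : Subgroup G) ⊓ K := ⟨huT, huK⟩
    have hvS : g * (u0 : G) * g⁻¹ ∈ (T : Subgroup G) ⊓ K := ⟨hv1T, hv1K⟩
    interval_cases i
    · exfalso
      rw [pow_zero, Subgroup.card_eq_one] at hci
      rw [hci, Subgroup.mem_bot] at huS
      exact hu1 huS
    · exfalso
      rw [pow_one] at hci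
      obtain ⟨y, -, hy⟩ := (Nat.card_eq_two_iff' (1 : ↥((T : Subgroup G) ⊓ K))).1 hci
      have h1 := hy ⟨(u0 : G), huS⟩ (fun h => hu1 (congrArg Subtype.val h))
      have h2 := hy ⟨g * (u0 : G) * g⁻¹, hvS⟩ (fun h => by
        have h' : g * (u0 : G) * g⁻¹ = 1 := congrArg Subtype.val h
        apply hu1
        have : (u0 : G) = g⁻¹ * (g * (u0 : G) * g⁻¹) * g := by group
        rw [this, h']; group)
      apply hgk
      have := h2.trans h1.symm
      exact congrArg Subtype.val this
    · have : (T : Subgroup G) ⊓ K = (T : Subgroup G) :=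
        Subgroup.eq_of_le_of_card_ge hSle (by rw [hci, hT4]; norm_num)
      rw [← this]
      exact inf_le_right
  -- `|K| = 76`
  have hK76 : Nat.card K = 76 := by
    have h4 : 4 ∣ Nat.card K := by
      have := Subgroup.card_dvd_of_le hTK
      rwa [hT4] at this
    rw [hKc] at h4 ⊢
    rcases hec with ⟨-, rfl⟩ | ⟨-, rfl⟩ | ⟨-, rfl⟩
    · exfalso; revert h4; decide
    · rfl
    · exfalso; revert h4; decide
  -- `K = P ⊔ T` is abelian
  have hsup : (P : Subgroup G) ⊔ (T : Subgroup G) = K := by
    have hle : (P : Subgroup G) ⊔ (T : Subgroup G) ≤ K := sup_le hPK hTK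
    apply Subgroup.eq_of_le_of_card_ge hle
    have h19 : 19 ∣ Nat.card ↥((P : Subgroup G) ⊔ (T : Subgroup G)) := by
      have := Subgroup.card_dvd_of_le
        (le_sup_left : (P : Subgroup G) ≤ (P : Subgroup G) ⊔ (T : Subgroup G))
      rwa [hP] at this
    have h4 : 4 ∣ Nat.card ↥((P : Subgroup G) ⊔ (T : Subgroup G)) := by
      have := Subgroup.card_dvd_of_le
        (le_sup_right : (T : Subgroup G) ≤ (P : Subgroup G) ⊔ (T : Subgroup G))
      rwa [hT4] at this
    have h76 : 19 * 4 ∣ Nat.card ↥((P : Subgroup G) ⊔ (T : Subgroup G)) :=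
      Nat.Coprime.mul_dvd_of_dvd_of_dvd (by norm_num) h19 h4
    rw [hK76]
    exact Nat.le_of_dvd Nat.card_pos h76
  have hab : ∀ a ∈ K, ∀ b ∈ K, a * b = b * a := by
    have h1 : (P : Subgroup G) ≤ Subgroup.centralizer (K : Set G) := by
      intro p hp
      rw [Subgroup.mem_centralizer_iff]
      intro k hk
      exact (Subgroup.mem_centralizer_iff.1 hk p hp).symm
    have h2 : (T : Subgroup G) ≤ Subgroup.centralizer (K : Set G) := by
      have hc : Subgroup.centralizer (K : Set G) = Subgroup.centralizer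
          (((P : Subgroup G) : Set G) ∪ ((T : Subgroup G) : Set G)) := by
        rw [← Subgroup.centralizer_closure (((P : Subgroup G) : Set G) ∪ ((T : Subgroup G) : Set G)),
          ← Subgroup.sup_eq_closure, hsup]
      rw [hc]
      intro t ht
      rw [Subgroup.mem_centralizer_iff]
      rintro x (hx | hx)
      · exact Subgroup.mem_centralizer_iff.1 (hTK ht) x hx
      · exact hTab x hx t ht
    have hKc' : K ≤ Subgroup.centralizer (K : Set G) := by
      have := sup_le h1 h2
      rwa [hsup] at this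
    intro a ha b hb
    exact Subgroup.mem_centralizer_iff.1 (hKc' hb) a ha
  -- fourth powers of elements of `K` lie in `P`
  have hpow4 : ∀ k ∈ K, k ^ 4 ∈ (P : Subgroup G) := by
    intro k hk
    have hn : ((P : Subgroup G).subgroupOf K).Normal := by
      constructor
      intro n hn g
      rw [Subgroup.mem_subgroupOf] at hn ⊢
      have hc : ((g * n * g⁻¹ : ↥K) : G) = (g : G) * (n : G) * (g : G)⁻¹ := by simp
      rw [hc]
      have := Subgroup.mem_centralizer_iff.1 g.2 (n : G) hn
      have e : (g : G) * (n : G) * (g : G)⁻¹ = (n : G) := by rw [← this]; group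
      rw [e]; exact hn
    have hidx : ((P : Subgroup G).subgroupOf K).index = 4 := by
      have h1 := ((P : Subgroup G).subgroupOf K).card_mul_index
      have h2 : Nat.card ((P : Subgroup G).subgroupOf K) = Nat.card (P : Subgroup G) :=
        Nat.card_congr (Subgroup.subgroupOfEquivOfLe hPK).toEquiv
      rw [h2, hP, hK76] at h1
      omega
    have := Subgroup.pow_index_mem ((P : Subgroup G).subgroupOf K) (⟨k, hk⟩ : ↥K)
    rw [hidx, Subgroup.mem_subgroupOf] at this
    simpa using this
  have hCy : ∀ y ∈ (P : Subgroup G), y ≠ 1 → Subgroup.centralizer ({y} : Set G) = K := by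
    intro y hy hy1
    obtain ⟨hz, -⟩ := Cfsg.Agent.S1017.zpowers_eq_of_card_prime (P : Subgroup G) hP y hy hy1
    rw [← Subgroup.centralizer_closure, ← Subgroup.zpowers_eq_closure, hz]
  -- centralizers of nonidentity elements of `K`
  have hC : ∀ k ∈ K, k ≠ 1 → Subgroup.centralizer ({k} : Set G) ≤ K := by
    intro k hk hk1
    by_cases h4 : k ^ 4 = 1
    · have hk2 : orderOf k = 2 := by
        have hpg : IsPGroup 2 (Subgroup.zpowers k) := by
          have hdvd : orderOf k ∣ 2 ^ 2 := orderOf_dvd_of_pow_eq_one h4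
          obtain ⟨i, -, hi⟩ := (Nat.dvd_prime_pow Nat.prime_two).1 hdvd
          apply IsPGroup.of_card (n := i)
          rw [Nat.card_zpowers, hi]
        obtain ⟨T', hT'⟩ := hpg.exists_le_sylow
        obtain ⟨-, hsq', -, -⟩ := hklein T'
        have hkk : k * k = 1 := hsq' k (hT' (Subgroup.mem_zpowers k))
        exact orderOf_eq_prime (by rw [pow_two]; exact hkk) hk1
      have hCN := hCvN k hk hk2
      have hKC : K ≤ Subgroup.centralizer ({k} : Set G) := by
        intro x hx
        rw [Subgroup.mem_centralizer_iff]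
        intro h hh
        rw [Set.mem_singleton_iff] at hh
        rw [hh]
        exact hab k hk x hx
      have hd1 : 76 ∣ Nat.card (Subgroup.centralizer ({k} : Set G)) := by
        have := Subgroup.card_dvd_of_le hKC
        rwa [hK76] at this
      have hd2 : Nat.card (Subgroup.centralizer ({k} : Set G)) ∣ 228 := by
        have := Subgroup.card_dvd_of_le hCN
        rwa [hN228] at this
      obtain ⟨j, hj⟩ := hd1
      have hj3 : j = 1 ∨ j = 3 := by
        obtain ⟨l, hl⟩ := hd2
        rw [hj] at hl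
        have hjl : j * l = 3 := by nlinarith
        have hjle : j ≤ 3 := Nat.le_of_dvd (by norm_num) (Dvd.intro _ hjl)
        interval_cases j <;> omega
      rcases hj3 with rfl | rfl
      · have : K = Subgroup.centralizer ({k} : Set G) :=
          Subgroup.eq_of_le_of_card_ge hKC (by rw [hj, hK76])
        rw [← this]
      · exfalso
        have hCeq : Subgroup.centralizer ({k} : Set G) = N :=
          Subgroup.eq_of_le_of_card_ge hCN (by rw [hj, hN228])
        obtain ⟨T', hkT'⟩ := Cfsg.Agent.S1017.exists_sylow_mem_of_orderOf (p := 2) k hk2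
        obtain ⟨hT'4, -, hT'ab, hT'rel⟩ := hklein T'
        have hT'N : (T' : Subgroup G) ≤ N := by
          rw [← hCeq]
          intro t ht
          rw [Subgroup.mem_centralizer_iff]
          intro h hh
          rw [Set.mem_singleton_iff] at hh
          rw [hh]
          exact hT'ab _ hkT' _ ht
        obtain ⟨g', hg'N, hg'k⟩ := h40_fusion (T' : Subgroup G) hT'4 hT'rel k hkT' hk2
        have hv : g' * k * g'⁻¹ ∈ (T' : Subgroup G) :=
          (Subgroup.mem_normalizer_iff.1 hg'N _).1 hkT'
        have hg'NN : g' ∈ N := hfus k hk hk2 g' (hT'N hv)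
        rw [← hCeq] at hg'NN
        have := Subgroup.mem_centralizer_iff.1 hg'NN k rfl
        apply hg'k
        rw [← this]; group
    · have hy := hpow4 k hk
      rw [← hCy (k ^ 4) hy h4]
      intro x hx
      rw [Subgroup.mem_centralizer_iff] at hx ⊢
      intro h hh
      rw [Set.mem_singleton_iff] at hh
      rw [hh]
      have hkx : k * x = x * k := hx k rfl
      exact (Commute.pow_left (show Commute k x from hkx) 4).eq
  -- `K` is a T.I. subgroup
  have hTI : ∀ g : G, g ∉ Subgroup.normalizer (K : Set G) → ∀ k ∈ K, g * k * g⁻¹ ∈ K → k = 1 := by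
    intro g hg k hk hgk
    by_contra hk1
    apply hg
    have hgk1 : g * k * g⁻¹ ≠ 1 := by
      intro h
      apply hk1
      have : k = g⁻¹ * (g * k * g⁻¹) * g := by group
      rw [this, h]; group
    have hC1 := hC k hk hk1
    have hC2 := hC _ hgk hgk1
    rw [Subgroup.mem_normalizer_iff]
    intro n
    constructor
    · intro hn
      apply hC2
      rw [Subgroup.mem_centralizer_iff]
      intro h hh
      rw [Set.mem_singleton_iff] at hh
      rw [hh]
      have := hab k hk n hn
      calc g * k * g⁻¹ * (g * n * g⁻¹) = g * (k * n) * g⁻¹ := by group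
        _ = g * (n * k) * g⁻¹ := by rw [this]
        _ = g * n * g⁻¹ * (g * k * g⁻¹) := by group
    · intro hn
      apply hC1
      rw [Subgroup.mem_centralizer_iff]
      intro h hh
      rw [Set.mem_singleton_iff] at hh
      rw [hh]
      have := hab _ hgk _ hn
      calc k * n = g⁻¹ * ((g * k * g⁻¹) * (g * n * g⁻¹)) * g := by group
        _ = g⁻¹ * ((g * n * g⁻¹) * (g * k * g⁻¹)) * g := by rw [this]
        _ = n * k := by group
  -- `N(K) = N(P)`
  have hNK : Subgroup.normalizer (K : Set G) = N := by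
    apply le_antisymm
    · have hone : ∀ g ∈ Subgroup.normalizer (K : Set G), ∀ n ∈ (P : Subgroup G),
          g * n * g⁻¹ ∈ (P : Subgroup G) := by
        intro g hg n hn
        have hm : g * n * g⁻¹ ∈ K := (Subgroup.mem_normalizer_iff.1 hg n).1 (hPK hn)
        have h4 := hpow4 _ hm
        have hn19 : n ^ 19 = 1 := by
          have h := pow_card_eq_one' (G := ↥(P : Subgroup G)) (x := ⟨n, hn⟩)
          rw [hP] at h
          have := congrArg Subtype.val h
          simpa using this
        have h19 : (g * n * g⁻¹) ^ 19 = 1 := by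
          rw [conj_pow, hn19, mul_one, mul_inv_cancel]
        have h20 : ((g * n * g⁻¹) ^ 4) ^ 5 = g * n * g⁻¹ := by
          calc ((g * n * g⁻¹) ^ 4) ^ 5 = (g * n * g⁻¹) ^ (19 + 1) := by rw [← pow_mul]
            _ = (g * n * g⁻¹) * (g * n * g⁻¹) ^ 19 := pow_succ' _ 19
            _ = g * n * g⁻¹ := by rw [h19, mul_one]
        rw [← h20]
        exact Subgroup.pow_mem _ h4 5
      intro g hg
      rw [Subgroup.mem_normalizer_iff]
      intro n
      constructor
      · exact hone g hg n
      · intro hn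
        have := hone g⁻¹ (inv_mem hg) _ hn
        have e : g⁻¹ * (g * n * g⁻¹) * g⁻¹⁻¹ = n := by group
        rwa [e] at this
    · intro g hg
      rw [Subgroup.mem_normalizer_iff]
      intro c
      constructor
      · intro hc
        exact h40_conj_mem_centralizer (P : Subgroup G) g c hg hc
      · intro hc
        have := h40_conj_mem_centralizer (P : Subgroup G) g⁻¹ _ (inv_mem hg) hc
        have e : g⁻¹ * (g * c * g⁻¹) * g⁻¹⁻¹ = c := by group
        rwa [e] at this
  exact ti76_false hG K hK76 hab hC hTI (by rw [hNK]; exact hN228)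

end Cfsg.Agent.Helper40.O175560
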