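import Mathlib
import Cfsg.Prelude.Def_Blocks
import Cfsg.Agent.Lib.Helper55.O2520Defs
import Cfsg.Agent.Lib.Helper40.N4800BC
import Cfsg.Agent.Lib.Helper79.Coprime.Fusion
import Cfsg.Agent.Lib.Helper17.Simple
import Cfsg.Agent.Lib.Helper87.O2520S3C_Q1
import Cfsg.Agent.Lib.Helper87.O2520S3C_Q2
import Cfsg.Agent.Lib.Helper60.O2520S3CK3
import Cfsg.Agent.Lib.Helper60.O2520S3CK4

/-!
# O2520 (S3C) `exists_order4` (helper55's server, S0984): the four-group case of `N(P)/P` dies
by an element count through the power map `g ↦ g ^ 280`.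
-/

set_option autoImplicit false

namespace Cfsg.Agent.Helper40.O2520

open Cfsg Cfsg.Agent.Helper55.O2520
open scoped Classical

universe u

/-- the `280`-th power of a member of a family. -/
theorem h40_family_pow {G : Type u} [Group G] (x v g : G) (hx : x ^ 3 = 1) (hv : v ^ 280 = 1)
    (hc : v * x = x * v) : (g * (x * v) * g⁻¹) ^ 280 = g * x * g⁻¹ := by
  have hcomm : Commute x v := hc.symm
  rw [conj_pow, hcomm.mul_pow, hv, mul_one]
  have : x ^ 280 = x := by
    have : x ^ 280 = (x ^ 3) ^ 93 * x := by rw [← pow_mul, ← pow_succ]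
    rw [this, hx, one_pow, one_mul]
  rw [this]

/-- an element of order dividing `3` that is its own inverse is trivial. -/
theorem h40_eq_one_of_inv {G : Type u} [Group G] (x : G) (hx : x ^ 3 = 1) (h : x⁻¹ = x) : x = 1 := by
  have h2 : x * x = 1 := by
    calc x * x = x⁻¹ * x := by rw [h]
      _ = 1 := inv_mul_cancel x
  have : x ^ 3 = x * x * x := by rw [pow_succ, pow_two]
  rw [this, h2, one_mul] at hx
  exact hx

/-- an involution-like family member: `(a * y) ^ 280 = 1` when `a ^ 2 = 1` and `a` inverts `y`. -/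
theorem h40_inv_pow {G : Type u} [Group G] (a y : G) (ha : a ^ 2 = 1) (hay : a * y * a⁻¹ = y⁻¹) :
    (a * y) ^ 280 = 1 := by
  have hainv : a⁻¹ = a := by
    rw [inv_eq_iff_mul_eq_one, ← pow_two]; exact ha
  have h2 : (a * y) ^ 2 = 1 := by
    rw [pow_two]
    calc a * y * (a * y) = (a * y * a⁻¹) * y := by rw [hainv]; group
      _ = 1 := by rw [hay, inv_mul_cancel]
  have : (a * y) ^ 280 = ((a * y) ^ 2) ^ 140 := by rw [← pow_mul]
  rw [this, h2, one_pow]

/-- the conjugation pattern of `N(P) = P T` on `x`, `y`. -/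
theorem h40_pattern {G : Type u} [Group G] (P : Subgroup G)
    (hab : ∀ p ∈ P, ∀ q ∈ P, p * q = q * p) (a b x y : G) (hx : x ∈ P) (hy : y ∈ P)
    (hax : a * x * a⁻¹ = x) (hay : a * y * a⁻¹ = y⁻¹) (hbx : b * x * b⁻¹ = x⁻¹)
    (hby : b * y * b⁻¹ = y)
    (n : G) (hn : ∃ p ∈ P, n = p ∨ n = p * a ∨ n = p * b ∨ n = p * (a * b)) :
    (n * x * n⁻¹ = x ∧ n * y * n⁻¹ = y ∧ n ∈ P) ∨ (n * x * n⁻¹ = x ∧ n * y * n⁻¹ = y⁻¹) ∨
      (n * x * n⁻¹ = x⁻¹ ∧ n * y * n⁻¹ = y) ∨ (n * x * n⁻¹ = x⁻¹ ∧ n * y * n⁻¹ = y⁻¹) := by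
  obtain ⟨p, hp, hn'⟩ := hn
  have hxi : x⁻¹ ∈ P := P.inv_mem hx
  have hyi : y⁻¹ ∈ P := P.inv_mem hy
  have key : ∀ q ∈ P, p * q * p⁻¹ = q := by
    intro q hq
    rw [hab p hp q hq, mul_inv_cancel_right]
  have hconj : ∀ t w : G, p * t * w * (p * t)⁻¹ = p * (t * w * t⁻¹) * p⁻¹ := by
    intro t w; group
  rcases hn' with rfl | rfl | rfl | rfl
  · left
    exact ⟨key x hx, key y hy, hp⟩
  · right; left
    refine ⟨?_, ?_⟩
    · rw [hconj, hax]; exact key x hx
    · rw [hconj, hay]; exact key _ hyi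
  · right; right; left
    refine ⟨?_, ?_⟩
    · rw [hconj, hbx]; exact key _ hxi
    · rw [hconj, hby]; exact key y hy
  · right; right; right
    have h1 : a * b * x * (a * b)⁻¹ = x⁻¹ := by
      calc a * b * x * (a * b)⁻¹ = a * (b * x * b⁻¹) * a⁻¹ := by group
        _ = a * x⁻¹ * a⁻¹ := by rw [hbx]
        _ = (a * x * a⁻¹)⁻¹ := by group
        _ = x⁻¹ := by rw [hax]
    have h2 : a * b * y * (a * b)⁻¹ = y⁻¹ := by
      calc a * b * y * (a * b)⁻¹ = a * (b * y * b⁻¹) * a⁻¹ := by group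
        _ = a * y * a⁻¹ := by rw [hby]
        _ = y⁻¹ := hay
    refine ⟨?_, ?_⟩
    · rw [hconj, h1]; exact key _ hxi
    · rw [hconj, h2]; exact key _ hyi

/-- `C(x) ≤ N(P)` from the overgroup lemma and simplicity. -/
theorem h40_cent_le {G : Type u} [Group G] [Finite G] [IsSimpleGroup G] (hG : Nat.card G = 2520)
    (P : Subgroup G) (hnd : ¬ Done G)
    (hovg : ∀ K : Subgroup G, Subgroup.normalizer (P : Set G) < K → K ≠ ⊤ → Nat.card K = 360)
    (x : G) (hx1 : x ≠ 1) (hx3 : x ^ 3 = 1)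
    (hnx : ∀ n ∈ Subgroup.normalizer (P : Set G), n * x * n⁻¹ = x ∨ n * x * n⁻¹ = x⁻¹) :
    Subgroup.centralizer ({x} : Set G) ≤ Subgroup.normalizer (P : Set G) := by
  set X : Subgroup G := Subgroup.zpowers x with hX
  have hconjmem : ∀ n : G, (n * x * n⁻¹ = x ∨ n * x * n⁻¹ = x⁻¹) → ∀ h ∈ X, n * h * n⁻¹ ∈ X := by
    intro n hn h hh
    obtain ⟨k, rfl⟩ := Subgroup.mem_zpowers_iff.mp hh
    have : n * x ^ k * n⁻¹ = (n * x * n⁻¹) ^ k := by rw [conj_zpow]
    rw [this]
    rcases hn with h1 | h1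
    · rw [h1]; exact Subgroup.zpow_mem _ (Subgroup.mem_zpowers x) k
    · rw [h1]; exact Subgroup.zpow_mem _ (X.inv_mem (Subgroup.mem_zpowers x)) k
  have hNle : Subgroup.normalizer (P : Set G) ≤ Subgroup.normalizer (X : Set G) := by
    intro n hn
    rw [Subgroup.mem_normalizer_iff]
    intro h
    constructor
    · exact hconjmem n (hnx n hn) h
    · intro hh
      have hn' : n⁻¹ ∈ Subgroup.normalizer (P : Set G) := Subgroup.inv_mem _ hn
      have := hconjmem n⁻¹ (hnx n⁻¹ hn') _ hh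
      simpa [mul_assoc] using this
  have hCle : Subgroup.centralizer ({x} : Set G) ≤ Subgroup.normalizer (X : Set G) := by
    intro g hg
    rw [Subgroup.mem_centralizer_singleton_iff] at hg
    have hgx : g * x * g⁻¹ = x := by rw [hg, mul_inv_cancel_right]
    have hginv : g⁻¹ * x * g⁻¹⁻¹ = x := by
      rw [inv_inv]
      calc g⁻¹ * x * g = g⁻¹ * (x * g) := by group
        _ = g⁻¹ * (g * x) := by rw [hg]
        _ = x := by group
    rw [Subgroup.mem_normalizer_iff]
    intro h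
    constructor
    · exact hconjmem g (Or.inl hgx) h
    · intro hh
      have := hconjmem g⁻¹ (Or.inl hginv) _ hh
      simpa [mul_assoc] using this
  by_cases hEq : Subgroup.normalizer (P : Set G) = Subgroup.normalizer (X : Set G)
  · rw [hEq]; exact hCle
  · exfalso
    have hlt : Subgroup.normalizer (P : Set G) < Subgroup.normalizer (X : Set G) :=
      lt_of_le_of_ne hNle hEq
    by_cases htop : Subgroup.normalizer (X : Set G) = ⊤
    · have hnorm : X.Normal := Subgroup.normalizer_eq_top_iff.mp htop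
      rcases IsSimpleGroup.eq_bot_or_eq_top_of_normal X hnorm with h | h
      · apply hx1
        have : x ∈ X := Subgroup.mem_zpowers x
        rw [h] at this
        exact Subgroup.mem_bot.mp this
      · have hc : Nat.card X = orderOf x := Nat.card_zpowers x
        have ho : orderOf x ∣ 3 := orderOf_dvd_of_pow_eq_one hx3
        have hXG : Nat.card X = Nat.card G := by rw [h]; exact Subgroup.card_top
        have h3 : orderOf x ≤ 3 := Nat.le_of_dvd (by norm_num) ho
        omega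
    · exact hnd ⟨_, hovg _ hlt htop⟩

/-- card of a four-element family `{1, a, a y, a y⁻¹}`. -/
theorem h40_card_four {G : Type u} [Group G] (P : Subgroup G) (a y : G) (haP : a ∉ P) (hy : y ∈ P)
    (hy1 : y ≠ 1) (hyinv : y⁻¹ ≠ y) :
    ({1, a, a * y, a * y⁻¹} : Finset G).card = 4 := by
  have h1 : (1 : G) ≠ a := fun h => haP (h ▸ P.one_mem)
  have h2 : (1 : G) ≠ a * y := by
    intro h
    apply haP
    have : a = y⁻¹ := eq_inv_of_mul_eq_one_left h.symm
    rw [this]; exact P.inv_mem hy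
  have h3 : (1 : G) ≠ a * y⁻¹ := by
    intro h
    apply haP
    have : a = y⁻¹⁻¹ := eq_inv_of_mul_eq_one_left h.symm
    rw [this, inv_inv]; exact hy
  have h4 : a ≠ a * y := by
    intro h; apply hy1
    have := mul_left_cancel (a := a) (b := 1) (c := y) (by rw [mul_one]; exact h)
    exact this.symm
  have h5 : a ≠ a * y⁻¹ := by
    intro h; apply hy1
    have := mul_left_cancel (a := a) (b := 1) (c := y⁻¹) (by rw [mul_one]; exact h)
    exact inv_eq_one.mp this.symm
  have h6 : a * y ≠ a * y⁻¹ := by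
    intro h; exact hyinv (mul_left_cancel h).symm
  rw [Finset.card_insert_of_notMem, Finset.card_insert_of_notMem, Finset.card_insert_of_notMem,
    Finset.card_singleton]
  · simp only [Finset.mem_singleton]; exact h6
  · simp only [Finset.mem_insert, Finset.mem_singleton, not_or]; exact ⟨h4, h5⟩
  · simp only [Finset.mem_insert, Finset.mem_singleton, not_or]; exact ⟨h1, h2, h3⟩

/-- the members of the four-element family are killed by `280` and commute with `x`. -/
theorem h40_four_ok {G : Type u} [Group G] (a x y : G) (ha2 : a ^ 2 = 1) (hax : a * x * a⁻¹ = x)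
    (hay : a * y * a⁻¹ = y⁻¹) (hyx : y * x = x * y) :
    ∀ v ∈ ({1, a, a * y, a * y⁻¹} : Finset G), v ^ 280 = 1 ∧ v * x = x * v := by
  have hax' : a * x = x * a := by
    calc a * x = a * x * a⁻¹ * a := by group
      _ = x * a := by rw [hax]
  have hyix : y⁻¹ * x = x * y⁻¹ := by
    calc y⁻¹ * x = y⁻¹ * (x * y) * y⁻¹ := by group
      _ = y⁻¹ * (y * x) * y⁻¹ := by rw [hyx]
      _ = x * y⁻¹ := by group
  have hayi : a * y⁻¹ * a⁻¹ = y⁻¹⁻¹ := by
    calc a * y⁻¹ * a⁻¹ = (a * y * a⁻¹)⁻¹ := by group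
      _ = y⁻¹⁻¹ := by rw [hay]
  intro v hv
  simp only [Finset.mem_insert, Finset.mem_singleton] at hv
  rcases hv with h | h | h | h
  · rw [h]; exact ⟨one_pow _, by rw [one_mul, mul_one]⟩
  · rw [h]; refine ⟨?_, hax'⟩
    have : a ^ 280 = (a ^ 2) ^ 140 := by rw [← pow_mul]
    rw [this, ha2, one_pow]
  · rw [h]; refine ⟨h40_inv_pow a y ha2 hay, ?_⟩
    calc a * y * x = a * (y * x) := by group
      _ = a * (x * y) := by rw [hyx]
      _ = a * x * y := by group
      _ = x * a * y := by rw [hax']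
      _ = x * (a * y) := by group
  · rw [h]; refine ⟨h40_inv_pow a y⁻¹ ha2 hayi, ?_⟩
    calc a * y⁻¹ * x = a * (y⁻¹ * x) := by group
      _ = a * (x * y⁻¹) := by rw [hyix]
      _ = a * x * y⁻¹ := by group
      _ = x * a * y⁻¹ := by rw [hax']
      _ = x * (a * y⁻¹) := by group

section grp
variable {G : Type u} [Group G] [Finite G] [IsSimpleGroup G] (hG : Nat.card G = 2520)
include hG

/-- (S3C) -/
theorem exists_order4 (h7 : Nat.card (Sylow 7 G) = 120) (h5 : Nat.card (Sylow 5 G) = 126)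
    (h3 : Nat.card (Sylow 3 G) = 70) (P : Sylow 3 G)
    (hC : Subgroup.centralizer ((P : Subgroup G) : Set G) = (P : Subgroup G))
    (hexp : ∀ x ∈ (P : Subgroup G), x ^ 3 = 1)
    (hovg : ∀ K : Subgroup G, Subgroup.normalizer ((P : Subgroup G) : Set G) < K → K ≠ ⊤ →
      Nat.card K = 360) :
    Done G ∨ ∃ u ∈ Subgroup.normalizer ((P : Subgroup G) : Set G), orderOf u = 4 := by
  by_contra hcon
  rw [not_or] at hcon
  obtain ⟨hnd, hno4'⟩ := hcon
  have hno4 : ∀ u ∈ Subgroup.normalizer ((P : Subgroup G) : Set G), orderOf u ≠ 4 := by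
    intro u hu h; exact hno4' ⟨u, hu, h⟩
  have hP9 : Nat.card (P : Subgroup G) = 9 := by
    have := Cfsg.Agent.Helper17.sylow_card_eq P (k := 2) (m := 280) (by rw [hG]; norm_num) (by norm_num)
    simpa using this
  have hN36 : Nat.card (Subgroup.normalizer ((P : Subgroup G) : Set G)) = 36 := by
    have h1 : (Subgroup.normalizer ((P : Subgroup G) : Set G)).index = 70 := by
      rw [← h3]; exact (Sylow.card_eq_index_normalizer P).symm
    have h2 := (Subgroup.normalizer ((P : Subgroup G) : Set G)).card_mul_index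
    rw [h1, hG] at h2
    omega
  obtain ⟨x, y, a, b, hxP, hyP, hx1, hy1, haN, hbN, hoa, hob, habc, hax, hay, hbx, hby⟩ :=
    Cfsg.Agent.Helper87.O2520.s3c_structure (P : Subgroup G) hP9 hexp hC hN36 hno4
  have hNPT := Cfsg.Agent.Helper87.O2520.s3c_normalizer_mem (P : Subgroup G) hP9 hN36 x y a b
    hxP hyP hx1 hy1 haN hbN hoa hob habc hax hay hbx hby
  have hab : ∀ p ∈ (P : Subgroup G), ∀ q ∈ (P : Subgroup G), p * q = q * p := by
    intro p hp q hq
    have hp' : p ∈ Subgroup.centralizer ((P : Subgroup G) : Set G) := by rw [hC]; exact hp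
    exact ((Subgroup.mem_centralizer_iff.mp hp') q hq).symm
  have hx3 : x ^ 3 = 1 := hexp x hxP
  have hy3 : y ^ 3 = 1 := hexp y hyP
  have hxinv : x⁻¹ ≠ x := fun h => hx1 (h40_eq_one_of_inv x hx3 h)
  have hyinv : y⁻¹ ≠ y := fun h => hy1 (h40_eq_one_of_inv y hy3 h)
  have hpat := fun n (hn : n ∈ Subgroup.normalizer ((P : Subgroup G) : Set G)) =>
    h40_pattern (P : Subgroup G) hab a b x y hxP hyP hax hay hbx hby n (hNPT n hn)
  have ha2 : a ^ 2 = 1 := by rw [← hoa]; exact pow_orderOf_eq_one a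
  have hb2 : b ^ 2 = 1 := by rw [← hob]; exact pow_orderOf_eq_one b
  have haxi : a * x⁻¹ * a⁻¹ = x⁻¹ := by
    calc a * x⁻¹ * a⁻¹ = (a * x * a⁻¹)⁻¹ := by group
      _ = x⁻¹ := by rw [hax]
  have hyx : y ≠ x := by
    intro h
    apply hyinv
    rw [← hay, h]; exact hax
  have hyxi : y ≠ x⁻¹ := by
    intro h
    apply hyinv
    rw [← hay, h]; exact haxi
  have haP : a ∉ (P : Subgroup G) := by
    intro h
    apply hyinv
    rw [← hay, hab a h y hyP, mul_inv_cancel_right]
  have hbP : b ∉ (P : Subgroup G) := by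
    intro h
    apply hxinv
    rw [← hbx, hab b h x hxP, mul_inv_cancel_right]
  have hnx : ∀ n ∈ Subgroup.normalizer ((P : Subgroup G) : Set G),
      n * x * n⁻¹ = x ∨ n * x * n⁻¹ = x⁻¹ := by
    intro n hn
    rcases hpat n hn with ⟨h, _, _⟩ | ⟨h, _⟩ | ⟨h, _⟩ | ⟨h, _⟩
    · exact Or.inl h
    · exact Or.inl h
    · exact Or.inr h
    · exact Or.inr h
  have hny : ∀ n ∈ Subgroup.normalizer ((P : Subgroup G) : Set G),
      n * y * n⁻¹ = y ∨ n * y * n⁻¹ = y⁻¹ := by
    intro n hn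
    rcases hpat n hn with ⟨_, h, _⟩ | ⟨_, h⟩ | ⟨_, h⟩ | ⟨_, h⟩
    · exact Or.inl h
    · exact Or.inr h
    · exact Or.inl h
    · exact Or.inr h
  have hCx := h40_cent_le hG (P : Subgroup G) hnd hovg x hx1 hx3 hnx
  have hCy := h40_cent_le hG (P : Subgroup G) hnd hovg y hy1 hy3 hny
  have hcard_le : ∀ (w c : G),
      Subgroup.centralizer ({w} : Set G) ≤ Subgroup.normalizer ((P : Subgroup G) : Set G) →
      c ∈ Subgroup.normalizer ((P : Subgroup G) : Set G) → c * w ≠ w * c →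
      Nat.card (Subgroup.centralizer ({w} : Set G)) ≤ 18 := by
    intro w c hle hc hne
    have hd := Subgroup.card_dvd_of_le hle
    rw [hN36] at hd
    have hne36 : Nat.card (Subgroup.centralizer ({w} : Set G)) ≠ 36 := by
      intro h
      have := Subgroup.eq_of_le_of_card_ge hle (by rw [hN36, h])
      apply hne
      have hc' : c ∈ Subgroup.centralizer ({w} : Set G) := by rw [this]; exact hc
      exact Subgroup.mem_centralizer_singleton_iff.mp hc'
    obtain ⟨k, hk⟩ := hd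
    have hk1 : k ≠ 1 := by intro h; rw [h, mul_one] at hk; exact hne36 hk.symm
    have hk0 : k ≠ 0 := by intro h; rw [h, mul_zero] at hk; omega
    have hk2 : 2 ≤ k := by omega
    nlinarith
  have hbx' : b * x ≠ x * b := by
    intro h
    apply hxinv
    rw [← hbx, h, mul_inv_cancel_right]
  have hay' : a * y ≠ y * a := by
    intro h
    apply hyinv
    rw [← hay, h, mul_inv_cancel_right]
  have hCx18 := hcard_le x b hCx hbN hbx'
  have hCy18 := hcard_le y a hCy haN hay'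
  -- the third class
  have hzP : x * y ∈ (P : Subgroup G) := mul_mem hxP hyP
  have hz3 : (x * y) ^ 3 = 1 := hexp _ hzP
  have hPCz : (P : Subgroup G) ≤ Subgroup.centralizer ({x * y} : Set G) := by
    intro p hp; rw [Subgroup.mem_centralizer_singleton_iff]; exact hab p hp _ hzP
  have hinf : Subgroup.centralizer ({x * y} : Set G) ⊓
      Subgroup.normalizer ((P : Subgroup G) : Set G) = (P : Subgroup G) := by
    apply le_antisymm
    · intro n hn
      obtain ⟨hn1, hn2⟩ := Subgroup.mem_inf.mp hn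
      rw [Subgroup.mem_centralizer_singleton_iff] at hn1
      have hnz : n * (x * y) * n⁻¹ = x * y := by rw [hn1, mul_inv_cancel_right]
      have hsplit : n * (x * y) * n⁻¹ = (n * x * n⁻¹) * (n * y * n⁻¹) := by group
      rcases hpat n hn2 with ⟨_, _, h⟩ | ⟨h1, h2⟩ | ⟨h1, h2⟩ | ⟨h1, h2⟩
      · exact h
      · exfalso; rw [hsplit, h1, h2] at hnz; exact hyinv (mul_left_cancel hnz)
      · exfalso; rw [hsplit, h1, h2] at hnz; exact hxinv (mul_right_cancel hnz)
      · exfalso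
        rw [hsplit, h1, h2] at hnz
        have hzi : (x * y)⁻¹ = x * y := by
          rw [mul_inv_rev, hab _ (inv_mem hyP) _ (inv_mem hxP)]; exact hnz
        have h1' := h40_eq_one_of_inv (x * y) hz3 hzi
        exact hyxi (eq_inv_of_mul_eq_one_right h1')
    · intro p hp
      exact Subgroup.mem_inf.mpr ⟨hPCz hp, Subgroup.le_normalizer hp⟩
  obtain ⟨L, hLle, _, hLcard⟩ := Cfsg.Agent.Helper40.N4800.exists_complement_in P
    (Subgroup.centralizer ({x * y} : Set G)) hPCz hC.ge hinf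
  rw [hP9] at hLcard
  have hL280 : Nat.card L ∣ 280 := by
    have h1 := Subgroup.card_subgroup_dvd_card (Subgroup.centralizer ({x * y} : Set G))
    rw [← hLcard, hG] at h1
    exact Nat.dvd_of_mul_dvd_mul_right (by norm_num : 0 < 9) (by simpa using h1)
  have hLpos : 0 < Nat.card L := Nat.card_pos
  -- the families
  have hWx4 := h40_card_four (P : Subgroup G) a y haP hyP hy1 hyinv
  have hWy4 := h40_card_four (P : Subgroup G) b x hbP hxP hx1 hxinv
  have hWxok := h40_four_ok a x y ha2 hax hay (hab y hyP x hxP)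
  have hWyok := h40_four_ok b y x hb2 hby hbx (hab x hxP y hyP)
  have hx280 : ∀ w : G, w ^ 3 = 1 → w ^ 280 = w := by
    intro w hw
    have : w ^ 280 = (w ^ 3) ^ 93 * w := by rw [← pow_mul, ← pow_succ]
    rw [this, hw, one_pow, one_mul]
  have hLfin : (L : Set G).Finite := Set.toFinite _
  have hWzok : ∀ v ∈ hLfin.toFinset, v ^ 280 = 1 ∧ v * (x * y) = (x * y) * v := by
    intro v hv
    rw [Set.Finite.mem_toFinset] at hv
    have hv' : v ∈ L := hv
    refine ⟨?_, Subgroup.mem_centralizer_singleton_iff.mp (hLle hv')⟩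
    exact orderOf_dvd_iff_pow_eq_one.mp ((Subgroup.orderOf_dvd_natCard L hv').trans hL280)
  have hWzcard : hLfin.toFinset.card = Nat.card L := by
    rw [← Set.ncard_eq_toFinset_card (L : Set G) hLfin, ← Nat.card_coe_set_eq]; rfl
  have hfx := Cfsg.Agent.Helper60.O2520.card_family x _ 280 (hx280 x hx3) hWxok
  have hfy := Cfsg.Agent.Helper60.O2520.card_family y _ 280 (hx280 y hy3) hWyok
  have hfz := Cfsg.Agent.Helper60.O2520.card_family (x * y) _ 280 (hx280 _ hz3) hWzok
  rw [hG, hWx4] at hfx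
  rw [hG, hWy4] at hfy
  rw [hG, hWzcard, ← hLcard] at hfz
  rw [Nat.card_coe_set_eq] at hfx hfy hfz
  have hA := Cfsg.Agent.Helper60.O2520.card_pow280 hG h7 h5
  rw [Nat.card_coe_set_eq] at hA
  set Fx : Set G := {z | ∃ g, ∃ v ∈ ({1, a, a * y, a * y⁻¹} : Finset G), z = g * (x * v) * g⁻¹}
    with hFxdef
  set Fy : Set G := {z | ∃ g, ∃ v ∈ ({1, b, b * x, b * x⁻¹} : Finset G), z = g * (y * v) * g⁻¹}
    with hFydef
  set Fz : Set G := {z | ∃ g, ∃ v ∈ hLfin.toFinset, z = g * (x * y * v) * g⁻¹} with hFzdef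
  set A : Set G := {g | g ^ 280 = 1} with hAdef
  have hFx560 : 560 ≤ Fx.ncard := by
    have := Nat.mul_le_mul_right Fx.ncard hCx18
    omega
  have hFy560 : 560 ≤ Fy.ncard := by
    have := Nat.mul_le_mul_right Fy.ncard hCy18
    omega
  have hFz280 : 280 ≤ Fz.ncard := by
    have h1 : Nat.card L * 2520 ≤ Nat.card L * (9 * Fz.ncard) := by
      rw [← mul_assoc, mul_comm (Nat.card L) 2520]; exact hfz
    have := Nat.le_of_mul_le_mul_left h1 hLpos
    omega
  have hFxp : ∀ w ∈ Fx, ∃ g, w ^ 280 = g * x * g⁻¹ := by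
    rintro w ⟨g, v, hv, rfl⟩
    exact ⟨g, h40_family_pow x v g hx3 (hWxok v hv).1 (hWxok v hv).2⟩
  have hFyp : ∀ w ∈ Fy, ∃ g, w ^ 280 = g * y * g⁻¹ := by
    rintro w ⟨g, v, hv, rfl⟩
    exact ⟨g, h40_family_pow y v g hy3 (hWyok v hv).1 (hWyok v hv).2⟩
  have hFzp : ∀ w ∈ Fz, ∃ g, w ^ 280 = g * (x * y) * g⁻¹ := by
    rintro w ⟨g, v, hv, rfl⟩
    exact ⟨g, h40_family_pow (x * y) v g hz3 (hWzok v hv).1 (hWzok v hv).2⟩
  have hnofus : ∀ u v : G, u ∈ (P : Subgroup G) → v ∈ (P : Subgroup G) →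
      (∀ n ∈ Subgroup.normalizer ((P : Subgroup G) : Set G), n * u * n⁻¹ ≠ v) →
      ∀ g g' : G, g * u * g⁻¹ ≠ g' * v * g'⁻¹ := by
    intro u v hu hv hn g g' h
    have h' : (g'⁻¹ * g) * u * (g'⁻¹ * g)⁻¹ = v := by
      calc (g'⁻¹ * g) * u * (g'⁻¹ * g)⁻¹ = g'⁻¹ * (g * u * g⁻¹) * g' := by group
        _ = g'⁻¹ * (g' * v * g'⁻¹) * g' := by rw [h]
        _ = v := by group
    obtain ⟨n, hnN, hnu⟩ := Cfsg.Agent.Helper79.Cop.burnside_fusion P
      (by rw [hC]; exact hu) (by rw [hC]; exact hv) h'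
    exact hn n hnN hnu
  have hxx : x⁻¹ * x⁻¹ = x := by
    have h := hx3
    rw [pow_succ, pow_two] at h
    calc x⁻¹ * x⁻¹ = x⁻¹ * x⁻¹ * (x * x * x) := by rw [h, mul_one]
      _ = x := by group
  have hyy : y⁻¹ * y⁻¹ = y := by
    have h := hy3
    rw [pow_succ, pow_two] at h
    calc y⁻¹ * y⁻¹ = y⁻¹ * y⁻¹ * (y * y * y) := by rw [h, mul_one]
      _ = y := by group
  have hxy_nf : ∀ n ∈ Subgroup.normalizer ((P : Subgroup G) : Set G), n * x * n⁻¹ ≠ y := by
    intro n hn
    rcases hnx n hn with h | h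
    · rw [h]; exact hyx.symm
    · rw [h]; exact hyxi.symm
  have hxz_nf : ∀ n ∈ Subgroup.normalizer ((P : Subgroup G) : Set G), n * x * n⁻¹ ≠ x * y := by
    intro n hn
    rcases hnx n hn with h | h
    · rw [h]; intro e
      have : x * 1 = x * y := by rw [mul_one]; exact e
      exact hy1 (mul_left_cancel this).symm
    · rw [h]; intro e
      apply hyx
      calc y = x⁻¹ * (x * y) := by group
        _ = x⁻¹ * x⁻¹ := by rw [← e]
        _ = x := hxx
  have hyz_nf : ∀ n ∈ Subgroup.normalizer ((P : Subgroup G) : Set G), n * y * n⁻¹ ≠ x * y := by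
    intro n hn
    rcases hny n hn with h | h
    · rw [h]; intro e
      have : 1 * y = x * y := by rw [one_mul]; exact e
      exact hx1 (mul_right_cancel this).symm
    · rw [h]; intro e
      apply hyx
      symm
      calc x = (x * y) * y⁻¹ := by group
        _ = y⁻¹ * y⁻¹ := by rw [← e]
        _ = y := hyy
  have hz1 : x * y ≠ 1 := fun h => hyxi (eq_inv_of_mul_eq_one_right h)
  have hdAx : Disjoint A Fx := Set.disjoint_left.mpr (fun w hwA hwF => by
    obtain ⟨g, hg⟩ := hFxp w hwF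
    have hwA' : w ^ 280 = 1 := hwA
    rw [hwA'] at hg
    exact hx1 (conj_eq_one_iff.mp hg.symm))
  have hdAy : Disjoint A Fy := Set.disjoint_left.mpr (fun w hwA hwF => by
    obtain ⟨g, hg⟩ := hFyp w hwF
    have hwA' : w ^ 280 = 1 := hwA
    rw [hwA'] at hg
    exact hy1 (conj_eq_one_iff.mp hg.symm))
  have hdAz : Disjoint A Fz := Set.disjoint_left.mpr (fun w hwA hwF => by
    obtain ⟨g, hg⟩ := hFzp w hwF
    have hwA' : w ^ 280 = 1 := hwA
    rw [hwA'] at hg
    exact hz1 (conj_eq_one_iff.mp hg.symm))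
  have hdxy : Disjoint Fx Fy := Set.disjoint_left.mpr (fun w h1 h2 => by
    obtain ⟨g, hg⟩ := hFxp w h1
    obtain ⟨g', hg'⟩ := hFyp w h2
    exact hnofus x y hxP hyP hxy_nf g g' (hg.symm.trans hg'))
  have hdxz : Disjoint Fx Fz := Set.disjoint_left.mpr (fun w h1 h2 => by
    obtain ⟨g, hg⟩ := hFxp w h1
    obtain ⟨g', hg'⟩ := hFzp w h2
    exact hnofus x (x * y) hxP hzP hxz_nf g g' (hg.symm.trans hg'))
  have hdyz : Disjoint Fy Fz := Set.disjoint_left.mpr (fun w h1 h2 => by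
    obtain ⟨g, hg⟩ := hFyp w h1
    obtain ⟨g', hg'⟩ := hFzp w h2
    exact hnofus y (x * y) hyP hzP hyz_nf g g' (hg.symm.trans hg'))
  have hU1 : (A ∪ Fx).ncard = A.ncard + Fx.ncard := Set.ncard_union_eq hdAx
  have hU2 : (A ∪ Fx ∪ Fy).ncard = (A ∪ Fx).ncard + Fy.ncard :=
    Set.ncard_union_eq (Set.disjoint_union_left.mpr ⟨hdAy, hdxy⟩)
  have hU3 : (A ∪ Fx ∪ Fy ∪ Fz).ncard = (A ∪ Fx ∪ Fy).ncard + Fz.ncard :=
    Set.ncard_union_eq (Set.disjoint_union_left.mpr
      ⟨Set.disjoint_union_left.mpr ⟨hdAz, hdxz⟩, hdyz⟩)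
  have hle := Set.ncard_le_card (A ∪ Fx ∪ Fy ∪ Fz)
  rw [hG] at hle
  omega

end grp

end Cfsg.Agent.Helper40.O2520
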