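import Mathlib

/-! helper40: piece (B3p) `order_pow` of helper53's O459648 server (S1022), with two reusable
uniqueness lemmas for subgroups of a given order. -/

set_option autoImplicit false

namespace Cfsg.Agent.Helper40.O459648

open Subgroup

/-- a subgroup whose order is coprime to the index of a normal subgroup `K` lies in `K` -/
theorem h40_le_of_normal_coprime {H : Type*} [Group H] [Finite H] (K : Subgroup H) [K.Normal]
    (W' : Subgroup H) (hcop : (K.index).Coprime (Nat.card W')) : W' ≤ K := by
  intro x hx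
  have hord : orderOf x ∣ Nat.card W' := by
    have := orderOf_dvd_natCard (⟨x, hx⟩ : W')
    rwa [Subgroup.orderOf_mk] at this
  have hc : (K.index).Coprime (orderOf x) := hcop.coprime_dvd_right hord
  obtain ⟨m, hm⟩ := exists_pow_eq_self_of_coprime hc
  rw [← hm]
  exact K.pow_mem (K.pow_index_mem x) m

/-- a normal subgroup whose index is coprime to its order is the only subgroup of its order -/
theorem h40_unique_of_normal {H : Type*} [Group H] [Finite H] (W : Subgroup H) [W.Normal]
    (hcop : (W.index).Coprime (Nat.card W)) (W' : Subgroup H)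
    (hW' : Nat.card W' = Nat.card W) : W' = W := by
  have hle : W' ≤ W := h40_le_of_normal_coprime W W' (hW' ▸ hcop)
  exact Subgroup.eq_of_le_of_card_ge hle (le_of_eq hW'.symm)

/-- `Z` central, `|H| = |Z| * n` with `gcd(|Z|, n) = 1`: a subgroup of order `n` is the only one -/
theorem h40_unique_of_central {H : Type*} [Group H] [Finite H] (Z : Subgroup H)
    (hZc : Z ≤ Subgroup.center H) (n : ℕ) (hH : Nat.card H = Nat.card Z * n)
    (hcop : (Nat.card Z).Coprime n) (W : Subgroup H) (hW : Nat.card W = n)
    (W' : Subgroup H) (hW' : Nat.card W' = n) : W' = W := by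
  have hn : 0 < n := hW ▸ Nat.card_pos
  have hZN : Z ≤ normalizer (W : Set H) := hZc.trans (Subgroup.center_le_normalizer _)
  have hWN : W ≤ normalizer (W : Set H) := Subgroup.le_normalizer
  have h1 : Nat.card Z ∣ Nat.card (normalizer (W : Set H)) := Subgroup.card_dvd_of_le hZN
  have h2 : n ∣ Nat.card (normalizer (W : Set H)) := hW ▸ Subgroup.card_dvd_of_le hWN
  have h3 : Nat.card H ∣ Nat.card (normalizer (W : Set H)) := by
    rw [hH]; exact hcop.mul_dvd_of_dvd_of_dvd h1 h2
  have h4 : Nat.card (normalizer (W : Set H)) = Nat.card H :=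
    Nat.dvd_antisymm (Subgroup.card_subgroup_dvd_card _) h3
  have h5 : normalizer (W : Set H) = ⊤ := (Subgroup.card_eq_iff_eq_top _).mp h4
  haveI : W.Normal := Subgroup.normalizer_eq_top_iff.mp h5
  have hidx : W.index = Nat.card Z := by
    have := W.card_mul_index
    rw [hW, hH, mul_comm (Nat.card Z)] at this
    exact Nat.eq_of_mul_eq_mul_left hn this
  apply h40_unique_of_normal W _ W' (hW'.trans hW.symm)
  rw [hidx, hW]; exact hcop

/-- (B3p) `Z` central of order 19 in `H` of order `19 * 2 ^ k`: the Sylow 2-subgroup `V` has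
`|N_H(V)|` divisible by `2 ^ k` and by 19, so it is normal, so it is the only subgroup of its order -/
theorem order_pow {H : Type*} [Group H] [Finite H] (k : ℕ) (hH : Nat.card H = 19 * 2 ^ k)
    (Z : Subgroup H) (hZ : Nat.card Z = 19) (hZc : Z ≤ Subgroup.center H) :
    ∃ W : Subgroup H, Nat.card W = 2 ^ k ∧ ∀ W' : Subgroup H, Nat.card W' = 2 ^ k → W' = W := by
  haveI : Fact (Nat.Prime 2) := ⟨by norm_num⟩
  obtain ⟨W, hW⟩ := Sylow.exists_subgroup_card_pow_prime (G := H) 2
    (show 2 ^ k ∣ Nat.card H from hH ▸ Dvd.intro_left 19 rfl)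
  refine ⟨W, hW, fun W' hW' => ?_⟩
  refine h40_unique_of_central Z hZc (2 ^ k) (by rw [hH, hZ]) ?_ W hW W' hW'
  rw [hZ]
  exact Nat.Coprime.pow_right k (by norm_num)

end Cfsg.Agent.Helper40.O459648
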