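import Mathlib
import Cfsg.Agent.Lib.Helper17.PrimeTIOrders
import Cfsg.Agent.Lib.Helper17.PrimeTIApp
import Cfsg.Agent.Lib.Helper17.PrimeTID
import Cfsg.Agent.Lib.Helper50.O5760XA4

/-!
# O6232 (N4960), helper17's server for S0983: no simple group of order `4960 = 2^5 * 5 * 31`

Characters at `p = 31` only. `n_31 = 32` is forced, `|N(P)| = 155`, `C(P) = P`, so `e = 5`, `t = 6` and
`Helper17.PrimeTI.prime_degree_equation_ext P 31 5 6` gives `6 * Σ a² + w² = 31`. Every nontrivial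
non-exceptional `ψ` with `a ψ ≠ 0` has `a ψ ∈ {±1, ±2}`, degree `x ∣ 4960`, `x ≡ a ψ mod 31`, `x ≠ 1`:
either `a ψ = 1`, `x = 32` or `a ψ = 2`, `x = 2`; the latter means `ψ k = ψ 1` on `P ∖ {1}`, impossible in a
simple group. So `Σ a ψ * ψ 1 = 1 + 32 * S` with `6 * (1 + S) + w² = 31`, and `1 + 32 * S + d * w = 0`
leaves only `d = 129`, which does not divide `4960`.
-/

set_option autoImplicit false
set_option linter.style.haveILetI false
set_option linter.unusedSectionVars false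

namespace Cfsg.Agent.Helper40.O6232

open Cfsg
open Cfsg.Agent.Helper17.PrimeTI

universe u

theorem count4960_aux : ∀ n ∈ Nat.divisors 160, n % 31 = 1 → n ≠ 1 → n * 5 = 160 := by
  decide +kernel

theorem arith4960_aux : ∀ x ∈ Nat.divisors 4960, x ≠ 1 →
    (x % 31 = 1 → x = 32) ∧ x % 31 ≠ 30 ∧ (x % 31 = 2 → x = 2) ∧ x % 31 ≠ 29 := by
  decide +kernel

theorem not_dvd4960_aux : ¬ 129 ∣ 4960 := by decide

/-- (N4960) No simple group has order `4960 = 2^5 * 5 * 31`. -/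
theorem no_4960 {G : Type u} [Group G] [Finite G] [IsSimpleGroup G] : Nat.card G ≠ 4960 := by
  intro hG
  classical
  haveI : Fact (Nat.Prime 31) := ⟨by norm_num⟩
  have := Fintype.ofFinite G
  obtain ⟨P⟩ : Nonempty (Sylow 31 G) := inferInstance
  obtain ⟨hP, hN, hC⟩ := forced_sylow 31 160 5 (by norm_num) (by rw [hG]) (by norm_num)
    (by norm_num) (fun n hn => count4960_aux n (Nat.mem_divisors.2 ⟨hn, by norm_num⟩)) P
  have hnp : ¬ (Nat.card G).Prime := by rw [hG]; norm_num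
  have hperf : commutator G = ⊤ := perfect_of_simple hnp
  obtain ⟨w, d, E, a, hEcard, hEdeg, hEne, haE, haK, hcong, hnorm, hdegeq, -, -⟩ :=
    prime_degree_equation_ext (P : Subgroup G) 31 5 6 hP hC hN (by norm_num) (by norm_num)
      (by norm_num)
  set ψ1 : IrrCharacter G := ⟨fun _ => 1, Cfsg.Agent.Helper81.isIrrCharacter_one⟩ with hψ1
  have hψ1E : ψ1 ∉ E := fun h => hEne ψ1 h rfl
  obtain ⟨k, hk, hk1⟩ := exists_ne_one_of_prime_card (p := 31) (P : Subgroup G) hP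
  have ha1 : a ψ1 = 1 := by
    have h := haK ψ1 hψ1E k hk hk1
    have h' : ((1 : ℤ) : ℂ) = ((a ψ1 : ℤ) : ℂ) := by
      rw [← h]; simp [hψ1]
    exact_mod_cast h'.symm
  have hdeg1 : charDegree (ψ1 : G → ℂ) = 1 := charDegree_one
  have hEne' : E.Nonempty := Finset.card_pos.1 (by omega : 0 < E.card)
  have hddvd : d ∣ 4960 := by
    obtain ⟨ψ, hψ⟩ := hEne'
    rw [← hEdeg ψ hψ, ← hG]
    exact Cfsg.Agent.Helper79.irr_degree_dvd_card ψ
  have hsplit1 := Finset.add_sum_erase Finset.univ (fun ψ => (a ψ) ^ 2) (Finset.mem_univ ψ1)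
  have hsplit2 := Finset.add_sum_erase Finset.univ
    (fun ψ => a ψ * (charDegree (ψ : G → ℂ) : ℤ)) (Finset.mem_univ ψ1)
  simp only [ha1, hdeg1] at hsplit1 hsplit2
  rw [← hsplit1] at hnorm
  rw [← hsplit2] at hdegeq
  have hS0 : 0 ≤ ∑ ψ ∈ Finset.univ.erase ψ1, (a ψ) ^ 2 :=
    Finset.sum_nonneg (fun i _ => sq_nonneg _)
  push_cast at hnorm hdegeq
  have hSle : ∑ ψ ∈ Finset.univ.erase ψ1, (a ψ) ^ 2 ≤ 4 := by nlinarith [sq_nonneg w]
  have hkey : ∀ ψ ∈ Finset.univ.erase ψ1,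
      a ψ = 0 ∨ (a ψ = 1 ∧ charDegree (ψ : G → ℂ) = 32) := by
    intro ψ hψ
    by_cases h0 : a ψ = 0
    · left; exact h0
    right
    have hne1 : ψ ≠ ψ1 := (Finset.mem_erase.1 hψ).1
    have hψE : ψ ∉ E := fun h => h0 (haE ψ h)
    have hsq : (a ψ) ^ 2 ≤ ∑ ψ ∈ Finset.univ.erase ψ1, (a ψ) ^ 2 :=
      Finset.single_le_sum (f := fun ψ => (a ψ) ^ 2) (fun i _ => sq_nonneg _) hψ
    have hale : a ψ ≤ 2 := by nlinarith
    have hage : -2 ≤ a ψ := by nlinarith
    have hx : (31 : ℤ) ∣ (charDegree (ψ : G → ℂ) : ℤ) - a ψ := by exact_mod_cast hcong ψ hψE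
    have hxd : charDegree (ψ : G → ℂ) ∣ 4960 := by
      rw [← hG]; exact Cfsg.Agent.Helper79.irr_degree_dvd_card ψ
    have hx1 : charDegree (ψ : G → ℂ) ≠ 1 := by
      intro h
      apply hne1
      apply Subtype.ext
      exact linear_trivial_of_perfect hperf ψ h
    have hmem : charDegree (ψ : G → ℂ) ∈ Nat.divisors 4960 :=
      Nat.mem_divisors.2 ⟨hxd, by norm_num⟩
    obtain ⟨h1, h2, h3, h4⟩ := arith4960_aux _ hmem hx1
    have hmod := Int.emod_eq_zero_of_dvd hx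
    have hcases : a ψ = -2 ∨ a ψ = -1 ∨ a ψ = 1 ∨ a ψ = 2 := by omega
    rcases hcases with h | h | h | h
    · exfalso; rw [h] at hmod; apply h4; omega
    · exfalso; rw [h] at hmod; apply h2; omega
    · refine ⟨h, h1 ?_⟩; rw [h] at hmod; omega
    · exfalso
      rw [h] at hmod
      have hdeg2 : charDegree (ψ : G → ℂ) = 2 := h3 (by omega)
      have hval := haK ψ hψE k hk hk1
      refine Cfsg.Agent.Helper50.O5760X.a_faithful hnp ψ ?_ k hk1 ?_
      · intro hψ1'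
        apply hne1; apply Subtype.ext; exact hψ1'
      · rw [hval, h, hdeg2]; norm_num
  have hsum : ∑ ψ ∈ Finset.univ.erase ψ1, a ψ * (charDegree (ψ : G → ℂ) : ℤ) =
      32 * ∑ ψ ∈ Finset.univ.erase ψ1, (a ψ) ^ 2 := by
    rw [Finset.mul_sum]
    apply Finset.sum_congr rfl
    intro ψ hψ
    rcases hkey ψ hψ with h | ⟨h, hd⟩
    · rw [h]; ring
    · rw [h, hd]; norm_num
  rw [hsum] at hdegeq
  have hd0 : (0 : ℤ) ≤ d := by positivity
  have hwle : w ≤ 5 := by nlinarith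
  have hwge : -5 ≤ w := by nlinarith
  generalize ∑ ψ ∈ Finset.univ.erase ψ1, (a ψ) ^ 2 = S at *
  have hd129 : (d : ℤ) = 129 := by
    interval_cases w <;> omega
  apply not_dvd4960_aux
  have : d = 129 := by exact_mod_cast hd129
  rw [← this]
  exact hddvd

end Cfsg.Agent.Helper40.O6232
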