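import Cfsg.Agent.Lib.Helper43.Tri.Field
import Cfsg.Agent.Lib.Helper43.OGam3

/-!
# helper40: octonion side of S2608 (for helper87): symmetries of related triples

`Rel a b c` means `a (x y) = b(x) c(y)`.  With `hat g = κ g κ` (`κ` the octonion conjugation):
`Rel a b c → Rel (hat a) (hat c) (hat b)` and (char ≠ 2) `Rel a b c → Rel b a (hat c)`.
-/

set_option autoImplicit false
set_option linter.unusedSectionVars false
set_option linter.unusedVariables false

namespace Cfsg.Agent.Helper40.OP8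

open Matrix QuadraticMap Cfsg.Agent.Helper13 Cfsg.Agent.Helper43 Cfsg.Agent.Helper5.OAut Module
open Cfsg.Agent.Helper43.OGam Cfsg.Agent.Helper43.Tri Cfsg.Agent.Helper43.TriSigs

variable {F : Type*} [Field F]

theorem o8_Q_smul (g : O8 F) (v : OV F) : stdPlus F 4 (g • v) = stdPlus F 4 v :=
  O_Q_smul (stdPlus F 4) g v

theorem o8_smul_smul (g : O8 F) (c : F) (v : OV F) : g • (c • v) = c • (g • v) :=
  O_smul_smul_comm (stdPlus F 4) g c v

theorem N_oone_ne0 : stdPlus F 4 (oone : OV F) ≠ 0 := by rw [N_oone]; exact one_ne_zero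

/-- octonion conjugation as an isometry -/
noncomputable def kapIso : O8 F :=
  mkIso (stdPlus F 4) Km Km
    (by
      apply LinearMap.ext
      intro x
      simp only [LinearMap.comp_apply, Km_apply, oconj_oconj, LinearMap.id_apply])
    (by
      apply LinearMap.ext
      intro x
      simp only [LinearMap.comp_apply, Km_apply, oconj_oconj, LinearMap.id_apply])
    (fun x => by rw [Km_apply]; exact N_oconj x)

theorem kapIso_smul (x : OV F) : (kapIso : O8 F) • x = oconj x := by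
  unfold kapIso
  rw [mkIso_smul]
  rfl

theorem kapIso_mul_self : (kapIso : O8 F) * kapIso = 1 := by
  apply O_ext (stdPlus F 4)
  intro x
  refine (mul_smul (kapIso : O8 F) kapIso (x : OV F)).trans ?_
  rw [kapIso_smul, kapIso_smul, oconj_oconj]
  exact (one_smul _ _).symm

/-- `κ g κ` -/
noncomputable def hat (g : O8 F) : O8 F := kapIso * g * kapIso

theorem hat_smul (g : O8 F) (x : OV F) : hat g • x = oconj (g • oconj x) := by
  unfold hat
  rw [mul_smul, mul_smul, kapIso_smul, kapIso_smul]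

theorem hat_hat (g : O8 F) : hat (hat g) = g := by
  apply O_ext (stdPlus F 4)
  intro x
  show hat (hat g) • (x : OV F) = g • (x : OV F)
  rw [hat_smul, hat_smul, oconj_oconj, oconj_oconj]

theorem hat_mem_omega {g : O8 F} (hg : g ∈ Cfsg.Omega F ⇑(stdPlus F 4)) :
    hat g ∈ Cfsg.Omega F ⇑(stdPlus F 4) := by
  have hinv : (kapIso : O8 F)⁻¹ = kapIso := inv_eq_of_mul_eq_one_right kapIso_mul_self
  have hn : (Cfsg.Omega F ⇑(stdPlus F 4)).Normal := inferInstance
  have := hn.conj_mem g hg kapIso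
  rwa [hinv] at this

theorem rel_hat {a b c : O8 F} (h : Rel a b c) : Rel (hat a) (hat c) (hat b) := by
  intro x y
  rw [hat_smul, hat_smul, hat_smul, oconj_omul, h (oconj y) (oconj x), oconj_omul]

theorem oconj_neg' (x : OV F) : oconj (-x) = -oconj x := by
  have := oconj_smul (-1 : F) x
  simpa using this

theorem N_add (x y : OV F) : stdPlus F 4 (x + y) =
    stdPlus F 4 x + stdPlus F 4 y + polar (⇑(stdPlus F 4)) x y := by
  unfold polar
  ring

/-- a function that is additive, homogeneous and vanishes on nonsingular vectors vanishes -/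
theorem eq_zero_of_nonsing (h2 : (2 : F) ≠ 0) (D : OV F → OV F)
    (hadd : ∀ y z, D (y + z) = D y + D z) (hsmul : ∀ (c : F) y, D (c • y) = c • D y)
    (h : ∀ y, stdPlus F 4 y ≠ 0 → D y = 0) : ∀ y, D y = 0 := by
  intro y
  by_cases hy : stdPlus F 4 y = 0
  · have h1 : D oone = 0 := h oone N_oone_ne0
    have hc : ∀ c : F, c * (c + polar (⇑(stdPlus F 4)) y oone) ≠ 0 → D y = 0 := by
      intro c hc
      have h3 : stdPlus F 4 (y + c • oone) ≠ 0 := by
        rw [N_add, hy, QuadraticMap.map_smul, N_oone, polar_smul_right, smul_eq_mul, smul_eq_mul]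
        intro h4
        apply hc
        linear_combination h4
      have h5 := h _ h3
      rw [hadd, hsmul, h1, smul_zero, add_zero] at h5
      exact h5
    by_cases ht : polar (⇑(stdPlus F 4)) y oone = 0
    · apply hc 1
      rw [ht]
      simp
    · apply hc (polar (⇑(stdPlus F 4)) y oone)
      have : polar (⇑(stdPlus F 4)) y oone + polar (⇑(stdPlus F 4)) y oone =
          2 * polar (⇑(stdPlus F 4)) y oone := by ring
      rw [this]
      exact mul_ne_zero ht (mul_ne_zero h2 ht)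
  · exact h y hy

theorem rel_swap (h2 : (2 : F) ≠ 0) {a b c : O8 F} (h : Rel a b c) : Rel b a (hat c) := by
  have key : ∀ x y : OV F, stdPlus F 4 y • (b • omul x y) =
      stdPlus F 4 y • omul (a • x) (hat c • y) := by
    intro x y
    have h1 := h (omul x y) (oconj y)
    rw [omul_omul_oconj] at h1
    have h3 : omul (omul (b • omul x y) (c • oconj y)) (oconj (c • oconj y)) =
        stdPlus F 4 (c • oconj y) • (b • omul x y) := omul_omul_oconj _ _
    rw [← h1, o8_Q_smul, N_oconj, o8_smul_smul, omul_smul_left] at h3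
    rw [hat_smul]
    exact h3.symm
  intro x y
  have hD := eq_zero_of_nonsing h2 (fun y => b • omul x y - omul (a • x) (hat c • y))
    (by
      intro y z
      show b • omul x (y + z) - omul (a • x) (hat c • (y + z)) = _
      rw [omul_add_right, smul_add, smul_add, omul_add_right]
      abel)
    (by
      intro d y
      show b • omul x (d • y) - omul (a • x) (hat c • (d • y)) = _
      rw [omul_smul_right, o8_smul_smul, o8_smul_smul, omul_smul_right, smul_sub])
    (by
      intro y hy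
      show b • omul x y - omul (a • x) (hat c • y) = 0
      rw [sub_eq_zero]
      exact smul_right_injective _ hy (key x y))
    y
  exact sub_eq_zero.1 hD

section fin

variable [Fintype F]

/-- perfectness trick, all three components in `Ω` -/
def perfDom3 : Subgroup (O8 F) where
  carrier := {g₀ | ∃ g₁ ∈ Cfsg.Omega F ⇑(stdPlus F 4), ∃ g₂ ∈ Cfsg.Omega F ⇑(stdPlus F 4),
    Rel g₀ g₁ g₂}
  one_mem' := ⟨1, Subgroup.one_mem _, 1, Subgroup.one_mem _, Rel.one⟩
  mul_mem' := by
    rintro a b ⟨a1, ha1, a2, ha2, ha⟩ ⟨b1, hb1, b2, hb2, hb⟩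
    exact ⟨a1 * b1, Subgroup.mul_mem _ ha1 hb1, a2 * b2, Subgroup.mul_mem _ ha2 hb2, ha.mul hb⟩
  inv_mem' := by
    rintro a ⟨a1, ha1, a2, ha2, ha⟩
    exact ⟨a1⁻¹, Subgroup.inv_mem _ ha1, a2⁻¹, Subgroup.inv_mem _ ha2, ha.inv⟩

theorem exists_rel_omega3 :
    ∀ g₀ ∈ Cfsg.Omega F ⇑(stdPlus F 4), ∃ g₁ ∈ Cfsg.Omega F ⇑(stdPlus F 4),
      ∃ g₂ ∈ Cfsg.Omega F ⇑(stdPlus F 4), Rel g₀ g₁ g₂ := by
  have hperf := hperf4 (F := F)
  have hgen := rel_of_mem_omega (F := F)
  have h1 : ⁅Cfsg.Omega F ⇑(stdPlus F 4), Cfsg.Omega F ⇑(stdPlus F 4)⁆ =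
      Cfsg.Omega F ⇑(stdPlus F 4) := by
    rw [← Subgroup.map_subtype_commutator, hperf, ← MonoidHom.range_eq_map,
      Subgroup.range_subtype]
  have h2 : ⁅Cfsg.Omega F ⇑(stdPlus F 4), Cfsg.Omega F ⇑(stdPlus F 4)⁆ ≤
      (perfDom3 : Subgroup (O8 F)) := by
    rw [Subgroup.commutator_le]
    intro a ha b hb
    obtain ⟨a1, a2, hra⟩ := hgen a ha
    obtain ⟨b1, b2, hrb⟩ := hgen b hb
    refine ⟨a1 * b1 * a1⁻¹ * b1⁻¹, ?_, a2 * b2 * a2⁻¹ * b2⁻¹, ?_, ?_⟩
    · have := Subgroup.commutator_mem_commutator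
        (Subgroup.mem_top (a1 : ↥(Cfsg.isometryGroup F ⇑(stdPlus F 4))))
        (Subgroup.mem_top (b1 : ↥(Cfsg.isometryGroup F ⇑(stdPlus F 4))))
      rwa [commutatorElement_def] at this
    · have := Subgroup.commutator_mem_commutator
        (Subgroup.mem_top (a2 : ↥(Cfsg.isometryGroup F ⇑(stdPlus F 4))))
        (Subgroup.mem_top (b2 : ↥(Cfsg.isometryGroup F ⇑(stdPlus F 4))))
      rwa [commutatorElement_def] at this
    · rw [commutatorElement_def]
      exact ((hra.mul hrb).mul hra.inv).mul hrb.inv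
  intro g₀ hg₀
  rw [← h1] at hg₀
  exact h2 hg₀

/-- in a related triple whose first two components lie in `Ω`, so does the third -/
theorem rel_third_mem {g₀ g₁ g₂ : O8 F} (h0 : g₀ ∈ Cfsg.Omega F ⇑(stdPlus F 4))
    (h1 : g₁ ∈ Cfsg.Omega F ⇑(stdPlus F 4)) (h : Rel g₀ g₁ g₂) :
    g₂ ∈ Cfsg.Omega F ⇑(stdPlus F 4) := by
  obtain ⟨k₁, hk₁, k₂, hk₂, hk⟩ := exists_rel_omega3 g₀ h0
  obtain ⟨c, hc⟩ := rel_unique nucleus hk h
  -- c * c = 1
  have hcc : c * c = 1 := by
    have e1 := o8_Q_smul g₁ oone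
    rw [hc oone, QuadraticMap.map_smul, o8_Q_smul, N_oone, smul_eq_mul, mul_one] at e1
    exact e1
  have hc0 : c ≠ 0 := by
    rintro rfl
    rw [zero_mul] at hcc
    exact zero_ne_one hcc
  -- the third components
  have h3 : ∀ y : OV F, c • (g₂ • y) = k₂ • y := by
    intro y
    have e1 := h (k₁⁻¹ • oone) y
    have e2 := hk (k₁⁻¹ • oone) y
    rw [e2, hc, smul_inv_smul, omul_smul_left, oone_omul, oone_omul] at e1
    exact e1.symm
  have h4 : g₂ = g₁ * k₁⁻¹ * k₂ := by
    apply O_ext (stdPlus F 4)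
    intro y
    refine Eq.trans ?_ (mul_smul (g₁ * k₁⁻¹) k₂ (y : OV F)).symm
    refine Eq.trans ?_ (mul_smul g₁ k₁⁻¹ (k₂ • (y : OV F))).symm
    rw [hc, smul_inv_smul, ← h3 y, smul_smul, hcc, one_smul]
    rfl
  rw [h4]
  exact Subgroup.mul_mem _ (Subgroup.mul_mem _ h1 (Subgroup.inv_mem _ hk₁)) hk₂

/-- the graph automorphism `rAut` acts as `g ↦ κ g κ` -/
theorem rAut_prj (g : ↥(Cfsg.Omega F ⇑(stdPlus F 4))) :
    (rAut : MulAut (Cfsg.POmega F ⇑(stdPlus F 4))) (prj (stdPlus F 4) g) =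
      prj (stdPlus F 4) ⟨hat (g : O8 F), hat_mem_omega g.2⟩ := by
  unfold rAut
  apply Theta_spec
  intro x
  have hr : ∀ z : OV F, reflIso (stdPlus F 4) (N_oone_ne (F := F)) • z = -oconj z := by
    intro z
    rw [Cfsg.Agent.Helper66.Tri.rb_refl_smul, N_oone, omul_oone, oone_omul]
    simp
  show hat (g : O8 F) • (reflIso (stdPlus F 4) (N_oone_ne (F := F)) • (x : OV F)) =
    reflIso (stdPlus F 4) (N_oone_ne (F := F)) • ((g : O8 F) • (x : OV F))
  rw [hr, hr, hat_smul, oconj_neg', oconj_oconj, smul_neg, oconj_neg']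

end fin

end Cfsg.Agent.Helper40.OP8
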