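import Cfsg.Agent.Lib.Helper40.OP8Z2

/-!
# helper40: the elements `r, t, z` of `Out(PΩ⁺₈(q))`, `q` odd, with the relations needed for
`Out ≅ S₄ × C_f` (S2608, helper87's GS4 picture)
-/

set_option autoImplicit false
set_option linter.unusedSectionVars false
set_option linter.unusedVariables false

namespace Cfsg.Agent.Helper40.OP8

open Matrix QuadraticMap Cfsg.Agent.Helper13 Cfsg.Agent.Helper43 Cfsg.Agent.Helper5.OAut Module
open Cfsg.Agent.Helper43.OGam Cfsg.Agent.Helper43.Tri Cfsg.Agent.Helper5.OrthAut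
open Cfsg.Agent.Helper43.OMin Cfsg.Agent.Helper40.AutPOm

variable {F : Type*} [Field F] [Fintype F]

/-- the projection `Aut → Out` -/
noncomputable abbrev mkOut : MulAut (Cfsg.POmega F ⇑(stdPlus F 4)) →*
    Cfsg.Out (Cfsg.POmega F ⇑(stdPlus F 4)) :=
  QuotientGroup.mk' (Cfsg.Inn (Cfsg.POmega F ⇑(stdPlus F 4)))

theorem mkOut_eq_one_iff (α : MulAut (Cfsg.POmega F ⇑(stdPlus F 4))) :
    mkOut α = 1 ↔ α ∈ Cfsg.Inn (Cfsg.POmega F ⇑(stdPlus F 4)) :=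
  QuotientGroup.eq_one_iff α

set_option maxHeartbeats 1600000 in
theorem mkOut_mem_map_iff (S : Subgroup (MulAut (Cfsg.POmega F ⇑(stdPlus F 4))))
    (hS : Cfsg.Inn (Cfsg.POmega F ⇑(stdPlus F 4)) ≤ S)
    (α : MulAut (Cfsg.POmega F ⇑(stdPlus F 4))) :
    mkOut α ∈ S.map mkOut ↔ α ∈ S := by
  constructor
  · rintro ⟨β, hβ, hβα⟩
    have h1 : β⁻¹ * α ∈ Cfsg.Inn (Cfsg.POmega F ⇑(stdPlus F 4)) :=
      (QuotientGroup.eq (s := Cfsg.Inn (Cfsg.POmega F ⇑(stdPlus F 4)))).1 hβα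
    have h2 : α = β * (β⁻¹ * α) := by group
    rw [h2]
    exact S.mul_mem hβ (hS h1)
  · intro h
    exact ⟨α, h, rfl⟩

set_option maxHeartbeats 3200000 in
/-- **the `S₃`-part of `Out(PΩ⁺₈(q))` and the central involution of `PGO/PΩ`**, `q` odd.
`H` = image of `PΓO`, `N` = image of `PGO`, `P` = image of `PSO`. -/
theorem out8_rtz (hodd : Odd (Fintype.card F)) :
    ∃ r t z : Cfsg.Out (Cfsg.POmega F ⇑(stdPlus F 4)),
      r ∈ (Cfsg.pgoAut F ⇑(stdPlus F 4)).map mkOut ∧ r * r = 1 ∧ t ^ 3 = 1 ∧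
      r * t * r = t⁻¹ ∧ t ∉ (Cfsg.gammaPOmega F ⇑(stdPlus F 4)).map mkOut ∧
      (∃ g, g * r * g⁻¹ ∉ (Cfsg.gammaPOmega F ⇑(stdPlus F 4)).map mkOut) ∧
      z ∈ (Cfsg.psoAut F ⇑(stdPlus F 4)).map mkOut ∧ z * z = 1 ∧ t * z ≠ z * t ∧
      t * z * t⁻¹ ∈ (Cfsg.pgoAut F ⇑(stdPlus F 4)).map mkOut ∧
      t * z * t⁻¹ ∉ (Cfsg.psoAut F ⇑(stdPlus F 4)).map mkOut ∧
      (∀ σ : ↥(QAut (⇑(stdPlus F 4))),
        r * mkOut (fieldAutPOm (⇑(stdPlus F 4)) σ) = mkOut (fieldAutPOm (⇑(stdPlus F 4)) σ) * r ∧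
        t * mkOut (fieldAutPOm (⇑(stdPlus F 4)) σ) = mkOut (fieldAutPOm (⇑(stdPlus F 4)) σ) * t) := by
  classical
  have h2 : (2 : F) ≠ 0 := by
    intro h
    have hc : ringChar F = 2 := by
      have := (ringChar.spec F 2).1 (by exact_mod_cast h)
      exact (Nat.prime_dvd_prime_iff_eq (CharP.char_is_prime F (ringChar F)) Nat.prime_two).1 this
    have := FiniteField.even_card_of_char_two hc
    rcases hodd with ⟨k, hk⟩
    omega
  obtain ⟨τ, c, hτ, hτrel, hτex, hc, hrτ⟩ := triality_data (F := F)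
  obtain ⟨z, hzpso, hzz, hzpgo, hznpso, hzcomm⟩ := exists_zAut hodd τ hτrel hτex
  have hInnΓ : Cfsg.Inn (Cfsg.POmega F ⇑(stdPlus F 4)) ≤ Cfsg.gammaPOmega F ⇑(stdPlus F 4) :=
    Cfsg.Agent.Helper16.OSemiAut.inn_le_gamma (stdPlus F 4)
  have hInnP : Cfsg.Inn (Cfsg.POmega F ⇑(stdPlus F 4)) ≤ Cfsg.psoAut F ⇑(stdPlus F 4) :=
    inn_le_psoAut (stdPlus F 4)
  have hrpgo : (rAut : MulAut (Cfsg.POmega F ⇑(stdPlus F 4))) ∈ Cfsg.pgoAut F ⇑(stdPlus F 4) := by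
    rw [← Cfsg.Agent.Helper14.OrthAutCount.map_Lin_eq_pgoAut]
    refine ⟨_, ?_, rfl⟩
    exact isoGamHom_mem_Lin (stdPlus F 4) _
  refine ⟨mkOut rAut, mkOut (τ * rAut), mkOut z, ⟨rAut, hrpgo, rfl⟩, ?_, ?_, ?_, ?_, ?_,
    ⟨z, hzpso, rfl⟩, ?_, ?_, ?_, ?_, ?_⟩
  · rw [← map_mul, rAut_sq, map_one]
  · rw [← map_pow, pow_succ, pow_two, tau_rAut_cube h2 τ hτrel hτex, map_one]
  · rw [← map_mul, ← map_mul, rAut_conj_rho h2 τ hτrel hτex, map_inv]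
  · rw [mkOut_mem_map_iff _ hInnΓ]
    intro h
    apply hτ
    have : τ = (τ * rAut) * rAut⁻¹ := by group
    rw [this]
    exact Subgroup.mul_mem _ h (Subgroup.inv_mem _ rAut_mem)
  · refine ⟨mkOut τ⁻¹, ?_⟩
    rw [← map_inv, inv_inv, ← map_mul, ← map_mul, mkOut_mem_map_iff _ hInnΓ]
    exact hrτ
  · rw [← map_mul, ← map_one mkOut]
    exact (QuotientGroup.eq_one_iff _).2 hzz |>.trans (map_one mkOut).symm
  · intro h
    apply hzcomm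
    have h1 : mkOut ((τ * rAut) * z * (τ * rAut)⁻¹ * z⁻¹) = 1 := by
      rw [map_mul, map_mul, map_mul, map_inv, map_inv, h]
      group
    exact (QuotientGroup.eq_one_iff _).1 h1
  · rw [← map_inv, ← map_mul, ← map_mul]
    exact ⟨_, hzpgo, rfl⟩
  · rw [← map_inv, ← map_mul, ← map_mul, mkOut_mem_map_iff _ hInnP]
    exact hznpso
  · intro σ
    refine ⟨?_, ?_⟩
    · rw [← map_mul, ← map_mul, rAut_comm_field]
    · rw [← map_mul, ← map_mul]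
      congr 1
      rw [mul_assoc, rAut_comm_field, ← mul_assoc, tau_comm_field τ hτrel hτex, mul_assoc]

end Cfsg.Agent.Helper40.OP8
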