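import Cfsg.Agent.Lib.Helper40.OP8Oct

/-!
# helper40: (X6) for S2608 (helper87): triality is an involution and `τ * rAut` has order three
-/

set_option autoImplicit false
set_option linter.unusedSectionVars false
set_option linter.unusedVariables false

namespace Cfsg.Agent.Helper40.OP8

open Matrix QuadraticMap Cfsg.Agent.Helper13 Cfsg.Agent.Helper43 Cfsg.Agent.Helper5.OAut Module
open Cfsg.Agent.Helper43.OGam Cfsg.Agent.Helper43.Tri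

variable {F : Type*} [Field F] [Fintype F]

/-- (X6a) triality is an involution -/
theorem tau_sq (h2 : (2 : F) ≠ 0) (τ : MulAut (Cfsg.POmega F ⇑(stdPlus F 4)))
    (hτrel : ∀ (g₀ g₁ : ↥(Cfsg.Omega F ⇑(stdPlus F 4))) (g₂ : O8 F),
      Rel (g₀ : O8 F) (g₁ : O8 F) g₂ → τ (prj (stdPlus F 4) g₀) = prj (stdPlus F 4) g₁)
    (hτex : ∀ g₀ : ↥(Cfsg.Omega F ⇑(stdPlus F 4)), ∃ (g₁ : ↥(Cfsg.Omega F ⇑(stdPlus F 4)))
      (g₂ : O8 F), Rel (g₀ : O8 F) (g₁ : O8 F) g₂) :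
    τ * τ = 1 := by
  apply MulEquiv.ext
  intro x
  obtain ⟨g₀, rfl⟩ := prj_surjective (Q := stdPlus F 4) x
  obtain ⟨g₁, g₂, hr⟩ := hτex g₀
  rw [MulAut.mul_apply, hτrel g₀ g₁ g₂ hr, hτrel g₁ g₀ (hat g₂) (rel_swap h2 hr)]
  rfl

/-- the action of `τ * rAut` on the first component of a related triple in `Ω` -/
theorem rho_apply (τ : MulAut (Cfsg.POmega F ⇑(stdPlus F 4)))
    (hτrel : ∀ (g₀ g₁ : ↥(Cfsg.Omega F ⇑(stdPlus F 4))) (g₂ : O8 F),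
      Rel (g₀ : O8 F) (g₁ : O8 F) g₂ → τ (prj (stdPlus F 4) g₀) = prj (stdPlus F 4) g₁)
    (g₀ g₁ g₂ k : O8 F) (h0 : g₀ ∈ Cfsg.Omega F ⇑(stdPlus F 4))
    (h1 : g₁ ∈ Cfsg.Omega F ⇑(stdPlus F 4)) (hr : Rel g₀ g₁ g₂) (hk : k = hat g₂)
    (hkΩ : k ∈ Cfsg.Omega F ⇑(stdPlus F 4)) :
    (τ * (rAut : MulAut (Cfsg.POmega F ⇑(stdPlus F 4)))) (prj (stdPlus F 4) ⟨g₀, h0⟩) =
      prj (stdPlus F 4) ⟨k, hkΩ⟩ := by
  subst hk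
  rw [MulAut.mul_apply, rAut_prj]
  exact hτrel ⟨hat g₀, hat_mem_omega h0⟩ ⟨hat g₂, hkΩ⟩ (hat g₁) (rel_hat hr)

/-- (X6b) triality times the reflection in `1` has order three -/
theorem tau_rAut_cube (h2 : (2 : F) ≠ 0) (τ : MulAut (Cfsg.POmega F ⇑(stdPlus F 4)))
    (hτrel : ∀ (g₀ g₁ : ↥(Cfsg.Omega F ⇑(stdPlus F 4))) (g₂ : O8 F),
      Rel (g₀ : O8 F) (g₁ : O8 F) g₂ → τ (prj (stdPlus F 4) g₀) = prj (stdPlus F 4) g₁)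
    (hτex : ∀ g₀ : ↥(Cfsg.Omega F ⇑(stdPlus F 4)), ∃ (g₁ : ↥(Cfsg.Omega F ⇑(stdPlus F 4)))
      (g₂ : O8 F), Rel (g₀ : O8 F) (g₁ : O8 F) g₂) :
    (τ * rAut) * (τ * rAut) * (τ * rAut) = 1 := by
  apply MulEquiv.ext
  intro x
  obtain ⟨⟨g₀, h0⟩, rfl⟩ := prj_surjective (Q := stdPlus F 4) x
  obtain ⟨⟨g₁, h1⟩, g₂, hr⟩ := hτex ⟨g₀, h0⟩
  have hr : Rel g₀ g₁ g₂ := hr
  have h2Ω : g₂ ∈ Cfsg.Omega F ⇑(stdPlus F 4) := rel_third_mem h0 h1 hr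
  have e1 := rho_apply τ hτrel g₀ g₁ g₂ (hat g₂) h0 h1 hr rfl (hat_mem_omega h2Ω)
  have e2 := rho_apply τ hτrel (hat g₂) (hat g₀) (hat (hat g₁)) (hat g₁) (hat_mem_omega h2Ω)
    (hat_mem_omega h0) (rel_swap h2 (rel_hat hr)) (hat_hat _).symm (hat_mem_omega h1)
  have e3 := rho_apply τ hτrel (hat g₁) (hat (hat g₂)) (hat g₀) g₀ (hat_mem_omega h1)
    (hat_mem_omega (hat_mem_omega h2Ω)) (rel_hat (rel_swap h2 hr)) (hat_hat _).symm h0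
  rw [MulAut.mul_apply, MulAut.mul_apply, e1, e2, e3]
  rfl

end Cfsg.Agent.Helper40.OP8
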