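import Cfsg.Agent.Lib.Helper40.OP8X6

/-!
# helper40: more of (X6) for S2608: `rAut * rAut = 1`, the braid relation, `rAut t rAut = t⁻¹`
-/

set_option autoImplicit false
set_option linter.unusedSectionVars false
set_option linter.unusedVariables false

namespace Cfsg.Agent.Helper40.OP8

open Matrix QuadraticMap Cfsg.Agent.Helper13 Cfsg.Agent.Helper43 Cfsg.Agent.Helper5.OAut Module
open Cfsg.Agent.Helper43.OGam Cfsg.Agent.Helper43.Tri

variable {F : Type*} [Field F] [Fintype F]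

/-- the graph automorphism `rAut` is an involution -/
theorem rAut_sq : (rAut : MulAut (Cfsg.POmega F ⇑(stdPlus F 4))) * rAut = 1 := by
  apply MulEquiv.ext
  intro x
  obtain ⟨⟨g₀, h0⟩, rfl⟩ := prj_surjective (Q := stdPlus F 4) x
  rw [MulAut.mul_apply, rAut_prj, rAut_prj, MulAut.one_apply]
  congr 1
  exact Subtype.ext (hat_hat g₀)

/-- with `t = τ * rAut`: `rAut * t * rAut = t⁻¹` -/
theorem rAut_conj_rho (h2 : (2 : F) ≠ 0) (τ : MulAut (Cfsg.POmega F ⇑(stdPlus F 4)))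
    (hτrel : ∀ (g₀ g₁ : ↥(Cfsg.Omega F ⇑(stdPlus F 4))) (g₂ : O8 F),
      Rel (g₀ : O8 F) (g₁ : O8 F) g₂ → τ (prj (stdPlus F 4) g₀) = prj (stdPlus F 4) g₁)
    (hτex : ∀ g₀ : ↥(Cfsg.Omega F ⇑(stdPlus F 4)), ∃ (g₁ : ↥(Cfsg.Omega F ⇑(stdPlus F 4)))
      (g₂ : O8 F), Rel (g₀ : O8 F) (g₁ : O8 F) g₂) :
    rAut * (τ * rAut) * rAut = (τ * rAut)⁻¹ := by
  have h1 := tau_sq h2 τ hτrel hτex
  have h3 := rAut_sq (F := F)
  rw [eq_inv_iff_mul_eq_one]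
  calc rAut * (τ * rAut) * rAut * (τ * rAut)
      = rAut * τ * (rAut * rAut) * (τ * rAut) := by group
    _ = rAut * (τ * τ) * rAut := by rw [h3]; group
    _ = 1 := by rw [h1, mul_one, h3]

/-- the braid relation `τ r τ = r τ r` -/
theorem tau_rAut_braid (h2 : (2 : F) ≠ 0) (τ : MulAut (Cfsg.POmega F ⇑(stdPlus F 4)))
    (hτrel : ∀ (g₀ g₁ : ↥(Cfsg.Omega F ⇑(stdPlus F 4))) (g₂ : O8 F),
      Rel (g₀ : O8 F) (g₁ : O8 F) g₂ → τ (prj (stdPlus F 4) g₀) = prj (stdPlus F 4) g₁)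
    (hτex : ∀ g₀ : ↥(Cfsg.Omega F ⇑(stdPlus F 4)), ∃ (g₁ : ↥(Cfsg.Omega F ⇑(stdPlus F 4)))
      (g₂ : O8 F), Rel (g₀ : O8 F) (g₁ : O8 F) g₂) :
    τ * rAut * τ = rAut * τ * rAut := by
  have h1 := tau_sq h2 τ hτrel hτex
  have h3 := rAut_sq (F := F)
  have hc := tau_rAut_cube h2 τ hτrel hτex
  -- (τ r)(τ r)(τ r) = 1 ⟹ τ r τ = (r τ r)⁻¹ = r τ r
  have hinv : (rAut * τ * rAut : MulAut (Cfsg.POmega F ⇑(stdPlus F 4)))⁻¹ = rAut * τ * rAut := by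
    rw [inv_eq_iff_mul_eq_one]
    calc rAut * τ * rAut * (rAut * τ * rAut) = rAut * τ * (rAut * rAut) * τ * rAut := by group
      _ = rAut * (τ * τ) * rAut := by rw [h3]; group
      _ = 1 := by rw [h1, mul_one, h3]
  rw [← hinv, eq_inv_iff_mul_eq_one]
  calc τ * rAut * τ * (rAut * τ * rAut) = (τ * rAut) * (τ * rAut) * (τ * rAut) := by group
    _ = 1 := hc

end Cfsg.Agent.Helper40.OP8
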