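import Cfsg.Agent.Lib.Helper40.OP8Oct

/-!
# helper40: (X7), octonion half, for S2608 (helper87): triality conjugates the product of two
reflections `r_a r_b` to the linear similitude `x ↦ a(b̄x)` (multiplier `N(a) N(b)`)
-/

set_option autoImplicit false
set_option linter.unusedSectionVars false
set_option linter.unusedVariables false

namespace Cfsg.Agent.Helper40.OP8

open Matrix QuadraticMap Cfsg.Agent.Helper13 Cfsg.Agent.Helper43 Cfsg.Agent.Helper5.OAut Module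
open Cfsg.Agent.Helper43.OGam Cfsg.Agent.Helper43.Tri Cfsg.Agent.Helper66.Tri

variable {F : Type*} [Field F]

/-- `x ↦ a(b̄x)` as a bijection -/
noncomputable def simLPerm (a b : OV F) (ha : stdPlus F 4 a ≠ 0) (hb : stdPlus F 4 b ≠ 0) :
    Equiv.Perm (OV F) where
  toFun x := omul a (omul (oconj b) x)
  invFun x := (stdPlus F 4 a * stdPlus F 4 b)⁻¹ • omul b (omul (oconj a) x)
  left_inv x := by
    show (stdPlus F 4 a * stdPlus F 4 b)⁻¹ •
      omul b (omul (oconj a) (omul a (omul (oconj b) x))) = x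
    rw [rb_L b a x, smul_smul, inv_mul_cancel₀ (mul_ne_zero ha hb), one_smul]
  right_inv x := by
    show omul a (omul (oconj b)
      ((stdPlus F 4 a * stdPlus F 4 b)⁻¹ • omul b (omul (oconj a) x))) = x
    rw [omul_smul_right, omul_smul_right, rb_L a b x, smul_smul, mul_comm (stdPlus F 4 b),
      inv_mul_cancel₀ (mul_ne_zero ha hb), one_smul]

/-- `y ↦ (yb̄)a` as a bijection -/
noncomputable def simRPerm (a b : OV F) (ha : stdPlus F 4 a ≠ 0) (hb : stdPlus F 4 b ≠ 0) :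
    Equiv.Perm (OV F) where
  toFun y := omul (omul y (oconj b)) a
  invFun y := (stdPlus F 4 a * stdPlus F 4 b)⁻¹ • omul (omul y (oconj a)) b
  left_inv y := by
    show (stdPlus F 4 a * stdPlus F 4 b)⁻¹ •
      omul (omul (omul (omul y (oconj b)) a) (oconj a)) b = y
    rw [rb_R b a y, smul_smul, inv_mul_cancel₀ (mul_ne_zero ha hb), one_smul]
  right_inv y := by
    show omul (omul ((stdPlus F 4 a * stdPlus F 4 b)⁻¹ • omul (omul y (oconj a)) b)
      (oconj b)) a = y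
    rw [omul_smul_left, omul_smul_left, rb_R a b y, smul_smul, mul_comm (stdPlus F 4 b),
      inv_mul_cancel₀ (mul_ne_zero ha hb), one_smul]

theorem simLPerm_mem (a b : OV F) (ha : stdPlus F 4 a ≠ 0) (hb : stdPlus F 4 b ≠ 0) :
    simLPerm a b ha hb ∈ GamO ⇑(stdPlus F 4) := by
  refine ⟨RingEquiv.refl F, Units.mk0 _ (mul_ne_zero ha hb), ?_, ?_, ?_⟩
  · intro x y
    show omul a (omul (oconj b) (x + y)) = omul a (omul (oconj b) x) + omul a (omul (oconj b) y)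
    rw [omul_add_right, omul_add_right]
  · intro c x
    show omul a (omul (oconj b) (c • x)) = c • omul a (omul (oconj b) x)
    rw [omul_smul_right, omul_smul_right]
  · intro x
    show stdPlus F 4 (omul a (omul (oconj b) x)) = (stdPlus F 4 a * stdPlus F 4 b) * stdPlus F 4 x
    rw [N_omul, N_omul, N_oconj, mul_assoc]

theorem simRPerm_mem (a b : OV F) (ha : stdPlus F 4 a ≠ 0) (hb : stdPlus F 4 b ≠ 0) :
    simRPerm a b ha hb ∈ GamO ⇑(stdPlus F 4) := by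
  refine ⟨RingEquiv.refl F, Units.mk0 _ (mul_ne_zero ha hb), ?_, ?_, ?_⟩
  · intro x y
    show omul (omul (x + y) (oconj b)) a = omul (omul x (oconj b)) a + omul (omul y (oconj b)) a
    rw [omul_add_left, omul_add_left]
  · intro c x
    show omul (omul (c • x) (oconj b)) a = c • omul (omul x (oconj b)) a
    rw [omul_smul_left, omul_smul_left]
  · intro x
    show stdPlus F 4 (omul (omul x (oconj b)) a) = (stdPlus F 4 a * stdPlus F 4 b) * stdPlus F 4 x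
    rw [N_omul, N_omul, N_oconj]
    ring

/-- the similitude `x ↦ a(b̄x)` -/
noncomputable def simL (a b : OV F) (ha : stdPlus F 4 a ≠ 0) (hb : stdPlus F 4 b ≠ 0) :
    GamO ⇑(stdPlus F 4) := ⟨simLPerm a b ha hb, simLPerm_mem a b ha hb⟩

/-- the similitude `y ↦ (yb̄)a` -/
noncomputable def simR (a b : OV F) (ha : stdPlus F 4 a ≠ 0) (hb : stdPlus F 4 b ≠ 0) :
    GamO ⇑(stdPlus F 4) := ⟨simRPerm a b ha hb, simRPerm_mem a b ha hb⟩

theorem simL_apply (a b : OV F) (ha : stdPlus F 4 a ≠ 0) (hb : stdPlus F 4 b ≠ 0) (x : OV F) :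
    (simL a b ha hb : Equiv.Perm (OV F)) x = omul a (omul (oconj b) x) := rfl

theorem simR_apply (a b : OV F) (ha : stdPlus F 4 a ≠ 0) (hb : stdPlus F 4 b ≠ 0) (y : OV F) :
    (simR a b ha hb : Equiv.Perm (OV F)) y = omul (omul y (oconj b)) a := rfl

/-- `r_a r_b (x y) = (N a N b)⁻¹ (a(b̄x)) ((yb̄)a)` -/
theorem refl_mul_omul (a b : OV F) (ha : stdPlus F 4 a ≠ 0) (hb : stdPlus F 4 b ≠ 0)
    (x y : OV F) :
    (reflIso (stdPlus F 4) ha * reflIso (stdPlus F 4) hb) • omul x y =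
      ((stdPlus F 4 a)⁻¹ * (stdPlus F 4 b)⁻¹) •
        omul (omul a (omul (oconj b) x)) (omul (omul y (oconj b)) a) := by
  rw [mul_smul, rb_refl_smul b hb, rb_refl_smul a ha]
  rw [oconj_smul, omul_smul_right, omul_smul_left, smul_smul, neg_mul_neg]
  congr 1
  rw [oconj_omul, oconj_omul, oconj_oconj]
  rw [moufang_mid a (omul (oconj b) x) (omul y (oconj b)), moufang_mid (oconj b) x y,
    flex (oconj b) (omul x y)]

variable [Fintype F]

/-- (X7-oct) conjugating the product of two reflections by triality gives the linear similitude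
`x ↦ a(b̄x)`, of multiplier `N(a) N(b)` -/
theorem tau_conj_refl_mul (h2 : (2 : F) ≠ 0) (τ : MulAut (Cfsg.POmega F ⇑(stdPlus F 4)))
    (hτrel : ∀ (g₀ g₁ : ↥(Cfsg.Omega F ⇑(stdPlus F 4))) (g₂ : O8 F),
      Rel (g₀ : O8 F) (g₁ : O8 F) g₂ → τ (prj (stdPlus F 4) g₀) = prj (stdPlus F 4) g₁)
    (hτex : ∀ g₀ : ↥(Cfsg.Omega F ⇑(stdPlus F 4)), ∃ (g₁ : ↥(Cfsg.Omega F ⇑(stdPlus F 4)))
      (g₂ : O8 F), Rel (g₀ : O8 F) (g₁ : O8 F) g₂)
    (a b : OV F) (ha : stdPlus F 4 a ≠ 0) (hb : stdPlus F 4 b ≠ 0) :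
    ∃ L : GamO ⇑(stdPlus F 4), L ∈ Lin ⇑(stdPlus F 4) ∧
      (∀ x : OV F, (L : Equiv.Perm (OV F)) x = omul a (omul (oconj b) x)) ∧
      (∀ x : OV F, stdPlus F 4 ((L : Equiv.Perm (OV F)) x) =
        (stdPlus F 4 a * stdPlus F 4 b) * stdPlus F 4 x) ∧
      τ * Theta ⇑(stdPlus F 4) (Cfsg.Agent.Helper43.OMin.isoGam ⇑(stdPlus F 4)
          (reflIso (stdPlus F 4) ha * reflIso (stdPlus F 4) hb)) * τ⁻¹ =
        Theta ⇑(stdPlus F 4) L := by
  refine ⟨simL a b ha hb, ?_, fun x => rfl, ?_, ?_⟩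
  · intro c x
    show omul a (omul (oconj b) (c • x)) = c • omul a (omul (oconj b) x)
    rw [omul_smul_right, omul_smul_right]
  · intro x
    show stdPlus F 4 (omul a (omul (oconj b) x)) = (stdPlus F 4 a * stdPlus F 4 b) * stdPlus F 4 x
    rw [N_omul, N_omul, N_oconj, mul_assoc]
  · rw [mul_inv_eq_iff_eq_mul]
    apply MulEquiv.ext
    intro t
    obtain ⟨⟨g₀, h0⟩, rfl⟩ := prj_surjective (Q := stdPlus F 4) t
    obtain ⟨⟨g₁, h1⟩, g₂, hr⟩ := hτex ⟨g₀, h0⟩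
    have hr : Rel g₀ g₁ g₂ := hr
    have h2Ω : g₂ ∈ Cfsg.Omega F ⇑(stdPlus F 4) := rel_third_mem h0 h1 hr
    obtain ⟨S, hSdef⟩ : ∃ S : GamO ⇑(stdPlus F 4), S = Cfsg.Agent.Helper43.OMin.isoGam
      ⇑(stdPlus F 4) (reflIso (stdPlus F 4) ha * reflIso (stdPlus F 4) hb) := ⟨_, rfl⟩
    rw [← hSdef]
    obtain ⟨g₀', hg₀', e0⟩ := Theta_exists ⇑(stdPlus F 4) S ⟨g₀, h0⟩
    obtain ⟨g₁', hg₁', e1⟩ := Theta_exists ⇑(stdPlus F 4) (simL a b ha hb) ⟨g₁, h1⟩
    obtain ⟨g₂', hg₂', e2⟩ := Theta_exists ⇑(stdPlus F 4) (simR a b ha hb) ⟨g₂, h2Ω⟩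
    have hg0 : ∀ x : OV F, ((g₀' : ↥(Cfsg.Omega F ⇑(stdPlus F 4))) : O8 F) •
        ((S : Equiv.Perm (OV F)) x) = (S : Equiv.Perm (OV F)) (g₀ • x) := hg₀'
    have hg1 : ∀ x : OV F, ((g₁' : ↥(Cfsg.Omega F ⇑(stdPlus F 4))) : O8 F) •
        ((simL a b ha hb : Equiv.Perm (OV F)) x) =
          (simL a b ha hb : Equiv.Perm (OV F)) (g₁ • x) := hg₁'
    have hg2 : ∀ x : OV F, ((g₂' : ↥(Cfsg.Omega F ⇑(stdPlus F 4))) : O8 F) •
        ((simR a b ha hb : Equiv.Perm (OV F)) x) =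
          (simR a b ha hb : Equiv.Perm (OV F)) (g₂ • x) := hg₂'
    have hS : ∀ z : OV F, (S : Equiv.Perm (OV F)) z =
        (reflIso (stdPlus F 4) ha * reflIso (stdPlus F 4) hb) • z := by
      intro z
      rw [hSdef]
      rfl
    have key : ∀ u v : OV F, omul ((simL a b ha hb : Equiv.Perm (OV F)) u)
        ((simR a b ha hb : Equiv.Perm (OV F)) v) =
          (stdPlus F 4 a * stdPlus F 4 b) • (S : Equiv.Perm (OV F)) (omul u v) := by
      intro u v
      rw [hS, refl_mul_omul, smul_smul, simL_apply, simR_apply]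
      have : stdPlus F 4 a * stdPlus F 4 b * ((stdPlus F 4 a)⁻¹ * (stdPlus F 4 b)⁻¹) = 1 := by
        field_simp
      rw [this, one_smul]
    have hrel : Rel ((g₀' : ↥(Cfsg.Omega F ⇑(stdPlus F 4))) : O8 F)
        ((g₁' : ↥(Cfsg.Omega F ⇑(stdPlus F 4))) : O8 F)
        ((g₂' : ↥(Cfsg.Omega F ⇑(stdPlus F 4))) : O8 F) := by
      intro x y
      obtain ⟨x', rfl⟩ := (simL a b ha hb : Equiv.Perm (OV F)).surjective x
      obtain ⟨y', rfl⟩ := (simR a b ha hb : Equiv.Perm (OV F)).surjective y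
      rw [key, o8_smul_smul, hg0, hr x' y', ← key, hg1, hg2]
    have hτ0 : τ (prj (stdPlus F 4) ⟨g₀, h0⟩) = prj (stdPlus F 4) ⟨g₁, h1⟩ :=
      hτrel ⟨g₀, h0⟩ ⟨g₁, h1⟩ g₂ hr
    rw [MulAut.mul_apply, MulAut.mul_apply, hτ0]
    refine (congrArg τ e0).trans ?_
    refine Eq.trans ?_ e1.symm
    exact hτrel g₀' g₁' _ hrel

end Cfsg.Agent.Helper40.OP8
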