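import Mathlib
import Cfsg.Agent.Lib.Helper40.OPF.Defs

/-! helper40: piece TOR of the lemma server "OPF" (row S2715). -/

set_option autoImplicit false
set_option linter.unusedSectionVars false
set_option linter.unusedVariables false
set_option linter.unusedSimpArgs false

namespace Cfsg.Agent.Helper40.OPF

open Matrix QuadraticMap Cfsg.Agent.Helper5.OrthAut Cfsg.Agent.Helper40.AutPOm
  Cfsg.Agent.Helper40.OrthEven Cfsg.Agent.Helper43

variable {F : Type*} [Field F] [Fintype F]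

theorem tor_polar_f {m : ℕ} (i : Fin m) (x : Fin m ⊕ Fin m → F) :
    polar (stdPlus F m) (Pi.single (Sum.inr i) 1 : Fin m ⊕ Fin m → F) x = x (Sum.inl i) := by
  classical
  rw [polar_stdPlus]
  simp [Pi.single_apply]

theorem tor_polar_e {m : ℕ} (i : Fin m) (x : Fin m ⊕ Fin m → F) :
    polar (stdPlus F m) (Pi.single (Sum.inl i) 1 : Fin m ⊕ Fin m → F) x = x (Sum.inr i) := by
  classical
  rw [polar_stdPlus]
  simp [Pi.single_apply]

/-- piece TOR -/
theorem delta_smul_mem_Omega_iff (h2 : (2 : F) ≠ 0) {m : ℕ} (hm : 1 ≤ m) (lam : Fˣ) (μ : F)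
    (hμ : μ ^ 2 = (lam : F)) :
    (∃ s : GL (Fin m ⊕ Fin m) F, s ∈ OmGL (⇑(stdPlus F m)) ∧
        ((deltaPlus m lam : GL (Fin m ⊕ Fin m) F) : Matrix (Fin m ⊕ Fin m) (Fin m ⊕ Fin m) F) =
          μ • (s : Matrix (Fin m ⊕ Fin m) (Fin m ⊕ Fin m) F)) ↔ IsSquare (μ ^ m) := by
  classical
  have hμ0 : μ ≠ 0 := by
    rintro rfl
    rw [zero_pow (by norm_num)] at hμ
    exact lam.ne_zero hμ.symm
  have hnd := stdPlus_nondegenerate F m
  have hfam := stdPlus_isHypFamily F m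
  set M : Matrix (Fin m ⊕ Fin m) (Fin m ⊕ Fin m) F :=
    μ⁻¹ • ((deltaPlus m lam : GL (Fin m ⊕ Fin m) F) : Matrix (Fin m ⊕ Fin m) (Fin m ⊕ Fin m) F)
    with hMdef
  have hMx : ∀ x : Fin m ⊕ Fin m → F, ∀ k, (M *ᵥ x) k =
      Sum.elim (fun i => μ * x (Sum.inl i)) (fun i => μ⁻¹ * x (Sum.inr i)) k := by
    intro x k
    rw [hMdef, Matrix.smul_mulVec, Pi.smul_apply, deltaPlus, diagGL_mulVec, smul_eq_mul]
    rcases k with k | k
    · simp only [Sum.elim_inl]
      rw [← hμ]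
      field_simp
    · simp only [Sum.elim_inr, Units.val_one, one_mul]
  have hM : ∀ x, M *ᵥ x = x + ∑ i : Fin m,
      (((((fun _ : Fin m => μ⁻¹) i)⁻¹ - 1) *
          polar (stdPlus F m) (Pi.single (Sum.inr i) 1 : Fin m ⊕ Fin m → F) x) •
        (Pi.single (Sum.inl i) 1 : Fin m ⊕ Fin m → F) +
      ((((fun _ : Fin m => μ⁻¹) i) - 1) *
          polar (stdPlus F m) (Pi.single (Sum.inl i) 1 : Fin m ⊕ Fin m → F) x) •
        (Pi.single (Sum.inr i) 1 : Fin m ⊕ Fin m → F)) := by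
    intro x
    funext k
    rw [hMx x k, Pi.add_apply, Finset.sum_apply]
    simp only [tor_polar_f, tor_polar_e, inv_inv, Pi.add_apply, Pi.smul_apply, smul_eq_mul]
    rcases k with k | k
    · simp only [Sum.elim_inl]
      rw [Finset.sum_eq_single k]
      · simp [Pi.single_apply]
        ring
      · intro b _ hb
        simp [Pi.single_apply, hb, Ne.symm hb]
      · intro h
        exact absurd (Finset.mem_univ k) h
    · simp only [Sum.elim_inr]
      rw [Finset.sum_eq_single k]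
      · simp [Pi.single_apply]
        ring
      · intro b _ hb
        simp [Pi.single_apply, hb, Ne.symm hb]
      · intro h
        exact absurd (Finset.mem_univ k) h
  have hcrit := exists_mem_Omega_iff_of_torus (stdPlus F m) h2 hnd hfam (fun _ : Fin m => μ⁻¹)
    (fun _ => inv_ne_zero hμ0) M hM
  have hprod : (∏ i : Fin m, (fun _ : Fin m => μ⁻¹) i) = (μ ^ m)⁻¹ := by
    simp
  rw [hprod, isSquare_inv] at hcrit
  rw [← hcrit]
  constructor
  · rintro ⟨s, hs, hds⟩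
    obtain ⟨s', hs'⟩ := (mem_OmGL _ s).1 hs
    refine ⟨s'.1, s'.2, ?_⟩
    rw [hs', hMdef, hds, smul_smul, inv_mul_cancel₀ hμ0, one_smul]
  · rintro ⟨g, hg, hgM⟩
    refine ⟨(g : GL (Fin m ⊕ Fin m) F), (mem_OmGL _ _).2 ⟨⟨g, hg⟩, rfl⟩, ?_⟩
    rw [hgM, hMdef, smul_smul, mul_inv_cancel₀ hμ0, one_smul]

end Cfsg.Agent.Helper40.OPF
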