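import Cfsg.Agent.Lib.Helper40.OP8X6b
import Cfsg.Agent.Lib.Helper40.OP8X7
import Cfsg.Agent.Lib.Helper5.OP8X7b
import Cfsg.Agent.Lib.Helper43.OMin6

/-!
# helper40: the central involution `z` of `PGO/PΩ` is moved by the order-three element `τ * rAut`
(for S2608, helper87): `z = Theta (isoGam (r_a r_b))` with `N a * N b` a non-square lies in `psoAut`,
`z * z` is inner, and `(τ * rAut) * z * (τ * rAut)⁻¹ ∈ pgoAut ∖ psoAut`.
-/

set_option autoImplicit false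
set_option linter.unusedSectionVars false
set_option linter.unusedVariables false

namespace Cfsg.Agent.Helper40.OP8

open Matrix QuadraticMap Cfsg.Agent.Helper13 Cfsg.Agent.Helper43 Cfsg.Agent.Helper5.OAut Module
open Cfsg.Agent.Helper43.OGam Cfsg.Agent.Helper43.Tri Cfsg.Agent.Helper5.OrthAut
open Cfsg.Agent.Helper43.OMin

variable {F : Type*} [Field F] [Fintype F]

/-- the element `z` -/
noncomputable def zAut (a b : OV F) (ha : stdPlus F 4 a ≠ 0) (hb : stdPlus F 4 b ≠ 0) :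
    MulAut (Cfsg.POmega F ⇑(stdPlus F 4)) :=
  Theta ⇑(stdPlus F 4) (isoGam ⇑(stdPlus F 4)
    (reflIso (stdPlus F 4) ha * reflIso (stdPlus F 4) hb))

theorem zAut_mem_pso (a b : OV F) (ha : stdPlus F 4 a ≠ 0) (hb : stdPlus F 4 b ≠ 0) :
    zAut a b ha hb ∈ Cfsg.psoAut F ⇑(stdPlus F 4) := by
  have hg : (((reflIso (stdPlus F 4) ha * reflIso (stdPlus F 4) hb : O8 F) :
      GL (Fin 4 ⊕ Fin 4) F)) ∈ SOG (stdPlus F 4) := by
    rw [mem_SOG_iff]
    refine ⟨(reflIso (stdPlus F 4) ha * reflIso (stdPlus F 4) hb : O8 F).2, ?_⟩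
    rw [Subgroup.coe_mul, Units.val_mul, Matrix.det_mul, reflIso_coe, reflIso_coe,
      reflectionMatrix_det _ ha, reflectionMatrix_det _ hb]
    ring
  rw [← fSO_range]
  refine ⟨⟨_, hg⟩, ?_⟩
  symm
  unfold zAut
  apply Theta_eq_Phi ⇑(stdPlus F 4) _ _ 1
  intro x
  rw [one_smul]
  rfl

theorem zAut_sq_mem_inn (a b : OV F) (ha : stdPlus F 4 a ≠ 0) (hb : stdPlus F 4 b ≠ 0) :
    zAut a b ha hb * zAut a b ha hb ∈ Cfsg.Inn (Cfsg.POmega F ⇑(stdPlus F 4)) := by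
  unfold zAut
  rw [← map_mul]
  have hmem : (reflIso (stdPlus F 4) ha * reflIso (stdPlus F 4) hb) *
      (reflIso (stdPlus F 4) ha * reflIso (stdPlus F 4) hb) ∈ Cfsg.Omega F ⇑(stdPlus F 4) := by
    have := Subgroup.commutator_mem_commutator
      (Subgroup.mem_top (reflIso (stdPlus F 4) ha : O8 F))
      (Subgroup.mem_top (reflIso (stdPlus F 4) hb : O8 F))
    rw [commutatorElement_def, reflIso_inv, reflIso_inv] at this
    have e : reflIso (stdPlus F 4) ha * reflIso (stdPlus F 4) hb *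
        (reflIso (stdPlus F 4) ha * reflIso (stdPlus F 4) hb) =
        reflIso (stdPlus F 4) ha * reflIso (stdPlus F 4) hb * reflIso (stdPlus F 4) ha *
          reflIso (stdPlus F 4) hb := by group
    rw [e]
    exact this
  apply Theta_of_omega_mem ⇑(stdPlus F 4) _ _ hmem 1
  intro x
  rw [one_smul]
  show ((isoGam ⇑(stdPlus F 4) (reflIso (stdPlus F 4) ha * reflIso (stdPlus F 4) hb) :
    Equiv.Perm (OV F)) ((isoGam ⇑(stdPlus F 4) (reflIso (stdPlus F 4) ha *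
      reflIso (stdPlus F 4) hb) : Equiv.Perm (OV F)) x)) = _
  rw [isoGam_apply, isoGam_apply, Matrix.mulVec_mulVec]
  rfl

/-- conjugating `z` by `rAut` gives another `z` -/
theorem rAut_conj_zAut (a b : OV F) (ha : stdPlus F 4 a ≠ 0) (hb : stdPlus F 4 b ≠ 0) :
    ∃ (a' b' : OV F) (ha' : stdPlus F 4 a' ≠ 0) (hb' : stdPlus F 4 b' ≠ 0),
      stdPlus F 4 a' = stdPlus F 4 a ∧ stdPlus F 4 b' = stdPlus F 4 b ∧
      (rAut : MulAut (Cfsg.POmega F ⇑(stdPlus F 4))) * zAut a b ha hb * rAut⁻¹ =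
        zAut a' b' ha' hb' := by
  have h1 : stdPlus F 4 (oone : OV F) ≠ 0 := N_oone_ne
  refine ⟨reflLin (stdPlus F 4) oone a, reflLin (stdPlus F 4) oone b,
    by rw [Q_reflLin _ h1]; exact ha, by rw [Q_reflLin _ h1]; exact hb,
    Q_reflLin _ h1 a, Q_reflLin _ h1 b, ?_⟩
  unfold zAut rAut
  rw [← map_inv, ← map_mul, ← map_mul]
  congr 1
  show isoGamHom ⇑(stdPlus F 4) _ * isoGamHom ⇑(stdPlus F 4) _ *
    (isoGamHom ⇑(stdPlus F 4) _)⁻¹ = isoGamHom ⇑(stdPlus F 4) _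
  rw [← map_inv, ← map_mul, ← map_mul]
  congr 1
  rw [reflIso_inv, ← reflIso_conj (stdPlus F 4) h1 ha, ← reflIso_conj (stdPlus F 4) h1 hb]
  have e := reflIso_mul_self (stdPlus F 4) h1
  calc reflIso (stdPlus F 4) h1 * (reflIso (stdPlus F 4) ha * reflIso (stdPlus F 4) hb) *
        reflIso (stdPlus F 4) h1
      = reflIso (stdPlus F 4) h1 * reflIso (stdPlus F 4) ha * 1 * reflIso (stdPlus F 4) hb *
        reflIso (stdPlus F 4) h1 := by group
    _ = reflIso (stdPlus F 4) h1 * reflIso (stdPlus F 4) ha * reflIso (stdPlus F 4) h1 *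
        (reflIso (stdPlus F 4) h1 * reflIso (stdPlus F 4) hb * reflIso (stdPlus F 4) h1) := by
        rw [← e]; group

/-- the order-three element `τ * rAut` moves `z` out of `psoAut` -/
theorem rho_conj_zAut (hodd : Odd (Fintype.card F))
    (τ : MulAut (Cfsg.POmega F ⇑(stdPlus F 4)))
    (hτrel : ∀ (g₀ g₁ : ↥(Cfsg.Omega F ⇑(stdPlus F 4))) (g₂ : O8 F),
      Rel (g₀ : O8 F) (g₁ : O8 F) g₂ → τ (prj (stdPlus F 4) g₀) = prj (stdPlus F 4) g₁)
    (hτex : ∀ g₀ : ↥(Cfsg.Omega F ⇑(stdPlus F 4)), ∃ (g₁ : ↥(Cfsg.Omega F ⇑(stdPlus F 4)))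
      (g₂ : O8 F), Rel (g₀ : O8 F) (g₁ : O8 F) g₂)
    (a b : OV F) (ha : stdPlus F 4 a ≠ 0) (hb : stdPlus F 4 b ≠ 0)
    (hns : ¬ IsSquare (stdPlus F 4 a * stdPlus F 4 b)) :
    (τ * rAut) * zAut a b ha hb * (τ * rAut)⁻¹ ∈ Cfsg.pgoAut F ⇑(stdPlus F 4) ∧
      (τ * rAut) * zAut a b ha hb * (τ * rAut)⁻¹ ∉ Cfsg.psoAut F ⇑(stdPlus F 4) := by
  have h2 : (2 : F) ≠ 0 := by
    intro h
    have hc : ringChar F = 2 := by
      have := (ringChar.spec F 2).1 (by exact_mod_cast h)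
      exact (Nat.prime_dvd_prime_iff_eq (CharP.char_is_prime F (ringChar F)) Nat.prime_two).1 this
    have := FiniteField.even_card_of_char_two hc
    rcases hodd with ⟨k, hk⟩
    omega
  obtain ⟨a', b', ha', hb', hNa, hNb, hconj⟩ := rAut_conj_zAut a b ha hb
  obtain ⟨L, hL, -, hmul, hτ⟩ := tau_conj_refl_mul h2 τ hτrel hτex a' b' ha' hb'
  have e : (τ * rAut) * zAut a b ha hb * (τ * rAut)⁻¹ = Theta ⇑(stdPlus F 4) L := by
    rw [← hτ]
    have : (τ * rAut) * zAut a b ha hb * (τ * rAut)⁻¹ =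
        τ * (rAut * zAut a b ha hb * rAut⁻¹) * τ⁻¹ := by group
    rw [this, hconj]
    rfl
  rw [e]
  exact Cfsg.Agent.Helper5.OP8.Theta_lin_nonsquare hodd (by norm_num) L hL _ hmul
    (by rw [hNa, hNb]; exact hns)

/-- so `τ * rAut` and `z` do not commute modulo inner automorphisms -/
theorem rho_zAut_not_comm (hodd : Odd (Fintype.card F))
    (τ : MulAut (Cfsg.POmega F ⇑(stdPlus F 4)))
    (hτrel : ∀ (g₀ g₁ : ↥(Cfsg.Omega F ⇑(stdPlus F 4))) (g₂ : O8 F),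
      Rel (g₀ : O8 F) (g₁ : O8 F) g₂ → τ (prj (stdPlus F 4) g₀) = prj (stdPlus F 4) g₁)
    (hτex : ∀ g₀ : ↥(Cfsg.Omega F ⇑(stdPlus F 4)), ∃ (g₁ : ↥(Cfsg.Omega F ⇑(stdPlus F 4)))
      (g₂ : O8 F), Rel (g₀ : O8 F) (g₁ : O8 F) g₂)
    (a b : OV F) (ha : stdPlus F 4 a ≠ 0) (hb : stdPlus F 4 b ≠ 0)
    (hns : ¬ IsSquare (stdPlus F 4 a * stdPlus F 4 b)) :
    (τ * rAut) * zAut a b ha hb * (τ * rAut)⁻¹ * (zAut a b ha hb)⁻¹ ∉
      Cfsg.Inn (Cfsg.POmega F ⇑(stdPlus F 4)) := by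
  classical
  intro hmem
  have h1 := inn_le_psoAut (stdPlus F 4) hmem
  have h2 := Subgroup.mul_mem _ h1 (zAut_mem_pso a b ha hb)
  rw [inv_mul_cancel_right] at h2
  exact (rho_conj_zAut hodd τ hτrel hτex a b ha hb hns).2 h2

end Cfsg.Agent.Helper40.OP8
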