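import Cfsg.Agent.Lib.Helper40.OP8Z

/-!
# helper40: existence of the element `z` for S2608 (`q` odd)
-/

set_option autoImplicit false
set_option linter.unusedSectionVars false
set_option linter.unusedVariables false

namespace Cfsg.Agent.Helper40.OP8

open Matrix QuadraticMap Cfsg.Agent.Helper13 Cfsg.Agent.Helper43 Cfsg.Agent.Helper5.OAut Module
open Cfsg.Agent.Helper43.OGam Cfsg.Agent.Helper43.Tri Cfsg.Agent.Helper5.OrthAut
open Cfsg.Agent.Helper43.OMin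

variable {F : Type*} [Field F] [Fintype F]

/-- for `q` odd there are `a, b` with `N a * N b` a non-square -/
theorem exists_nonsquare_pair (hodd : Odd (Fintype.card F)) :
    ∃ (a b : OV F) (ha : stdPlus F 4 a ≠ 0) (hb : stdPlus F 4 b ≠ 0),
      ¬ IsSquare (stdPlus F 4 a * stdPlus F 4 b) := by
  have hchar : ringChar F ≠ 2 := by
    intro hc
    have := FiniteField.even_card_of_char_two hc
    rcases hodd with ⟨k, hk⟩
    omega
  obtain ⟨ν, hν⟩ := FiniteField.exists_nonsquare hchar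
  have hν0 : ν ≠ 0 := by
    rintro rfl
    exact hν ⟨0, by simp⟩
  have hb : stdPlus F 4 (Sum.elim ![ν, 0, 0, 0] ![1, 0, 0, 0] : OV F) = ν := by
    rw [N_eq]
    simp
  refine ⟨oone, Sum.elim ![ν, 0, 0, 0] ![1, 0, 0, 0], N_oone_ne, by rw [hb]; exact hν0, ?_⟩
  rw [hb, N_oone, one_mul]
  exact hν

/-- everything about `z` at once -/
theorem exists_zAut (hodd : Odd (Fintype.card F))
    (τ : MulAut (Cfsg.POmega F ⇑(stdPlus F 4)))
    (hτrel : ∀ (g₀ g₁ : ↥(Cfsg.Omega F ⇑(stdPlus F 4))) (g₂ : O8 F),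
      Rel (g₀ : O8 F) (g₁ : O8 F) g₂ → τ (prj (stdPlus F 4) g₀) = prj (stdPlus F 4) g₁)
    (hτex : ∀ g₀ : ↥(Cfsg.Omega F ⇑(stdPlus F 4)), ∃ (g₁ : ↥(Cfsg.Omega F ⇑(stdPlus F 4)))
      (g₂ : O8 F), Rel (g₀ : O8 F) (g₁ : O8 F) g₂) :
    ∃ z : MulAut (Cfsg.POmega F ⇑(stdPlus F 4)),
      z ∈ Cfsg.psoAut F ⇑(stdPlus F 4) ∧
      z * z ∈ Cfsg.Inn (Cfsg.POmega F ⇑(stdPlus F 4)) ∧
      (τ * rAut) * z * (τ * rAut)⁻¹ ∈ Cfsg.pgoAut F ⇑(stdPlus F 4) ∧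
      (τ * rAut) * z * (τ * rAut)⁻¹ ∉ Cfsg.psoAut F ⇑(stdPlus F 4) ∧
      (τ * rAut) * z * (τ * rAut)⁻¹ * z⁻¹ ∉ Cfsg.Inn (Cfsg.POmega F ⇑(stdPlus F 4)) := by
  obtain ⟨a, b, ha, hb, hns⟩ := exists_nonsquare_pair hodd
  exact ⟨zAut a b ha hb, zAut_mem_pso a b ha hb, zAut_sq_mem_inn a b ha hb,
    (rho_conj_zAut hodd τ hτrel hτex a b ha hb hns).1,
    (rho_conj_zAut hodd τ hτrel hτex a b ha hb hns).2,
    rho_zAut_not_comm hodd τ hτrel hτex a b ha hb hns⟩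

end Cfsg.Agent.Helper40.OP8
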