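import Mathlib
import Cfsg.Agent.Lib.Helper40.OPF.Defs
import Cfsg.Agent.Lib.Helper5.OPFPE

/-! helper40: pieces CEN1, CEN2 of the lemma server "OPF" (row S2715). -/

set_option autoImplicit false
set_option linter.unusedSectionVars false
set_option linter.unusedVariables false

namespace Cfsg.Agent.Helper40.OPF

open Matrix QuadraticMap Cfsg.Agent.Helper5.OrthAut Cfsg.Agent.Helper40.AutPOm
  Cfsg.Agent.Helper40.OrthEven Cfsg.Agent.Helper43 Cfsg.Agent.Helper5.OMF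

variable {F₀ : Type*} [Field F₀] [Fintype F₀] {F : Type*} [Field F] [Fintype F]

/-- piece CEN1 -/
theorem cent_inD_eq_map {m : ℕ} (hm : 3 ≤ m) (emb : F₀ →+* F) (σ : F ≃+* F) {r : ℕ} (hr : 0 < r)
    (hσ : orderOf σ = r) (hι1 : ∀ x, σ (emb x) = emb x) (hι2 : ∀ y, σ y = y → ∃ x, emb x = y)
    (hQA : ∀ σ : F ≃+* F, σ ∈ QAut (⇑(stdPlus F m)))
    (hperf : commutator ↥(Cfsg.Omega F ⇑(stdPlus F m)) = ⊤)
    (hcent : ∀ Z : Matrix (Fin m ⊕ Fin m) (Fin m ⊕ Fin m) F,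
      (∀ s : ↥(Cfsg.Omega F ⇑(stdPlus F m)),
        Z * omat (⇑(stdPlus F m)) s = omat (⇑(stdPlus F m)) s * Z) →
      ∃ c : F, Z = c • (1 : Matrix (Fin m ⊕ Fin m) (Fin m ⊕ Fin m) F))
    (C : ClassChar (stdPlus F m)) (C₀ : ClassChar (stdPlus F₀ m)) :
    inD (stdPlus F m) C ⊓ Subgroup.centralizer {fieldAutStd (⇑(stdPlus F m)) hQA σ} =
      (C₀.χ.ker).map (ThetaP m emb) := by
  classical
  have hB := isBC_stdPlus (F := F) m emb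
  have hne : Nonempty (Fin m ⊕ Fin m) := ⟨Sum.inl ⟨0, by omega⟩⟩
  obtain ⟨e₀, he₀⟩ := Cfsg.Agent.Helper23.GF.gfc_exists_ne_zero (F := F₀) (m := m) (by omega)
  have hcp := fun g => cent_pgo_gen hB hperf hcent e₀ he₀ ⟨σ, hQA σ⟩ hr hσ hι1 hι2 g
  ext β
  constructor
  · intro hβ
    obtain ⟨hβ1, hβ2⟩ := Subgroup.mem_inf.1 hβ
    obtain ⟨g, hχ, rfl⟩ := (mem_inD_iff _ C β).1 hβ1
    have hcomm := (Subgroup.mem_centralizer_iff.1 hβ2) _ rfl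
    obtain ⟨g₀, c, hg₀, hgc⟩ := (hcp g).1 hcomm.symm
    have hP : Cfsg.PreservesSingularClasses (⇑(stdPlus F m))
        ((g : GL (Fin m ⊕ Fin m) F) : Matrix (Fin m ⊕ Fin m) (Fin m ⊕ Fin m) F) := (C.pres g).1 hχ
    have hP' : Cfsg.PreservesSingularClasses (⇑(stdPlus F m))
        ((g₀ : Matrix (Fin m ⊕ Fin m) (Fin m ⊕ Fin m) F₀).map emb) := by
      rw [hgc, Units.val_mul, sclHom_coe, Matrix.smul_mul, Matrix.one_mul,
        preserves_smul_iff _ _ (Units.ne_zero c)] at hP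
      exact hP
    have hP₀ := (Cfsg.Agent.Helper5.OPF.preserves_emb_iff_plus hm emb g₀ hg₀).2 hP'
    refine ⟨⟨g₀, hg₀⟩, MonoidHom.mem_ker.2 ((C₀.pres _).2 hP₀), ?_⟩
    have h5 : g = scGO (stdPlus F m) c * embGO' hB ⟨g₀, hg₀⟩ := Subtype.ext hgc
    rw [h5, map_mul, PhiGO_scGO _ hperf hcent, one_mul]
    rfl
  · rintro ⟨g₀, hg₀S, rfl⟩
    have hχ₀ : C₀.χ g₀ = 1 := MonoidHom.mem_ker.1 hg₀S
    have hP₀ := (C₀.pres g₀).1 hχ₀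
    have hP := (Cfsg.Agent.Helper5.OPF.preserves_emb_iff_plus hm emb g₀.1 g₀.2).1 hP₀
    refine Subgroup.mem_inf.2 ⟨?_, ?_⟩
    · rw [mem_inD_iff]
      refine ⟨embGO' hB g₀, (C.pres _).2 ?_, rfl⟩
      rw [embGO'_val]
      exact hP
    · rw [Subgroup.mem_centralizer_iff]
      intro h hh
      rw [Set.mem_singleton_iff.1 hh]
      symm
      refine (hcp (embGO' hB g₀)).2 ⟨g₀.1, 1, g₀.2, ?_⟩
      rw [map_one, one_mul, embGO'_val]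

/-- piece CEN2 -/
theorem cent_iso_plus {m : ℕ} (hm : 3 ≤ m) (emb : F₀ →+* F) (σ : F ≃+* F) {r : ℕ} (hr : 0 < r)
    (hσ : orderOf σ = r) (hι1 : ∀ x, σ (emb x) = emb x) (hι2 : ∀ y, σ y = y → ∃ x, emb x = y)
    (hQA : ∀ σ : F ≃+* F, σ ∈ QAut (⇑(stdPlus F m)))
    (hperf : commutator ↥(Cfsg.Omega F ⇑(stdPlus F m)) = ⊤)
    (hcent : ∀ Z : Matrix (Fin m ⊕ Fin m) (Fin m ⊕ Fin m) F,
      (∀ s : ↥(Cfsg.Omega F ⇑(stdPlus F m)),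
        Z * omat (⇑(stdPlus F m)) s = omat (⇑(stdPlus F m)) s * Z) →
      ∃ c : F, Z = c • (1 : Matrix (Fin m ⊕ Fin m) (Fin m ⊕ Fin m) F))
    (hperf₀ : commutator ↥(Cfsg.Omega F₀ ⇑(stdPlus F₀ m)) = ⊤)
    (hcent₀ : ∀ Z : Matrix (Fin m ⊕ Fin m) (Fin m ⊕ Fin m) F₀,
      (∀ s : ↥(Cfsg.Omega F₀ ⇑(stdPlus F₀ m)),
        Z * omat (⇑(stdPlus F₀ m)) s = omat (⇑(stdPlus F₀ m)) s * Z) →
      ∃ c : F₀, Z = c • (1 : Matrix (Fin m ⊕ Fin m) (Fin m ⊕ Fin m) F₀))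
    (C : ClassChar (stdPlus F m)) (C₀ : ClassChar (stdPlus F₀ m)) :
    Nonempty (↥(inD (stdPlus F m) C ⊓
        Subgroup.centralizer {fieldAutStd (⇑(stdPlus F m)) hQA σ}) ≃* ↥(inD (stdPlus F₀ m) C₀)) := by
  classical
  have hmap := cent_inD_eq_map hm emb σ hr hσ hι1 hι2 hQA hperf hcent C C₀
  have hne : Nonempty (Fin m ⊕ Fin m) := ⟨Sum.inl ⟨0, by omega⟩⟩
  have hker : (ThetaP m emb).ker = (PhiGO ⇑(stdPlus F₀ m)).ker := by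
    ext g
    rw [MonoidHom.mem_ker, MonoidHom.mem_ker, ThetaP_apply, PhiGO_eq_one_iff _ hperf hcent,
      PhiGO_eq_one_iff _ hperf₀ hcent₀, ThetaP_val, emb_mem_scalars_iff_I]
  obtain ⟨e⟩ := Cfsg.Agent.Helper43.GF.Pieces.map_equiv_of_ker_eq (ThetaP m emb)
    (PhiGO ⇑(stdPlus F₀ m)) hker (C₀.χ.ker)
  exact ⟨(MulEquiv.subgroupCongr hmap).trans e⟩

end Cfsg.Agent.Helper40.OPF
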