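import Mathlib
import Cfsg.Agent.Lib.Helper40.OPF.Defs
import Cfsg.Agent.Lib.Helper40.OPFSO

/-! helper40: piece SQ of the lemma server "OPF" (row S2715). -/

set_option autoImplicit false
set_option linter.unusedSectionVars false
set_option linter.unusedVariables false

namespace Cfsg.Agent.Helper40.OPF

open Matrix QuadraticMap Cfsg.Agent.Helper5.OrthAut Cfsg.Agent.Helper40.AutPOm
  Cfsg.Agent.Helper40.OrthEven Cfsg.Agent.Helper43

variable {F₀ : Type*} [Field F₀] [Fintype F₀] {F : Type*} [Field F] [Fintype F]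

theorem map_sclHom {ι : Type} [Fintype ι] [DecidableEq ι] (emb : F₀ →+* F) (c₀ : F₀ˣ) :
    Matrix.GeneralLinearGroup.map emb (sclHom c₀ : GL ι F₀) =
      sclHom (Units.map (emb : F₀ →* F) c₀) := by
  apply Units.ext
  ext i j
  show emb (((sclHom c₀ : GL ι F₀) : Matrix ι ι F₀) i j) = _
  rw [sclHom_coe, sclHom_coe, Matrix.smul_apply, Matrix.smul_apply, smul_eq_mul, smul_eq_mul,
    map_mul]
  by_cases hij : i = j
  · rw [hij, Matrix.one_apply_eq, Matrix.one_apply_eq, map_one]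
    rfl
  · rw [Matrix.one_apply_ne hij, Matrix.one_apply_ne hij, map_zero, mul_zero, mul_zero]

/-- piece SQ -/
theorem ThetaP_mem_inn_of_sq (emb : F₀ →+* F) (hsq : ∀ a : F₀, IsSquare (emb a)) (h2 : (2 : F) ≠ 0)
    {m : ℕ} (hm : 3 ≤ m)
    (hperf : commutator ↥(Cfsg.Omega F ⇑(stdPlus F m)) = ⊤)
    (hcent : ∀ Z : Matrix (Fin m ⊕ Fin m) (Fin m ⊕ Fin m) F,
      (∀ s : ↥(Cfsg.Omega F ⇑(stdPlus F m)),
        Z * omat (⇑(stdPlus F m)) s = omat (⇑(stdPlus F m)) s * Z) →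
      ∃ c : F, Z = c • (1 : Matrix (Fin m ⊕ Fin m) (Fin m ⊕ Fin m) F))
    (g : ↥(GO (stdPlus F₀ m)))
    (hpres : Cfsg.PreservesSingularClasses (⇑(stdPlus F₀ m))
      ((g : GL (Fin m ⊕ Fin m) F₀) : Matrix (Fin m ⊕ Fin m) (Fin m ⊕ Fin m) F₀))
    (hmul : IsSquare ((mult (stdPlus F₀ m) g : F₀ˣ) : F₀)) :
    ThetaP m emb g ∈ Cfsg.Inn (Cfsg.POmega F ⇑(stdPlus F m)) := by
  classical
  have h2₀ : (2 : F₀) ≠ 0 := two_ne_zero_of_emb emb h2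
  have hQ0₀ : ∃ v : (Fin m ⊕ Fin m) → F₀, stdPlus F₀ m v ≠ 0 :=
    Cfsg.Agent.Helper23.GF.gfc_exists_ne_zero (F := F₀) (m := m) (by omega)
  have hcardI : Fintype.card (Fin m ⊕ Fin m) = 2 * m := by
    simp; ring
  obtain ⟨c, hc⟩ := hmul
  have hc0 : c ≠ 0 := by
    rintro rfl
    rw [mul_zero] at hc
    exact Units.ne_zero _ hc
  set cU : F₀ˣ := Units.mk0 c hc0 with hcU
  set s₀ : GL (Fin m ⊕ Fin m) F₀ := (sclHom cU)⁻¹ * g.1 with hs₀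
  have hg_eq : (g : GL (Fin m ⊕ Fin m) F₀) = sclHom cU * s₀ := by
    rw [hs₀, mul_inv_cancel_left]
  have hgmat : ((g : GL (Fin m ⊕ Fin m) F₀) : Matrix (Fin m ⊕ Fin m) (Fin m ⊕ Fin m) F₀) =
      c • (s₀ : Matrix (Fin m ⊕ Fin m) (Fin m ⊕ Fin m) F₀) := by
    rw [hg_eq, Units.val_mul, sclHom_coe, Matrix.smul_mul, Matrix.one_mul]
    rfl
  have hs₀O : s₀ ∈ Cfsg.isometryGroup F₀ ⇑(stdPlus F₀ m) := by
    rw [mem_iso_iff]
    intro u
    have h1 := mult_spec (stdPlus F₀ m) g u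
    rw [gmat, hgmat, Matrix.smul_mulVec, QuadraticMap.map_smul, hc, smul_eq_mul] at h1
    exact mul_left_cancel₀ (mul_ne_zero hc0 hc0) h1
  have hd := (preserves_iff_dHom_plus m h2₀ hQ0₀ g.1 g.2).1 hpres
  have hdet : (s₀ : Matrix (Fin m ⊕ Fin m) (Fin m ⊕ Fin m) F₀).det = 1 := by
    have h3 := dHom_coe (stdPlus F₀ m) hQ0₀ m ⟨g.1, g.2⟩
    rw [hd, Units.val_one] at h3
    have h4 : gmat (stdPlus F₀ m) ⟨g.1, g.2⟩ =
        c • (s₀ : Matrix (Fin m ⊕ Fin m) (Fin m ⊕ Fin m) F₀) := hgmat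
    have h5 : ((mult (stdPlus F₀ m) ⟨g.1, g.2⟩ : F₀ˣ) : F₀) = c * c := hc
    rw [h4, h5, Matrix.det_smul, hcardI] at h3
    have hcm : (c * c) ^ m ≠ 0 := pow_ne_zero _ (mul_ne_zero hc0 hc0)
    have h6 : c ^ (2 * m) = (c * c) ^ m := by
      rw [pow_mul, pow_two]
    rw [h6] at h3
    field_simp at h3
    exact h3.symm
  have hs₀SO : s₀ ∈ SOG (stdPlus F₀ m) := (mem_SOG_iff _ _).2 ⟨hs₀O, hdet⟩
  have hsOm := emb_SO_mem_Omega emb hsq h2 hm s₀ hs₀SO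
  have hsGO : Matrix.GeneralLinearGroup.map emb s₀ ∈ GO (stdPlus F m) :=
    iso_le_sim _ (OmGL_le_iso _ hsOm)
  have hdecomp : ((Cfsg.Agent.Helper5.OMF.embGO' (isBC_stdPlus (F := F) m emb) g :
      ↥(GO (stdPlus F m))) : GL (Fin m ⊕ Fin m) F) =
      sclHom (Units.map (emb : F₀ →* F) cU) * Matrix.GeneralLinearGroup.map emb s₀ := by
    rw [ThetaP_val, hg_eq, map_mul, map_sclHom]
  rw [ThetaP_apply, PhiGO_eq_of_scl (stdPlus F m) hperf hcent _ _ _ hsGO hdecomp, inn_eq]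
  exact ⟨⟨_, sim_le_NO _ hsGO⟩, Subgroup.mem_subgroupOf.2 hsOm, rfl⟩

end Cfsg.Agent.Helper40.OPF
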