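import Cfsg.Agent.Lib.Helper40.IsoOrth
import Cfsg.Agent.Lib.Helper14.WittQuad

set_option autoImplicit false

namespace Cfsg.Agent.Helper40.Iso

open Polynomial QuadraticMap

universe u w

variable {F : Type w} [Field F]
variable {V : Type u} [AddCommGroup V] [Module F V]

/-- the polar form of a quadratic form as an unbundled symmetric form -/
def polarForm (Q : QuadraticForm F V) : SForm (RingHom.id F) (1 : F) V where
  B u v := polarBilin Q u v
  add_left u v w := by simp
  smul_left c u v := by simp
  add_right u v w := by simp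
  smul_right c u v := by simp
  symm u v := by
    rw [one_mul, RingHom.id_apply]
    exact Cfsg.Agent.Helper14.Witt.B_comm Q v u

theorem polarForm_B (Q : QuadraticForm F V) (u v : V) :
    (polarForm Q).B u v = polarBilin Q u v := rfl

theorem polarForm_nondeg (Q : QuadraticForm F V) (hQ : (polarBilin Q).Nondegenerate) :
    (polarForm Q).Nondeg := fun u hu => hQ.1 u hu

theorem polarForm_isIsom (Q : QuadraticForm F V) (a : Module.End F V)
    (ha : ∀ v, Q (a v) = Q v) : IsIsom (polarForm Q) a :=
  fun u v => Cfsg.Agent.Helper14.Witt.B_map' Q a ha u v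

/-- the value of `Q` at `a u - u` for an isometry `a` -/
theorem Q_sub_of_isom (Q : QuadraticForm F V) (x y : V) (hxy : Q x = Q y) :
    Q (x - y) = polarBilin Q y y - polarBilin Q x y := by
  have h1 := Cfsg.Agent.Helper14.Witt.Q_add Q (x - y) y
  rw [sub_add_cancel] at h1
  have h2 := Cfsg.Agent.Helper14.Witt.B_self Q y
  have h3 : polarBilin Q (x - y) y = polarBilin Q x y - polarBilin Q y y := by
    rw [map_sub, LinearMap.sub_apply]
  rw [h3, h2] at h1
  rw [h2]
  linear_combination hxy - h1

variable [FiniteDimensional F V]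

/-- **Semisimple isometries of odd order of a quadratic space with the same characteristic
polynomial are conjugate in the isometry group.** -/
theorem exists_isometry_conj [Finite F] (Q : QuadraticForm F V)
    (hQ : (polarBilin Q).Nondegenerate) (a b : Module.End F V) (ha : ∀ v, Q (a v) = Q v)
    (hb : ∀ v, Q (b v) = Q v) {N : ℕ} (hodd : Odd N) (hsq : Squarefree (X ^ N - 1 : F[X]))
    (haN : a ^ N = 1) (hbN : b ^ N = 1) (hc : a.charpoly = b.charpoly) :
    ∃ G : V ≃ₗ[F] V, (∀ v, Q (G v) = Q v) ∧ ∀ v, G (a v) = b (G v) := by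
  have hN : 0 < N := hodd.pos
  set β := polarForm Q with hβdef
  have hβ : β.Nondeg := polarForm_nondeg Q hQ
  have hia : IsIsom β a := polarForm_isIsom Q a ha
  have hib : IsIsom β b := polarForm_isIsom Q b hb
  -- the factorisation `X^N - 1 = (X - 1) * R`
  set p : F[X] := X - 1 with hp
  set R : F[X] := ∑ i ∈ Finset.range N, X ^ i with hR
  have hPR : (X ^ N - 1 : F[X]) = p * R := by
    rw [hp, hR, mul_comm, geom_sum_mul]
  have hcop : IsCoprime p R := by
    rw [hPR] at hsq
    exact (squarefree_mul_iff.mp hsq).1.isCoprime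
  have haP : aeval a (p * R) = 0 := by rw [← hPR]; exact aeval_X_pow_sub_one_end haN
  have hbP : aeval b (p * R) = 0 := by rw [← hPR]; exact aeval_X_pow_sub_one_end hbN
  have hca := SS.isCompl_ker_aeval a hcop haP
  have hcb := SS.isCompl_ker_aeval b hcop hbP
  have hpa : ∀ v, v ∈ LinearMap.ker (aeval a p) ↔ a v = v := by
    intro v
    rw [LinearMap.mem_ker, hp, map_sub, aeval_X, map_one, LinearMap.sub_apply,
      Module.End.one_apply, sub_eq_zero]
  have hpb : ∀ v, v ∈ LinearMap.ker (aeval b p) ↔ b v = v := by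
    intro v
    rw [LinearMap.mem_ker, hp, map_sub, aeval_X, map_one, LinearMap.sub_apply,
      Module.End.one_apply, sub_eq_zero]
  -- the complements
  have hWa := SS.ker_aeval_invariant a R
  have hWb := SS.ker_aeval_invariant b R
  -- fixed vectors are orthogonal to the complement
  have horth : ∀ (c : Module.End F V), (∀ v, Q (c v) = Q v) → ∀ v, c v = v →
      ∀ w ∈ LinearMap.ker (aeval c R), polarBilin Q v w = 0 := by
    intro c hcQ v hv w hw
    obtain ⟨w', rfl⟩ := exists_preimage_of_mem_ker hcop w hw
    rw [hp, map_sub, aeval_X, map_one, LinearMap.sub_apply, Module.End.one_apply, map_sub]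
    nth_rewrite 1 [← hv]
    rw [Cfsg.Agent.Helper14.Witt.B_map' Q c hcQ, sub_self]
  -- nondegeneracy of the complement
  have hndW : ∀ (c : Module.End F V), (∀ v, Q (c v) = Q v) →
      IsCompl (LinearMap.ker (aeval c p)) (LinearMap.ker (aeval c R)) →
      (∀ v, v ∈ LinearMap.ker (aeval c p) ↔ c v = v) →
      (β.restrict (LinearMap.ker (aeval c R))).Nondeg := by
    intro c hcQ hcompl hpc w hw
    apply Subtype.ext
    apply hβ
    intro x
    obtain ⟨v, w₂, hv, hw₂, rfl⟩ := Submodule.codisjoint_iff_exists_add_eq.mp hcompl.codisjoint x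
    rw [β.add_right]
    have h1 : β.B (w : V) v = 0 := by
      apply β.ortho_symm
      exact horth c hcQ v ((hpc v).mp hv) w w.2
    rw [h1, zero_add]
    exact hw ⟨w₂, hw₂⟩
  have hnda := hndW a ha hca hpa
  have hndb := hndW b hb hcb hpb
  -- characteristic polynomials of the restrictions
  have hsa := SS.sim_of_isCompl a hca (SS.ker_aeval_invariant a p) hWa
  have hsb := SS.sim_of_isCompl b hcb (SS.ker_aeval_invariant b p) hWb
  have hcha := hsa.charpoly_eq
  have hchb := hsb.charpoly_eq
  rw [LinearMap.charpoly_prodMap] at hcha hchb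
  obtain ⟨-, hc₂⟩ := SS.charpoly_eq_of_coprime hcop _ _ _ _ (SS.aeval_restrict_ker a p)
    (SS.aeval_restrict_ker a R) (SS.aeval_restrict_ker b p) (SS.aeval_restrict_ker b R)
    (hcha.trans (hc.trans hchb.symm))
  -- no eigenvalue `±1` on the complement
  have hfix : ∀ w ∈ LinearMap.ker (aeval a R), a (a w) = w → w = 0 := by
    intro w hw h2
    obtain ⟨k, hk⟩ := hodd
    have h3 : ∀ j : ℕ, (a ^ (2 * j)) w = w := by
      intro j
      induction j with
      | zero => simp
      | succ j ih =>
        rw [mul_add, mul_one, pow_add, Module.End.mul_apply, pow_two, Module.End.mul_apply, h2, ih]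
    have h4 : a w = w := by
      have h5 : (a ^ N) w = w := by rw [haN, Module.End.one_apply]
      rw [hk, pow_succ', Module.End.mul_apply, h3 k] at h5
      exact h5
    have h7 : w ∈ LinearMap.ker (aeval a p) ⊓ LinearMap.ker (aeval a R) :=
      ⟨(hpa w).mpr h4, hw⟩
    rw [hca.disjoint.eq_bot] at h7
    exact h7
  have hne1 : ∀ v : LinearMap.ker (aeval a R), (a.restrict hWa) ((a.restrict hWa) v) = v →
      v = 0 := by
    intro v hv
    apply Subtype.ext
    apply hfix v.1 v.2
    have := congrArg Subtype.val hv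
    exact this
  obtain ⟨e, he, hform⟩ := isoEquiv_of_charpoly_eq_ne (τ := RingHom.id F) (ε := (1 : F))
    (fun _ => rfl) hN hsq (β.restrict (LinearMap.ker (aeval a R)))
    (β.restrict (LinearMap.ker (aeval b R))) (a.restrict hWa) (b.restrict hWb) hnda hndb
    (hia.restrict hWa) (hib.restrict hWb) (restrict_pow_eq_one haN hWa)
    (restrict_pow_eq_one hbN hWb) hne1 hc₂
  have he' : ∀ w : LinearMap.ker (aeval a R), ((e (a.restrict hWa w) : LinearMap.ker (aeval b R)) : V)
      = b (e w : V) := by
    intro w
    have := congrArg Subtype.val (he w)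
    exact this
  have hform' : ∀ u v : LinearMap.ker (aeval a R),
      polarBilin Q ((e u : LinearMap.ker (aeval b R)) : V) ((e v : LinearMap.ker (aeval b R)) : V) =
        polarBilin Q (u : V) (v : V) := fun u v => hform u v
  -- `e` preserves the quadratic form
  set T : Module.End F (LinearMap.ker (aeval a R)) := a.restrict hWa - 1 with hT
  have hinj : Function.Injective T := by
    rw [← LinearMap.ker_eq_bot, LinearMap.ker_eq_bot']
    intro w hw
    rw [hT, LinearMap.sub_apply, Module.End.one_apply, sub_eq_zero] at hw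
    apply Subtype.ext
    apply hfix w.1 w.2
    have h1 := congrArg Subtype.val hw
    have h1' : a (w : V) = w := h1
    rw [h1', h1']
  have hsurj : Function.Surjective T :=
    LinearMap.surjective_of_injective hinj
  have heQ : ∀ w : LinearMap.ker (aeval a R),
      Q ((e w : LinearMap.ker (aeval b R)) : V) = Q (w : V) := by
    intro w
    obtain ⟨u, rfl⟩ := hsurj w
    have h1 : ((T u : LinearMap.ker (aeval a R)) : V) = a (u : V) - u := rfl
    have h2 : ((e (T u) : LinearMap.ker (aeval b R)) : V) =
        b (e u : V) - (e u : V) := by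
      rw [hT, LinearMap.sub_apply, Module.End.one_apply, map_sub, Submodule.coe_sub, he']
    rw [h1, h2, Q_sub_of_isom Q _ _ (ha u), Q_sub_of_isom Q _ _ (hb _), ← he', hform', hform']
    rfl
  obtain ⟨G, hGQ, hGe⟩ := Cfsg.Agent.Helper14.Witt.witt Q hQ _ _ e heQ
  refine ⟨G, hGQ, ?_⟩
  have hGB : ∀ x y, polarBilin Q (G x) (G y) = polarBilin Q x y :=
    fun x y => Cfsg.Agent.Helper14.Witt.B_map' Q G.toLinearMap hGQ x y
  -- on the complement
  have hG1 : ∀ w ∈ LinearMap.ker (aeval a R), G (a w) = b (G w) := by
    intro w hw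
    have h1 := hGe ⟨w, hw⟩
    have h2 := hGe ⟨a w, hWa w hw⟩
    have h3 := he' ⟨w, hw⟩
    change G (a w) = _ at h2
    change G w = _ at h1
    rw [h2, h1, ← h3]
    rfl
  -- on the fixed space
  have hG2 : ∀ v, a v = v → b (G v) = G v := by
    intro v hv
    obtain ⟨v', w', hv', hw', hsum⟩ :=
      Submodule.codisjoint_iff_exists_add_eq.mp hcb.codisjoint (G v)
    have hperp : ∀ y ∈ LinearMap.ker (aeval b R), polarBilin Q (G v) y = 0 := by
      intro y hy
      have h1 := hGe (e.symm ⟨y, hy⟩)
      rw [LinearEquiv.apply_symm_apply] at h1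
      change G _ = y at h1
      rw [← h1, hGB]
      exact horth a ha v hv _ (e.symm ⟨y, hy⟩).2
    have hw0 : (⟨w', hw'⟩ : LinearMap.ker (aeval b R)) = 0 := by
      apply hndb
      intro y
      change polarBilin Q w' (y : V) = 0
      have h1 : w' = G v - v' := by rw [← hsum]; abel
      rw [h1, map_sub, LinearMap.sub_apply, hperp y y.2,
        horth b hb v' ((hpb v').mp hv') y y.2, sub_zero]
    have hw0' : w' = 0 := congrArg Subtype.val hw0
    rw [hw0', add_zero] at hsum
    rw [← hsum]
    exact (hpb v').mp hv'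
  intro x
  obtain ⟨v, w, hv, hw, rfl⟩ := Submodule.codisjoint_iff_exists_add_eq.mp hca.codisjoint x
  have hv' := (hpa v).mp hv
  rw [map_add, map_add, map_add, map_add, hG1 w hw, hv', hG2 v hv']

end Cfsg.Agent.Helper40.Iso
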