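import Mathlib
import Cfsg.Agent.Lib.Helper13.PSUEich

/-!
# Torus elements of `SU_n(q)` attached to hyperbolic pairs

`exists_torus4`: for two orthogonal hyperbolic pairs `(u, v)`, `(x, y)` and `l, m` with `l m ∈ F_q`,
an element of `SU` acting as `l, (l^q)⁻¹, m, (m^q)⁻¹` on `u, v, x, y`.
`exists_torus3`: for a hyperbolic pair `(u, v)` and a unit vector `e` orthogonal to it, an element of
`SU` acting as `l, (l^q)⁻¹, l^q l⁻¹` on `u, v, e`.
-/

set_option autoImplicit false
set_option linter.unusedSectionVars false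
set_option linter.unusedSimpArgs false
set_option linter.unusedVariables false

namespace Cfsg.Agent.Helper40.PSUTorus

open Module Submodule Matrix
open Cfsg.Agent.Helper13

variable {F : Type*} [Field F] [Fintype F] {q n : ℕ} (hF : Fintype.card F = q ^ 2)

/-- the matrix of `z ↦ z + ((c-1) B(y,z)) x + ((c'-1) B(x,z)) y` -/
def torMat (q : ℕ) (x y : Fin n → F) (c c' : F) : Matrix (Fin n) (Fin n) F :=
  M1 q (c - 1) x y * M1 q (c' - 1) y x

theorem swap_one {x y : Fin n → F} (h : stdB hF n x y = 1) : stdB hF n y x = 1 := by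
  rw [← (stdB_isSymm hF n).eq x y, h, map_one]

theorem swap_zero {x y : Fin n → F} (h : stdB hF n x y = 0) : stdB hF n y x = 0 := by
  rw [← (stdB_isSymm hF n).eq x y, h, map_zero]

theorem torMat_mulVec {x y : Fin n → F} (hyy : stdB hF n y y = 0) (c c' : F) (z : Fin n → F) :
    torMat q x y c c' *ᵥ z =
      z + ((c - 1) * stdB hF n y z) • x + ((c' - 1) * stdB hF n x z) • y := by
  unfold torMat
  rw [← Matrix.mulVec_mulVec, M1_mulVec, M1_mulVec]
  have h1 : Cfsg.hermForm n F q z x = stdB hF n x z := rfl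
  have h2 : Cfsg.hermForm n F q (z + ((c' - 1) * stdB hF n x z) • y) y =
      stdB hF n y (z + ((c' - 1) * stdB hF n x z) • y) := rfl
  rw [h1, h2, map_add, map_smul, hyy, smul_zero, add_zero]
  abel

theorem torMat_det {x y : Fin n → F} (hxy : stdB hF n x y = 1) (c c' : F) :
    (torMat q x y c c').det = c * c' := by
  have hyx := swap_one hF hxy
  unfold torMat
  rw [Matrix.det_mul, M1_det, M1_det]
  have h1 : Cfsg.hermForm n F q x y = stdB hF n y x := rfl
  have h2 : Cfsg.hermForm n F q y x = stdB hF n x y := rfl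
  rw [h1, h2, hxy, hyx]
  ring

theorem torMat_iso {x y : Fin n → F} (hxx : stdB hF n x x = 0) (hyy : stdB hF n y y = 0)
    (hxy : stdB hF n x y = 1) (c c' : F) (h1 : c ^ q * c' = 1) (a b : Fin n → F) :
    stdB hF n (torMat q x y c c' *ᵥ a) (torMat q x y c c' *ᵥ b) = stdB hF n a b := by
  have hyx := swap_one hF hxy
  rw [torMat_mulVec hF hyy, torMat_mulVec hF hyy]
  have h2 : c' ^ q * c = 1 := by
    have h3 : (c ^ q * c') ^ q = 1 := by rw [h1, one_pow]
    rw [mul_pow, ← pow_mul, ← pow_two] at h3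
    have h4 : c ^ q ^ 2 = c := by rw [← hF]; exact FiniteField.pow_card c
    rw [h4] at h3
    rw [mul_comm]; exact h3
  exact torus_isometry (stdB hF n) (stdB_isSymm hF n) x y c c' hxx hyy hxy hyx
    (by rw [frobQ_apply]; exact h1) (by rw [frobQ_apply]; exact h2) a b

include hF in
theorem pow_card_sq (a : F) : a ^ q ^ 2 = a := by rw [← hF]; exact FiniteField.pow_card a

/-- the torus element attached to two orthogonal hyperbolic pairs -/
theorem exists_torus4 {u v x y : Fin n → F} (huu : stdB hF n u u = 0) (hvv : stdB hF n v v = 0)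
    (huv : stdB hF n u v = 1) (hxx : stdB hF n x x = 0) (hyy : stdB hF n y y = 0)
    (hxy : stdB hF n x y = 1) (hux : stdB hF n u x = 0) (huy : stdB hF n u y = 0)
    (hvx : stdB hF n v x = 0) (hvy : stdB hF n v y = 0) {l m : F} (hl : l ≠ 0) (hm : m ≠ 0)
    (hlm : (l * m) ^ q = l * m) :
    ∃ h : ↥(Cfsg.SU n F q), actv h u = l • u ∧ actv h v = (l ^ q)⁻¹ • v ∧ actv h x = m • x ∧
      actv h y = (m ^ q)⁻¹ • y := by
  have hvu := swap_one hF huv
  have hyx := swap_one hF hxy
  have hxu := swap_zero hF hux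
  have hyu := swap_zero hF huy
  have hxv := swap_zero hF hvx
  have hyv := swap_zero hF hvy
  have hlq : l ^ q ≠ 0 := pow_ne_zero _ hl
  have hmq : m ^ q ≠ 0 := pow_ne_zero _ hm
  set M : Matrix (Fin n) (Fin n) F := torMat q u v l (l ^ q)⁻¹ * torMat q x y m (m ^ q)⁻¹ with hM
  have hdet : M.det = 1 := by
    rw [hM, Matrix.det_mul, torMat_det hF huv, torMat_det hF hxy]
    have h1 : l * (l ^ q)⁻¹ * (m * (m ^ q)⁻¹) = (l * m) * ((l * m) ^ q)⁻¹ := by
      rw [mul_pow, _root_.mul_inv]; ring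
    rw [h1, hlm]
    exact mul_inv_cancel₀ (mul_ne_zero hl hm)
  have hiso : ∀ a b, Cfsg.hermForm n F q (M *ᵥ a) (M *ᵥ b) = Cfsg.hermForm n F q a b := by
    intro a b
    have h1 : Cfsg.hermForm n F q (M *ᵥ a) (M *ᵥ b) = stdB hF n (M *ᵥ b) (M *ᵥ a) := rfl
    have h2 : Cfsg.hermForm n F q a b = stdB hF n b a := rfl
    rw [h1, h2, hM, ← Matrix.mulVec_mulVec, ← Matrix.mulVec_mulVec,
      torMat_iso hF huu hvv huv l _ (mul_inv_cancel₀ hlq),
      torMat_iso hF hxx hyy hxy m _ (mul_inv_cancel₀ hmq)]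
  refine ⟨mkSU M hdet hiso, ?_, ?_, ?_, ?_⟩
  · show M *ᵥ u = l • u
    rw [hM, ← Matrix.mulVec_mulVec, torMat_mulVec hF hyy, hyu, hxu, mul_zero, mul_zero, zero_smul,
      zero_smul, add_zero, add_zero, torMat_mulVec hF hvv, hvu, huu, mul_zero, zero_smul, add_zero,
      mul_one, sub_smul, one_smul]
    abel
  · show M *ᵥ v = (l ^ q)⁻¹ • v
    rw [hM, ← Matrix.mulVec_mulVec, torMat_mulVec hF hyy, hyv, hxv, mul_zero, mul_zero, zero_smul,
      zero_smul, add_zero, add_zero, torMat_mulVec hF hvv, hvv, huv, mul_zero, zero_smul, add_zero,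
      mul_one, sub_smul, one_smul]
    abel
  · show M *ᵥ x = m • x
    rw [hM, ← Matrix.mulVec_mulVec, torMat_mulVec hF hyy, hyx, hxx, mul_zero, zero_smul, add_zero,
      mul_one]
    have h1 : x + (m - 1) • x = m • x := by rw [sub_smul, one_smul]; abel
    rw [h1, Matrix.mulVec_smul, torMat_mulVec hF hvv, hvx, hux, mul_zero, mul_zero, zero_smul,
      zero_smul, add_zero, add_zero]
  · show M *ᵥ y = (m ^ q)⁻¹ • y
    rw [hM, ← Matrix.mulVec_mulVec, torMat_mulVec hF hyy, hyy, hxy, mul_zero, zero_smul, add_zero,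
      mul_one]
    have h1 : y + ((m ^ q)⁻¹ - 1) • y = (m ^ q)⁻¹ • y := by rw [sub_smul, one_smul]; abel
    rw [h1, Matrix.mulVec_smul, torMat_mulVec hF hvv, hvy, huy, mul_zero, mul_zero, zero_smul,
      zero_smul, add_zero, add_zero]

/-- the torus element attached to a hyperbolic pair and an orthogonal unit vector -/
theorem exists_torus3 {u v e : Fin n → F} (huu : stdB hF n u u = 0) (hvv : stdB hF n v v = 0)
    (huv : stdB hF n u v = 1) (hee : stdB hF n e e = 1) (hue : stdB hF n u e = 0)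
    (hve : stdB hF n v e = 0) {l : F} (hl : l ≠ 0) :
    ∃ h : ↥(Cfsg.SU n F q), actv h u = l • u ∧ actv h v = (l ^ q)⁻¹ • v ∧
      actv h e = (l ^ q * l⁻¹) • e := by
  have hvu := swap_one hF huv
  have heu := swap_zero hF hue
  have hev := swap_zero hF hve
  have hlq : l ^ q ≠ 0 := pow_ne_zero _ hl
  set c : F := l ^ q * l⁻¹ with hc
  set M : Matrix (Fin n) (Fin n) F := torMat q u v l (l ^ q)⁻¹ * M1 q (c - 1) e e with hM
  have hM1 : ∀ z, M1 q (c - 1) e e *ᵥ z = z + ((c - 1) * stdB hF n e z) • e := by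
    intro z
    rw [M1_mulVec]
    rfl
  have hdet : M.det = 1 := by
    rw [hM, Matrix.det_mul, torMat_det hF huv, M1_det]
    have h1 : Cfsg.hermForm n F q e e = stdB hF n e e := rfl
    rw [h1, hee, hc]
    field_simp
    ring
  have hcc : c ^ q * c = 1 := by
    rw [hc, mul_pow, ← pow_mul, ← pow_two, pow_card_sq hF, inv_pow]
    field_simp
  have hiso : ∀ a b, Cfsg.hermForm n F q (M *ᵥ a) (M *ᵥ b) = Cfsg.hermForm n F q a b := by
    intro a b
    have h1 : Cfsg.hermForm n F q (M *ᵥ a) (M *ᵥ b) = stdB hF n (M *ᵥ b) (M *ᵥ a) := rfl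
    have h2 : Cfsg.hermForm n F q a b = stdB hF n b a := rfl
    rw [h1, h2, hM, ← Matrix.mulVec_mulVec, ← Matrix.mulVec_mulVec,
      torMat_iso hF huu hvv huv l _ (mul_inv_cancel₀ hlq), hM1, hM1]
    exact quasirefl_isometry (stdB hF n) (stdB_isSymm hF n) e c hee
      (by rw [frobQ_apply]; exact hcc) b a
  refine ⟨mkSU M hdet hiso, ?_, ?_, ?_⟩
  · show M *ᵥ u = l • u
    rw [hM, ← Matrix.mulVec_mulVec, hM1, heu, mul_zero, zero_smul, add_zero,
      torMat_mulVec hF hvv, hvu, huu, mul_zero, zero_smul, add_zero, mul_one, sub_smul, one_smul]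
    abel
  · show M *ᵥ v = (l ^ q)⁻¹ • v
    rw [hM, ← Matrix.mulVec_mulVec, hM1, hev, mul_zero, zero_smul, add_zero,
      torMat_mulVec hF hvv, hvv, huv, mul_zero, zero_smul, add_zero, mul_one, sub_smul, one_smul]
    abel
  · show M *ᵥ e = c • e
    rw [hM, ← Matrix.mulVec_mulVec, hM1, hee, mul_one]
    have h1 : e + (c - 1) • e = c • e := by rw [sub_smul, one_smul]; abel
    rw [h1, Matrix.mulVec_smul, torMat_mulVec hF hvv, hve, hue, mul_zero, mul_zero, zero_smul,
      zero_smul, add_zero, add_zero]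

end Cfsg.Agent.Helper40.PSUTorus
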