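import Cfsg.Agent.Lib.Helper40.ParLabel

set_option autoImplicit false

namespace Cfsg.Agent.Helper40.Par

open Cfsg

/-- the `q`-integer `1 + q + ⋯ + q^j` -/
def Qn (q j : ℕ) : ℕ := ∑ l ∈ Finset.range (j + 1), q ^ l

theorem pow_sub_pow_eq (q : ℕ) (hq : 1 ≤ q) {j D : ℕ} (h : j < D) :
    q ^ D - q ^ j = q ^ j * (q - 1) * Qn q (D - j - 1) := by
  have h1 : (∑ i ∈ Finset.range (D - j - 1 + 1), (q - 1 + 1) ^ i) * (q - 1) + 1 =
      (q - 1 + 1) ^ (D - j - 1 + 1) := geom_sum_mul_add (q - 1) (D - j - 1 + 1)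
  have hq1 : q - 1 + 1 = q := by omega
  rw [hq1] at h1
  have h2 : D - j - 1 + 1 = D - j := by omega
  have h3 : Qn q (D - j - 1) * (q - 1) = q ^ (D - j) - 1 := by
    unfold Qn
    rw [h2] at h1 ⊢
    omega
  have h4 : q ^ D = q ^ j * q ^ (D - j) := by
    rw [← pow_add]
    congr 1
    omega
  rw [mul_assoc, mul_comm (q - 1), h3, Nat.mul_sub, mul_one, ← h4]

variable {n : ℕ} {μ : Fin n → ℕ}

/-- regrouping the product over positions by blocks -/
theorem prod_blocks (hμ : ∑ i, μ i = n) (q : ℕ) :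
    ∏ j : Fin n, Qn q (pS μ (compLabel μ j + 1) - j.val - 1) =
      ∏ t : Fin n, ∏ c ∈ Finset.range (μ t), Qn q c := by
  classical
  have hlt : ∀ j : Fin n, compLabel μ j < n := fun j => (label_spec hμ j).1
  rw [← Finset.prod_fiberwise Finset.univ (fun j : Fin n => (⟨compLabel μ j, hlt j⟩ : Fin n))]
  apply Finset.prod_congr rfl
  intro t _
  rw [← Finset.prod_range_reflect (fun c => Qn q c) (μ t)]
  have hS : pS μ (t.val + 1) = pS μ t.val + μ t := pS_succ μ t
  have hle : pS μ (t.val + 1) ≤ n := by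
    have h1 : pS μ (t.val + 1) ≤ pS μ n := pS_mono μ (by have := t.isLt; omega)
    have h2 := pS_top μ hμ
    omega
  apply Finset.prod_bij' (fun j _ => j.val - pS μ t.val)
    (fun c hc => (⟨pS μ t.val + c, by
      rw [Finset.mem_range] at hc
      omega⟩ : Fin n))
  case hi =>
    intro j hj
    rw [Finset.mem_filter] at hj
    have hjt : compLabel μ j = t.val := congrArg Fin.val hj.2
    obtain ⟨-, h1, h2⟩ := label_spec hμ j
    rw [hjt] at h1 h2
    rw [Finset.mem_range]
    omega
  case hj =>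
    intro c hc
    rw [Finset.mem_range] at hc
    rw [Finset.mem_filter]
    refine ⟨Finset.mem_univ _, ?_⟩
    apply Fin.ext
    exact label_of_mem _ t.val t.isLt (by simp) (by simp only; omega)
  case left_inv =>
    intro j hj
    rw [Finset.mem_filter] at hj
    have hjt : compLabel μ j = t.val := congrArg Fin.val hj.2
    obtain ⟨-, h1, h2⟩ := label_spec hμ j
    rw [hjt] at h1
    apply Fin.ext
    simp only
    omega
  case right_inv =>
    intro c hc
    simp
  case h =>
    intro j hj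
    rw [Finset.mem_filter] at hj
    have hjt : compLabel μ j = t.val := congrArg Fin.val hj.2
    obtain ⟨-, h1, h2⟩ := label_spec hμ j
    rw [hjt] at h1 h2
    rw [hjt, hS]
    congr 1
    omega

end Cfsg.Agent.Helper40.Par
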