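import Mathlib
import Cfsg.Prelude.Def_LinearParabolics

set_option autoImplicit false

namespace Cfsg.Agent.Helper40.Par

open Cfsg

variable {n : ℕ} (μ : Fin n → ℕ)

/-- partial sums `μ 0 + ⋯ + μ (t-1)` -/
def pS (t : ℕ) : ℕ := ∑ k : Fin n, if k.val < t then μ k else 0

theorem pS_zero : pS μ 0 = 0 := by simp [pS]

theorem pS_mono {s t : ℕ} (h : s ≤ t) : pS μ s ≤ pS μ t := by
  unfold pS
  apply Finset.sum_le_sum
  intro k _
  by_cases h1 : k.val < s
  · rw [if_pos h1, if_pos (by omega)]
  · rw [if_neg h1]
    exact Nat.zero_le _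

theorem pS_succ (t : Fin n) : pS μ (t.val + 1) = pS μ t.val + μ t := by
  unfold pS
  have : ∀ k : Fin n, (if k.val < t.val + 1 then μ k else 0) =
      (if k.val < t.val then μ k else 0) + (if k = t then μ k else 0) := by
    intro k
    by_cases h1 : k.val < t.val
    · have : k ≠ t := fun h => by rw [h] at h1; omega
      rw [if_pos h1, if_pos (by omega), if_neg this, add_zero]
    · by_cases h2 : k = t
      · rw [h2]; simp
      · have : ¬ k.val < t.val + 1 := by
          intro h3
          apply h2
          apply Fin.ext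
          omega
        rw [if_neg h1, if_neg this, if_neg h2]
  rw [Finset.sum_congr rfl (fun k _ => this k), Finset.sum_add_distrib, Finset.sum_ite_eq' Finset.univ t]
  simp

theorem pS_top (hμ : ∑ i, μ i = n) : pS μ n = n := by
  unfold pS
  rw [Finset.sum_congr rfl (fun k _ => if_pos k.isLt), hμ]

theorem compLabel_eq (i : Fin n) :
    compLabel μ i = (Finset.univ.filter fun j : Fin n => pS μ (j.val + 1) ≤ i.val).card := by
  unfold compLabel
  congr 1
  apply Finset.filter_congr
  intro j _
  have : (∑ k ∈ Finset.univ.filter (fun k : Fin n => k ≤ j), μ k) = pS μ (j.val + 1) := by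
    unfold pS
    rw [Finset.sum_filter]
    apply Finset.sum_congr rfl
    intro k _
    have : k ≤ j ↔ k.val < j.val + 1 := by rw [Fin.le_def]; omega
    simp only [this]
  rw [this]

theorem card_filter_val_lt (t : ℕ) (ht : t ≤ n) :
    (Finset.univ.filter fun j : Fin n => j.val < t).card = t := by
  rw [Fin.card_filter_val_lt]
  exact min_eq_right ht

variable {μ}

theorem label_of_mem (i : Fin n) (t : ℕ) (ht : t < n) (h1 : pS μ t ≤ i.val)
    (h2 : i.val < pS μ (t + 1)) : compLabel μ i = t := by
  rw [compLabel_eq, ← card_filter_val_lt t ht.le]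
  congr 1
  apply Finset.filter_congr
  intro j _
  constructor
  · intro h
    by_contra hlt
    have : pS μ (t + 1) ≤ pS μ (j.val + 1) := pS_mono μ (by omega)
    omega
  · intro h
    have : pS μ (j.val + 1) ≤ pS μ t := pS_mono μ (by omega)
    omega

theorem exists_block (hμ : ∑ i, μ i = n) (i : Fin n) :
    ∃ t, t < n ∧ pS μ t ≤ i.val ∧ i.val < pS μ (t + 1) := by
  classical
  have hex : ∃ t, i.val < pS μ (t + 1) := ⟨n - 1, by
    have hn : 0 < n := Nat.pos_of_ne_zero (fun h => by subst h; exact i.elim0)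
    have : n - 1 + 1 = n := by omega
    rw [this, pS_top μ hμ]
    exact i.isLt⟩
  refine ⟨Nat.find hex, ?_, ?_, Nat.find_spec hex⟩
  · by_contra hge
    have hn : 0 < n := Nat.pos_of_ne_zero (fun h => by subst h; exact i.elim0)
    have h1 : i.val < pS μ (n - 1 + 1) := by
      have : n - 1 + 1 = n := by omega
      rw [this, pS_top μ hμ]
      exact i.isLt
    have := Nat.find_min' hex h1
    omega
  · rcases Nat.eq_zero_or_pos (Nat.find hex) with h0 | h0
    · rw [h0, pS_zero]
      exact Nat.zero_le _
    · have := Nat.find_min hex (m := Nat.find hex - 1) (by omega)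
      have h2 : Nat.find hex - 1 + 1 = Nat.find hex := by omega
      rw [h2] at this
      omega

theorem label_spec (hμ : ∑ i, μ i = n) (i : Fin n) :
    compLabel μ i < n ∧ pS μ (compLabel μ i) ≤ i.val ∧ i.val < pS μ (compLabel μ i + 1) := by
  obtain ⟨t, ht, h1, h2⟩ := exists_block hμ i
  rw [label_of_mem i t ht h1 h2]
  exact ⟨ht, h1, h2⟩

theorem label_le_iff (hμ : ∑ i, μ i = n) (i : Fin n) (t : ℕ) :
    compLabel μ i ≤ t ↔ i.val < pS μ (t + 1) := by
  obtain ⟨-, h1, h2⟩ := label_spec hμ i
  constructor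
  · intro h
    have : pS μ (compLabel μ i + 1) ≤ pS μ (t + 1) := pS_mono μ (by omega)
    omega
  · intro h
    by_contra hlt
    have : pS μ (t + 1) ≤ pS μ (compLabel μ i) := pS_mono μ (by omega)
    omega

theorem label_mono (hμ : ∑ i, μ i = n) {i i' : Fin n} (h : i ≤ i') :
    compLabel μ i ≤ compLabel μ i' := by
  rw [label_le_iff hμ]
  have := (label_spec hμ i').2.2
  have h' : i.val ≤ i'.val := h
  omega

theorem card_label_le (hμ : ∑ i, μ i = n) (t : ℕ) (ht : t < n) :
    (Finset.univ.filter fun i : Fin n => compLabel μ i ≤ t).card = pS μ (t + 1) := by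
  have hle : pS μ (t + 1) ≤ n := by
    have h1 : pS μ (t + 1) ≤ pS μ n := pS_mono μ (by omega)
    have h2 := pS_top μ hμ
    omega
  rw [← card_filter_val_lt (pS μ (t + 1)) hle]
  congr 1
  apply Finset.filter_congr
  intro i _
  exact label_le_iff hμ i t

end Cfsg.Agent.Helper40.Par
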