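import Cfsg.Agent.Lib.Helper40.ChainLI
import Cfsg.Agent.Lib.Helper40.ParLabel

set_option autoImplicit false

namespace Cfsg.Agent.Helper40.Par

open Cfsg Module
open scoped MatrixGroups

variable {F : Type*} [Field F]

section coord

variable {ι : Type*} [Fintype ι]

/-- coordinate subspace: vectors supported on `p` -/
def coordSub (F : Type*) [Field F] (p : ι → Prop) : Submodule F (ι → F) where
  carrier := {v | ∀ i, ¬ p i → v i = 0}
  add_mem' := fun {a b} ha hb i hi => by simp [ha i hi, hb i hi]
  zero_mem' := fun i _ => rfl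
  smul_mem' := fun c v hv i hi => by simp [hv i hi]

omit [Fintype ι] in
theorem mem_coordSub (p : ι → Prop) (v : ι → F) : v ∈ coordSub F p ↔ ∀ i, ¬ p i → v i = 0 := Iff.rfl

/-- coordinates of the coordinate subspace -/
noncomputable def coordEquiv (p : ι → Prop) [DecidablePred p] :
    coordSub F p ≃ₗ[F] ({i // p i} → F) where
  toFun v := fun i => v.1 i.1
  invFun f := ⟨fun i => if h : p i then f ⟨i, h⟩ else 0, fun i hi => by simp [hi]⟩
  map_add' _ _ := rfl
  map_smul' _ _ := rfl
  left_inv v := by
    apply Subtype.ext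
    funext i
    by_cases h : p i
    · simp [h]
    · simp only [h, dif_neg, not_false_eq_true]
      exact (v.2 i h).symm
  right_inv f := by
    funext i
    simp [i.2]

theorem finrank_coordSub (p : ι → Prop) [DecidablePred p] :
    finrank F (coordSub F p) = (Finset.univ.filter p).card := by
  rw [(coordEquiv (F := F) p).finrank_eq, Module.finrank_fintype_fun_eq_card, Fintype.card_subtype]

end coord

variable {n : ℕ} (μ : Fin n → ℕ)

/-- the label bound of column `j` -/
def Lb (j : ℕ) : ℕ := if h : j < n then compLabel μ ⟨j, h⟩ else n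

/-- the chain of coordinate subspaces attached to the composition -/
def Wc (F : Type*) [Field F] (j : ℕ) : Submodule F (Fin n → F) :=
  coordSub F (fun i : Fin n => compLabel μ i ≤ Lb μ j)

variable {μ}

theorem Lb_mono (hμ : ∑ i, μ i = n) {i j : ℕ} (h : i ≤ j) : Lb μ i ≤ Lb μ j := by
  unfold Lb
  by_cases hj : j < n
  · have hi : i < n := by omega
    rw [dif_pos hi, dif_pos hj]
    exact label_mono hμ (Fin.mk_le_mk.mpr h)
  · rw [dif_neg hj]
    by_cases hi : i < n
    · rw [dif_pos hi]
      exact (label_spec hμ ⟨i, hi⟩).1.le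
    · rw [dif_neg hi]

theorem Wc_mono (hμ : ∑ i, μ i = n) (i j : ℕ) (h : i ≤ j) : Wc μ F i ≤ Wc μ F j := by
  intro v hv k hk
  apply hv k
  have := Lb_mono hμ h
  omega

theorem finrank_Wc (hμ : ∑ i, μ i = n) (j : Fin n) :
    finrank F (Wc μ F j.val) = pS μ (compLabel μ j + 1) := by
  classical
  unfold Wc
  rw [finrank_coordSub]
  have : Lb μ j.val = compLabel μ j := by
    unfold Lb
    rw [dif_pos j.isLt]
  rw [this]
  convert card_label_le hμ (compLabel μ j) (label_spec hμ j).1

/-- the parabolic subgroup as chain-subordinate independent families (columns) -/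
noncomputable def parabolicEquiv [Fintype F] :
    ↥(parabolicGL n F μ) ≃ ChainFam (Wc μ F) n :=
  (Equiv.subtypeEquiv (Matrix.equiv_GL_linearindependent n)
    (p := fun g => g ∈ parabolicGL n F μ)
    (q := fun s => ∀ j : Fin n, s.1 j ∈ Wc μ F j.val) (by
      intro g
      change (g : Matrix (Fin n) (Fin n) F).BlockTriangular (compLabel μ) ↔
        ∀ j : Fin n, (g : Matrix (Fin n) (Fin n) F).col j ∈ Wc μ F j.val
      have hL : ∀ j : Fin n, Lb μ j.val = compLabel μ j := fun j => by
        unfold Lb
        rw [dif_pos j.isLt]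
      constructor
      · intro h j i hi
        rw [hL] at hi
        exact h (by omega)
      · intro h i j hij
        have := h j i (by rw [hL]; omega)
        exact this)).trans
  (Equiv.subtypeSubtypeEquivSubtypeInter (fun s : Fin n → Fin n → F => LinearIndependent F s)
    (fun s => ∀ j : Fin n, s j ∈ Wc μ F j.val))

/-- the order of the parabolic subgroup -/
theorem card_parabolic [Fintype F] (hμ : ∑ i, μ i = n) :
    Nat.card ↥(parabolicGL n F μ) =
      ∏ j : Fin n, (Fintype.card F ^ pS μ (compLabel μ j + 1) - Fintype.card F ^ (j : ℕ)) := by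
  rw [Nat.card_congr parabolicEquiv, card_chainFam _ (Wc_mono hμ)]
  apply Finset.prod_congr rfl
  intro j _
  rw [finrank_Wc hμ j, Nat.card_eq_fintype_card]

end Cfsg.Agent.Helper40.Par
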