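import Mathlib
import Cfsg.Agent.Lib.Helper93.RU0
import Cfsg.Agent.Lib.Helper35.RJ0
import Cfsg.Agent.Lib.Helper87.RJP
import Cfsg.Agent.Lib.Helper74.RJT
import Cfsg.Agent.Lib.Helper90.RJR2
import Cfsg.Agent.Lib.Helper40.RJR1

/-! helper40: pieces (L1) `Lam_seed` and (LS) `Lam_step` of helper35's RJ server (S2279). -/

set_option autoImplicit false

namespace Cfsg.Agent.Helper40.RJ

open Matrix Cfsg.Agent.Helper93.RU Cfsg.Agent.Helper35.RJ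

variable {F : Type*} [Field F] {m : ℕ}

/-- (LS) (TS) with `i = 1`, then (R2) with `j = 1`. -/
theorem Lam_step (H : Subgroup (SLm m F)) (lam : F) (hu : uEl m F ∈ H) (hs : ∀ k : ℤ, sK lam k ∈ H)
    (d : ℕ) (hd : d ≤ m) (x : F) (hx : x ∈ Lam H d) : lam * x ∈ Lam H (d + 1) := by
  have hx' : Tjk (m := m) (d : ℤ) 0 x ∈ H := hx
  have hp : piZ m F ((d : ℤ) - 0) = 0 := by
    rw [sub_zero]; exact h40_pi_window d (by omega)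
  have hsh := Cfsg.Agent.Helper74.RJ.Tjk_shift (m := m) (F := F) 1 (d : ℤ) 0 hp x
  have h1 : Tjk (m := m) ((d : ℤ) + 1) (0 + 1) x ∈ H := by
    rw [← hsh]
    exact H.mul_mem (H.mul_mem (H.zpow_mem hu 1) hx') (H.inv_mem (H.zpow_mem hu 1))
  have h2 : Tjk (m := m) (1 + (d : ℤ)) 1 x ∈ H := by
    have e : Tjk (m := m) (1 + (d : ℤ)) 1 x = Tjk (m := m) ((d : ℤ) + 1) (0 + 1) x := by
      rw [show (1 + (d : ℤ)) = (d : ℤ) + 1 by ring, show ((0 : ℤ) + 1) = 1 by norm_num]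
    rw [e]; exact h1
  have h3 := Cfsg.Agent.Helper90.RJ.step_up H lam x 1 d hd (hs 1) h2
  show Tjk (m := m) (((d + 1 : ℕ) : ℤ)) 0 (lam * x) ∈ H
  have e : Tjk (m := m) (((d + 1 : ℕ) : ℤ)) 0 (lam * x) =
      Tjk (m := m) (1 + (d : ℤ)) (1 - 1) (lam * x) := by
    rw [show (((d + 1 : ℕ) : ℤ)) = 1 + (d : ℤ) by push_cast; ring, show ((1 : ℤ) - 1) = 0 by norm_num]
  rw [e]; exact h3

/-- (L1) (R1) + (S0) give `T(1,-1;λ³) ∈ H`; (TS) with `i = 1` (`π(2) = 0`). -/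
theorem Lam_seed (hm : 1 ≤ m) (H : Subgroup (SLm m F)) (lam : F) (hu : uEl m F ∈ H)
    (hs : ∀ k : ℤ, sK lam k ∈ H) : lam ^ 3 ∈ Lam H 2 := by
  have h0 := hs 0
  have h1 := hs 1
  have hseed : (sK (m := m) lam 1 * sK lam 0 * (sK lam 1)⁻¹ * (sK lam 0)⁻¹) * sK lam 0 *
      (sK (m := m) lam 1 * sK lam 0 * (sK lam 1)⁻¹ * (sK lam 0)⁻¹)⁻¹ * (sK lam 0)⁻¹ =
      Tjk 1 (-1) (lam ^ 3) := seed (F := F) hm lam
  have hc : sK (m := m) lam 1 * sK lam 0 * (sK lam 1)⁻¹ * (sK lam 0)⁻¹ ∈ H :=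
    H.mul_mem (H.mul_mem (H.mul_mem h1 h0) (H.inv_mem h1)) (H.inv_mem h0)
  have hT : Tjk (m := m) 1 (-1) (lam ^ 3) ∈ H := by
    rw [← hseed]
    exact H.mul_mem (H.mul_mem (H.mul_mem hc h0) (H.inv_mem hc)) (H.inv_mem h0)
  have hp : piZ m F ((1 : ℤ) - (-1)) = 0 := by
    rw [show ((1 : ℤ) - (-1)) = ((2 : ℕ) : ℤ) by norm_num]
    exact h40_pi_window 2 (by omega)
  have hsh := Cfsg.Agent.Helper74.RJ.Tjk_shift (m := m) (F := F) 1 1 (-1) hp (lam ^ 3)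
  show Tjk (m := m) (((2 : ℕ) : ℤ)) 0 (lam ^ 3) ∈ H
  have e : Tjk (m := m) (((2 : ℕ) : ℤ)) 0 (lam ^ 3) = Tjk (m := m) (1 + 1) (-1 + 1) (lam ^ 3) := by
    rw [show (((2 : ℕ) : ℤ)) = 1 + 1 by norm_num, show ((-1 : ℤ) + 1) = 0 by norm_num]
  rw [e, ← hsh]
  exact H.mul_mem (H.mul_mem (H.zpow_mem hu 1) hT) (H.inv_mem (H.zpow_mem hu 1))

end Cfsg.Agent.Helper40.RJ
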