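import Mathlib
import Cfsg.Agent.Lib.Helper93.RU0
import Cfsg.Agent.Lib.Helper35.RJ0
import Cfsg.Agent.Lib.Helper79.RUB1
import Cfsg.Agent.Lib.Helper44.RUD2
import Cfsg.Agent.Lib.Helper12.RUD1

/-! helper40: piece (W3) `all_mem_W` of helper35's RJ server (S2279). -/

set_option autoImplicit false

namespace Cfsg.Agent.Helper40.RJ

open Matrix Cfsg.Agent.Helper93.RU Cfsg.Agent.Helper35.RJ

variable {F : Type*} [Field F] {m : ℕ}

/-- `J e_{k+1} = e_{k+1} + e_k` -/
theorem h40_uEl_mulVec_eV (k : ℕ) (hk : k + 1 < m + 3) :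
    (uEl m F).1 *ᵥ eV (⟨k + 1, hk⟩ : Fin (m + 3)) =
      eV (⟨k + 1, hk⟩ : Fin (m + 3)) + eV (⟨k, by omega⟩ : Fin (m + 3)) := by
  rw [Cfsg.Agent.Helper79.RU.uEl_val]
  ext i
  simp only [add_mulVec, one_mulVec, Pi.add_apply, eV]
  congr 1
  rw [mulVec_single_one]
  simp only [Nmat, Matrix.of_apply, Matrix.col_apply, Pi.single_apply, Fin.ext_iff]
  by_cases h : i.val = k
  · simp [h]
  · have : ¬ i.val + 1 = k + 1 := by omega
    simp [h, this]

/-- (W3) downward induction: `J e_k = e_k + e_{k-1}`. -/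
theorem all_mem_W (H : Subgroup (SLm m F)) (hu : uEl m F ∈ H) (h : eV (lastI m) ∈ Wset H)
    (k : Fin (m + 3)) : eV k ∈ Wset H := by
  have key : ∀ j : ℕ, ∀ hj : j ≤ m + 2,
      (eV (⟨m + 2 - j, by omega⟩ : Fin (m + 3)) : Fin (m + 3) → F) ∈ Wset H := by
    intro j
    induction j with
    | zero =>
      intro _
      exact h
    | succ j ih =>
      intro hj
      have hprev := ih (by omega)
      have hk : (m + 2 - (j + 1)) + 1 < m + 3 := by omega
      have hidx : (⟨m + 2 - j, by omega⟩ : Fin (m + 3)) = ⟨(m + 2 - (j + 1)) + 1, hk⟩ := by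
        apply Fin.ext; simp only; omega
      rw [hidx] at hprev
      have h1 := Cfsg.Agent.Helper44.RU.W_conj H (uEl m F) hu _ hprev
      rw [h40_uEl_mulVec_eV (F := F) (m + 2 - (j + 1)) hk] at h1
      have h2 := Cfsg.Agent.Helper44.RU.W_smul H (-1) _ hprev
      have h3 := Cfsg.Agent.Helper12.RU.W_add H _ _ h1 h2
      have e : (eV (⟨(m + 2 - (j + 1)) + 1, hk⟩ : Fin (m + 3)) +
          eV (⟨m + 2 - (j + 1), by omega⟩ : Fin (m + 3)) +
          (-1 : F) • eV (⟨(m + 2 - (j + 1)) + 1, hk⟩ : Fin (m + 3)) : Fin (m + 3) → F) =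
          eV (⟨m + 2 - (j + 1), by omega⟩ : Fin (m + 3)) := by
        rw [neg_one_smul]; abel
      rw [e] at h3
      exact h3
  have hk : k = ⟨m + 2 - (m + 2 - k.val), by omega⟩ := by
    apply Fin.ext; simp only; have := k.isLt; omega
  rw [hk]
  exact key (m + 2 - k.val) (by omega)

end Cfsg.Agent.Helper40.RJ
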