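import Cfsg.Agent.Lib.Helper40.IsoMain

set_option autoImplicit false

namespace Cfsg.Agent.Helper40.Iso

open Polynomial

universe w

variable {F : Type w} [Field F]

/-- `f` is the characteristic polynomial of a semisimple isometry of a nondegenerate form -/
def Realizable (τ : F →+* F) (ε : F) (f : F[X]) : Prop :=
  ∃ (V : Type w) (_ : AddCommGroup V) (_ : Module F V) (_ : FiniteDimensional F V)
    (β : SForm τ ε V) (g : Module.End F V) (N : ℕ),
    β.Nondeg ∧ ((∀ c, τ c = c) → ∀ u, β.B u u = 0) ∧ IsIsom β g ∧ 0 < N ∧ (N : F) ≠ 0 ∧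
      g ^ N = 1 ∧ g.charpoly = f

variable {τ : F →+* F} {ε : F}

/-- the orthogonal direct sum of two forms -/
def SForm.prod {V₁ V₂ : Type*} [AddCommGroup V₁] [Module F V₁] [AddCommGroup V₂] [Module F V₂]
    (β₁ : SForm τ ε V₁) (β₂ : SForm τ ε V₂) : SForm τ ε (V₁ × V₂) where
  B u v := β₁.B u.1 v.1 + β₂.B u.2 v.2
  add_left u v w := by
    simp only [Prod.fst_add, Prod.snd_add, β₁.add_left, β₂.add_left]
    ring
  smul_left c u v := by
    simp only [Prod.smul_fst, Prod.smul_snd, β₁.smul_left, β₂.smul_left]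
    ring
  add_right u v w := by
    simp only [Prod.fst_add, Prod.snd_add, β₁.add_right, β₂.add_right]
    ring
  smul_right c u v := by
    simp only [Prod.smul_fst, Prod.smul_snd, β₁.smul_right, β₂.smul_right]
    ring
  symm u v := by
    rw [β₁.symm u.1 v.1, β₂.symm u.2 v.2, map_add]
    ring

theorem Realizable.one : Realizable τ ε (1 : F[X]) := by
  refine ⟨PUnit.{w + 1}, inferInstance, inferInstance, inferInstance,
    { B := fun _ _ => 0
      add_left := by simp
      smul_left := by simp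
      add_right := by simp
      smul_right := by simp
      symm := by simp }, 1, 1, ?_, ?_, ?_, one_pos, by simp, by simp, ?_⟩
  · intro u _
    exact Subsingleton.elim _ _
  · intro _ u
    rfl
  · intro u v
    rfl
  · apply Polynomial.eq_one_of_monic_natDegree_zero (LinearMap.charpoly_monic _)
    rw [LinearMap.charpoly_natDegree]
    exact Module.finrank_zero_of_subsingleton

theorem Realizable.mul {f₁ f₂ : F[X]} (h₁ : Realizable τ ε f₁) (h₂ : Realizable τ ε f₂) :
    Realizable τ ε (f₁ * f₂) := by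
  obtain ⟨V₁, _, _, _, β₁, g₁, N₁, hnd₁, halt₁, hi₁, hN₁, hNF₁, hg₁, hc₁⟩ := h₁
  obtain ⟨V₂, _, _, _, β₂, g₂, N₂, hnd₂, halt₂, hi₂, hN₂, hNF₂, hg₂, hc₂⟩ := h₂
  refine ⟨V₁ × V₂, inferInstance, inferInstance, inferInstance, β₁.prod β₂, g₁.prodMap g₂,
    N₁ * N₂, ?_, ?_, ?_, Nat.mul_pos hN₁ hN₂, ?_, ?_, ?_⟩
  · intro u hu
    have h1 : u.1 = 0 := by
      apply hnd₁
      intro v
      have := hu (v, 0)
      simp only [SForm.prod, β₂.zero_right, add_zero] at this
      exact this
    have h2 : u.2 = 0 := by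
      apply hnd₂
      intro v
      have := hu (0, v)
      simp only [SForm.prod, β₁.zero_right, zero_add] at this
      exact this
    exact Prod.ext h1 h2
  · intro hid u
    simp only [SForm.prod, halt₁ hid, halt₂ hid, add_zero]
  · intro u v
    simp only [SForm.prod, LinearMap.prodMap_apply]
    rw [hi₁, hi₂]
  · rw [Nat.cast_mul]
    exact mul_ne_zero hNF₁ hNF₂
  · have : ∀ k : ℕ, (g₁.prodMap g₂) ^ k = (g₁ ^ k).prodMap (g₂ ^ k) := by
      intro k
      induction k with
      | zero => simp [LinearMap.prodMap_one]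
      | succ k ih => rw [pow_succ, ih, pow_succ, pow_succ, LinearMap.prodMap_mul]
    rw [this, pow_mul, hg₁, one_pow, mul_comm, pow_mul, hg₂, one_pow, LinearMap.prodMap_one]
  · rw [LinearMap.charpoly_prodMap, hc₁, hc₂]

end Cfsg.Agent.Helper40.Iso
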