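import Cfsg.Agent.Lib.Helper40.IsoSD

set_option autoImplicit false

namespace Cfsg.Agent.Helper40.Iso

open Polynomial

variable {F : Type*} [Field F] (τ : F →+* F)

/-- the dual polynomial: the normalised reverse of the `τ`-conjugate -/
noncomputable def dualPoly (r : F[X]) : F[X] := C (τ (r.coeff 0))⁻¹ * (r.map τ).reverse

theorem dualPoly_mul (r s : F[X]) : dualPoly τ (r * s) = dualPoly τ r * dualPoly τ s := by
  unfold dualPoly
  rw [mul_coeff_zero, map_mul, mul_inv, C_mul, Polynomial.map_mul, reverse_mul_of_domain]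
  ring

theorem dualPoly_one : dualPoly τ (1 : F[X]) = 1 := by
  unfold dualPoly
  rw [Polynomial.map_one, ← C_1, reverse_C]
  simp

variable {τ}

theorem reverse_reverse_of_coeff_zero_ne_zero (f : F[X]) (h0 : f.coeff 0 ≠ 0) :
    f.reverse.reverse = f := by
  have h1 : f.natTrailingDegree = 0 := natTrailingDegree_eq_zero.mpr (Or.inr h0)
  have h2 : f.reverse.natDegree = f.natDegree := by rw [reverse_natDegree, h1, Nat.sub_zero]
  rw [reverse, h2, reverse, reflect_reflect]

theorem natDegree_reverse_of_coeff_zero_ne_zero (f : F[X]) (h0 : f.coeff 0 ≠ 0) :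
    f.reverse.natDegree = f.natDegree := by
  have h1 : f.natTrailingDegree = 0 := natTrailingDegree_eq_zero.mpr (Or.inr h0)
  rw [reverse_natDegree, h1, Nat.sub_zero]

theorem map_coeff_zero_ne_zero (r : F[X]) (h0 : r.coeff 0 ≠ 0) : (r.map τ).coeff 0 ≠ 0 := by
  rw [coeff_map]
  exact (map_ne_zero τ).mpr h0

theorem dualPoly_natDegree (r : F[X]) (h0 : r.coeff 0 ≠ 0) :
    (dualPoly τ r).natDegree = r.natDegree := by
  unfold dualPoly
  rw [natDegree_C_mul (inv_ne_zero ((map_ne_zero τ).mpr h0)),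
    natDegree_reverse_of_coeff_zero_ne_zero _ (map_coeff_zero_ne_zero r h0),
    natDegree_map_eq_of_injective τ.injective]

theorem dualPoly_monic (r : F[X]) (h0 : r.coeff 0 ≠ 0) : (dualPoly τ r).Monic := by
  unfold dualPoly Monic
  have h1 : (r.map τ).natTrailingDegree = 0 :=
    natTrailingDegree_eq_zero.mpr (Or.inr (map_coeff_zero_ne_zero r h0))
  rw [leadingCoeff_mul, leadingCoeff_C, reverse_leadingCoeff, trailingCoeff, h1, coeff_map,
    inv_mul_cancel₀ ((map_ne_zero τ).mpr h0)]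

theorem dualPoly_coeff_zero (r : F[X]) (hm : r.Monic) :
    (dualPoly τ r).coeff 0 = (τ (r.coeff 0))⁻¹ := by
  unfold dualPoly
  rw [mul_coeff_zero, coeff_C_zero, coeff_zero_reverse, leadingCoeff_map, hm.leadingCoeff,
    map_one, mul_one]

theorem dualPoly_coeff_zero_ne_zero (r : F[X]) (hm : r.Monic) (h0 : r.coeff 0 ≠ 0) :
    (dualPoly τ r).coeff 0 ≠ 0 := by
  rw [dualPoly_coeff_zero r hm]
  exact inv_ne_zero ((map_ne_zero τ).mpr h0)

theorem dualPoly_dualPoly (hτ : ∀ x, τ (τ x) = x) (r : F[X]) (hm : r.Monic) (h0 : r.coeff 0 ≠ 0) :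
    dualPoly τ (dualPoly τ r) = r := by
  have hmm : (r.map τ).map τ = r := by
    rw [Polynomial.map_map]
    have : τ.comp τ = RingHom.id F := by ext x; simp [hτ]
    rw [this, Polynomial.map_id]
  have hrev : ((r.map τ).reverse).map τ = r.reverse := by
    rw [reverse, ← reflect_map, hmm, natDegree_map_eq_of_injective τ.injective, reverse]
  rw [dualPoly, dualPoly_coeff_zero r hm]
  unfold dualPoly
  rw [Polynomial.map_mul, Polynomial.map_C, hrev, reverse_mul_of_domain, reverse_C,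
    reverse_reverse_of_coeff_zero_ne_zero r h0, ← mul_assoc, ← C_mul]
  have h3 : (τ (τ (r.coeff 0))⁻¹)⁻¹ * τ (τ (r.coeff 0))⁻¹ = 1 := by
    rw [map_inv₀, hτ, inv_inv, mul_inv_cancel₀ h0]
  rw [h3, C_1, one_mul]

/-- a dual-invariant irreducible polynomial is self-dual in the sense of `dualHom` -/
theorem dualHom_eq_zero_of_dualPoly_eq {p : F[X]} [Fact (Irreducible p)] (h0 : p.coeff 0 ≠ 0)
    (hsd : dualPoly τ p = p) : dualHom τ p p = 0 := by
  have hr : AdjoinRoot.root p ≠ 0 := by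
    intro h
    rw [AdjoinRoot.root, AdjoinRoot.mk_eq_zero] at h
    obtain ⟨c, hc⟩ := h
    have := congrArg (fun g => g.coeff 0) hc
    simp only [coeff_X_zero, mul_coeff_zero] at this
    have hc0 : c.coeff 0 = 0 := by
      rcases mul_eq_zero.mp this.symm with h | h
      · exact absurd h h0
      · exact h
    obtain ⟨c', rfl⟩ := X_dvd_iff.mpr hc0
    have h1 : (X : F[X]) * 1 = X * (p * c') :=
      calc (X : F[X]) * 1 = X := mul_one _
        _ = p * (X * c') := hc
        _ = X * (p * c') := by ring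
    have h2 : (1 : F[X]) = p * c' := mul_left_cancel₀ X_ne_zero h1
    exact (Fact.out : Irreducible p).not_isUnit (isUnit_iff_exists_inv.mpr ⟨c', h2.symm⟩)
  have hrev : (p.map τ).reverse = C (τ (p.coeff 0)) * p := by
    have h1 : τ (p.coeff 0) ≠ 0 := (map_ne_zero τ).mpr h0
    unfold dualPoly at hsd
    calc (p.map τ).reverse = C (τ (p.coeff 0)) * (C (τ (p.coeff 0))⁻¹ * (p.map τ).reverse) := by
          rw [← mul_assoc, ← C_mul, mul_inv_cancel₀ h1, C_1, one_mul]
      _ = C (τ (p.coeff 0)) * p := by rw [hsd]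
  rw [dualHom_apply, ← Polynomial.eval₂_map]
  let _ : Invertible (AdjoinRoot.root p)⁻¹ := invertibleOfNonzero (inv_ne_zero hr)
  have h3 := eval₂_reverse_mul_pow (algebraMap F (AdjoinRoot p)) (AdjoinRoot.root p)⁻¹ (p.map τ)
  have h4 : ⅟((AdjoinRoot.root p)⁻¹) = AdjoinRoot.root p := by
    rw [invOf_eq_inv, inv_inv]
  rw [h4, hrev, eval₂_mul, AdjoinRoot.algebraMap_eq, AdjoinRoot.eval₂_root, mul_zero, zero_mul]
    at h3
  exact h3.symm

end Cfsg.Agent.Helper40.Iso
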