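import Cfsg.Agent.Lib.Helper40.RealBase
import Cfsg.Agent.Lib.Helper40.RealDual

set_option autoImplicit false

namespace Cfsg.Agent.Helper40.Iso

open Polynomial

universe w

variable {F : Type w} [Field F] {τ : F →+* F} {ε : F}
variable {p : F[X]} [Fact (Irreducible p)]

theorem adjoinRoot_root_ne_zero (h0 : p.coeff 0 ≠ 0) : AdjoinRoot.root p ≠ 0 := by
  intro h
  rw [AdjoinRoot.root, AdjoinRoot.mk_eq_zero] at h
  obtain ⟨c, hc⟩ := h
  have := congrArg (fun g => g.coeff 0) hc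
  simp only [coeff_X_zero, mul_coeff_zero] at this
  have hc0 : c.coeff 0 = 0 := by
    rcases mul_eq_zero.mp this.symm with h | h
    · exact absurd h h0
    · exact h
  obtain ⟨c', rfl⟩ := X_dvd_iff.mpr hc0
  have h1 : (X : F[X]) * 1 = X * (p * c') :=
    calc (X : F[X]) * 1 = X := mul_one _
      _ = p * (X * c') := hc
      _ = X * (p * c') := by ring
  have h2 : (1 : F[X]) = p * c' := mul_left_cancel₀ X_ne_zero h1
  exact (Fact.out : Irreducible p).not_isUnit (isUnit_iff_exists_inv.mpr ⟨c', h2.symm⟩)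

theorem sdInv_smul (hsd : dualHom τ p p = 0) (c : F) (x : AdjoinRoot p) :
    sdInv hsd (c • x) = τ c • sdInv hsd x := by
  rw [Algebra.smul_def, map_mul, sdInv_of, ← Algebra.smul_def]

/-- symmetrisation of a functional on `F[X]/(p)` -/
noncomputable def symFun (hτ : ∀ x, τ (τ x) = x) (ε : F) (hsd : dualHom τ p p = 0)
    (ℓ₀ : AdjoinRoot p →ₗ[F] F) : AdjoinRoot p →ₗ[F] F where
  toFun x := ℓ₀ x + ε * τ (ℓ₀ (sdInv hsd x))
  map_add' x y := by
    rw [map_add, map_add, map_add, map_add]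
    ring
  map_smul' c x := by
    rw [sdInv_smul, map_smul, map_smul, smul_eq_mul, smul_eq_mul, map_mul, hτ, RingHom.id_apply,
      smul_eq_mul]
    ring

theorem symFun_apply (hτ : ∀ x, τ (τ x) = x) (hsd : dualHom τ p p = 0)
    (ℓ₀ : AdjoinRoot p →ₗ[F] F) (x : AdjoinRoot p) :
    symFun hτ ε hsd ℓ₀ x = ℓ₀ x + ε * τ (ℓ₀ (sdInv hsd x)) := rfl

theorem symFun_sdInv (hτ : ∀ x, τ (τ x) = x) (hε : ε * τ ε = 1) (hsd : dualHom τ p p = 0)
    (ℓ₀ : AdjoinRoot p →ₗ[F] F) (x : AdjoinRoot p) :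
    symFun hτ ε hsd ℓ₀ (sdInv hsd x) = ε * τ (symFun hτ ε hsd ℓ₀ x) := by
  rw [symFun_apply, symFun_apply, sdInv_sdInv hτ, map_add, map_mul, hτ, mul_add, ← mul_assoc, hε,
    one_mul, add_comm]

/-- a nonzero symmetrised functional exists -/
theorem exists_symFun_ne_zero (hτ : ∀ x, τ (τ x) = x) (hε1 : (∀ c, τ c = c) → ε = -1)
    (hsd : dualHom τ p p = 0) (hne : ∃ z, sdInv hsd z ≠ z) :
    ∃ (ℓ₀ : AdjoinRoot p →ₗ[F] F) (x : AdjoinRoot p), symFun hτ ε hsd ℓ₀ x ≠ 0 := by
  have hfd := SS.finiteDimensional_adjoinRoot (Fact.out : Irreducible p).ne_zero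
  by_cases hid : ∀ c, τ c = c
  · obtain ⟨z, hz⟩ := hne
    have hz' : z - sdInv hsd z ≠ 0 := sub_ne_zero.mpr (Ne.symm hz)
    have : ∃ ℓ₀ : Module.Dual F (AdjoinRoot p), ℓ₀ (z - sdInv hsd z) ≠ 0 := by
      by_contra hall
      push Not at hall
      exact hz' ((Module.forall_dual_apply_eq_zero_iff F _).mp hall)
    obtain ⟨ℓ₀, hℓ₀⟩ := this
    refine ⟨ℓ₀, z, ?_⟩
    rw [symFun_apply, hε1 hid, hid]
    intro h
    apply hℓ₀
    rw [map_sub]
    linear_combination h
  · push Not at hid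
    obtain ⟨c, hc⟩ := hid
    have h1 : (1 : AdjoinRoot p) ≠ 0 := one_ne_zero
    have : ∃ ℓ₁ : Module.Dual F (AdjoinRoot p), ℓ₁ 1 ≠ 0 := by
      by_contra hall
      push Not at hall
      exact h1 ((Module.forall_dual_apply_eq_zero_iff F _).mp hall)
    obtain ⟨ℓ₁, hℓ₁⟩ := this
    by_contra hall
    push Not at hall
    have e1 := hall ℓ₁ 1
    have e2 := hall (c • ℓ₁) 1
    rw [symFun_apply, (sdInv hsd).map_one] at e1 e2
    rw [LinearMap.smul_apply, smul_eq_mul, map_mul] at e2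
    have e3 : (c - τ c) * ℓ₁ 1 = 0 := by linear_combination e2 - τ c * e1
    rcases mul_eq_zero.mp e3 with h | h
    · exact hc (sub_eq_zero.mp h).symm
    · exact hℓ₁ h

/-- the form `(x, y) ↦ ℓ (x σ(y))` on the field `F[X]/(p)` -/
noncomputable def fieldForm (hτ : ∀ x, τ (τ x) = x) (hsd : dualHom τ p p = 0)
    (ℓ : AdjoinRoot p →ₗ[F] F)
    (hℓ : ∀ x, ℓ (sdInv hsd x) = ε * τ (ℓ x)) : SForm τ ε (AdjoinRoot p) where
  B x y := ℓ (x * sdInv hsd y)
  add_left x y z := by rw [add_mul, map_add]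
  smul_left c x y := by rw [smul_mul_assoc, map_smul, smul_eq_mul]
  add_right x y z := by rw [map_add, mul_add, map_add]
  smul_right c x y := by rw [sdInv_smul, mul_smul_comm, map_smul, smul_eq_mul]
  symm x y := by
    rw [← hℓ, (sdInv hsd).map_mul, sdInv_sdInv hτ, mul_comm]

theorem fieldForm_B (hτ : ∀ x, τ (τ x) = x) (hsd : dualHom τ p p = 0)
    (ℓ : AdjoinRoot p →ₗ[F] F) (hℓ : ∀ x, ℓ (sdInv hsd x) = ε * τ (ℓ x)) (x y : AdjoinRoot p) :
    (fieldForm hτ hsd ℓ hℓ).B x y = ℓ (x * sdInv hsd y) := rfl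

/-- the field piece: a self-dual irreducible polynomial with nontrivial involution is realizable -/
theorem Realizable.field [Finite F] (hτ : ∀ x, τ (τ x) = x) (hε : ε * τ ε = 1)
    (hε1 : (∀ c, τ c = c) → ε = -1) (hm : p.Monic) (h0 : p.coeff 0 ≠ 0)
    (hsd : dualHom τ p p = 0) (hne : ∃ z, sdInv hsd z ≠ z) : Realizable τ ε p := by
  classical
  have hp : Irreducible p := Fact.out
  have hfd := SS.finiteDimensional_adjoinRoot hp.ne_zero
  have : Finite (AdjoinRoot p) := Module.finite_of_finite F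
  have : Fintype (AdjoinRoot p) := Fintype.ofFinite _
  have hr := adjoinRoot_root_ne_zero h0
  obtain ⟨ℓ₀, x₁, hx₁⟩ := exists_symFun_ne_zero (ε := ε) hτ hε1 hsd hne
  set ℓ := symFun hτ ε hsd ℓ₀ with hℓdef
  have hℓ : ∀ x, ℓ (sdInv hsd x) = ε * τ (ℓ x) := symFun_sdInv hτ hε hsd ℓ₀
  have hroot : AdjoinRoot.root p * sdInv hsd (AdjoinRoot.root p) = 1 := by
    rw [sdInv_root, mul_inv_cancel₀ hr]
  have hN : ((Fintype.card (AdjoinRoot p) - 1 : ℕ) : F) ≠ 0 := by
    intro h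
    have h1 : ((Fintype.card (AdjoinRoot p) - 1 : ℕ) : AdjoinRoot p) = 0 := by
      have := congrArg (algebraMap F (AdjoinRoot p)) h
      simpa using this
    rw [Nat.cast_sub Fintype.card_pos, FiniteField.cast_card_eq_zero] at h1
    simp at h1
  have hNpos : 0 < Fintype.card (AdjoinRoot p) - 1 := by
    have := Fintype.one_lt_card (α := AdjoinRoot p)
    omega
  refine ⟨AdjoinRoot p, inferInstance, inferInstance, inferInstance, fieldForm hτ hsd ℓ hℓ,
    LinearMap.mulLeft F (AdjoinRoot.root p), Fintype.card (AdjoinRoot p) - 1, ?_, ?_, ?_, hNpos,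
    hN, ?_, ?_⟩
  · intro x hx
    by_contra hx0
    apply hx₁
    have := hx (sdInv hsd (x⁻¹ * x₁))
    rw [fieldForm_B, sdInv_sdInv hτ, ← mul_assoc, mul_inv_cancel₀ hx0, one_mul] at this
    exact this
  · intro hid x
    rw [fieldForm_B, hℓdef, symFun_apply, hε1 hid, hid, (sdInv hsd).map_mul, sdInv_sdInv hτ,
      mul_comm x]
    ring
  · intro x y
    rw [fieldForm_B, fieldForm_B, LinearMap.mulLeft_apply, LinearMap.mulLeft_apply,
      (sdInv hsd).map_mul]
    congr 1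
    calc AdjoinRoot.root p * x * (sdInv hsd (AdjoinRoot.root p) * sdInv hsd y)
        = (AdjoinRoot.root p * sdInv hsd (AdjoinRoot.root p)) * (x * sdInv hsd y) := by ring
      _ = x * sdInv hsd y := by rw [hroot, one_mul]
  · have h1 : ∀ (k : ℕ) (x : AdjoinRoot p),
        ((LinearMap.mulLeft F (AdjoinRoot.root p)) ^ k) x = (AdjoinRoot.root p) ^ k * x := by
      intro k
      induction k with
      | zero => intro x; simp
      | succ k ih =>
        intro x
        rw [pow_succ, Module.End.mul_apply, LinearMap.mulLeft_apply, ih, pow_succ]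
        ring
    apply LinearMap.ext
    intro x
    rw [h1, FiniteField.pow_card_sub_one_eq_one _ hr, one_mul]
    rfl
  · let pb := AdjoinRoot.powerBasis hp.ne_zero
    have h1 := charpoly_leftMulMatrix pb
    rw [AdjoinRoot.minpoly_powerBasis_gen_of_monic hm] at h1
    rw [← LinearMap.charpoly_toMatrix _ pb.basis, Algebra.toMatrix_lmul_eq]
    exact h1

end Cfsg.Agent.Helper40.Iso
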