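import Mathlib

set_option autoImplicit false

namespace Cfsg.Agent.Helper40.SS

open Polynomial

variable {F : Type*} [Field F] [Finite F]

/-- the companion block of a monic irreducible polynomial with nonzero constant term -/
theorem exists_irr_block (f : F[X]) (hf : Irreducible f) (hm : f.Monic) (h0 : f.coeff 0 ≠ 0) :
    ∃ (A : Matrix (Fin f.natDegree) (Fin f.natDegree) F) (N : ℕ),
      (N : F) ≠ 0 ∧ A ^ N = 1 ∧ A.charpoly = f := by
  have : Fact (Irreducible f) := ⟨hf⟩
  let pb := AdjoinRoot.powerBasis hf.ne_zero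
  have hfd : FiniteDimensional F (AdjoinRoot f) := pb.finite
  have : Finite (AdjoinRoot f) := Module.finite_of_finite F
  have : Fintype (AdjoinRoot f) := Fintype.ofFinite _
  have hroot : AdjoinRoot.root f ≠ 0 := by
    intro h
    rw [AdjoinRoot.root, AdjoinRoot.mk_eq_zero] at h
    -- f ∣ X
    obtain ⟨c, hc⟩ := h
    have := congrArg (fun g => g.coeff 0) hc
    simp only [coeff_X_zero, mul_coeff_zero] at this
    -- 0 = f.coeff 0 * c.coeff 0
    have hc0 : c.coeff 0 = 0 := by
      rcases mul_eq_zero.mp this.symm with h | h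
      · exact absurd h h0
      · exact h
    -- then X ∣ c, so f is a unit
    have hXc : X ∣ c := X_dvd_iff.mpr hc0
    obtain ⟨c', rfl⟩ := hXc
    have h1 : (X : F[X]) * 1 = X * (f * c') :=
      calc (X : F[X]) * 1 = X := mul_one _
        _ = f * (X * c') := hc
        _ = X * (f * c') := by ring
    have h2 : (1 : F[X]) = f * c' := mul_left_cancel₀ X_ne_zero h1
    exact hf.not_isUnit (isUnit_iff_exists_inv.mpr ⟨c', h2.symm⟩)
  have hN : ((Fintype.card (AdjoinRoot f) - 1 : ℕ) : F) ≠ 0 := by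
    intro h
    have h1 : ((Fintype.card (AdjoinRoot f) - 1 : ℕ) : AdjoinRoot f) = 0 := by
      have := congrArg (algebraMap F (AdjoinRoot f)) h
      simpa using this
    rw [Nat.cast_sub Fintype.card_pos, FiniteField.cast_card_eq_zero] at h1
    simp at h1
  have hA : Algebra.leftMulMatrix pb.basis (AdjoinRoot.root f) ^
      (Fintype.card (AdjoinRoot f) - 1) = 1 := by
    rw [← map_pow, FiniteField.pow_card_sub_one_eq_one _ hroot, map_one]
  have hc : (Algebra.leftMulMatrix pb.basis (AdjoinRoot.root f)).charpoly = f := by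
    have h1 := charpoly_leftMulMatrix pb
    rw [AdjoinRoot.minpoly_powerBasis_gen_of_monic hm] at h1
    exact h1
  exact ⟨Algebra.leftMulMatrix pb.basis (AdjoinRoot.root f), Fintype.card (AdjoinRoot f) - 1,
    hN, hA, hc⟩

/-- every monic polynomial with nonzero constant term is the characteristic polynomial of a
matrix of order prime to the characteristic -/
theorem exists_matrix_of_charpoly_aux :
    ∀ (d : ℕ) (f : F[X]), f.Monic → f.natDegree = d → f.coeff 0 ≠ 0 →
      ∃ (ι : Type) (_ : Fintype ι) (_ : DecidableEq ι) (A : Matrix ι ι F) (N : ℕ),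
        (N : F) ≠ 0 ∧ A ^ N = 1 ∧ A.charpoly = f := by
  intro d
  induction d using Nat.strong_induction_on with
  | _ d ih =>
    intro f hm hd h0
    by_cases hu : IsUnit f
    · have h1 : f = 1 := hm.eq_one_of_isUnit hu
      refine ⟨Fin 0, inferInstance, inferInstance, 1, 1, by simp, by simp, ?_⟩
      rw [h1]
      exact Matrix.charpoly_isEmpty
    · obtain ⟨g, hg, hgf⟩ := WfDvdMonoid.exists_irreducible_factor hu hm.ne_zero
      have hgm : (g * C g.leadingCoeff⁻¹).Monic := monic_mul_leadingCoeff_inv hg.ne_zero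
      have hunit : IsUnit (C g.leadingCoeff⁻¹ : F[X]) := by
        rw [isUnit_C]
        exact (inv_ne_zero (leadingCoeff_ne_zero.mpr hg.ne_zero)).isUnit
      have hassoc : Associated g (g * C g.leadingCoeff⁻¹) :=
        ⟨hunit.unit, by simp⟩
      have hg' : Irreducible (g * C g.leadingCoeff⁻¹) := hassoc.irreducible hg
      have hdvd : g * C g.leadingCoeff⁻¹ ∣ f := hassoc.dvd_iff_dvd_left.mp hgf
      obtain ⟨f', rfl⟩ := hdvd
      set g' := g * C g.leadingCoeff⁻¹ with hg'def
      have hf'm : f'.Monic := hgm.of_mul_monic_left hm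
      have hdeg : (g' * f').natDegree = g'.natDegree + f'.natDegree := hgm.natDegree_mul hf'm
      have hpos : 0 < g'.natDegree := hg'.natDegree_pos
      rw [mul_coeff_zero] at h0
      have hg0 : g'.coeff 0 ≠ 0 := left_ne_zero_of_mul h0
      have hf0 : f'.coeff 0 ≠ 0 := right_ne_zero_of_mul h0
      obtain ⟨ι', _, _, A', N', hN', hA', hc'⟩ := ih f'.natDegree (by omega) f' hf'm rfl hf0
      obtain ⟨A₁, N₁, hN₁, hA₁, hc₁⟩ := exists_irr_block g' hg' hgm hg0
      refine ⟨Fin g'.natDegree ⊕ ι', inferInstance, inferInstance,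
        Matrix.fromBlocks A₁ 0 0 A', N₁ * N', ?_, ?_, ?_⟩
      · rw [Nat.cast_mul]
        exact mul_ne_zero hN₁ hN'
      · rw [Matrix.fromBlocks_diagonal_pow, pow_mul, hA₁, one_pow, mul_comm, pow_mul, hA', one_pow,
          Matrix.fromBlocks_one]
      · rw [Matrix.charpoly_fromBlocks_zero₁₂, hc₁, hc']

/-- matrix version on `Fin n` -/
theorem exists_matrix_of_charpoly {n : ℕ} (f : F[X]) (hm : f.Monic) (hd : f.natDegree = n)
    (h0 : f.coeff 0 ≠ 0) :
    ∃ (A : Matrix (Fin n) (Fin n) F) (N : ℕ), (N : F) ≠ 0 ∧ A ^ N = 1 ∧ A.charpoly = f := by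
  obtain ⟨ι, _, _, A, N, hN, hA, hc⟩ := exists_matrix_of_charpoly_aux n f hm hd h0
  have hcard : Fintype.card ι = n := by
    rw [← hd, ← hc, Matrix.charpoly_natDegree_eq_dim]
  let e : ι ≃ Fin n := Fintype.equivFinOfCardEq hcard
  refine ⟨Matrix.reindexAlgEquiv F F e A, N, hN, ?_, ?_⟩
  · rw [← map_pow, hA, map_one]
  · rw [Matrix.coe_reindexAlgEquiv, Matrix.charpoly_reindex, hc]

end Cfsg.Agent.Helper40.SS
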