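import Cfsg.Agent.Lib.Helper40.SSConj

set_option autoImplicit false

namespace Cfsg.Agent.Helper40.SS

open Polynomial

variable {F : Type*} [Field F] {ι : Type*} [Fintype ι] [DecidableEq ι]

theorem aeval_toLin' (A : Matrix ι ι F) (P : F[X]) :
    aeval (Matrix.toLin' A) P = Matrix.toLin' (aeval A P) := by
  have : Matrix.toLin' A = (Matrix.toLinAlgEquiv' : Matrix ι ι F ≃ₐ[F] _) A := rfl
  rw [this, ← AlgEquiv.coe_toAlgHom, aeval_algHom_apply]
  rfl

theorem charpoly_toLin'_eq (A : Matrix ι ι F) : (Matrix.toLin' A).charpoly = A.charpoly := by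
  rw [← Matrix.toLin_eq_toLin', Matrix.charpoly_toLin]

/-- matrices killed by a squarefree polynomial with equal characteristic polynomials are
conjugate -/
theorem exists_conj_matrix {P : F[X]} (hP : Squarefree P) (A B : Matrix ι ι F)
    (hA : aeval A P = 0) (hB : aeval B P = 0) (hc : A.charpoly = B.charpoly) :
    ∃ X : Matrix ι ι F, IsUnit X.det ∧ X * A = B * X := by
  have ha : aeval (Matrix.toLin' A) P = 0 := by rw [aeval_toLin', hA, map_zero]
  have hb : aeval (Matrix.toLin' B) P = 0 := by rw [aeval_toLin', hB, map_zero]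
  obtain ⟨e, he⟩ := sim_of_charpoly_eq hP (Matrix.toLin' A) (Matrix.toLin' B) ha hb
    (by rw [charpoly_toLin'_eq, charpoly_toLin'_eq, hc])
  refine ⟨LinearMap.toMatrix' e.toLinearMap, ?_, ?_⟩
  · rw [LinearMap.det_toMatrix']
    exact LinearEquiv.isUnit_det' e
  · have h1 : e.toLinearMap ∘ₗ Matrix.toLin' A = Matrix.toLin' B ∘ₗ e.toLinearMap := by
      apply LinearMap.ext
      intro v
      exact he v
    have h2 := congrArg LinearMap.toMatrix' h1
    rwa [LinearMap.toMatrix'_comp, LinearMap.toMatrix'_comp, LinearMap.toMatrix'_toLin',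
      LinearMap.toMatrix'_toLin'] at h2

/-- over a finite field, a matrix killed by a squarefree polynomial commutes with matrices of every
determinant -/
theorem exists_commute_matrix [Finite F] [Nonempty ι] {P : F[X]} (hP : Squarefree P)
    (A : Matrix ι ι F) (hA : aeval A P = 0) (δ : F) :
    ∃ Y : Matrix ι ι F, Y * A = A * Y ∧ Y.det = δ := by
  have ha : aeval (Matrix.toLin' A) P = 0 := by rw [aeval_toLin', hA, map_zero]
  obtain ⟨y, hy, hdet⟩ := exists_commute_det hP (Matrix.toLin' A) ha δ
  refine ⟨LinearMap.toMatrix' y, ?_, ?_⟩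
  · have h2 := congrArg LinearMap.toMatrix' hy
    rwa [Module.End.mul_eq_comp, Module.End.mul_eq_comp, LinearMap.toMatrix'_comp,
      LinearMap.toMatrix'_comp, LinearMap.toMatrix'_toLin'] at h2
  · rw [LinearMap.det_toMatrix', hdet]

/-- `X ^ N - 1` is squarefree when `N` is invertible in `F` -/
theorem squarefree_X_pow_sub_one {N : ℕ} (hN : (N : F) ≠ 0) : Squarefree (X ^ N - 1 : F[X]) := by
  have := separable_X_pow_sub_C (1 : F) hN one_ne_zero
  rw [map_one] at this
  exact this.squarefree

theorem aeval_X_pow_sub_one (A : Matrix ι ι F) {N : ℕ} (h : A ^ N = 1) :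
    aeval A (X ^ N - 1 : F[X]) = 0 := by
  simp [h]

end Cfsg.Agent.Helper40.SS
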