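import Cfsg.Agent.Lib.Helper40.RealBase
import Cfsg.Agent.Lib.Helper40.RealDual
import Cfsg.Agent.Lib.Helper40.CharpolyInv
import Cfsg.Agent.Lib.Helper40.SSExist
import Cfsg.Agent.Lib.Helper40.SSMatrix

set_option autoImplicit false

namespace Cfsg.Agent.Helper40.Iso

open Polynomial Matrix

universe w

variable {F : Type w} [Field F] {τ : F →+* F} {ε : F}

section tv

variable {ι : Type*}

/-- entrywise twist of a vector -/
def tv (τ : F →+* F) (v : ι → F) : ι → F := fun i => τ (v i)

theorem tv_add (u v : ι → F) : tv τ (u + v) = tv τ u + tv τ v := by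
  funext i; simp [tv]

theorem tv_smul (c : F) (v : ι → F) : tv τ (c • v) = τ c • tv τ v := by
  funext i; simp [tv]

theorem tv_zero : tv τ (0 : ι → F) = 0 := by
  funext i; simp [tv]

theorem tv_tv (hτ : ∀ x, τ (τ x) = x) (v : ι → F) : tv τ (tv τ v) = v := by
  funext i; simp [tv, hτ]

theorem tv_mulVec [Fintype ι] (A : Matrix ι ι F) (v : ι → F) : tv τ (A *ᵥ v) = (A.map τ) *ᵥ tv τ v := by
  funext i
  simp [tv, Matrix.mulVec, dotProduct, map_sum]

theorem map_dotProduct [Fintype ι] (u v : ι → F) : τ (u ⬝ᵥ v) = tv τ u ⬝ᵥ tv τ v := by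
  simp [tv, dotProduct, map_sum]

theorem tv_id (hid : ∀ c, τ c = c) (v : ι → F) : tv τ v = v := by
  funext i; simp [tv, hid]

end tv

/-- the hyperbolic form on `F^d × F^d` -/
def hypForm (τ : F →+* F) (ε : F) (hτ : ∀ x, τ (τ x) = x) (hε : ε * τ ε = 1) (d : ℕ) :
    SForm τ ε ((Fin d → F) × (Fin d → F)) where
  B u v := u.1 ⬝ᵥ tv τ v.2 + ε * (u.2 ⬝ᵥ tv τ v.1)
  add_left u v w := by
    simp only [Prod.fst_add, Prod.snd_add, add_dotProduct]
    ring
  smul_left c u v := by
    simp only [Prod.smul_fst, Prod.smul_snd, smul_dotProduct, smul_eq_mul]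
    ring
  add_right u v w := by
    simp only [Prod.fst_add, Prod.snd_add, tv_add, dotProduct_add]
    ring
  smul_right c u v := by
    simp only [Prod.smul_fst, Prod.smul_snd, tv_smul, dotProduct_smul, smul_eq_mul]
    ring
  symm u v := by
    rw [map_add, map_mul, map_dotProduct, map_dotProduct, tv_tv hτ, tv_tv hτ, mul_add,
      ← mul_assoc, hε, one_mul, dotProduct_comm (tv τ u.1), dotProduct_comm (tv τ u.2)]
    ring

theorem hypForm_B (hτ : ∀ x, τ (τ x) = x) (hε : ε * τ ε = 1) (d : ℕ)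
    (u v : (Fin d → F) × (Fin d → F)) :
    (hypForm τ ε hτ hε d).B u v = u.1 ⬝ᵥ tv τ v.2 + ε * (u.2 ⬝ᵥ tv τ v.1) := rfl

theorem hypForm_nondeg (hτ : ∀ x, τ (τ x) = x) (hε : ε * τ ε = 1) (d : ℕ) :
    (hypForm τ ε hτ hε d).Nondeg := by
  classical
  have hε0 : ε ≠ 0 := left_ne_zero_of_mul_eq_one hε
  intro u hu
  have h1 : u.1 = 0 := by
    funext i
    have := hu (0, Pi.single i 1)
    rw [hypForm_B] at this
    simp only [tv_zero, dotProduct_zero, mul_zero, add_zero] at this
    have h2 : tv τ (Pi.single i (1 : F)) = Pi.single i 1 := by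
      funext j
      by_cases hji : j = i
      · subst hji; simp [tv]
      · simp [tv, Pi.single_eq_of_ne hji]
    rw [h2, dotProduct_single_one] at this
    exact this
  have h2 : u.2 = 0 := by
    funext i
    have := hu (Pi.single i 1, 0)
    rw [hypForm_B] at this
    simp only [tv_zero, dotProduct_zero, zero_add] at this
    have h2 : tv τ (Pi.single i (1 : F)) = Pi.single i 1 := by
      funext j
      by_cases hji : j = i
      · subst hji; simp [tv]
      · simp [tv, Pi.single_eq_of_ne hji]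
    rw [h2, dotProduct_single_one] at this
    exact (mul_eq_zero.mp this).resolve_left hε0
  exact Prod.ext h1 h2

theorem toLin'_pow'' {ι : Type*} [Fintype ι] [DecidableEq ι] (A : Matrix ι ι F) (k : ℕ) :
    (Matrix.toLin' A) ^ k = Matrix.toLin' (A ^ k) := by
  have : Matrix.toLin' A = (Matrix.toLinAlgEquiv' : Matrix ι ι F ≃ₐ[F] _) A := rfl
  rw [this, ← map_pow]
  rfl

theorem dot_mulVec_eq' {ι : Type*} [Fintype ι] (A : Matrix ι ι F) (u w : ι → F) :
    (A *ᵥ u) ⬝ᵥ w = u ⬝ᵥ (Aᵀ *ᵥ w) := by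
  rw [Matrix.dotProduct_mulVec, Matrix.vecMul_transpose]

/-- the hyperbolic piece: `r * r†` is realizable for every monic `r` with `r(0) ≠ 0` -/
theorem Realizable.hyperbolic [Finite F] (hτ : ∀ x, τ (τ x) = x) (hε : ε * τ ε = 1)
    (hε1 : (∀ c, τ c = c) → ε = -1) (r : F[X]) (hm : r.Monic) (h0 : r.coeff 0 ≠ 0) :
    Realizable τ ε (r * dualPoly τ r) := by
  classical
  obtain ⟨A, N, hNF, hA, hc⟩ := SS.exists_matrix_of_charpoly r hm rfl h0
  have hN0 : N ≠ 0 := by
    rintro rfl
    exact hNF Nat.cast_zero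
  have hN : 0 < N := Nat.pos_of_ne_zero hN0
  set Ai := A ^ (N - 1) with hAi
  have hAiA : Ai * A = 1 := by rw [hAi, ← pow_succ, Nat.sub_add_cancel hN, hA]
  have hAAi : A * Ai = 1 := by rw [hAi, ← pow_succ', Nat.sub_add_cancel hN, hA]
  set A' := (Ai.map τ)ᵀ with hA'
  have hmapmap : ∀ M : Matrix (Fin r.natDegree) (Fin r.natDegree) F, (M.map τ).map τ = M := by
    intro M
    ext i j
    simp [hτ]
  have hA'map : A'.map τ = Aiᵀ := by
    rw [hA', ← Matrix.transpose_map, hmapmap]
  have hττ : τ.comp τ = RingHom.id F := by ext x; simp [hτ]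
  refine ⟨(Fin r.natDegree → F) × (Fin r.natDegree → F), inferInstance, inferInstance,
    inferInstance, hypForm τ ε hτ hε r.natDegree, (Matrix.toLin' A).prodMap (Matrix.toLin' A'), N,
    hypForm_nondeg hτ hε r.natDegree, ?_, ?_, hN, hNF, ?_, ?_⟩
  · intro hid u
    rw [hypForm_B, hε1 hid, tv_id hid, tv_id hid, dotProduct_comm u.2]
    ring
  · intro u v
    rw [hypForm_B, hypForm_B]
    simp only [LinearMap.prodMap_apply, Matrix.toLin'_apply]
    rw [tv_mulVec, tv_mulVec, hA'map, dot_mulVec_eq', Matrix.mulVec_mulVec,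
      ← Matrix.transpose_mul, hAiA, Matrix.transpose_one, Matrix.one_mulVec,
      dot_mulVec_eq' A', Matrix.mulVec_mulVec, hA', Matrix.transpose_transpose,
      ← Matrix.map_mul, hAiA, Matrix.map_one _ (map_zero τ) (map_one τ), Matrix.one_mulVec]
  · have hpow : ∀ k : ℕ, ((Matrix.toLin' A).prodMap (Matrix.toLin' A')) ^ k =
        ((Matrix.toLin' A) ^ k).prodMap ((Matrix.toLin' A') ^ k) := by
      intro k
      induction k with
      | zero => simp [LinearMap.prodMap_one]
      | succ k ih => rw [pow_succ, ih, pow_succ, pow_succ, LinearMap.prodMap_mul]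
    have hA'N : A' ^ N = 1 := by
      have h1 : A' = (τ.mapMatrix Ai)ᵀ := rfl
      rw [h1, ← Matrix.transpose_pow, ← map_pow, hAi, ← pow_mul, mul_comm, pow_mul, hA, one_pow,
        map_one, Matrix.transpose_one]
    rw [hpow, toLin'_pow'', toLin'_pow'', hA, hA'N, Matrix.toLin'_one]
    exact LinearMap.prodMap_one
  · rw [LinearMap.charpoly_prodMap, SS.charpoly_toLin'_eq, SS.charpoly_toLin'_eq, hc]
    congr 1
    rw [hA', Matrix.charpoly_transpose, Matrix.charpoly_map, charpoly_of_mul_eq_one A Ai hAiA, hc,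
      Polynomial.map_mul, Polynomial.map_C, map_inv₀]
    unfold dualPoly
    congr 1
    rw [reverse, ← reflect_map, reverse, natDegree_map_eq_of_injective τ.injective]

end Cfsg.Agent.Helper40.Iso
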