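import Cfsg.Agent.Lib.Helper40.RealHyp
import Cfsg.Agent.Lib.Helper40.RealField

set_option autoImplicit false

namespace Cfsg.Agent.Helper40.Iso

open Polynomial

universe w

variable {F : Type w} [Field F] {τ : F →+* F} {ε : F}

theorem dualPoly_X_sub_C (hid : ∀ c, τ c = c) (c₀ : F) (hc : c₀ * c₀ = 1) :
    dualPoly τ (X - C c₀) = X - C c₀ := by
  have hc0 : c₀ ≠ 0 := left_ne_zero_of_mul_eq_one hc
  have hinv : (-c₀)⁻¹ = -c₀ := by
    rw [inv_eq_iff_eq_inv, inv_neg, neg_inj]
    exact (eq_inv_of_mul_eq_one_left hc)
  unfold dualPoly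
  have h1 : (X - C c₀ : F[X]).coeff 0 = -c₀ := by simp
  have h2 : (X - C c₀ : F[X]).map τ = X + C (-c₀) := by
    rw [Polynomial.map_sub, Polynomial.map_X, Polynomial.map_C, hid, C_neg, sub_eq_add_neg]
  rw [h1, h2, reverse_add_C, hid, hinv]
  have h3 : (X : F[X]).reverse = 1 := by
    have := reverse_mul_X (1 : F[X])
    rw [one_mul] at this
    rw [this, ← C_1, reverse_C]
  rw [h3, natDegree_X, pow_one, mul_add, mul_one, ← mul_assoc, ← C_mul]
  have h4 : -c₀ * -c₀ = 1 := by rw [neg_mul_neg, hc]
  rw [h4, C_1, one_mul, C_neg]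
  ring

theorem eq_X_sub_C_of_root {p : F[X]} (hp : Irreducible p) (hm : p.Monic) (c₀ : F)
    (h : p.IsRoot c₀) : p = X - C c₀ := by
  have hdvd : (X - C c₀) ∣ p := dvd_iff_isRoot.mpr h
  have hassoc := (irreducible_X_sub_C c₀).associated_of_dvd hp hdvd
  exact (eq_of_monic_of_associated (monic_X_sub_C c₀) hm hassoc).symm

theorem dualPoly_cancel {a f₁ : F[X]} (ha : a ≠ 0)
    (ha' : dualPoly τ a = a) (hf : dualPoly τ (a * f₁) = a * f₁) : dualPoly τ f₁ = f₁ := by
  rw [dualPoly_mul, ha'] at hf
  exact mul_left_cancel₀ ha hf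

theorem dualPoly_dvd {a b : F[X]} (h : a ∣ b) : dualPoly τ a ∣ dualPoly τ b := by
  obtain ⟨c, rfl⟩ := h
  rw [dualPoly_mul]
  exact dvd_mul_right _ _

/-- if `p` divides a linear polynomial, the involution of `F[X]/(p)` is trivial -/
theorem sdInv_eq_id_of_dvd_linear {p : F[X]} [Fact (Irreducible p)] (hid : ∀ c, τ c = c)
    (hsd : dualHom τ p p = 0) (c₀ : F) (hdvd : p ∣ X - C c₀) : ∀ z, sdInv hsd z = z := by
  have hroot : AdjoinRoot.root p = algebraMap F (AdjoinRoot p) c₀ := by
    have h1 := AdjoinRoot.mk_eq_zero.mpr hdvd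
    rw [map_sub, AdjoinRoot.mk_X, AdjoinRoot.mk_C] at h1
    rw [AdjoinRoot.algebraMap_eq]
    exact sub_eq_zero.mp h1
  intro z
  induction z using AdjoinRoot.induction_on with
  | ih r =>
    have h2 : AdjoinRoot.mk p r = algebraMap F (AdjoinRoot p) (aeval c₀ r) := by
      rw [← AdjoinRoot.aeval_eq, hroot, aeval_algebraMap_apply]
    rw [h2, sdInv_of, hid]

/-- **Self-dual polynomials are realizable.** -/
theorem realizable_of_selfdual_aux [Finite F] (hτ : ∀ x, τ (τ x) = x) (hε : ε * τ ε = 1)
    (hε1 : (∀ c, τ c = c) → ε = -1) :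
    ∀ (d : ℕ) (f : F[X]), f.natDegree = d → f.Monic → f.coeff 0 ≠ 0 → dualPoly τ f = f →
      ((∀ c, τ c = c) → ∀ c₀ : F, c₀ * c₀ = 1 → Even (f.rootMultiplicity c₀)) →
      Realizable τ ε f := by
  intro d
  induction d using Nat.strong_induction_on with
  | _ d ih =>
    intro f hd hm h0 hself hmult
    by_cases hu : IsUnit f
    · rw [hm.eq_one_of_isUnit hu]
      exact Realizable.one
    · obtain ⟨g, hg, hgf⟩ := WfDvdMonoid.exists_irreducible_factor hu hm.ne_zero
      have hgm : (g * C g.leadingCoeff⁻¹).Monic := monic_mul_leadingCoeff_inv hg.ne_zero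
      have hunit : IsUnit (C g.leadingCoeff⁻¹ : F[X]) := by
        rw [isUnit_C]
        exact (inv_ne_zero (leadingCoeff_ne_zero.mpr hg.ne_zero)).isUnit
      have hassoc : Associated g (g * C g.leadingCoeff⁻¹) := ⟨hunit.unit, by simp⟩
      have hp : Irreducible (g * C g.leadingCoeff⁻¹) := hassoc.irreducible hg
      have hdvd : g * C g.leadingCoeff⁻¹ ∣ f := hassoc.dvd_iff_dvd_left.mp hgf
      generalize g * C g.leadingCoeff⁻¹ = p at hgm hp hdvd
      obtain ⟨f', hf'⟩ := hdvd
      have hf'm : f'.Monic := by
        rw [hf'] at hm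
        exact hgm.of_mul_monic_left hm
      have h0' : p.coeff 0 * f'.coeff 0 ≠ 0 := by
        rw [← mul_coeff_zero, ← hf']
        exact h0
      have hp0 : p.coeff 0 ≠ 0 := left_ne_zero_of_mul h0'
      have hf'0 : f'.coeff 0 ≠ 0 := right_ne_zero_of_mul h0'
      have hpos : 0 < p.natDegree := hp.natDegree_pos
      have : Fact (Irreducible p) := ⟨hp⟩
      have hfne : f ≠ 0 := hm.ne_zero
      by_cases hps : dualPoly τ p = p
      · have hsd := dualHom_eq_zero_of_dualPoly_eq hp0 hps
        by_cases hid : ∀ z, sdInv hsd z = z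
        · -- the involution is trivial: `p = X - C c₀` with `c₀ = ± 1`
          have hτid : ∀ c, τ c = c := by
            intro c
            have := hid (algebraMap F (AdjoinRoot p) c)
            rw [sdInv_of] at this
            exact (algebraMap F (AdjoinRoot p)).injective this
          have hr0 := adjoinRoot_root_ne_zero hp0
          have hroot : AdjoinRoot.root p * AdjoinRoot.root p = 1 := by
            have := hid (AdjoinRoot.root p)
            rw [sdInv_root] at this
            calc AdjoinRoot.root p * AdjoinRoot.root p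
                = AdjoinRoot.root p * (AdjoinRoot.root p)⁻¹ := by rw [this]
              _ = 1 := mul_inv_cancel₀ hr0
          have hc₀ : ∃ c₀ : F, c₀ * c₀ = 1 ∧
              AdjoinRoot.root p = algebraMap F (AdjoinRoot p) c₀ := by
            have h2 : (AdjoinRoot.root p - 1) * (AdjoinRoot.root p + 1) = 0 := by
              linear_combination hroot
            rcases mul_eq_zero.mp h2 with h3 | h3
            · exact ⟨1, by ring, by rw [map_one]; exact sub_eq_zero.mp h3⟩
            · exact ⟨-1, by ring, by rw [map_neg, map_one]; exact eq_neg_of_add_eq_zero_left h3⟩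
          obtain ⟨c₀, hc, hrc⟩ := hc₀
          have hpdvd : p ∣ X - C c₀ := by
            rw [← AdjoinRoot.mk_eq_zero, map_sub, AdjoinRoot.mk_X, AdjoinRoot.mk_C, hrc,
              AdjoinRoot.algebraMap_eq, sub_self]
          have hpX : p = X - C c₀ :=
            eq_of_monic_of_associated hgm (monic_X_sub_C c₀)
              (hp.associated_of_dvd (irreducible_X_sub_C c₀) hpdvd)
          have hproot : p.IsRoot c₀ := by rw [hpX]; simp
          have hfroot : f.IsRoot c₀ := by
            rw [hf', IsRoot, eval_mul, hproot, zero_mul]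
          have heven := hmult hτid c₀ hc
          have hpos' : 0 < f.rootMultiplicity c₀ := (rootMultiplicity_pos hfne).mpr hfroot
          have h2le : 2 ≤ f.rootMultiplicity c₀ := by
            obtain ⟨k, hk⟩ := heven
            omega
          have hsqdvd : p * p ∣ f := by
            have := (le_rootMultiplicity_iff hfne).mp h2le
            rwa [← hpX, sq] at this
          obtain ⟨f₁, hf₁⟩ := hsqdvd
          have hppm : (p * p).Monic := hgm.mul hgm
          have hf₁m : f₁.Monic := by
            rw [hf₁] at hm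
            exact hppm.of_mul_monic_left hm
          have h0₁ : (p * p).coeff 0 * f₁.coeff 0 ≠ 0 := by
            rw [← mul_coeff_zero, ← hf₁]
            exact h0
          have hf₁0 : f₁.coeff 0 ≠ 0 := right_ne_zero_of_mul h0₁
          have hppself : dualPoly τ (p * p) = p * p := by rw [dualPoly_mul, hps]
          have hf₁self : dualPoly τ f₁ = f₁ :=
            dualPoly_cancel hppm.ne_zero hppself (by rw [← hf₁]; exact hself)
          have hdeg : f₁.natDegree < d := by
            rw [← hd, hf₁, hppm.natDegree_mul hf₁m, hgm.natDegree_mul hgm]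
            omega
          have hmult₁ : (∀ c, τ c = c) → ∀ c₁ : F, c₁ * c₁ = 1 →
              Even (f₁.rootMultiplicity c₁) := by
            intro _ c₁ hc₁
            have h1 := hmult hτid c₁ hc₁
            rw [hf₁, rootMultiplicity_mul (by rw [← hf₁]; exact hfne),
              rootMultiplicity_mul hppm.ne_zero] at h1
            have h2 : Even (rootMultiplicity c₁ p + rootMultiplicity c₁ p) := ⟨_, rfl⟩
            exact (Nat.even_add.mp h1).mp h2
          have hR := Realizable.hyperbolic hτ hε hε1 p hgm hp0
          rw [hps] at hR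
          rw [hf₁]
          exact hR.mul (ih _ hdeg f₁ rfl hf₁m hf₁0 hf₁self hmult₁)
        · push Not at hid
          have hR := Realizable.field hτ hε hε1 hgm hp0 hsd hid
          have hf'self : dualPoly τ f' = f' :=
            dualPoly_cancel hgm.ne_zero hps (by rw [← hf']; exact hself)
          have hdeg : f'.natDegree < d := by
            rw [← hd, hf', hgm.natDegree_mul hf'm]
            omega
          have hmult' : (∀ c, τ c = c) → ∀ c₀ : F, c₀ * c₀ = 1 →
              Even (f'.rootMultiplicity c₀) := by
            intro hτid c₀ hc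
            have h1 := hmult hτid c₀ hc
            rw [hf', rootMultiplicity_mul (by rw [← hf']; exact hfne)] at h1
            have h2 : p.rootMultiplicity c₀ = 0 := by
              apply rootMultiplicity_eq_zero
              intro hroot
              have hpX := eq_X_sub_C_of_root hp hgm c₀ hroot
              obtain ⟨z, hz⟩ := hid
              exact hz (sdInv_eq_id_of_dvd_linear hτid hsd c₀ (by rw [← hpX]) z)
            rwa [h2, zero_add] at h1
          rw [hf']
          exact hR.mul (ih _ hdeg f' rfl hf'm hf'0 hf'self hmult')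
      · -- `p` is not self-dual: split off `p * p†`
        have hpdm := dualPoly_monic (τ := τ) p hp0
        have hpdeg := dualPoly_natDegree (τ := τ) p hp0
        have hcop : IsCoprime p (dualPoly τ p) := by
          rw [hp.coprime_iff_not_dvd]
          intro hdvd
          exact hps (eq_of_monic_of_dvd_of_natDegree_le hgm hpdm hdvd hpdeg.le)
        have hpddvd : dualPoly τ p ∣ f := by
          rw [← hself, hf', dualPoly_mul]
          exact dvd_mul_right _ _
        have hadvd : p * dualPoly τ p ∣ f := hcop.mul_dvd ⟨f', hf'⟩ hpddvd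
        obtain ⟨f₁, hf₁⟩ := hadvd
        have ham : (p * dualPoly τ p).Monic := hgm.mul hpdm
        have hf₁m : f₁.Monic := by
          rw [hf₁] at hm
          exact ham.of_mul_monic_left hm
        have h0₁ : (p * dualPoly τ p).coeff 0 * f₁.coeff 0 ≠ 0 := by
          rw [← mul_coeff_zero, ← hf₁]
          exact h0
        have hf₁0 : f₁.coeff 0 ≠ 0 := right_ne_zero_of_mul h0₁
        have haself : dualPoly τ (p * dualPoly τ p) = p * dualPoly τ p := by
          rw [dualPoly_mul, dualPoly_dualPoly hτ p hgm hp0, mul_comm]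
        have hf₁self : dualPoly τ f₁ = f₁ :=
          dualPoly_cancel ham.ne_zero haself (by rw [← hf₁]; exact hself)
        have hdeg : f₁.natDegree < d := by
          rw [← hd, hf₁, ham.natDegree_mul hf₁m, hgm.natDegree_mul hpdm]
          omega
        have hmult₁ : (∀ c, τ c = c) → ∀ c₀ : F, c₀ * c₀ = 1 →
            Even (f₁.rootMultiplicity c₀) := by
          intro hτid c₀ hc
          have h1 := hmult hτid c₀ hc
          rw [hf₁, rootMultiplicity_mul (by rw [← hf₁]; exact hfne)] at h1
          have hnr : ¬ p.IsRoot c₀ := by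
            intro hroot
            have hpX := eq_X_sub_C_of_root hp hgm c₀ hroot
            apply hps
            rw [hpX]
            exact dualPoly_X_sub_C hτid c₀ hc
          have h2 : (p * dualPoly τ p).rootMultiplicity c₀ = 0 := by
            apply rootMultiplicity_eq_zero
            intro hroot
            rw [IsRoot, eval_mul] at hroot
            rcases mul_eq_zero.mp hroot with h | h
            · exact hnr h
            · have h3 : (X - C c₀) ∣ dualPoly τ p := dvd_iff_isRoot.mpr h
              have h4 := dualPoly_dvd (τ := τ) h3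
              rw [dualPoly_X_sub_C hτid c₀ hc, dualPoly_dualPoly hτ p hgm hp0] at h4
              exact hnr (dvd_iff_isRoot.mp h4)
          rwa [h2, zero_add] at h1
        have hR := Realizable.hyperbolic hτ hε hε1 p hgm hp0
        rw [hf₁]
        exact hR.mul (ih _ hdeg f₁ rfl hf₁m hf₁0 hf₁self hmult₁)

theorem realizable_of_selfdual [Finite F] (hτ : ∀ x, τ (τ x) = x) (hε : ε * τ ε = 1)
    (hε1 : (∀ c, τ c = c) → ε = -1) (f : F[X]) (hm : f.Monic) (h0 : f.coeff 0 ≠ 0)
    (hself : dualPoly τ f = f)
    (hmult : (∀ c, τ c = c) → ∀ c₀ : F, c₀ * c₀ = 1 → Even (f.rootMultiplicity c₀)) :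
    Realizable τ ε f :=
  realizable_of_selfdual_aux hτ hε hε1 _ f rfl hm h0 hself hmult

end Cfsg.Agent.Helper40.Iso
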