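import Cfsg.Agent.Lib.Helper40.RealInd

set_option autoImplicit false

namespace Cfsg.Agent.Helper40.Iso

open Polynomial

variable {F : Type*} [Field F]

/-- a polynomial of odd degree with `reverse h = -c₀ h`, `c₀ = ± 1`, vanishes at `c₀` -/
theorem eval_eq_zero_of_reverse (h : F[X]) (c₀ : F) (hc : c₀ * c₀ = 1) (k : ℕ)
    (hd : h.natDegree = 2 * k + 1) (hrev : h.reverse = C (-c₀) * h) : h.eval c₀ = 0 := by
  have hco : ∀ j, j ≤ 2 * k + 1 → h.coeff (2 * k + 1 - j) = -c₀ * h.coeff j := by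
    intro j hj
    have := congrArg (fun p => p.coeff j) hrev
    simp only [coeff_C_mul, coeff_reverse, hd, revAt_le hj] at this
    exact this
  have hpow : ∀ t : ℕ, c₀ ^ (2 * t) = 1 := by
    intro t
    rw [pow_mul, sq, hc, one_pow]
  rw [eval_eq_sum_range, hd]
  have e0 : 2 * k + 1 + 1 = (k + 1) + (k + 1) := by ring
  rw [e0, Finset.sum_range_add]
  rw [← Finset.sum_range_reflect (fun i => h.coeff (k + 1 + i) * c₀ ^ (k + 1 + i)) (k + 1)]
  rw [← Finset.sum_add_distrib]
  apply Finset.sum_eq_zero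
  intro j hj
  rw [Finset.mem_range] at hj
  have e1 : k + 1 + (k + 1 - 1 - j) = 2 * k + 1 - j := by omega
  rw [e1, hco j (by omega)]
  have e2 : c₀ * c₀ ^ (2 * k + 1 - j) = c₀ ^ j := by
    rw [← pow_succ']
    have : 2 * k + 1 - j + 1 = j + 2 * (k + 1 - j) := by omega
    rw [this, pow_add, hpow, mul_one]
  have e3 : -c₀ * h.coeff j * c₀ ^ (2 * k + 1 - j) = -(h.coeff j * (c₀ * c₀ ^ (2 * k + 1 - j))) := by
    ring
  rw [e3, e2]
  ring

theorem dualPoly_pow (τ : F →+* F) (a : F[X]) (k : ℕ) :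
    dualPoly τ (a ^ k) = (dualPoly τ a) ^ k := by
  induction k with
  | zero => rw [pow_zero, pow_zero, dualPoly_one]
  | succ k ih => rw [pow_succ, pow_succ, dualPoly_mul, ih]

/-- a monic palindromic polynomial of even degree has even multiplicity at `± 1` -/
theorem even_rootMultiplicity_of_reverse (f : F[X]) (n : ℕ) (hm : f.Monic)
    (hdeg : f.natDegree = 2 * n) (hrev : f.reverse = f) (c₀ : F) (hc : c₀ * c₀ = 1) :
    Even (f.rootMultiplicity c₀) := by
  by_contra hodd
  rw [Nat.not_even_iff_odd] at hodd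
  obtain ⟨t, ht⟩ := hodd
  have hf0 : f ≠ 0 := hm.ne_zero
  obtain ⟨h, hfh, hndvd⟩ := exists_eq_pow_rootMultiplicity_mul_and_not_dvd f hf0 c₀
  rw [ht] at hfh
  have hid : ∀ c, (RingHom.id F) c = c := fun _ => rfl
  have hcoeff0 : f.coeff 0 = 1 := by
    have := coeff_zero_reverse f
    rw [hrev, hm.leadingCoeff] at this
    exact this
  have hself : dualPoly (RingHom.id F) f = f := by
    unfold dualPoly
    rw [Polynomial.map_id, hcoeff0, RingHom.id_apply, inv_one, C_1, one_mul, hrev]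
  have hlin := dualPoly_X_sub_C (τ := RingHom.id F) hid c₀ hc
  have hselfh : dualPoly (RingHom.id F) h = h := by
    have h1 := hself
    rw [hfh, dualPoly_mul, dualPoly_pow, hlin] at h1
    exact mul_left_cancel₀ (pow_ne_zero _ (X_sub_C_ne_zero c₀)) h1
  have hnegpow : (-c₀) ^ (2 * t + 1) = -c₀ := by
    rw [pow_succ, pow_mul, sq, neg_mul_neg, hc, one_pow, one_mul]
  have hh0 : h.coeff 0 = -c₀ := by
    have h1 := hcoeff0
    rw [hfh, mul_coeff_zero, coeff_zero_eq_eval_zero, eval_pow, eval_sub, eval_X, eval_C, zero_sub,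
      hnegpow] at h1
    have h2 : -c₀ * (-c₀ * h.coeff 0) = -c₀ * 1 := by rw [h1]
    rw [← mul_assoc, neg_mul_neg, hc, one_mul, mul_one] at h2
    exact h2
  have hrevh : h.reverse = C (-c₀) * h := by
    have h1 := hselfh
    unfold dualPoly at h1
    rw [Polynomial.map_id, hh0, RingHom.id_apply] at h1
    have h2 : C (-c₀) * (C (-c₀)⁻¹ * h.reverse) = C (-c₀) * h := by rw [h1]
    have hne : -c₀ ≠ 0 := neg_ne_zero.mpr (left_ne_zero_of_mul_eq_one hc)
    rw [← mul_assoc, ← C_mul, mul_inv_cancel₀ hne, C_1, one_mul] at h2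
    exact h2
  have hh0' : h ≠ 0 := by
    intro h0
    rw [h0, mul_zero] at hfh
    exact hf0 hfh
  have hdegh : h.natDegree + (2 * t + 1) = 2 * n := by
    have h1 := congrArg natDegree hfh
    rw [natDegree_mul (pow_ne_zero _ (X_sub_C_ne_zero c₀)) hh0', natDegree_pow,
      natDegree_X_sub_C, mul_one, hdeg] at h1
    omega
  have hroot := eval_eq_zero_of_reverse h c₀ hc (n - t - 1) (by omega) hrevh
  exact hndvd (dvd_iff_isRoot.mpr hroot)

end Cfsg.Agent.Helper40.Iso
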