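import Cfsg.Agent.Lib.Helper40.RealInd

set_option autoImplicit false

namespace Cfsg.Agent.Helper40.Iso

open Polynomial

universe w v

variable {F : Type w} [Field F] {τ : F →+* F} {ε : F}

theorem conj_pow' {V : Type*} {V₀ : Type*} [AddCommGroup V] [Module F V] [AddCommGroup V₀]
    [Module F V₀] (e : V ≃ₗ[F] V₀) (g : Module.End F V) (k : ℕ) :
    (e.conj g) ^ k = e.conj (g ^ k) := by
  induction k with
  | zero =>
    rw [pow_zero, pow_zero]
    apply LinearMap.ext
    intro v
    simp [LinearEquiv.conj_apply]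
  | succ k ih =>
    rw [pow_succ, pow_succ, ih]
    apply LinearMap.ext
    intro v
    simp [LinearEquiv.conj_apply]

/-- a realizable polynomial is realized on any given nondegenerate space of the right dimension -/
theorem Realizable.transport [Finite F] (hτ : ∀ x, τ (τ x) = x) {f : F[X]}
    (hf : Realizable τ ε f) {V₀ : Type v} [AddCommGroup V₀] [Module F V₀]
    [FiniteDimensional F V₀] (β₀ : SForm τ ε V₀) (hnd : β₀.Nondeg)
    (halt : (∀ c, τ c = c) → ε = -1 ∧ ∀ u, β₀.B u u = 0)
    (hdim : Module.finrank F V₀ = f.natDegree) :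
    ∃ (g₀ : Module.End F V₀) (N : ℕ), IsIsom β₀ g₀ ∧ 0 < N ∧ (N : F) ≠ 0 ∧ g₀ ^ N = 1 ∧
      g₀.charpoly = f := by
  obtain ⟨V, _, _, _, β, g, N, hβ, haltβ, hi, hN, hNF, hg, hc⟩ := hf
  have hfr : Module.finrank F V = Module.finrank F V₀ := by
    rw [hdim, ← hc, LinearMap.charpoly_natDegree]
  have hsq : Squarefree (X ^ 1 - 1 : F[X]) := by
    rw [pow_one]
    have : (X - 1 : F[X]) = X - C 1 := by rw [C_1]
    rw [this]
    exact (irreducible_X_sub_C 1).squarefree
  have hone : IsIsom β (1 : Module.End F V) := fun u v => rfl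
  have hone₀ : IsIsom β₀ (1 : Module.End F V₀) := fun u v => rfl
  obtain ⟨e, -, he⟩ := isoEquiv_of_charpoly_eq hτ one_pos hsq β β₀ 1 1 hβ hnd hone hone₀
    (pow_one 1) (pow_one 1)
    (fun hid => ⟨(halt hid).1, haltβ hid, (halt hid).2⟩)
    (by rw [LinearMap.charpoly_one, LinearMap.charpoly_one, hfr])
  refine ⟨e.conj g, N, ?_, hN, hNF, ?_, ?_⟩
  · intro u v
    rw [LinearEquiv.conj_apply]
    simp only [LinearMap.coe_comp, LinearEquiv.coe_coe, Function.comp_apply]
    rw [he, hi, ← he, LinearEquiv.apply_symm_apply, LinearEquiv.apply_symm_apply]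
  · rw [conj_pow', hg]
    apply LinearMap.ext
    intro v
    simp [LinearEquiv.conj_apply]
  · rw [LinearEquiv.charpoly_conj, hc]

end Cfsg.Agent.Helper40.Iso
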