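import Mathlib
import Cfsg.Agent.Lib.Helper62.SLN0

/-!
# SLNC (L1) `mirror_line_fixed` (helper93's sub-server, TOP-C of helper62's SLN server, S2332)
-/

set_option autoImplicit false

namespace Cfsg.Agent.Helper40.SLNC

open Matrix Module Cfsg.Agent.Helper93.U2 Cfsg.Agent.Helper62.SLN

section SLN

variable {F : Type*} [Field F] [Fintype F] [DecidableEq F] {κ : Type} [Fintype κ] [DecidableEq κ]
  {V : Type*} [AddCommGroup V] [Module ℂ V] [FiniteDimensional ℂ V]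
  (ψ : AddChar F ℂ) (pr : Pairing (κ → F)) (hpr : ∀ w u, pr.β w u = ψ (w ⬝ᵥ u))
  (ρ : Representation ℂ (SpecialLinearGroup (Unit ⊕ κ) F) V)

include hpr

omit [Fintype F] [DecidableEq F] [FiniteDimensional ℂ V] in
/-- piece L1 [M-L]: the mirror weight lines are fixed by `R₂`. -/
theorem mirror_line_fixed
    (σ : SpecialLinearGroup (Unit ⊕ κ) F ≃* SpecialLinearGroup (Unit ⊕ κ) F) (jn : κ)
    (hσ2 : ∀ g, σ (σ g) = g)
    (hσ1 : ∀ i : κ, i ≠ jn → ∀ s : F,
      σ (qEl i (s • (Pi.single jn 1 : κ → F))) = uEl ((-s) • (Pi.single i 1 : κ → F)))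
    (hσ3 : ∀ s : F, σ (uEl (s • (Pi.single jn 1 : κ → F))) = uEl ((-s) • (Pi.single jn 1 : κ → F)))
    (hσ4 : ∀ i j : κ, i ≠ j → i ≠ jn → j ≠ jn → ∀ s : F,
      σ (qEl j (s • (Pi.single i 1 : κ → F))) = qEl i ((-s) • (Pi.single j 1 : κ → F)))
    (hgens : ∀ (j : κ) (v : V),
      (∀ i : κ, i ≠ j → ∀ s : F, ρ (uEl (s • (Pi.single i 1 : κ → F))) v = v) →
      (∀ i : κ, i ≠ j → ∀ s : F, ρ (qEl j (s • (Pi.single i 1 : κ → F))) v = v) →
      v ∈ fixSp ρ (U0set (F := F) j ∪ Qset (F := F) j))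
    (j : κ) (hjn : j ≠ jn) (w : κ → F) (hwj : w j = 0) (hwn : w jn = 0)
    (hstar : ∀ i : κ, i ≠ j → i ≠ jn → ∀ c : κ, (c = j ∨ c = jn) → ∀ s : F,
      ∀ v ∈ wt pr (ρ.comp σ.toMonoidHom) w,
        (ρ.comp σ.toMonoidHom) (qEl i (s • (Pi.single c 1 : κ → F))) v = v)
    (v : V) (hv : v ∈ wt pr (ρ.comp σ.toMonoidHom) w) :
    v ∈ fixSp ρ (U0set (F := F) j ∪ Qset (F := F) j) := by
  -- the action of `ρ ∘ σ` on `v` through `uEl`
  have hwt : ∀ b : κ → F, ρ (σ (uEl b)) v = pr.β w b • v := fun b =>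
    (mem_wsp pr uEl (ρ.comp σ.toMonoidHom) w v).1 hv b
  have hst : ∀ i : κ, i ≠ j → i ≠ jn → ∀ c : κ, (c = j ∨ c = jn) → ∀ s : F,
      ρ (σ (qEl i (s • (Pi.single c 1 : κ → F)))) v = v := fun i hij hin c hc s =>
    hstar i hij hin c hc s v hv
  apply hgens j v
  · intro i hij s
    by_cases hin : i = jn
    · subst hin
      have h1 : (uEl (s • (Pi.single i 1 : κ → F)) : SpecialLinearGroup (Unit ⊕ κ) F) =
          σ (uEl ((-s) • (Pi.single i 1 : κ → F))) := by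
        rw [← hσ3 s, hσ2]
      rw [h1, hwt, hpr]
      have : w ⬝ᵥ ((-s) • (Pi.single i 1 : κ → F)) = 0 := by
        simp [dotProduct_smul, hwn]
      rw [this, AddChar.map_zero_eq_one, one_smul]
    · have h1 : (uEl (s • (Pi.single i 1 : κ → F)) : SpecialLinearGroup (Unit ⊕ κ) F) =
          σ (qEl i ((-s) • (Pi.single jn 1 : κ → F))) := by
        rw [hσ1 i hin (-s), neg_neg]
      rw [h1]
      exact hst i hij hin jn (Or.inr rfl) (-s)
  · intro i hij s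
    by_cases hin : i = jn
    · subst hin
      have h1 : (qEl j (s • (Pi.single i 1 : κ → F)) : SpecialLinearGroup (Unit ⊕ κ) F) =
          σ (uEl ((-s) • (Pi.single j 1 : κ → F))) := by
        rw [← hσ1 j hjn s, hσ2]
      rw [h1, hwt, hpr]
      have : w ⬝ᵥ ((-s) • (Pi.single j 1 : κ → F)) = 0 := by
        simp [dotProduct_smul, hwj]
      rw [this, AddChar.map_zero_eq_one, one_smul]
    · have h1 : (qEl j (s • (Pi.single i 1 : κ → F)) : SpecialLinearGroup (Unit ⊕ κ) F) =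
          σ (qEl i ((-s) • (Pi.single j 1 : κ → F))) := by
        rw [← hσ4 i j hij hin hjn s, hσ2]
      rw [h1]
      exact hst i hij hin j (Or.inl rfl) (-s)

end SLN

end Cfsg.Agent.Helper40.SLNC
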