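import Mathlib
import Cfsg.Agent.Lib.Helper62.SLN0

/-!
# SLNC (L2) `A1_le` (helper93's sub-server, TOP-C of helper62's SLN server, S2332)
-/

set_option autoImplicit false

namespace Cfsg.Agent.Helper40.SLNC

open Matrix Module Cfsg.Agent.Helper93.U2 Cfsg.Agent.Helper62.SLN

section SLN

variable {F : Type*} [Field F] [Fintype F] [DecidableEq F] {κ : Type} [Fintype κ] [DecidableEq κ]
  {V : Type*} [AddCommGroup V] [Module ℂ V] [FiniteDimensional ℂ V]
  (ψ : AddChar F ℂ) (pr : Pairing (κ → F)) (hpr : ∀ w u, pr.β w u = ψ (w ⬝ᵥ u))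
  (ρ : Representation ℂ (SpecialLinearGroup (Unit ⊕ κ) F) V)

include hpr

omit [Fintype F] [DecidableEq F] [FiniteDimensional ℂ V] in
/-- piece L2 [M-L]: `wt (a e_j) ≤ X ⊓ wt* 0`. -/
theorem A1_le
    (σ : SpecialLinearGroup (Unit ⊕ κ) F ≃* SpecialLinearGroup (Unit ⊕ κ) F) (jn : κ)
    (hσ2 : ∀ g, σ (σ g) = g)
    (hσ1 : ∀ i : κ, i ≠ jn → ∀ s : F,
      σ (qEl i (s • (Pi.single jn 1 : κ → F))) = uEl ((-s) • (Pi.single i 1 : κ → F)))
    (hσ3 : ∀ s : F, σ (uEl (s • (Pi.single jn 1 : κ → F))) = uEl ((-s) • (Pi.single jn 1 : κ → F)))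
    (hgenu : ∀ v : V,
      (∀ i : κ, ∀ s : F, (ρ.comp σ.toMonoidHom) (uEl (s • (Pi.single i 1 : κ → F))) v = v) →
      v ∈ wt pr (ρ.comp σ.toMonoidHom) 0)
    (j : κ) (hjn : j ≠ jn) (a : F) (ha : a ≠ 0)
    (h1a : ∀ t : κ → F, ∀ v ∈ wt pr ρ (a • (Pi.single j 1 : κ → F)), ρ (qEl j t) v = v)
    (hB : ∀ i : κ, i ≠ j → i ≠ jn → ∀ s : F,
      ∀ v ∈ wt pr ρ (a • (Pi.single j 1 : κ → F)), ρ (qEl i (s • (Pi.single jn 1 : κ → F))) v = v)
    (v : V) (hv : v ∈ wt pr ρ (a • (Pi.single j 1 : κ → F))) :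
    v ∈ (fixSp ρ (U0set (F := F) j ∪ Qset (F := F) j) ⊓ wt pr (ρ.comp σ.toMonoidHom) 0 :
      Submodule ℂ V) := by
  have hwt : ∀ b : κ → F, ρ (uEl b) v = pr.β (a • (Pi.single j 1 : κ → F)) b • v := fun b =>
    (mem_wsp pr uEl ρ (a • (Pi.single j 1 : κ → F)) v).1 hv b
  rw [Submodule.mem_inf]
  refine ⟨?_, ?_⟩
  · rw [mem_fixSp]
    rintro g (hg | hg)
    · obtain ⟨u, huj, rfl⟩ := hg
      rw [hwt, hpr]
      have : (a • (Pi.single j 1 : κ → F)) ⬝ᵥ u = 0 := by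
        simp [smul_dotProduct, huj]
      rw [this, AddChar.map_zero_eq_one, one_smul]
    · obtain ⟨t, rfl⟩ := hg
      exact h1a t v hv
  · apply hgenu v
    intro i s
    show ρ (σ (uEl (s • (Pi.single i 1 : κ → F)))) v = v
    by_cases hin : i = jn
    · subst hin
      rw [hσ3, hwt, hpr]
      have : (a • (Pi.single j 1 : κ → F)) ⬝ᵥ ((-s) • (Pi.single i 1 : κ → F)) = 0 := by
        simp [dotProduct_smul, hjn]
      rw [this, AddChar.map_zero_eq_one, one_smul]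
    · have h1 : σ (uEl (s • (Pi.single i 1 : κ → F))) =
          qEl i ((-s) • (Pi.single jn 1 : κ → F)) := by
        have := hσ1 i hin (-s)
        rw [neg_neg] at this
        rw [← this, hσ2]
      rw [h1]
      by_cases hij : i = j
      · subst hij
        exact h1a _ v hv
      · exact hB i hij hin (-s) v hv

end SLN

end Cfsg.Agent.Helper40.SLNC
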