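import Mathlib

set_option autoImplicit false

namespace Cfsg.Agent.Helper40.SS

open Polynomial

variable {F : Type*} [Field F]

/-- monic polynomials of degree `n` are parametrised by their lower coefficients -/
noncomputable def monicEquivFun (n : ℕ) : {f : F[X] // f.Monic ∧ f.natDegree = n} ≃ (Fin n → F) :=
  (monicEquivDegreeLT n).trans (degreeLTEquiv F n).toEquiv

theorem monicEquivFun_apply_zero {n : ℕ} (hn : 0 < n)
    (f : {f : F[X] // f.Monic ∧ f.natDegree = n}) :
    monicEquivFun n f ⟨0, hn⟩ = f.1.coeff 0 := by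
  change (f.1.eraseLead).coeff 0 = f.1.coeff 0
  apply eraseLead_coeff_of_ne
  rw [f.2.2]
  exact hn.ne

/-- the number of monic polynomials of degree `n ≥ 1` whose constant term lies in `S` -/
theorem card_monic_coeff_zero [Finite F] {n : ℕ} (hn : 1 ≤ n) (S : Set F) :
    Nat.card {f : {f : F[X] // f.Monic ∧ f.natDegree = n} // f.1.coeff 0 ∈ S} =
      Nat.card S * Nat.card F ^ (n - 1) := by
  obtain ⟨m, rfl⟩ : ∃ m, n = m + 1 := ⟨n - 1, by omega⟩
  have hn' : 0 < m + 1 := Nat.succ_pos m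
  have e1 : {f : {f : F[X] // f.Monic ∧ f.natDegree = m + 1} // f.1.coeff 0 ∈ S} ≃
      {v : Fin (m + 1) → F // v 0 ∈ S} :=
    Equiv.subtypeEquiv (monicEquivFun (m + 1)) (fun f => by
      rw [← monicEquivFun_apply_zero hn' f]
      rfl)
  have e2 : {v : Fin (m + 1) → F // v 0 ∈ S} ≃ {x : F × (Fin m → F) // x.1 ∈ S} :=
    Equiv.subtypeEquiv (Fin.consEquiv (fun _ => F)).symm (fun v => by
      simp [Fin.consEquiv])
  have e3 : {x : F × (Fin m → F) // x.1 ∈ S} ≃ {a : F // a ∈ S} × (Fin m → F) :=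
    Equiv.prodSubtypeFstEquivSubtypeProd
  rw [Nat.card_congr (e1.trans (e2.trans e3)), Nat.card_prod, Nat.card_fun]
  simp

end Cfsg.Agent.Helper40.SS
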