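import Cfsg.Agent.Lib.Helper40.SSMatrix
import Cfsg.Agent.Lib.Helper40.SSExist
import Cfsg.Agent.Lib.Helper40.SSCount

set_option autoImplicit false

namespace Cfsg.Agent.Helper40.SS

open Polynomial

variable {F : Type*} [Field F]

theorem natCast_ne_zero_of_coprime (p : ℕ) [Fact p.Prime] [CharP F p] {N : ℕ} (h : N.Coprime p) :
    (N : F) ≠ 0 := by
  intro h0
  have hdvd : p ∣ N := (CharP.cast_eq_zero_iff F p N).mp h0
  have : p ∣ 1 := by
    have := Nat.dvd_gcd hdvd (dvd_refl p)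
    rwa [h] at this
  exact (Fact.out : p.Prime).one_lt.ne' (Nat.dvd_one.mp this)

theorem coprime_of_natCast_ne_zero (p : ℕ) [Fact p.Prime] [CharP F p] {N : ℕ} (h : (N : F) ≠ 0) :
    N.Coprime p := by
  rw [Nat.coprime_comm, (Fact.out : p.Prime).coprime_iff_not_dvd]
  intro hdvd
  exact h ((CharP.cast_eq_zero_iff F p N).mpr hdvd)

theorem coeff_zero_charpoly_ne_zero {n : ℕ} (A : Matrix (Fin n) (Fin n) F) (h : A.det ≠ 0) :
    A.charpoly.coeff 0 ≠ 0 := by
  intro h0
  rw [Matrix.det_eq_sign_charpoly_coeff, h0, mul_zero] at h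
  exact h rfl

theorem coeff_zero_charpoly_of_det_one {n : ℕ} (A : Matrix (Fin n) (Fin n) F) (h : A.det = 1) :
    A.charpoly.coeff 0 = (-1) ^ n := by
  rw [Matrix.det_eq_sign_charpoly_coeff, Fintype.card_fin] at h
  have h2 : ((-1 : F) ^ n) * ((-1) ^ n) = 1 := by rw [← mul_pow]; simp
  calc A.charpoly.coeff 0 = ((-1 : F) ^ n * (-1) ^ n) * A.charpoly.coeff 0 := by rw [h2, one_mul]
    _ = (-1) ^ n * ((-1) ^ n * A.charpoly.coeff 0) := by ring
    _ = (-1) ^ n := by rw [h, mul_one]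

theorem det_of_coeff_zero_charpoly {n : ℕ} (A : Matrix (Fin n) (Fin n) F)
    (h : A.charpoly.coeff 0 = (-1) ^ n) : A.det = 1 := by
  rw [Matrix.det_eq_sign_charpoly_coeff, Fintype.card_fin, h, ← mul_pow]
  simp

/-- semisimple elements of `GL_n` with the same characteristic polynomial are conjugate -/
theorem isConj_GL {n : ℕ} (g h : GL (Fin n) F) {N : ℕ} (hN : (N : F) ≠ 0) (hg : g ^ N = 1)
    (hh : h ^ N = 1)
    (hc : (g : Matrix (Fin n) (Fin n) F).charpoly = (h : Matrix (Fin n) (Fin n) F).charpoly) :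
    IsConj g h := by
  have hP := squarefree_X_pow_sub_one (F := F) hN
  have hA : (g : Matrix (Fin n) (Fin n) F) ^ N = 1 := by
    rw [← Units.val_pow_eq_pow_val, hg, Units.val_one]
  have hB : (h : Matrix (Fin n) (Fin n) F) ^ N = 1 := by
    rw [← Units.val_pow_eq_pow_val, hh, Units.val_one]
  obtain ⟨X, hXu, hX⟩ := exists_conj_matrix hP _ _ (aeval_X_pow_sub_one _ hA)
    (aeval_X_pow_sub_one _ hB) hc
  rw [isConj_iff]
  refine ⟨Matrix.nonsingInvUnit X hXu, ?_⟩
  rw [mul_inv_eq_iff_eq_mul]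
  apply Units.ext
  rw [Units.val_mul, Units.val_mul]
  exact hX

/-- every monic polynomial of degree `n` with nonzero constant term is the characteristic
polynomial of a semisimple element of `GL_n` -/
theorem exists_GL_of_charpoly [Finite F] {n : ℕ} (f : F[X]) (hm : f.Monic) (hd : f.natDegree = n)
    (h0 : f.coeff 0 ≠ 0) :
    ∃ (g : GL (Fin n) F) (N : ℕ), (N : F) ≠ 0 ∧ g ^ N = 1 ∧
      (g : Matrix (Fin n) (Fin n) F).charpoly = f := by
  obtain ⟨A, N, hN, hA, hc⟩ := exists_matrix_of_charpoly f hm hd h0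
  have hN0 : N ≠ 0 := by
    rintro rfl
    exact hN Nat.cast_zero
  exact ⟨Units.ofPowEqOne A N hA hN0, N, hN, Units.pow_ofPowEqOne hA hN0, hc⟩

end Cfsg.Agent.Helper40.SS
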