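import Mathlib
import Cfsg.Prelude.Def_Classical

/-!
# S2282 at `n = 3` from the two-generator statement S2283 (helper62's SUO server)
The S2283 conclusion enters as a hypothesis, so this file does not depend on `Cfsg.Agent.S2283`.
-/

set_option autoImplicit false

namespace Cfsg.Agent.Helper40.SUO

open Cfsg

/-- a finite field of order `q ^ 2` with `q ≠ 2` has `3 ≤ q`. -/
theorem h40_three_le_q {F : Type*} [Field F] [Fintype F] (q : ℕ) (hF : Fintype.card F = q ^ 2)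
    (h2 : q ≠ 2) : 3 ≤ q := by
  have h1 : 1 < Fintype.card F := Fintype.one_lt_card
  rw [hF] at h1
  have h0 : q ≠ 0 := by rintro rfl; simp at h1
  have h1' : q ≠ 1 := by rintro rfl; simp at h1
  omega

/-- S2282 at `n = 3`: take `h = 1` in the two-generator statement. -/
theorem h40_su3_three_of_two {F : Type*} [Field F] [Fintype F] (q : ℕ)
    (hF : Fintype.card F = q ^ 2) (h32 : ¬ ((3 : ℕ) = 3 ∧ q = 2))
    (H : 3 ≤ q → ∃ u g : ↥(Cfsg.SU 3 F q),
      (IsNilpotent (((u : Matrix.SpecialLinearGroup (Fin 3) F) : Matrix (Fin 3) (Fin 3) F) - 1) ∧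
        (((u : Matrix.SpecialLinearGroup (Fin 3) F) : Matrix (Fin 3) (Fin 3) F) - 1) ^ (3 - 1) ≠ 0) ∧
      Subgroup.closure ({u, g * u * g⁻¹} : Set ↥(Cfsg.SU 3 F q)) = ⊤) :
    ∃ u g h : ↥(Cfsg.SU 3 F q),
      (IsNilpotent (((u : Matrix.SpecialLinearGroup (Fin 3) F) : Matrix (Fin 3) (Fin 3) F) - 1) ∧
        (((u : Matrix.SpecialLinearGroup (Fin 3) F) : Matrix (Fin 3) (Fin 3) F) - 1) ^ (3 - 1) ≠ 0) ∧
      Subgroup.closure ({u, g * u * g⁻¹, h * u * h⁻¹} : Set ↥(Cfsg.SU 3 F q)) = ⊤ := by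
  have hq : 3 ≤ q := h40_three_le_q q hF (fun h => h32 ⟨rfl, h⟩)
  obtain ⟨u, g, hu, hcl⟩ := H hq
  refine ⟨u, g, 1, hu, ?_⟩
  rw [eq_top_iff, ← hcl]
  apply Subgroup.closure_mono
  intro x hx
  rcases hx with rfl | rfl
  · exact Set.mem_insert _ _
  · exact Set.mem_insert_of_mem _ (Set.mem_insert _ _)

end Cfsg.Agent.Helper40.SUO
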