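import Mathlib
import Cfsg.Agent.Lib.Helper62.SUO0

/-!
# SUO (A8) `QQ_e0` and (M0) `orb_basic` (helper62's server, S2282)
-/

set_option autoImplicit false
set_option linter.unusedSectionVars false
set_option linter.unusedVariables false
set_option quotPrecheck false

namespace Cfsg.Agent.Helper40.SUO

open Matrix Cfsg Cfsg.Agent.Helper13 Cfsg.Agent.Helper87.PsuA Cfsg.Agent.Helper62.SUO

section A
variable {F : Type*} [Field F] [Fintype F] {q n : ℕ} (hF : Fintype.card F = q ^ 2)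
  {Hs : Subgroup ↥(Cfsg.SU n F q)} {e0 : Fin n → F}

local notation "V" => Fin n → F
local notation "G" => ↥(Cfsg.SU n F q)
local notation "H" => Cfsg.hermForm n F q

include hF

/-- (A8) `eich e0 (μ • e0) (-(μ - μ^q))` acts trivially (`eich_act`, `G_ext`), so it is `1 ∈ Hs` -/
theorem QQ_e0 (h00 : H e0 e0 = 0) (μ : F) : μ • e0 ∈ QQ hF Hs e0 := by
  have h1 : H e0 (μ • e0) = 0 := by rw [hermForm_smul_right, h00, mul_zero]
  have h2 : H (μ • e0) (μ • e0) = 0 := by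
    rw [hermForm_smul_left, hermForm_smul_right, h00, mul_zero, mul_zero]
  have ha : (μ ^ q - μ) + (μ ^ q - μ) ^ q + H (μ • e0) (μ • e0) = 0 := by
    rw [h2, frob_sub hF, frob_frob hF]; ring
  refine ⟨h1, μ ^ q - μ, ha, ?_⟩
  have h1' : eich hF e0 (μ • e0) (μ ^ q - μ) = 1 := by
    apply G_ext
    intro x
    rw [eich_act hF h00 h1 ha]
    have : actv (1 : ↥(Cfsg.SU n F q)) x = x := by
      have := actv_inv_actv (1 : ↥(Cfsg.SU n F q)) x
      rwa [inv_one, ← actv_mul, one_mul] at this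
    rw [this, hermForm_smul_right]
    module
  rw [h1']
  exact Hs.one_mem

end A

section M
variable {F : Type*} [Field F] [Fintype F] {q n : ℕ} (hF : Fintype.card F = q ^ 2)
  {Hs : Subgroup ↥(Cfsg.SU n F q)} {u l : ↥(Cfsg.SU n F q)} {e0 e1 p : Fin n → F} {c γ : F}

local notation "V" => Fin n → F
local notation "G" => ↥(Cfsg.SU n F q)
local notation "H" => Cfsg.hermForm n F q

include hF

/-- (M0) `e1 = l e0`, `e1 + e0 = u e1`, `p = l⁻¹ e0`; forms by `H_actv`, `hermForm_conj` -/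
theorem orb_basic (hyp : Hyp hF Hs u l e0 e1 p c γ) :
    e1 ∈ Orb Hs e0 ∧ e1 + e0 ∈ Orb Hs e0 ∧ p ∈ Orb Hs e0 ∧
    H e1 e1 = 0 ∧ H p p = 0 ∧ H e0 p = 0 ∧ H p e1 = γ ^ q := by
  refine ⟨⟨l, hyp.hl, hyp.le0⟩, ⟨u * l, Hs.mul_mem hyp.hu hyp.hl, ?_⟩,
    ⟨l⁻¹, Hs.inv_mem hyp.hl, ?_⟩, ?_, ?_, ?_, ?_⟩
  · rw [actv_mul, hyp.le0, hyp.ue1]
  · rw [← hyp.lp, actv_inv_actv]
  · rw [← hyp.le0, H_actv, hyp.e0e0]
  · rw [← H_actv l p p, hyp.lp, hyp.e0e0]
  · rw [← H_actv l e0 p, hyp.le0, hyp.lp, ← hermForm_conj hF, hyp.e0e1, frob_zero hF]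
  · rw [← hermForm_conj hF, hyp.e1p]

end M

end Cfsg.Agent.Helper40.SUO
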