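import Mathlib

/-!
# SUO (S2282) field brick: a multiplier `ω` of a finite field of order `q ^ 2`, not in the
subfield of order `q`, such that every nonzero additive subgroup stable under `ω` is everything.
-/

set_option autoImplicit false

namespace Cfsg.Agent.Helper40.SUO

/-- a generator `ω` of the unit group: every nonzero `ω`-stable additive subgroup is `⊤`. -/
theorem h40_exists_gen {F : Type*} [Field F] [Fintype F] (q : ℕ) (hF : Fintype.card F = q ^ 2)
    (hq : 2 ≤ q) :
    ∃ ω : F, ω ≠ 0 ∧ ω ^ q ≠ ω ∧
      ∀ S : AddSubgroup F, (∃ a ∈ S, a ≠ 0) → (∀ a ∈ S, ω * a ∈ S) → S = ⊤ := by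
  classical
  obtain ⟨g, hg⟩ := IsCyclic.exists_generator (α := Fˣ)
  refine ⟨(g : F), g.ne_zero, ?_, ?_⟩
  · intro h
    -- `g ^ (q - 1) = 1`, so `orderOf g ∣ q - 1`, but `orderOf g = q ^ 2 - 1`
    have hg1 : g ^ (q - 1) = 1 := by
      apply Units.ext
      rw [Units.val_pow_eq_pow_val, Units.val_one]
      have h0 : (g : F) ≠ 0 := g.ne_zero
      have : (g : F) ^ (q - 1) * (g : F) = (g : F) := by
        rw [← pow_succ, Nat.sub_add_cancel (by omega : 1 ≤ q)]; exact h
      have h2 : (g : F) ^ (q - 1) * (g : F) = 1 * (g : F) := by rw [one_mul]; exact this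
      exact mul_right_cancel₀ h0 h2
    have ho : orderOf g = Fintype.card Fˣ := by
      rw [← Nat.card_eq_fintype_card]; exact orderOf_eq_card_of_forall_mem_zpowers hg
    have hcard : Fintype.card Fˣ = q ^ 2 - 1 := by
      rw [Fintype.card_units, hF]
    have hdvd : orderOf g ∣ q - 1 := orderOf_dvd_of_pow_eq_one hg1
    rw [ho, hcard] at hdvd
    have hle := Nat.le_of_dvd (by omega) hdvd
    have h2 : q ^ 2 = q * q := pow_two q
    have h3 : 2 * q ≤ q * q := Nat.mul_le_mul_right q hq
    omega
  · intro S ⟨a, haS, ha0⟩ hst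
    have hpow : ∀ k : ℕ, (g : F) ^ k * a ∈ S := by
      intro k
      induction k with
      | zero => simpa using haS
      | succ k ih =>
        have := hst _ ih
        rwa [← mul_assoc, ← pow_succ'] at this
    rw [eq_top_iff]
    intro x _
    by_cases hx : x = 0
    · rw [hx]; exact S.zero_mem
    · -- `x / a` is a unit, a natural power of `g`
      let y : Fˣ := Units.mk0 (x / a) (div_ne_zero hx ha0)
      have hy : y ∈ Subgroup.zpowers g := hg y
      obtain ⟨k, hk⟩ := (mem_powers_iff_mem_zpowers.mpr hy)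
      have hk' : (g : F) ^ k = x / a := by
        have := congrArg (fun z : Fˣ => (z : F)) hk
        simpa [y, Units.val_pow_eq_pow_val] using this
      have := hpow k
      rw [hk', div_mul_cancel₀ x ha0] at this
      exact this

end Cfsg.Agent.Helper40.SUO
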