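import Mathlib
import Cfsg.Agent.Lib.Helper62.SUO0
import Cfsg.Agent.Lib.Helper66.SUOA
import Cfsg.Agent.Lib.Helper40.SUOA8

/-!
# SUO (M3) `to_p` and (M4) `to_e1` (helper62's server, S2282)
-/

set_option autoImplicit false
set_option linter.unusedSectionVars false
set_option linter.unusedVariables false
set_option quotPrecheck false

namespace Cfsg.Agent.Helper40.SUO

open Matrix Cfsg Cfsg.Agent.Helper13 Cfsg.Agent.Helper87.PsuA Cfsg.Agent.Helper62.SUO

section M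
variable {F : Type*} [Field F] [Fintype F] {q n : ℕ} (hF : Fintype.card F = q ^ 2)
  {Hs : Subgroup ↥(Cfsg.SU n F q)} {u l : ↥(Cfsg.SU n F q)} {e0 e1 p : Fin n → F} {c γ : F}

local notation "V" => Fin n → F
local notation "G" => ↥(Cfsg.SU n F q)
local notation "H" => Cfsg.hermForm n F q

include hF

/-- (M3) A7 with `w = a • e1`, `y = p` -/
theorem to_p (hyp : Hyp hF Hs u l e0 e1 p c γ) {a m : F} (ha : a • e1 ∈ QQ hF Hs e0)
    (hm : m ∈ MM hF Hs e0) : (m * a * γ) • p ∈ QQ hF Hs e0 := by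
  obtain ⟨-, -, hpO, -, -, h0p, -⟩ := orb_basic hF hyp
  have := Cfsg.Agent.Helper66.SUO.QQ_tv hF hyp.e0e0 ha hpO h0p hm
  rwa [hermForm_smul_left, hyp.e1p, ← mul_assoc] at this

/-- (M4) A7 with `w = a • p`, `y = e1` -/
theorem to_e1 (hyp : Hyp hF Hs u l e0 e1 p c γ) {a m : F} (ha : a • p ∈ QQ hF Hs e0)
    (hm : m ∈ MM hF Hs e0) : (m * a * γ ^ q) • e1 ∈ QQ hF Hs e0 := by
  obtain ⟨he1O, -, -, -, -, -, hpe1⟩ := orb_basic hF hyp
  have := Cfsg.Agent.Helper66.SUO.QQ_tv hF hyp.e0e0 ha he1O hyp.e0e1 hm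
  rwa [hermForm_smul_left, hpe1, ← mul_assoc] at this

end M

end Cfsg.Agent.Helper40.SUO
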