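import Cfsg.Agent.Lib.Helper40.RealDual
import Cfsg.Agent.Lib.Helper40.SSCount

set_option autoImplicit false

namespace Cfsg.Agent.Helper40.Iso

open Polynomial

variable {F : Type*} [Field F]

theorem monicEquivFun_apply {n : ℕ} (f : {f : F[X] // f.Monic ∧ f.natDegree = n}) (i : Fin n) :
    SS.monicEquivFun n f i = f.1.coeff i := by
  change (f.1.eraseLead).coeff i = f.1.coeff i
  apply eraseLead_coeff_of_ne
  rw [f.2.2]
  exact i.2.ne

theorem monicEquivFun_symm_coeff {n : ℕ} (b : Fin n → F) (i : Fin n) :
    ((SS.monicEquivFun n).symm b).1.coeff i = b i := by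
  rw [← monicEquivFun_apply, Equiv.apply_symm_apply]

/-- self-duality in terms of coefficients -/
theorem dualPoly_eq_self_iff (τ : F →+* F) (s : F) (hs : s * τ s = 1) (f : F[X]) (n : ℕ)
    (hd : f.natDegree = n) (h0 : f.coeff 0 = s) :
    dualPoly τ f = f ↔ ∀ k, k ≤ n → f.coeff k = s * τ (f.coeff (n - k)) := by
  have hinv : (τ s)⁻¹ = s := inv_eq_of_mul_eq_one_left hs
  have hcoeff : ∀ k, (dualPoly τ f).coeff k = if k ≤ n then s * τ (f.coeff (n - k)) else 0 := by
    intro k
    unfold dualPoly
    rw [coeff_C_mul, coeff_reverse, natDegree_map, hd, h0, hinv]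
    split_ifs with hk
    · rw [revAt_le hk, coeff_map]
    · push Not at hk
      rw [revAt_eq_self_of_lt hk, coeff_map, coeff_eq_zero_of_natDegree_lt (by omega), map_zero,
        mul_zero]
  constructor
  · intro h k hk
    have := congrArg (fun p => p.coeff k) h
    simp only [hcoeff, if_pos hk] at this
    exact this.symm
  · intro h
    ext k
    rw [hcoeff]
    split_ifs with hk
    · exact (h k hk).symm
    · push Not at hk
      exact (coeff_eq_zero_of_natDegree_lt (by omega)).symm

/-- monic self-dual polynomials of degree `m + 1` with constant term `s` -/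
def SDPoly (τ : F →+* F) (s : F) (m : ℕ) : Type _ :=
  {f : F[X] // f.Monic ∧ f.natDegree = m + 1 ∧ dualPoly τ f = f ∧ f.coeff 0 = s}

/-- the middle coefficients of such polynomials -/
def SDFun (τ : F →+* F) (s : F) (m : ℕ) : Type _ :=
  {a : Fin m → F // ∀ i, a i = s * τ (a i.rev)}

theorem card_SDPoly (τ : F →+* F) (s : F) (hs : s * τ s = 1) (m : ℕ) :
    Nat.card (SDPoly τ s m) = Nat.card (SDFun τ s m) := by
  let Ψ : SDPoly τ s m → SDFun τ s m := fun f =>
    ⟨fun i => f.1.coeff (i.1 + 1), by
      intro i
      have h1 := (dualPoly_eq_self_iff τ s hs f.1 (m + 1) f.2.2.1 f.2.2.2.2).mp f.2.2.2.1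
        (i.1 + 1) (by omega)
      have h2 : m + 1 - (i.1 + 1) = (i.rev).1 + 1 := by
        rw [Fin.val_rev]
        omega
      rw [h2] at h1
      exact h1⟩
  have hΨ : Function.Bijective Ψ := by
    constructor
    · intro f f' hff
      have hco : ∀ i : Fin m, f.1.coeff (i.1 + 1) = f'.1.coeff (i.1 + 1) := by
        intro i
        exact congrFun (congrArg Subtype.val hff) i
      apply Subtype.ext
      ext k
      rcases Nat.eq_zero_or_pos k with hk0 | hkpos
      · rw [hk0, f.2.2.2.2, f'.2.2.2.2]
      rcases Nat.lt_or_ge k (m + 1) with hk1 | hk1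
      · have := hco ⟨k - 1, by omega⟩
        simp only at this
        rwa [Nat.sub_add_cancel hkpos] at this
      rcases Nat.eq_or_lt_of_le hk1 with hk2 | hk2
      · have e1 := f.2.1.coeff_natDegree
        have e2 := f'.2.1.coeff_natDegree
        rw [f.2.2.1] at e1
        rw [f'.2.2.1] at e2
        rw [← hk2, e1, e2]
      · rw [coeff_eq_zero_of_natDegree_lt (by rw [f.2.2.1]; exact hk2),
          coeff_eq_zero_of_natDegree_lt (by rw [f'.2.2.1]; exact hk2)]
    · intro a
      let b : Fin (m + 1) → F := Fin.cons s a.1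
      let f₀ := (SS.monicEquivFun (m + 1)).symm b
      have hb0 : f₀.1.coeff 0 = s := by
        have := monicEquivFun_symm_coeff b 0
        simp only [b, Fin.cons_zero, Fin.val_zero] at this
        exact this
      have hbs : ∀ i : Fin m, f₀.1.coeff (i.1 + 1) = a.1 i := by
        intro i
        have := monicEquivFun_symm_coeff b i.succ
        simp only [b, Fin.cons_succ, Fin.val_succ] at this
        exact this
      have hlead : f₀.1.coeff (m + 1) = 1 := by
        have := f₀.2.1.coeff_natDegree
        rwa [f₀.2.2] at this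
      have hsd : dualPoly τ f₀.1 = f₀.1 := by
        rw [dualPoly_eq_self_iff τ s hs f₀.1 (m + 1) f₀.2.2 hb0]
        intro k hk
        rcases Nat.eq_zero_or_pos k with hk0 | hkpos
        · rw [hk0, Nat.sub_zero, hlead, hb0, map_one, mul_one]
        rcases Nat.eq_or_lt_of_le hk with hk2 | hk2
        · rw [hk2, Nat.sub_self, hlead, hb0, hs]
        · have h1 := hbs ⟨k - 1, by omega⟩
          have h2 := hbs (⟨k - 1, by omega⟩ : Fin m).rev
          have h3 := a.2 ⟨k - 1, by omega⟩
          have e1 : k - 1 + 1 = k := by omega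
          have e2 : ((⟨k - 1, by omega⟩ : Fin m).rev).1 + 1 = m + 1 - k := by
            rw [Fin.val_rev]
            simp only
            omega
          simp only [e1] at h1
          rw [e2] at h2
          rw [h1, h2]
          exact h3
      refine ⟨⟨f₀.1, f₀.2.1, f₀.2.2, hsd, hb0⟩, ?_⟩
      apply Subtype.ext
      funext i
      exact hbs i
  exact Nat.card_congr (Equiv.ofBijective Ψ hΨ)

/-- Galois descent, counting version: the fixed points of a semilinear involution -/
theorem card_fix_mul_self {V : Type*} [AddCommGroup V] [Module F V] (τ : F →+* F)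
    (hτ : ∀ x, τ (τ x) = x) (θ : F) (hθ : τ θ ≠ θ) (S : V → V)
    (hadd : ∀ u v, S (u + v) = S u + S v) (hsmul : ∀ (c : F) v, S (c • v) = τ c • S v)
    (hinv : ∀ v, S (S v) = v) :
    Nat.card {v // S v = v} * Nat.card {v // S v = v} = Nat.card V := by
  have hd : θ - τ θ ≠ 0 := sub_ne_zero.mpr (Ne.symm hθ)
  have hzero : S 0 = 0 := by
    have := hadd 0 0
    rw [add_zero] at this
    exact left_eq_add.mp this
  have hneg : ∀ v, S (-v) = -S v := by
    intro v
    have := hadd v (-v)
    rw [add_neg_cancel, hzero] at this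
    exact (neg_eq_of_add_eq_zero_right this.symm).symm
  have hsub : ∀ u v, S (u - v) = S u - S v := by
    intro u v
    rw [sub_eq_add_neg, hadd, hneg, ← sub_eq_add_neg]
  let Φ : {v // S v = v} × {v // S v = v} → V := fun p => p.1.1 + θ • p.2.1
  have hΦ : Function.Bijective Φ := by
    constructor
    · rintro ⟨⟨a, ha⟩, ⟨b, hb⟩⟩ ⟨⟨a', ha'⟩, ⟨b', hb'⟩⟩ h
      change a + θ • b = a' + θ • b' at h
      have h2 := congrArg S h
      rw [hadd, hadd, hsmul, hsmul, ha, ha', hb, hb'] at h2
      have h3 : (θ - τ θ) • (b - b') = 0 := by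
        rw [sub_smul, smul_sub, smul_sub]
        have e1 : θ • b - θ • b' = a' - a := by
          rw [sub_eq_sub_iff_add_eq_add, add_comm, h, add_comm]
        have e2 : τ θ • b - τ θ • b' = a' - a := by
          rw [sub_eq_sub_iff_add_eq_add, add_comm, h2, add_comm]
        rw [e1, e2, sub_self]
      have h4 : b = b' := by
        rcases smul_eq_zero.mp h3 with h5 | h5
        · exact absurd h5 hd
        · exact sub_eq_zero.mp h5
      subst h4
      have h5 : a = a' := add_right_cancel h
      subst h5
      rfl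
    · intro v
      set b := (θ - τ θ)⁻¹ • (v - S v) with hbdef
      have hbfix : S b = b := by
        rw [hbdef, hsmul, hsub, hinv, map_inv₀, map_sub, hτ]
        have e1 : (τ θ - θ)⁻¹ = -(θ - τ θ)⁻¹ := by
          rw [← neg_sub, inv_neg]
        rw [e1, neg_smul, ← smul_neg, neg_sub]
      have hdb : (θ - τ θ) • b = v - S v := by
        rw [hbdef, smul_smul, mul_inv_cancel₀ hd, one_smul]
      have hafix : S (v - θ • b) = v - θ • b := by
        rw [hsub, hsmul, hbfix]
        have e2 : θ • b = (θ - τ θ) • b + τ θ • b := by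
          rw [sub_smul, sub_add_cancel]
        rw [e2, hdb]
        abel
      refine ⟨(⟨v - θ • b, hafix⟩, ⟨b, hbfix⟩), ?_⟩
      change v - θ • b + θ • b = v
      rw [sub_add_cancel]
  rw [← Nat.card_prod]
  exact Nat.card_congr (Equiv.ofBijective Φ hΦ)

theorem card_SDFun [Finite F] (τ : F →+* F) (hτ : ∀ x, τ (τ x) = x) (θ : F) (hθ : τ θ ≠ θ)
    (s : F) (hs : s * τ s = 1) (m : ℕ) :
    Nat.card (SDFun τ s m) * Nat.card (SDFun τ s m) = Nat.card F ^ m := by
  let S : (Fin m → F) → (Fin m → F) := fun a i => s * τ (a i.rev)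
  have e : SDFun τ s m ≃ {v // S v = v} := by
    unfold SDFun
    apply Equiv.subtypeEquivRight
    intro a
    rw [funext_iff]
    exact forall_congr' (fun i => eq_comm)
  rw [Nat.card_congr e, card_fix_mul_self τ hτ θ hθ S, Nat.card_fun, Nat.card_fin]
  · intro u v
    funext i
    simp only [S, Pi.add_apply, map_add, mul_add]
  · intro c v
    funext i
    simp only [S, Pi.smul_apply, smul_eq_mul, map_mul]
    ring
  · intro v
    funext i
    simp only [S, Fin.rev_rev, map_mul, hτ]
    rw [← mul_assoc, hs, one_mul]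

/-- palindromic functions are determined by their first half -/
def palEquiv (A : Type*) (m : ℕ) :
    {a : Fin m → A // ∀ i, a i = a i.rev} ≃ (Fin ((m + 1) / 2) → A) where
  toFun a i := a.1 ⟨i.1, by have := i.2; omega⟩
  invFun h := ⟨fun j => h ⟨min j.1 (m - 1 - j.1), by have := j.2; omega⟩, by
    intro i
    have hi := i.2
    exact congrArg h (Fin.ext (by
      simp only [Fin.val_rev]
      omega))⟩
  left_inv a := by
    apply Subtype.ext
    funext j
    have hj := j.2
    change a.1 ⟨min j.1 (m - 1 - j.1), _⟩ = a.1 j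
    rcases le_total j.1 (m - 1 - j.1) with h | h
    · exact congrArg a.1 (Fin.ext (by
        simp only
        omega))
    · rw [a.2 j]
      exact congrArg a.1 (Fin.ext (by
        simp only [Fin.val_rev]
        omega))
  right_inv h := by
    funext i
    have hi := i.2
    change h ⟨min i.1 (m - 1 - i.1), _⟩ = h i
    exact congrArg h (Fin.ext (by
      simp only
      omega))

end Cfsg.Agent.Helper40.Iso
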