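import Cfsg.Agent.S2390
import Cfsg.Agent.Lib.Helper40.RealStd
import Cfsg.Agent.Lib.Helper40.SelfDualCount
import Cfsg.Agent.Lib.Helper40.CharpolyInv

set_option autoImplicit false

namespace Cfsg.Agent.Helper40.Iso

open Polynomial Matrix

universe w

variable {F : Type w} [Field F] {q : ℕ} {τ : F →+* F}

/-- a matrix preserving the Hermitian form is unitary -/
theorem transpose_mul_map_eq_one (n : ℕ) (hτq : ∀ x, τ x = x ^ q) (hq : q ≠ 0)
    (M : Matrix (Fin n) (Fin n) F)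
    (hM : ∀ u v, Cfsg.hermForm n F q (M *ᵥ u) (M *ᵥ v) = Cfsg.hermForm n F q u v) :
    Mᵀ * M.map τ = 1 := by
  classical
  ext i j
  have := hM (Pi.single i 1) (Pi.single j 1)
  rw [Cfsg.Agent.S2390.hermForm_single n hq, Cfsg.hermForm] at this
  rw [Matrix.mul_apply, Matrix.one_apply]
  simp only [Matrix.transpose_apply, Matrix.map_apply, hτq]
  simp only [Matrix.mulVec_single_one, Matrix.col_apply] at this
  rw [this, Pi.single_apply]
  simp only [eq_comm]

/-- the characteristic polynomial of a unitary matrix is self-dual -/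
theorem charpoly_selfdual_of_unitary (n : ℕ) (M : Matrix (Fin n) (Fin n) F)
    (hM : Mᵀ * M.map τ = 1) : dualPoly τ M.charpoly = M.charpoly := by
  have h := charpoly_of_mul_eq_one (M.map τ) Mᵀ hM
  rw [Matrix.charpoly_transpose, Matrix.charpoly_map, coeff_map] at h
  unfold dualPoly
  exact h.symm

/-- every monic self-dual polynomial of degree `n` with constant term `(-1)^n` is the
characteristic polynomial of a semisimple element of `SU_n` -/
theorem exists_su_of_charpoly [Finite F] (n : ℕ) (hτq : ∀ x, τ x = x ^ q)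
    (hτ : ∀ x, τ (τ x) = x) (hτne : ∃ c, τ c ≠ c) (hq : q ≠ 0) (f : F[X]) (hm : f.Monic)
    (hd : f.natDegree = n) (hsd : dualPoly τ f = f) (h0 : f.coeff 0 = (-1) ^ n) :
    ∃ (A : ↥(Cfsg.SU n F q)) (N : ℕ), 0 < N ∧ (N : F) ≠ 0 ∧ A ^ N = 1 ∧
      ((A : Matrix.SpecialLinearGroup (Fin n) F) : Matrix (Fin n) (Fin n) F).charpoly = f := by
  classical
  have hnid : ¬ ∀ c, τ c = c := by
    intro hid
    obtain ⟨c, hc⟩ := hτne
    exact hc (hid c)
  have h0ne : f.coeff 0 ≠ 0 := by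
    rw [h0]
    exact pow_ne_zero _ (neg_ne_zero.mpr one_ne_zero)
  have hreal : Realizable τ (1 : F) f :=
    realizable_of_selfdual hτ (by rw [map_one, mul_one]) (fun hid => absurd hid hnid) f hm
      h0ne hsd (fun hid => absurd hid hnid)
  obtain ⟨g₀, N, hi, hN, hNF, hg, hc⟩ := hreal.transport hτ
    (Cfsg.Agent.S2390.stdForm n hτq hτ) (Cfsg.Agent.S2390.stdForm_nondeg n hτq hτ hq)
    (fun hid => absurd hid hnid)
    (by rw [Module.finrank_fintype_fun_eq_card, Fintype.card_fin, hd])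
  set A := LinearMap.toMatrix' g₀ with hAdef
  have hAlin : Matrix.toLin' A = g₀ := Matrix.toLin'_toMatrix' g₀
  have hAv : ∀ v, A *ᵥ v = g₀ v := by
    intro v
    rw [← Matrix.toLin'_apply, hAlin]
  have hAc : A.charpoly = f := by
    rw [← SS.charpoly_toLin'_eq, hAlin, hc]
  have hAdet : A.det = 1 := SS.det_of_coeff_zero_charpoly A (by rw [hAc, h0])
  have hApow : A ^ N = 1 := by
    apply (Matrix.toLin' : Matrix (Fin n) (Fin n) F ≃ₗ[F] _).injective
    rw [← Cfsg.Agent.S2390.toLin'_pow', hAlin, hg, Matrix.toLin'_one]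
    rfl
  let S : Matrix.SpecialLinearGroup (Fin n) F := ⟨A, hAdet⟩
  have hS : S ∈ Cfsg.SU n F q := by
    rw [Cfsg.Agent.S2390.mem_SU_iff]
    intro u v
    change Cfsg.hermForm n F q (A *ᵥ u) (A *ᵥ v) = _
    rw [hAv, hAv]
    exact hi u v
  refine ⟨⟨S, hS⟩, N, hN, hNF, ?_, hAc⟩
  apply Subtype.ext
  apply Subtype.ext
  rw [Subgroup.coe_pow, Matrix.SpecialLinearGroup.coe_pow]
  exact hApow

/-- the number of monic self-dual polynomials of degree `m + 1` with constant term `(-1)^(m+1)` -/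
theorem card_SDPoly_unitary [Finite F] (hF : Nat.card F = q ^ 2) (hτ : ∀ x, τ (τ x) = x)
    (hτne : ∃ c, τ c ≠ c) (m : ℕ) :
    Nat.card (SDPoly τ ((-1 : F) ^ (m + 1)) m) = q ^ m := by
  obtain ⟨θ, hθ⟩ := hτne
  have hs : (-1 : F) ^ (m + 1) * τ ((-1 : F) ^ (m + 1)) = 1 := by
    rw [map_pow, map_neg, map_one, ← mul_pow, neg_mul_neg, one_mul, one_pow]
  rw [card_SDPoly τ _ hs]
  have h1 := card_SDFun τ hτ θ hθ _ hs m
  rw [hF, ← pow_mul, mul_comm 2 m, pow_mul, sq] at h1
  exact Nat.mul_self_inj.mp h1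

end Cfsg.Agent.Helper40.Iso
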