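import Cfsg.Agent.Lib.Helper40.SchurGen

set_option autoImplicit false

namespace Cfsg.Agent.Helper40.Schur

open MvPolynomial

variable {n : ℕ}

/-- the matrix `(h_{λ_s - m})` -/
noncomputable def Hm (lam : Fin n → ℕ) : Matrix (Fin n) (Fin n) (MvPolynomial (Fin n) ℤ) :=
  fun s m => hh n (lam s) m.val

/-- the matrix of coefficients of the polynomials `∏_{r ≠ t} (1 - X_r z)` -/
noncomputable def Em (n : ℕ) : Matrix (Fin n) (Fin n) (MvPolynomial (Fin n) ℤ) :=
  fun m t => PowerSeries.coeff m.val (epoly t)

/-- the alternant matrix `(X_t ^ λ_s)` -/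
noncomputable def Ym (lam : Fin n → ℕ) : Matrix (Fin n) (Fin n) (MvPolynomial (Fin n) ℤ) :=
  fun s t => (X t : MvPolynomial (Fin n) ℤ) ^ lam s

theorem Hm_mul_Em (lam : Fin n → ℕ) : Hm lam * Em n = Ym lam := by
  apply Matrix.ext
  intro s t
  rw [Matrix.mul_apply]
  have := Fin.sum_univ_eq_sum_range
    (fun m => hh n (lam s) m * PowerSeries.coeff m (epoly t)) n
  simp only [Hm, Em, Ym]
  rw [this]
  exact sum_hh_mul_coeff t (lam s)

theorem hpoly_zero : hpoly n 0 = 1 := by
  rw [← coeff_prod_geo, PowerSeries.coeff_zero_eq_constantCoeff_apply, map_prod]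
  apply Finset.prod_eq_one
  intro r _
  rw [← PowerSeries.coeff_zero_eq_constantCoeff_apply]
  simp [geo]

theorem det_Hm_delta : (Hm (fun s : Fin n => s.val)).det = 1 := by
  rw [Matrix.det_of_isLowerTriangular]
  · apply Finset.prod_eq_one
    intro s _
    simp only [Hm, hh]
    rw [if_pos le_rfl, Nat.sub_self, hpoly_zero]
  · intro s m hsm
    change s < m at hsm
    simp only [Hm, hh]
    rw [if_neg]
    exact not_le.mpr hsm

/-- the Jacobi–Trudi identity in determinantal form -/
theorem det_Hm_mul (lam : Fin n → ℕ) :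
    (Hm lam).det * (Ym (fun s : Fin n => s.val)).det = (Ym lam).det := by
  have h1 := congrArg Matrix.det (Hm_mul_Em lam)
  have h2 := congrArg Matrix.det (Hm_mul_Em (fun s : Fin n => s.val))
  rw [Matrix.det_mul] at h1 h2
  rw [det_Hm_delta, one_mul] at h2
  rw [← h2, h1]

/-- functions as finitely supported functions -/
noncomputable def fs (f : Fin n → ℕ) : Fin n →₀ ℕ := Finsupp.equivFunOnFinite.symm f

@[simp] theorem fs_apply (f : Fin n → ℕ) (i : Fin n) : fs f i = f i := by
  simp [fs]

theorem fs_injective : Function.Injective (fs (n := n)) := by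
  intro f g h
  funext i
  rw [← fs_apply f i, ← fs_apply g i, h]

theorem intCast_eq_C (k : ℤ) : ((k : ℤ) : MvPolynomial (Fin n) ℤ) = C k :=
  (eq_intCast (C : ℤ →+* MvPolynomial (Fin n) ℤ) k).symm

theorem det_Ym (lam : Fin n → ℕ) :
    (Ym lam).det = ∑ σ : Equiv.Perm (Fin n),
      C ((Equiv.Perm.sign σ : ℤˣ) : ℤ) * monomial (fs (fun t => lam (σ t))) 1 := by
  rw [Matrix.det_apply']
  apply Finset.sum_congr rfl
  intro σ _
  rw [intCast_eq_C]
  congr 1
  simp only [Ym]
  rw [← prod_X_pow_eq_monomial]
  apply Finset.prod_congr rfl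
  intro t _
  rw [fs_apply]

theorem coeff_det_Ym (lam lam' : Fin n → ℕ) (hl : StrictMono lam) (hl' : StrictMono lam') :
    coeff (fs lam') (Ym lam).det = if lam = lam' then 1 else 0 := by
  classical
  rw [det_Ym, coeff_sum]
  simp only [coeff_C_mul, coeff_monomial]
  by_cases h : lam = lam'
  · rw [if_pos h, Finset.sum_eq_single (1 : Equiv.Perm (Fin n))]
    · rw [Equiv.Perm.sign_one, if_pos]
      · simp
      · rw [h]
        rfl
    · intro σ _ hσ
      rw [if_neg, mul_zero]
      intro heq
      apply hσ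
      have h1 : (fun t => lam (σ t)) = lam' := fs_injective heq
      have hσm : StrictMono (σ : Fin n → Fin n) := by
        intro a b hab
        have : lam (σ a) < lam (σ b) := by
          have := hl' hab
          rw [← h1] at this
          exact this
        exact hl.lt_iff_lt.mp this
      ext t
      rw [hσm.eq_id]
      rfl
    · intro hne
      exact absurd (Finset.mem_univ _) hne
  · rw [if_neg h]
    apply Finset.sum_eq_zero
    intro σ _
    rw [if_neg, mul_zero]
    intro heq
    apply h
    have h1 : (fun t => lam (σ t)) = lam' := fs_injective heq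
    have hσm : StrictMono (σ : Fin n → Fin n) := by
      intro a b hab
      have : lam (σ a) < lam (σ b) := by
        have := hl' hab
        rw [← h1] at this
        exact this
      exact hl.lt_iff_lt.mp this
    rw [← h1]
    funext t
    rw [hσm.eq_id]
    rfl

/-- the number of contingency tables with row sums `a` and column sums `b` -/
noncomputable def Nalg (a : Fin n → ℕ) (b : Fin n →₀ ℕ) : ℕ :=
  ((Fintype.piFinset fun i : Fin n =>
    Finset.finsuppAntidiag (Finset.univ : Finset (Fin n)) (a i)).filter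
      (fun p => ∑ i, p i = b)).card

theorem coeff_prod_hpoly (a : Fin n → ℕ) (b : Fin n →₀ ℕ) :
    coeff b (∏ i : Fin n, hpoly n (a i)) = (Nalg a b : ℤ) := by
  classical
  unfold hpoly
  rw [Finset.prod_univ_sum, coeff_sum]
  have h1 : ∀ p ∈ Fintype.piFinset fun i : Fin n =>
      Finset.finsuppAntidiag (Finset.univ : Finset (Fin n)) (a i),
      coeff b (∏ i : Fin n, (monomial (p i)) (1 : ℤ)) = if ∑ i, p i = b then 1 else 0 := by
    intro p _
    have : ∏ i : Fin n, (monomial (p i)) (1 : ℤ) = monomial (∑ i, p i) 1 := by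
      rw [monomial_sum_index, C_1, one_mul]
    rw [this, coeff_monomial]
  rw [Finset.sum_congr rfl h1, Finset.sum_boole]
  rfl

theorem coeff_prod_hh (lam : Fin n → ℕ) (κ : Equiv.Perm (Fin n)) (b : Fin n →₀ ℕ) :
    coeff b (∏ i : Fin n, hh n (lam i) (κ i).val) =
      if ∀ i, (κ i).val ≤ lam i then (Nalg (fun i => lam i - (κ i).val) b : ℤ) else 0 := by
  split_ifs with h
  · rw [← coeff_prod_hpoly]
    congr 1
    apply Finset.prod_congr rfl
    intro i _
    unfold hh
    rw [if_pos (h i)]
  · push Not at h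
    obtain ⟨i, hi⟩ := h
    rw [Finset.prod_eq_zero (Finset.mem_univ i), coeff_zero]
    unfold hh
    rw [if_neg (by omega)]

theorem det_Hm (lam : Fin n → ℕ) :
    (Hm lam).det = ∑ κ : Equiv.Perm (Fin n),
      C ((Equiv.Perm.sign κ : ℤˣ) : ℤ) * ∏ i : Fin n, hh n (lam i) (κ i).val := by
  rw [← Matrix.det_transpose, Matrix.det_apply']
  apply Finset.sum_congr rfl
  intro κ _
  rw [intCast_eq_C]
  rfl

/-- the orthogonality relation underlying the irreducibility of the alternating sums of
permutation characters -/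
theorem schur_orthogonality (lam lam' : Fin n → ℕ) (hl : StrictMono lam) (hl' : StrictMono lam') :
    ∑ σ : Equiv.Perm (Fin n), ∑ κ : Equiv.Perm (Fin n),
      (if (∀ t, (σ t).val ≤ lam' t) ∧ (∀ i, (κ i).val ≤ lam i) then
        ((Equiv.Perm.sign σ : ℤˣ) : ℤ) * ((Equiv.Perm.sign κ : ℤˣ) : ℤ) *
          (Nalg (fun i => lam i - (κ i).val) (fs (fun t => lam' t - (σ t).val)) : ℤ)
      else 0) = if lam = lam' then 1 else 0 := by
  classical
  rw [← coeff_det_Ym lam lam' hl hl', ← det_Hm_mul lam, det_Ym, Finset.mul_sum, coeff_sum]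
  apply Finset.sum_congr rfl
  intro σ _
  rw [mul_left_comm, coeff_C_mul, mul_comm (Hm lam).det, coeff_monomial_mul', one_mul]
  by_cases hσ : ∀ t, (σ t).val ≤ lam' t
  · have hle : fs (fun t => (σ t).val) ≤ fs lam' := by
      rw [Finsupp.le_def]
      intro t
      rw [fs_apply, fs_apply]
      exact hσ t
    have hsub : fs lam' - fs (fun t => (σ t).val) = fs (fun t => lam' t - (σ t).val) := by
      ext t
      rw [Finsupp.tsub_apply, fs_apply, fs_apply, fs_apply]
    rw [if_pos hle, hsub, det_Hm, coeff_sum, Finset.mul_sum]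
    apply Finset.sum_congr rfl
    intro κ _
    rw [coeff_C_mul, coeff_prod_hh]
    by_cases hκ : ∀ i, (κ i).val ≤ lam i
    · rw [if_pos hκ, if_pos ⟨hσ, hκ⟩]
      ring
    · rw [if_neg hκ, if_neg (fun h => hκ h.2)]
      ring
  · have hle : ¬ fs (fun t => (σ t).val) ≤ fs lam' := by
      rw [Finsupp.le_def]
      intro h
      apply hσ
      intro t
      have := h t
      rw [fs_apply, fs_apply] at this
      exact this
    rw [if_neg hle, mul_zero]
    apply Finset.sum_eq_zero
    intro κ _
    rw [if_neg (fun h => hσ h.1)]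

end Cfsg.Agent.Helper40.Schur
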