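import Mathlib

set_option autoImplicit false

namespace Cfsg.Agent.Helper40.Schur

open MvPolynomial

variable {n : ℕ}

/-- the complete homogeneous symmetric polynomial of degree `k` -/
noncomputable def hpoly (n k : ℕ) : MvPolynomial (Fin n) ℤ :=
  ∑ a ∈ Finset.finsuppAntidiag (Finset.univ : Finset (Fin n)) k, monomial a 1

/-- `h_{k-m}`, zero when `m > k` -/
noncomputable def hh (n k m : ℕ) : MvPolynomial (Fin n) ℤ := if m ≤ k then hpoly n (k - m) else 0

theorem prod_X_pow_eq_monomial (a : Fin n →₀ ℕ) :
    ∏ i : Fin n, (X i : MvPolynomial (Fin n) ℤ) ^ a i = monomial a 1 := by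
  rw [monomial_eq, C_1, one_mul, Finsupp.prod_fintype]
  intro i
  rw [pow_zero]

/-- the geometric series in `X r` -/
noncomputable def geo (r : Fin n) : PowerSeries (MvPolynomial (Fin n) ℤ) :=
  PowerSeries.mk fun k => (X r : MvPolynomial (Fin n) ℤ) ^ k

/-- the linear factor `1 - X r * z` -/
noncomputable def lin (r : Fin n) : PowerSeries (MvPolynomial (Fin n) ℤ) :=
  1 - PowerSeries.C (X r : MvPolynomial (Fin n) ℤ) * PowerSeries.X

theorem coeff_succ_lin_mul (r : Fin n) (P : PowerSeries (MvPolynomial (Fin n) ℤ)) (m : ℕ) :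
    PowerSeries.coeff (m + 1) (lin r * P) =
      PowerSeries.coeff (m + 1) P - (X r : MvPolynomial (Fin n) ℤ) * PowerSeries.coeff m P := by
  unfold lin
  rw [sub_mul, one_mul, map_sub, mul_assoc, PowerSeries.coeff_C_mul, PowerSeries.coeff_succ_X_mul]

theorem coeff_zero_lin_mul (r : Fin n) (P : PowerSeries (MvPolynomial (Fin n) ℤ)) :
    PowerSeries.coeff 0 (lin r * P) = PowerSeries.coeff 0 P := by
  unfold lin
  rw [sub_mul, one_mul, map_sub, mul_assoc, PowerSeries.coeff_C_mul, PowerSeries.coeff_zero_X_mul,
    mul_zero, sub_zero]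

theorem lin_mul_geo (r : Fin n) : lin r * geo r = 1 := by
  ext k
  rcases k with _ | k
  · rw [coeff_zero_lin_mul]
    simp [geo]
  · rw [coeff_succ_lin_mul]
    simp only [geo, PowerSeries.coeff_mk, PowerSeries.coeff_one]
    rw [if_neg (Nat.succ_ne_zero k), pow_succ']
    exact sub_self _

theorem coeff_prod_geo (l : ℕ) :
    PowerSeries.coeff l (∏ r : Fin n, geo r) = hpoly n l := by
  rw [PowerSeries.coeff_prod]
  unfold hpoly
  apply Finset.sum_congr rfl
  intro a _
  simp only [geo, PowerSeries.coeff_mk]
  exact prod_X_pow_eq_monomial a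

/-- the product of the linear factors other than that of `t` -/
noncomputable def epoly (t : Fin n) : PowerSeries (MvPolynomial (Fin n) ℤ) :=
  ∏ r ∈ Finset.univ.erase t, lin r

theorem epoly_mul_prod_geo (t : Fin n) : epoly t * ∏ r : Fin n, geo r = geo t := by
  unfold epoly
  rw [← Finset.mul_prod_erase Finset.univ geo (Finset.mem_univ t), mul_left_comm,
    ← Finset.prod_mul_distrib, Finset.prod_congr rfl (fun r _ => lin_mul_geo r),
    Finset.prod_const_one, mul_one]

theorem coeff_prod_lin_eq_zero (s : Finset (Fin n)) :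
    ∀ m, s.card < m → PowerSeries.coeff m (∏ r ∈ s, lin r) = 0 := by
  classical
  induction s using Finset.induction_on with
  | empty =>
    intro m hm
    rw [Finset.prod_empty, PowerSeries.coeff_one, if_neg]
    rw [Finset.card_empty] at hm
    omega
  | insert a s ha ih =>
    intro m hm
    rw [Finset.card_insert_of_notMem ha] at hm
    rw [Finset.prod_insert ha]
    obtain ⟨m', rfl⟩ : ∃ m', m = m' + 1 := ⟨m - 1, by omega⟩
    rw [coeff_succ_lin_mul, ih (m' + 1) (by omega), ih m' (by omega)]
    ring

theorem coeff_epoly_eq_zero (t : Fin n) (m : ℕ) (hm : n ≤ m) :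
    PowerSeries.coeff m (epoly t) = 0 := by
  apply coeff_prod_lin_eq_zero
  rw [Finset.card_erase_of_mem (Finset.mem_univ t), Finset.card_univ, Fintype.card_fin]
  have := t.isLt
  omega

/-- the key relation between the complete homogeneous polynomials and the coefficients of
`∏_{r ≠ t} (1 - X_r z)` -/
theorem sum_hh_mul_coeff (t : Fin n) (k : ℕ) :
    ∑ m ∈ Finset.range n, hh n k m * PowerSeries.coeff m (epoly t) =
      (X t : MvPolynomial (Fin n) ℤ) ^ k := by
  have h1 := congrArg (PowerSeries.coeff k) (epoly_mul_prod_geo t)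
  rw [PowerSeries.coeff_mul,
    Finset.Nat.sum_antidiagonal_eq_sum_range_succ
      (fun i j => PowerSeries.coeff i (epoly t) * PowerSeries.coeff j (∏ r : Fin n, geo r)) k]
    at h1
  have h2 : PowerSeries.coeff k (geo t) = (X t : MvPolynomial (Fin n) ℤ) ^ k := by
    simp only [geo, PowerSeries.coeff_mk]
  rw [h2] at h1
  rw [← h1]
  have e1 : ∑ m ∈ Finset.range n, hh n k m * PowerSeries.coeff m (epoly t) =
      ∑ m ∈ Finset.range (n + (k + 1)), hh n k m * PowerSeries.coeff m (epoly t) := by
    apply Finset.sum_subset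
    · intro m hm
      rw [Finset.mem_range] at hm ⊢
      omega
    · intro m _ hm
      rw [Finset.mem_range] at hm
      rw [coeff_epoly_eq_zero t m (by omega), mul_zero]
  have e2 : ∑ m ∈ Finset.range (k + 1), PowerSeries.coeff m (epoly t) *
      PowerSeries.coeff (k - m) (∏ r : Fin n, geo r) =
      ∑ m ∈ Finset.range (n + (k + 1)), hh n k m * PowerSeries.coeff m (epoly t) := by
    have e3 : ∑ m ∈ Finset.range (k + 1), hh n k m * PowerSeries.coeff m (epoly t) =
        ∑ m ∈ Finset.range (n + (k + 1)), hh n k m * PowerSeries.coeff m (epoly t) := by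
      apply Finset.sum_subset
      · intro m hm
        rw [Finset.mem_range] at hm ⊢
        omega
      · intro m _ hm
        rw [Finset.mem_range] at hm
        unfold hh
        rw [if_neg (by omega), zero_mul]
    rw [← e3]
    apply Finset.sum_congr rfl
    intro m hm
    rw [Finset.mem_range] at hm
    rw [coeff_prod_geo]
    unfold hh
    rw [if_pos (by omega), mul_comm]
  rw [e1, ← e2]

end Cfsg.Agent.Helper40.Schur
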