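import Cfsg.Agent.S2389
import Cfsg.Agent.Lib.Helper40.RealPal
import Cfsg.Agent.Lib.Helper40.RealStd
import Cfsg.Agent.Lib.Helper40.SelfDualCount
import Cfsg.Agent.Lib.Helper40.CharpolyInv

set_option autoImplicit false

namespace Cfsg.Agent.Helper40.Iso

open Polynomial Matrix

universe w

variable {F : Type w} [Field F]

/-- the characteristic polynomial of a symplectic matrix is palindromic -/
theorem charpoly_reverse_of_mem_sp (n : ℕ) (A : Matrix (Fin n ⊕ Fin n) (Fin n ⊕ Fin n) F)
    (hA : A ∈ Matrix.symplecticGroup (Fin n) F) : A.charpoly.reverse = A.charpoly := by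
  have h1 : Aᵀ * Matrix.J (Fin n) F * A = Matrix.J (Fin n) F := SymplecticGroup.mem_iff'.mp hA
  have hBA : (-Matrix.J (Fin n) F * Aᵀ * Matrix.J (Fin n) F) * A = 1 := by
    calc (-Matrix.J (Fin n) F * Aᵀ * Matrix.J (Fin n) F) * A
        = -Matrix.J (Fin n) F * (Aᵀ * Matrix.J (Fin n) F * A) := by
          simp only [Matrix.mul_assoc]
      _ = 1 := by rw [h1, neg_mul, Matrix.J_squared, neg_neg]
  have h2 := charpoly_of_mul_eq_one A _ hBA
  have h3 : (-Matrix.J (Fin n) F * Aᵀ * Matrix.J (Fin n) F).charpoly = A.charpoly := by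
    rw [Matrix.charpoly_mul_comm, ← Matrix.mul_assoc, mul_neg, Matrix.J_squared, neg_neg,
      one_mul, Matrix.charpoly_transpose]
  have h4 : A.charpoly.coeff 0 = 1 := by
    have hdet := SymplecticGroup.det_eq_one hA
    rw [Matrix.det_eq_sign_charpoly_coeff, Fintype.card_sum, Fintype.card_fin, ← two_mul,
      pow_mul] at hdet
    simpa using hdet
  rw [h3, h4, inv_one, C_1, one_mul] at h2
  exact h2.symm

theorem coeff_zero_of_reverse_eq {f : F[X]} (hm : f.Monic) (hrev : f.reverse = f) :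
    f.coeff 0 = 1 := by
  have := coeff_zero_reverse f
  rw [hrev, hm.leadingCoeff] at this
  exact this

theorem dualPoly_id_of_coeff_zero (f : F[X]) (h : f.coeff 0 = 1) :
    dualPoly (RingHom.id F) f = f.reverse := by
  unfold dualPoly
  rw [Polynomial.map_id, h, RingHom.id_apply, inv_one, C_1, one_mul]

/-- every monic palindromic polynomial of degree `2n` is the characteristic polynomial of a
semisimple element of `Sp_{2n}` -/
theorem exists_sp_of_charpoly [Finite F] (n : ℕ) (f : F[X]) (hm : f.Monic)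
    (hd : f.natDegree = 2 * n) (hrev : f.reverse = f) :
    ∃ (A : ↥(Matrix.symplecticGroup (Fin n) F)) (N : ℕ), 0 < N ∧ (N : F) ≠ 0 ∧ A ^ N = 1 ∧
      (A : Matrix (Fin n ⊕ Fin n) (Fin n ⊕ Fin n) F).charpoly = f := by
  classical
  have hcoeff0 : f.coeff 0 = 1 := coeff_zero_of_reverse_eq hm hrev
  have hself : dualPoly (RingHom.id F) f = f := by
    rw [dualPoly_id_of_coeff_zero f hcoeff0, hrev]
  have hreal : Realizable (RingHom.id F) (-1 : F) f :=
    realizable_of_selfdual (fun _ => rfl) (by simp) (fun _ => rfl) f hm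
      (by rw [hcoeff0]; exact one_ne_zero) hself
      (fun _ c₀ hc => even_rootMultiplicity_of_reverse f n hm hd hrev c₀ hc)
  obtain ⟨g₀, N, hi, hN, hNF, hg, hc⟩ := hreal.transport (fun _ => rfl)
    (Cfsg.Agent.S2389.stdForm n F) (Cfsg.Agent.S2389.stdForm_nondeg n)
    (fun _ => ⟨rfl, Cfsg.Agent.S2389.alt_J n⟩)
    (by rw [Module.finrank_fintype_fun_eq_card, Fintype.card_sum, Fintype.card_fin, hd, two_mul])
  set A := LinearMap.toMatrix' g₀ with hAdef
  have hAlin : Matrix.toLin' A = g₀ := Matrix.toLin'_toMatrix' g₀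
  have hAv : ∀ v, A *ᵥ v = g₀ v := by
    intro v
    rw [← Matrix.toLin'_apply, hAlin]
  have hAsp : A ∈ Matrix.symplecticGroup (Fin n) F := by
    rw [SymplecticGroup.mem_iff']
    apply Cfsg.Agent.S2389.matrix_eq_of_forms
    intro u v
    have := hi u v
    rw [Cfsg.Agent.S2389.stdForm_B, Cfsg.Agent.S2389.stdForm_B, ← hAv, ← hAv,
      Cfsg.Agent.S2389.dot_mulVec_eq, Matrix.mulVec_mulVec, Matrix.mulVec_mulVec] at this
    exact this
  have hApow : A ^ N = 1 := by
    apply (Matrix.toLin' : Matrix (Fin n ⊕ Fin n) (Fin n ⊕ Fin n) F ≃ₗ[F] _).injective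
    rw [← Cfsg.Agent.S2389.toLin'_pow', hAlin, hg, Matrix.toLin'_one]
    rfl
  refine ⟨⟨A, hAsp⟩, N, hN, hNF, ?_, ?_⟩
  · apply Subtype.ext
    rw [SubmonoidClass.coe_pow]
    exact hApow
  · change A.charpoly = f
    rw [← SS.charpoly_toLin'_eq, hAlin, hc]

/-- the number of monic palindromic polynomials of degree `2n` -/
theorem card_palindromic [Finite F] (n : ℕ) :
    Nat.card {f : F[X] // f.Monic ∧ f.natDegree = 2 * n ∧ f.reverse = f} = Nat.card F ^ n := by
  rcases Nat.eq_zero_or_pos n with hn | hn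
  · subst hn
    rw [pow_zero]
    have hone : (1 : F[X]).Monic ∧ (1 : F[X]).natDegree = 2 * 0 ∧ (1 : F[X]).reverse = 1 := by
      refine ⟨monic_one, by simp, ?_⟩
      rw [← C_1, reverse_C]
    have : Unique {f : F[X] // f.Monic ∧ f.natDegree = 2 * 0 ∧ f.reverse = f} :=
      { default := ⟨1, hone⟩
        uniq := fun f => Subtype.ext
          (Polynomial.eq_one_of_monic_natDegree_zero f.2.1 (by rw [f.2.2.1])) }
    exact Nat.card_unique
  · have e1 : {f : F[X] // f.Monic ∧ f.natDegree = 2 * n ∧ f.reverse = f} ≃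
        SDPoly (RingHom.id F) (1 : F) (2 * n - 1) := by
      unfold SDPoly
      apply Equiv.subtypeEquivRight
      intro f
      have e : 2 * n - 1 + 1 = 2 * n := by omega
      rw [e]
      constructor
      · rintro ⟨hm, hd, hrev⟩
        have h0 := coeff_zero_of_reverse_eq hm hrev
        exact ⟨hm, hd, by rw [dualPoly_id_of_coeff_zero f h0, hrev], h0⟩
      · rintro ⟨hm, hd, hsd, h0⟩
        rw [dualPoly_id_of_coeff_zero f h0] at hsd
        exact ⟨hm, hd, hsd⟩
    have e2 : SDFun (RingHom.id F) (1 : F) (2 * n - 1) ≃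
        {a : Fin (2 * n - 1) → F // ∀ i, a i = a i.rev} := by
      unfold SDFun
      apply Equiv.subtypeEquivRight
      intro a
      simp only [RingHom.id_apply, one_mul]
    rw [Nat.card_congr e1, card_SDPoly _ _ (by simp), Nat.card_congr e2,
      Nat.card_congr (palEquiv F (2 * n - 1)), Nat.card_fun, Nat.card_fin]
    congr 1
    omega

end Cfsg.Agent.Helper40.Iso
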