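import Mathlib

set_option autoImplicit false

namespace Cfsg.Agent.Helper40.SylGL

/-- a cyclic group of order divisible by `m` contains a copy of `ZMod m` -/
theorem exists_zmod_hom {G : Type*} [Group G] [Finite G] [IsCyclic G] {m : ℕ}
    (hm : m ∣ Nat.card G) :
    ∃ f : Multiplicative (ZMod m) →* G, Function.Injective f := by
  obtain ⟨g, hg⟩ := IsCyclic.exists_ofOrder_eq_natCard (α := G)
  have hN : orderOf g ≠ 0 := by rw [hg]; exact Nat.card_pos.ne'
  have hord : orderOf (g ^ (orderOf g / m)) = m := orderOf_pow_orderOf_div hN (hg ▸ hm)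
  set x := g ^ (orderOf g / m) with hx
  have hcard : Nat.card (Subgroup.zpowers x) = m := by rw [Nat.card_zpowers, hord]
  have hcyc : IsCyclic (Subgroup.zpowers x) := inferInstance
  let e1 : Multiplicative (ZMod (Nat.card (Subgroup.zpowers x))) ≃* Subgroup.zpowers x :=
    zmodCyclicMulEquiv hcyc
  let e0 : Multiplicative (ZMod m) ≃* Multiplicative (ZMod (Nat.card (Subgroup.zpowers x))) :=
    AddEquiv.toMultiplicative (ZMod.ringEquivCongr hcard.symm).toAddEquiv
  refine ⟨(Subgroup.zpowers x).subtype.comp (e0.trans e1).toMonoidHom, ?_⟩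
  intro a b hab
  have := Subtype.ext (by simpa using hab) |> (e0.trans e1).injective
  exact this

variable {F : Type*} [Field F]

/-- the unit group of a commutative `F`-algebra of dimension `n` embeds in `GL_n(F)` -/
theorem exists_unitsHom (S : Type*) [CommRing S] [Algebra F S] [Module.Finite F S] {n : ℕ}
    (hS : Module.finrank F S = n) :
    ∃ φ : Sˣ →* GL (Fin n) F, Function.Injective φ := by
  let b : Module.Basis (Fin n) F S := Module.finBasisOfFinrankEq F S hS
  refine ⟨Units.map (Algebra.leftMulMatrix b : S →* Matrix (Fin n) (Fin n) F), ?_⟩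
  intro x y hxy
  have := congrArg Units.val hxy
  exact Units.ext (Algebra.leftMulMatrix_injective b this)

/-- the torus `(Eˣ)^a ≤ GL_n(F)` for a field extension `E/F` of degree `d` with `a d ≤ n` -/
theorem exists_torusHom (E : Type*) [Field E] [Algebra F E] [FiniteDimensional F E] {a n : ℕ}
    (had : a * Module.finrank F E ≤ n) :
    ∃ φ : (Fin a → Eˣ) →* GL (Fin n) F, Function.Injective φ := by
  have hS : Module.finrank F ((Fin a → E) × (Fin (n - a * Module.finrank F E) → F)) = n := by
    rw [Module.finrank_prod, Module.finrank_pi_fintype, Module.finrank_fin_fun]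
    simp only [Finset.sum_const, Finset.card_univ, Fintype.card_fin, smul_eq_mul]
    omega
  obtain ⟨φ, hφ⟩ := exists_unitsHom (F := F) ((Fin a → E) × (Fin (n - a * Module.finrank F E) → F)) hS
  let ψ : (Fin a → Eˣ) →* ((Fin a → E) × (Fin (n - a * Module.finrank F E) → F))ˣ :=
    (MulEquiv.prodUnits.symm.toMonoidHom.comp
      (MonoidHom.inl (Fin a → E)ˣ (Fin (n - a * Module.finrank F E) → F)ˣ)).comp
      MulEquiv.piUnits.symm.toMonoidHom
  refine ⟨φ.comp ψ, hφ.comp ?_⟩
  intro x y hxy
  have h1 := MulEquiv.prodUnits.symm.injective hxy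
  have h2 : MulEquiv.piUnits.symm x = MulEquiv.piUnits.symm y := by
    have := congrArg Prod.fst h1
    simpa using this
  exact MulEquiv.piUnits.symm.injective h2

end Cfsg.Agent.Helper40.SylGL
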