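import Cfsg.Agent.Lib.Helper40.SylowGLNum
import Cfsg.Agent.Lib.Helper40.SylowGLTorus

set_option autoImplicit false

namespace Cfsg.Agent.Helper40.SylGL

open Polynomial
open scoped MatrixGroups

variable {q r : ℕ} [hr : Fact r.Prime]

/-- lifting the exponent when the odd prime `r` does not divide the multiplier -/
theorem padicValNat_pow_mul_sub_one' (hr2 : r ≠ 2) (hq : 2 ≤ q) (hrq : ¬ r ∣ q) {d : ℕ}
    (hd : 0 < d) (hdvd : r ∣ q ^ d - 1) {j : ℕ} (hj : 0 < j) (hjr : ¬ r ∣ j) :
    padicValNat r (q ^ (d * j) - 1) = padicValNat r (q ^ d - 1) := by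
  have hodd : Odd r := hr.out.odd_of_ne_two hr2
  have h1 : 1 < q ^ d := Nat.one_lt_pow hd.ne' (by omega)
  have h2 := padicValNat.pow_sub_pow hodd h1 hdvd (not_dvd_pow hrq d) hj.ne'
  rw [one_pow, ← pow_mul] at h2
  rw [h2, padicValNat.eq_zero_of_not_dvd hjr, add_zero]

/-- the `r`-adic valuation of `|GL_n(q)|` when `n / d < r` -/
theorem padicValNat_card_GL' (hr2 : r ≠ 2) (hq : 2 ≤ q) (hrq : ¬ r ∣ q) (n : ℕ)
    (hn : n / orderOf (q : ZMod r) < r) :
    padicValNat r (∏ i : Fin n, (q ^ n - q ^ (i : ℕ))) =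
      (n / orderOf (q : ZMod r)) * padicValNat r (q ^ orderOf (q : ZMod r) - 1) := by
  set d := orderOf (q : ZMod r) with hd
  have hdpos : 0 < d := orderOf_pos hrq
  have hfac : ∀ i : Fin n, q ^ n - q ^ (i : ℕ) = q ^ (i : ℕ) * (q ^ (n - (i : ℕ)) - 1) := by
    intro i
    have hi : (i : ℕ) < n := i.isLt
    rw [Nat.mul_sub, mul_one, ← pow_add]
    congr 2
    omega
  have hne : ∀ i : Fin n, q ^ n - q ^ (i : ℕ) ≠ 0 := by
    intro i
    have hi : (i : ℕ) < n := i.isLt
    have : q ^ (i : ℕ) < q ^ n := Nat.pow_lt_pow_right (by omega) hi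
    omega
  have hval : ∀ i : Fin n, padicValNat r (q ^ n - q ^ (i : ℕ)) =
      padicValNat r (q ^ (n - (i : ℕ)) - 1) := by
    intro i
    have h1 := hne i
    rw [hfac i] at h1 ⊢
    rw [padicValNat.mul (left_ne_zero_of_mul h1) (right_ne_zero_of_mul h1),
      padicValNat.eq_zero_of_not_dvd (not_dvd_pow hrq _), zero_add]
  have hsum : padicValNat r (∏ i : Fin n, (q ^ n - q ^ (i : ℕ))) =
      ∑ i : Fin n, padicValNat r (q ^ n - q ^ (i : ℕ)) := by
    rw [← Nat.factorization_def _ hr.out, Nat.factorization_prod (fun i _ => hne i)]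
    simp only [Finsupp.coe_finsetSum, Finset.sum_apply]
    exact Finset.sum_congr rfl (fun i _ => Nat.factorization_def _ hr.out)
  rw [hsum, Finset.sum_congr rfl (fun i _ => hval i),
    Fin.sum_univ_eq_sum_range (fun i => padicValNat r (q ^ (n - i) - 1)) n]
  have hrefl : ∑ i ∈ Finset.range n, padicValNat r (q ^ (n - i) - 1) =
      ∑ k ∈ Finset.range n, padicValNat r (q ^ (k + 1) - 1) := by
    rw [← Finset.sum_range_reflect]
    apply Finset.sum_congr rfl
    intro j hj
    rw [Finset.mem_range] at hj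
    congr 3
    omega
  rw [hrefl]
  have hterm : ∀ k ∈ Finset.range n, padicValNat r (q ^ (k + 1) - 1) =
      if d ∣ k + 1 then padicValNat r (q ^ d - 1) else 0 := by
    intro k hk
    rw [Finset.mem_range] at hk
    split_ifs with hdk
    · obtain ⟨j, hj⟩ := hdk
      have hjpos : 0 < j := by
        rcases Nat.eq_zero_or_pos j with h0 | h0
        · rw [h0, mul_zero] at hj; omega
        · exact h0
      have hjr : j < r := by
        have h1 : j = (k + 1) / d := by rw [hj, Nat.mul_div_cancel_left _ hdpos]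
        have h2 : (k + 1) / d ≤ n / d := Nat.div_le_div_right (by omega)
        omega
      rw [hj]
      exact padicValNat_pow_mul_sub_one' hr2 hq hrq hdpos
        ((dvd_pow_sub_one_iff (by omega) d).mpr dvd_rfl) hjpos
        (fun h => by have := Nat.le_of_dvd hjpos h; omega)
    · apply padicValNat.eq_zero_of_not_dvd
      rw [dvd_pow_sub_one_iff (by omega)]
      exact hdk
  rw [Finset.sum_congr rfl hterm, Finset.sum_ite, Finset.sum_const_zero, add_zero,
    Finset.sum_const, smul_eq_mul, Nat.card_multiples]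

variable {F : Type*} [Field F] [Fintype F]

/-- Sylow `r`-subgroups of `GL_n(q)` are homocyclic when `n / d < r` (`r` odd) -/
theorem sylow_GL_equiv (hr2 : r ≠ 2) (hq : Fintype.card F = q) (n : ℕ) (hrq : ¬ r ∣ q)
    (hn : n / orderOf (q : ZMod r) < r) (P : Sylow r (GL (Fin n) F)) :
    Nonempty (↥(P : Subgroup (GL (Fin n) F)) ≃*
      (Fin (n / orderOf (q : ZMod r)) →
        Multiplicative (ZMod (r ^ padicValNat r (q ^ orderOf (q : ZMod r) - 1))))) := by
  classical
  have hrp : r.Prime := Fact.out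
  have hq2 : 2 ≤ q := hq ▸ Fintype.one_lt_card
  have hdpos : 0 < orderOf (q : ZMod r) := orderOf_pos hrq
  have hvGL := padicValNat_card_GL' hr2 hq2 hrq n hn
  obtain ⟨d, hd⟩ : ∃ d, d = orderOf (q : ZMod r) := ⟨_, rfl⟩
  rw [← hd] at hdpos hvGL ⊢
  obtain ⟨v, hv⟩ : ∃ v, v = padicValNat r (q ^ d - 1) := ⟨_, rfl⟩
  rw [← hv] at hvGL ⊢
  have hchar : CharP F (ringChar F) := ringChar.charP F
  have hprime : Fact (ringChar F).Prime := ⟨CharP.char_is_prime F (ringChar F)⟩
  have hne : NeZero d := ⟨hdpos.ne'⟩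
  have hfr : Module.finrank F (FiniteField.Extension F (ringChar F) d) = d :=
    FiniteField.finrank_extension F (ringChar F) d
  have hcardE : Nat.card (FiniteField.Extension F (ringChar F) d)ˣ = q ^ d - 1 := by
    rw [Nat.card_units, FiniteField.natCard_extension, Nat.card_eq_fintype_card, hq]
  have hm : r ^ v ∣ Nat.card (FiniteField.Extension F (ringChar F) d)ˣ := by
    rw [hcardE, hv]
    exact pow_padicValNat_dvd
  obtain ⟨ι, hι⟩ := exists_zmod_hom (G := (FiniteField.Extension F (ringChar F) d)ˣ) hm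
  obtain ⟨φ, hφ⟩ := exists_torusHom (F := F) (FiniteField.Extension F (ringChar F) d)
    (a := n / d) (n := n) (by rw [hfr]; exact Nat.div_mul_le_self n d)
  obtain ⟨Φ, hΦdef⟩ : ∃ Φ : (Fin (n / d) → Multiplicative (ZMod (r ^ v))) →* GL (Fin n) F,
      Φ = φ.comp (ι.compLeft (Fin (n / d))) := ⟨_, rfl⟩
  have hΦ : Function.Injective Φ := by
    rw [hΦdef]
    exact hφ.comp (fun x y hxy => funext fun i => hι (congrFun hxy i))
  have hcardQ : Nat.card Φ.range = r ^ (Nat.card (GL (Fin n) F)).factorization r := by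
    rw [Nat.card_congr (MonoidHom.ofInjective hΦ).symm.toEquiv, Nat.card_fun,
      Nat.card_eq_fintype_card (α := Fin (n / d)), Fintype.card_fin]
    have h1 : Nat.card (Multiplicative (ZMod (r ^ v))) = r ^ v := Nat.card_zmod _
    rw [h1, ← pow_mul]
    congr 1
    rw [Nat.factorization_def _ hrp, Matrix.card_GL_field, hq, hvGL]
    ring
  exact ⟨(Sylow.equiv P (Sylow.ofCard Φ.range hcardQ)).trans
    ((MulEquiv.subgroupCongr (Sylow.coe_ofCard Φ.range hcardQ)).trans
      (MonoidHom.ofInjective hΦ).symm)⟩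

end Cfsg.Agent.Helper40.SylGL
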