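import Mathlib

set_option autoImplicit false

namespace Cfsg.Agent.Helper40.SylGL

open Polynomial

variable {q r : ℕ} [hr : Fact r.Prime]

theorem natCast_ne_zero_zmod (hrq : ¬ r ∣ q) : (q : ZMod r) ≠ 0 := by
  intro h
  exact hrq ((ZMod.natCast_eq_zero_iff q r).mp h)

/-- the order of `q` modulo `r` is positive -/
theorem orderOf_pos (hrq : ¬ r ∣ q) : 0 < orderOf (q : ZMod r) := by
  rw [orderOf_pos_iff, isOfFinOrder_iff_pow_eq_one]
  exact ⟨r - 1, Nat.sub_pos_of_lt hr.out.one_lt, ZMod.pow_card_sub_one_eq_one (natCast_ne_zero_zmod hrq)⟩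

/-- `r ∣ q^i - 1` iff the order of `q` mod `r` divides `i` -/
theorem dvd_pow_sub_one_iff (hq : 1 ≤ q) (i : ℕ) :
    r ∣ q ^ i - 1 ↔ orderOf (q : ZMod r) ∣ i := by
  rw [← ZMod.natCast_eq_zero_iff, Nat.cast_sub (Nat.one_le_pow _ _ hq), Nat.cast_pow, Nat.cast_one,
    sub_eq_zero, orderOf_dvd_iff_pow_eq_one]

theorem not_dvd_pow (hrq : ¬ r ∣ q) (i : ℕ) : ¬ r ∣ q ^ i := fun h => hrq (hr.out.dvd_of_dvd_pow h)

/-- lifting the exponent, in the range where the multiplier is smaller than `r` -/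
theorem padicValNat_pow_mul_sub_one (hq : 2 ≤ q) (hrq : ¬ r ∣ q) {d : ℕ} (hd : 0 < d)
    (hdvd : r ∣ q ^ d - 1) {j : ℕ} (hj : 0 < j) (hjr : j < r) :
    padicValNat r (q ^ (d * j) - 1) = padicValNat r (q ^ d - 1) := by
  by_cases hj1 : j = 1
  · rw [hj1, mul_one]
  · have hr2 : r ≠ 2 := by omega
    have hodd : Odd r := hr.out.odd_of_ne_two hr2
    have h1 : 1 < q ^ d := Nat.one_lt_pow hd.ne' (by omega)
    have h2 := padicValNat.pow_sub_pow hodd h1 hdvd (not_dvd_pow hrq d) hj.ne'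
    rw [one_pow, ← pow_mul] at h2
    rw [h2]
    have : padicValNat r j = 0 :=
      padicValNat.eq_zero_of_not_dvd (fun h => by have := Nat.le_of_dvd hj h; omega)
    rw [this, add_zero]

/-- the `r`-part of `q^d - 1` is that of `Φ_d(q)` when `d` is the order of `q` mod `r` -/
theorem padicValNat_cyclotomic (hq : 2 ≤ q) (hrq : ¬ r ∣ q) :
    padicValNat r (q ^ orderOf (q : ZMod r) - 1) =
      padicValNat r ((cyclotomic (orderOf (q : ZMod r)) ℤ).eval (q : ℤ)).natAbs := by
  set d := orderOf (q : ZMod r) with hd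
  have hdpos : 0 < d := orderOf_pos hrq
  have hprod := congrArg (eval (q : ℤ)) (prod_cyclotomic_eq_X_pow_sub_one hdpos ℤ)
  rw [← Nat.cons_self_properDivisors hdpos.ne', Finset.prod_cons, eval_mul, eval_prod] at hprod
  simp only [eval_sub, eval_pow, eval_X, eval_one] at hprod
  have hnat : ((q : ℤ) ^ d - 1).natAbs = q ^ d - 1 := by
    have : ((q ^ d - 1 : ℕ) : ℤ) = (q : ℤ) ^ d - 1 := by
      rw [Nat.cast_sub (Nat.one_le_pow _ _ (by omega)), Nat.cast_pow, Nat.cast_one]
    rw [← this, Int.natAbs_natCast]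
  have hne : q ^ d - 1 ≠ 0 := by
    have : 1 < q ^ d := Nat.one_lt_pow hdpos.ne' (by omega)
    omega
  rw [← hnat, ← hprod, Int.natAbs_mul]
  have hne2 : ((q : ℤ) ^ d - 1).natAbs ≠ 0 := by rw [hnat]; exact hne
  rw [← hprod, Int.natAbs_mul] at hne2
  have hA : ((cyclotomic d ℤ).eval (q : ℤ)).natAbs ≠ 0 := left_ne_zero_of_mul hne2
  have hB : (∏ e ∈ d.properDivisors, (cyclotomic e ℤ).eval (q : ℤ)).natAbs ≠ 0 :=
    right_ne_zero_of_mul hne2
  rw [padicValNat.mul hA hB]
  have hnd : ¬ r ∣ (∏ e ∈ d.properDivisors, (cyclotomic e ℤ).eval (q : ℤ)).natAbs := by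
    intro hdv
    have hdv' : (r : ℤ) ∣ ∏ e ∈ d.properDivisors, (cyclotomic e ℤ).eval (q : ℤ) :=
      Int.natCast_dvd.mpr hdv
    obtain ⟨e, he, hre⟩ := (Prime.dvd_finsetProd_iff (Nat.prime_iff_prime_int.mp hr.out) _).mp hdv'
    rw [Nat.mem_properDivisors] at he
    have hepos : 0 < e := Nat.pos_of_dvd_of_pos he.1 hdpos
    have h1 : (cyclotomic e ℤ).eval (q : ℤ) ∣ (q : ℤ) ^ e - 1 := by
      have := eval_dvd (x := (q : ℤ)) (cyclotomic.dvd_X_pow_sub_one e ℤ)
      simpa using this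
    have h2 : (r : ℤ) ∣ (q : ℤ) ^ e - 1 := hre.trans h1
    have h3 : r ∣ q ^ e - 1 := by
      have : ((q ^ e - 1 : ℕ) : ℤ) = (q : ℤ) ^ e - 1 := by
        rw [Nat.cast_sub (Nat.one_le_pow _ _ (by omega)), Nat.cast_pow, Nat.cast_one]
      rw [← this] at h2
      exact Int.natCast_dvd_natCast.mp h2
    have h4 : d ∣ e := (dvd_pow_sub_one_iff (by omega) e).mp h3
    have := Nat.le_of_dvd hepos h4
    omega
  rw [padicValNat.eq_zero_of_not_dvd hnd, add_zero]

/-- the `r`-adic valuation of `|GL_n(q)|` for `r > n` -/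
theorem padicValNat_card_GL (hq : 2 ≤ q) (hrq : ¬ r ∣ q) (n : ℕ) (hn : n < r) :
    padicValNat r (∏ i : Fin n, (q ^ n - q ^ (i : ℕ))) =
      (n / orderOf (q : ZMod r)) * padicValNat r (q ^ orderOf (q : ZMod r) - 1) := by
  set d := orderOf (q : ZMod r) with hd
  have hdpos : 0 < d := orderOf_pos hrq
  have hfac : ∀ i : Fin n, q ^ n - q ^ (i : ℕ) = q ^ (i : ℕ) * (q ^ (n - (i : ℕ)) - 1) := by
    intro i
    have hi : (i : ℕ) < n := i.isLt
    rw [Nat.mul_sub, mul_one, ← pow_add]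
    congr 2
    omega
  have hne : ∀ i : Fin n, q ^ n - q ^ (i : ℕ) ≠ 0 := by
    intro i
    have hi : (i : ℕ) < n := i.isLt
    have : q ^ (i : ℕ) < q ^ n := Nat.pow_lt_pow_right (by omega) hi
    omega
  have hval : ∀ i : Fin n, padicValNat r (q ^ n - q ^ (i : ℕ)) =
      padicValNat r (q ^ (n - (i : ℕ)) - 1) := by
    intro i
    have h1 := hne i
    rw [hfac i] at h1 ⊢
    rw [padicValNat.mul (left_ne_zero_of_mul h1) (right_ne_zero_of_mul h1),
      padicValNat.eq_zero_of_not_dvd (not_dvd_pow hrq _), zero_add]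
  have hsum : padicValNat r (∏ i : Fin n, (q ^ n - q ^ (i : ℕ))) =
      ∑ i : Fin n, padicValNat r (q ^ n - q ^ (i : ℕ)) := by
    rw [← Nat.factorization_def _ hr.out, Nat.factorization_prod (fun i _ => hne i)]
    simp only [Finsupp.coe_finsetSum, Finset.sum_apply]
    exact Finset.sum_congr rfl (fun i _ => Nat.factorization_def _ hr.out)
  rw [hsum, Finset.sum_congr rfl (fun i _ => hval i),
    Fin.sum_univ_eq_sum_range (fun i => padicValNat r (q ^ (n - i) - 1)) n]
  -- reflect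
  have hrefl : ∑ i ∈ Finset.range n, padicValNat r (q ^ (n - i) - 1) =
      ∑ k ∈ Finset.range n, padicValNat r (q ^ (k + 1) - 1) := by
    rw [← Finset.sum_range_reflect]
    apply Finset.sum_congr rfl
    intro j hj
    rw [Finset.mem_range] at hj
    congr 3
    omega
  rw [hrefl]
  -- only multiples of d contribute
  have hterm : ∀ k ∈ Finset.range n, padicValNat r (q ^ (k + 1) - 1) =
      if d ∣ k + 1 then padicValNat r (q ^ d - 1) else 0 := by
    intro k hk
    rw [Finset.mem_range] at hk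
    split_ifs with hdk
    · obtain ⟨j, hj⟩ := hdk
      have hjpos : 0 < j := by
        rcases Nat.eq_zero_or_pos j with h0 | h0
        · rw [h0, mul_zero] at hj; omega
        · exact h0
      have hjr : j < r := by
        have : j ≤ k + 1 := by
          rw [hj]
          exact Nat.le_mul_of_pos_left j hdpos
        omega
      rw [hj]
      exact padicValNat_pow_mul_sub_one hq hrq hdpos
        ((dvd_pow_sub_one_iff (by omega) d).mpr dvd_rfl) hjpos hjr
    · apply padicValNat.eq_zero_of_not_dvd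
      rw [dvd_pow_sub_one_iff (by omega)]
      exact hdk
  rw [Finset.sum_congr rfl hterm, Finset.sum_ite, Finset.sum_const_zero, add_zero,
    Finset.sum_const, smul_eq_mul, Nat.card_multiples]

end Cfsg.Agent.Helper40.SylGL
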