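import Cfsg.Agent.Lib.Helper40.SylowGLGen

set_option autoImplicit false

namespace Cfsg.Agent.Helper40.SylGL

variable {q r : ℕ} [hr : Fact r.Prime]

/-- reindexing the count in the statement -/
theorem card_filter_Icc (n d : ℕ) :
    ((Finset.Icc 1 n).filter (fun i => d ∣ 2 * i)).card =
      ((Finset.range n).filter (fun i => d ∣ 2 * (i + 1))).card := by
  symm
  apply Finset.card_nbij' (fun i => i + 1) (fun j => j - 1)
  · intro i hi
    simp only [Finset.coe_filter, Finset.mem_range, Set.mem_ofPred_eq, Finset.mem_Icc] at hi ⊢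
    exact ⟨⟨by omega, by omega⟩, hi.2⟩
  · intro j hj
    simp only [Finset.coe_filter, Finset.mem_range, Set.mem_ofPred_eq, Finset.mem_Icc] at hj ⊢
    obtain ⟨⟨h1, h2⟩, h3⟩ := hj
    refine ⟨by omega, ?_⟩
    have : j - 1 + 1 = j := by omega
    rw [this]
    exact h3
  · intro i _
    simp
  · intro j hj
    simp only [Finset.coe_filter, Finset.mem_Icc, Set.mem_ofPred_eq] at hj
    change j - 1 + 1 = j
    omega

theorem card_filter_odd (n d : ℕ) (hd : Odd d) :
    ((Finset.Icc 1 n).filter (fun i => d ∣ 2 * i)).card = n / d := by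
  rw [card_filter_Icc, ← Nat.card_multiples]
  congr 1
  apply Finset.filter_congr
  intro i _
  have hcop : Nat.Coprime d 2 := Nat.Coprime.symm (Nat.coprime_two_left.mpr hd)
  exact ⟨fun h => hcop.dvd_of_dvd_mul_left h, fun h => Dvd.dvd.mul_left h 2⟩

theorem card_filter_even (n e : ℕ) :
    ((Finset.Icc 1 n).filter (fun i => 2 * e ∣ 2 * i)).card = (n + n) / (2 * e) := by
  rw [card_filter_Icc, ← two_mul, Nat.mul_div_mul_left _ _ (by norm_num : 0 < 2),
    ← Nat.card_multiples]
  congr 1
  apply Finset.filter_congr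
  intro i _
  exact Nat.mul_dvd_mul_iff_left (by norm_num)

/-- the `r`-adic valuation of `|Sp_{2n}(q)|` for an odd prime `r > n` -/
theorem padicValNat_card_Sp (hr2 : r ≠ 2) (hq : 2 ≤ q) (hrq : ¬ r ∣ q) (n : ℕ) (hn : n < r) :
    padicValNat r (q ^ (n ^ 2) * ∏ i ∈ Finset.range n, (q ^ (2 * (i + 1)) - 1)) =
      ((Finset.Icc 1 n).filter (fun i => orderOf (q : ZMod r) ∣ 2 * i)).card *
        padicValNat r (q ^ orderOf (q : ZMod r) - 1) := by
  set d := orderOf (q : ZMod r) with hd
  have hdpos : 0 < d := orderOf_pos hrq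
  have hne : ∀ i ∈ Finset.range n, q ^ (2 * (i + 1)) - 1 ≠ 0 := by
    intro i _
    have : 1 < q ^ (2 * (i + 1)) := Nat.one_lt_pow (by omega) (by omega)
    omega
  have hqn : q ^ (n ^ 2) ≠ 0 := pow_ne_zero _ (by omega)
  have hprod : ∏ i ∈ Finset.range n, (q ^ (2 * (i + 1)) - 1) ≠ 0 :=
    Finset.prod_ne_zero_iff.mpr hne
  rw [padicValNat.mul hqn hprod, padicValNat.eq_zero_of_not_dvd (not_dvd_pow hrq _), zero_add]
  have hsum : padicValNat r (∏ i ∈ Finset.range n, (q ^ (2 * (i + 1)) - 1)) =
      ∑ i ∈ Finset.range n, padicValNat r (q ^ (2 * (i + 1)) - 1) := by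
    rw [← Nat.factorization_def _ hr.out, Nat.factorization_prod hne]
    simp only [Finsupp.coe_finsetSum, Finset.sum_apply]
    exact Finset.sum_congr rfl (fun i _ => Nat.factorization_def _ hr.out)
  rw [hsum]
  have hterm : ∀ k ∈ Finset.range n, padicValNat r (q ^ (2 * (k + 1)) - 1) =
      if d ∣ 2 * (k + 1) then padicValNat r (q ^ d - 1) else 0 := by
    intro k hk
    rw [Finset.mem_range] at hk
    split_ifs with hdk
    · obtain ⟨j, hj⟩ := hdk
      have hjpos : 0 < j := by
        rcases Nat.eq_zero_or_pos j with h0 | h0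
        · rw [h0, mul_zero] at hj; omega
        · exact h0
      have hjr : ¬ r ∣ j := by
        intro h
        have h1 : r ∣ 2 * (k + 1) := hj ▸ Dvd.dvd.mul_left h d
        rcases (Nat.Prime.dvd_mul hr.out).mp h1 with h2 | h2
        · exact hr2 ((Nat.prime_dvd_prime_iff_eq hr.out Nat.prime_two).mp h2)
        · have := Nat.le_of_dvd (by omega) h2
          omega
      rw [hj]
      exact padicValNat_pow_mul_sub_one' hr2 hq hrq hdpos
        ((dvd_pow_sub_one_iff (by omega) d).mpr dvd_rfl) hjpos hjr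
    · apply padicValNat.eq_zero_of_not_dvd
      rw [dvd_pow_sub_one_iff (by omega)]
      exact hdk
  rw [Finset.sum_congr rfl hterm, Finset.sum_ite, Finset.sum_const_zero, add_zero,
    Finset.sum_const, smul_eq_mul, card_filter_Icc]

end Cfsg.Agent.Helper40.SylGL
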