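import Mathlib

set_option autoImplicit false

namespace Cfsg.Agent.Helper40.SylGL

variable {G H : Type*} [Group G] [Group H] [Finite G] [Finite H] {r : ℕ} [Fact r.Prime]

/-- an injective hom `H → G` with equal `r`-parts identifies the Sylow `r`-subgroups -/
theorem sylow_equiv_of_injective (ψ : H →* G) (hψ : Function.Injective ψ)
    (hv : (Nat.card H).factorization r = (Nat.card G).factorization r)
    (Q : Sylow r H) (P : Sylow r G) :
    Nonempty (↥(P : Subgroup G) ≃* ↥(Q : Subgroup H)) := by
  have hcard : Nat.card ((Q : Subgroup H).map ψ) = r ^ (Nat.card G).factorization r := by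
    rw [Nat.card_congr ((Q : Subgroup H).equivMapOfInjective ψ hψ).symm.toEquiv,
      Sylow.card_eq_multiplicity, hv]
  exact ⟨(Sylow.equiv P (Sylow.ofCard _ hcard)).trans
    ((MulEquiv.subgroupCongr (Sylow.coe_ofCard _ hcard)).trans
      ((Q : Subgroup H).equivMapOfInjective ψ hψ).symm)⟩

/-- an injective hom `G → H` with equal `r`-parts maps Sylow subgroups to Sylow subgroups -/
theorem exists_sylow_equiv_of_injective (ψ : G →* H) (hψ : Function.Injective ψ)
    (hv : (Nat.card G).factorization r = (Nat.card H).factorization r) (P : Sylow r G) :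
    ∃ P' : Sylow r H, Nonempty (↥(P : Subgroup G) ≃* ↥(P' : Subgroup H)) := by
  have hcard : Nat.card ((P : Subgroup G).map ψ) = r ^ (Nat.card H).factorization r := by
    rw [Nat.card_congr ((P : Subgroup G).equivMapOfInjective ψ hψ).symm.toEquiv,
      Sylow.card_eq_multiplicity, hv]
  exact ⟨Sylow.ofCard _ hcard, ⟨((P : Subgroup G).equivMapOfInjective ψ hψ).trans
    (MulEquiv.subgroupCongr (Sylow.coe_ofCard _ hcard)).symm⟩⟩

end Cfsg.Agent.Helper40.SylGL
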