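import Mathlib
import Cfsg.Agent.Lib.Helper93.U20
import Cfsg.Agent.Lib.Helper40.U2Base
import Cfsg.Agent.Lib.Helper40.U2G1a

/-! helper40: piece G1b of helper93's lemma server "U2" (row S2335). -/

set_option autoImplicit false

namespace Cfsg.Agent.Helper40.U2

open Matrix Cfsg.Agent.Helper13 Cfsg.Agent.Helper93.U2

variable {F : Type*} [Field F] [Fintype F] {q : ℕ} (hF : Fintype.card F = q ^ 2)

/-- piece G1b -/
theorem aMat_unitary {n m : ℕ} (fr : Frame hF n m) (ε : F) (hε : ε ^ q = -ε)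
    (H : Matrix (Fin m) (Fin m) F) (hH : cT hF H = H) :
    cT hF (aMat hF fr ε H) * aMat hF fr ε H = 1 := by
  have h1 : cT hF (aMat hF fr ε H) = aMat hF fr ε (-H) := by
    unfold aMat
    rw [cT_add, cT_one, cT_smul, base_cT_PHP, hH, hε, Matrix.mul_neg, Matrix.neg_mul, smul_neg,
      neg_smul]
  rw [h1, ← aMat_add, neg_add_cancel]
  unfold aMat
  simp

end Cfsg.Agent.Helper40.U2
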