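import Mathlib
import Cfsg.Agent.Lib.Helper93.U20
import Cfsg.Agent.Lib.Helper40.U2Base

/-! helper40: piece G2a of helper93's lemma server "U2" (row S2335). -/

set_option autoImplicit false

namespace Cfsg.Agent.Helper40.U2

open Matrix Cfsg.Agent.Helper13 Cfsg.Agent.Helper93.U2

variable {F : Type*} [Field F] [Fintype F] {q : ℕ} (hF : Fintype.card F = q ^ 2)

/-- piece G2a -/
theorem lMat_unitary {n m : ℕ} (fr : Frame hF n m) (E : Matrix (Fin m) (Fin m) F)
    (hE : E * E = 0) : cT hF (lMat hF fr E) * lMat hF fr E = 1 := by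
  rw [lMat_eq, cT_add, cT_one, cT_nMat, Matrix.add_mul, Matrix.mul_add, Matrix.mul_add, Matrix.one_mul,
    Matrix.mul_one, Matrix.one_mul, Matrix.neg_mul, nMat_sq hF fr E hE]
  abel

end Cfsg.Agent.Helper40.U2
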