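import Mathlib
import Cfsg.Agent.Lib.Helper93.U20
import Cfsg.Agent.Lib.Helper40.U2Base

/-! helper40: piece G3 of helper93's lemma server "U2" (row S2335). -/

set_option autoImplicit false

namespace Cfsg.Agent.Helper40.U2

open Matrix Cfsg.Agent.Helper13 Cfsg.Agent.Helper93.U2

variable {F : Type*} [Field F] [Fintype F] {q : ℕ} (hF : Fintype.card F = q ^ 2)

/-- piece G3 -/
theorem lMat_mul_aMat {n m : ℕ} (fr : Frame hF n m) (ε : F) (E H : Matrix (Fin m) (Fin m) F)
    (hE : E * E = 0) :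
    lMat hF fr E * aMat hF fr ε H =
      aMat hF fr ε ((1 + E) * H * cT hF (1 + E)) * lMat hF fr E := by
  have hE' : cT hF E * cT hF E = 0 := by
    rw [← cT_mul, hE, cT_zero]
  -- (1+N) P = P (1+E)
  have h1 : (1 + nMat hF fr E) * fr.P = fr.P * (1 + E) := by
    rw [Matrix.add_mul, Matrix.one_mul, nMat_mul_P, Matrix.mul_add, Matrix.mul_one]
  -- (1+E)^* P^* (1+N) = P^*
  have hEE : cT hF E * (cT hF E * cT hF fr.P) = 0 := by
    rw [← Matrix.mul_assoc, hE', Matrix.zero_mul]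
  have h2 : cT hF (1 + E) * cT hF fr.P * (1 + nMat hF fr E) = cT hF fr.P := by
    have e1 : cT hF (1 + E) = 1 + cT hF E := by rw [cT_add, cT_one]
    rw [Matrix.mul_assoc, Matrix.mul_add, Matrix.mul_one, cTP_mul_nMat, e1]
    have e2 : ∀ X : Matrix (Fin m) (Fin n) F, (1 + cT hF E) * X = X + cT hF E * X := by
      intro X; rw [Matrix.add_mul, Matrix.one_mul]
    rw [e2, Matrix.mul_add, Matrix.mul_neg, hEE]
    abel
  have h3 : (1 + nMat hF fr E) * (fr.P * H * cT hF fr.P)
      = fr.P * ((1 + E) * H * cT hF (1 + E)) * cT hF fr.P * (1 + nMat hF fr E) := by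
    calc (1 + nMat hF fr E) * (fr.P * H * cT hF fr.P)
        = ((1 + nMat hF fr E) * fr.P) * H * cT hF fr.P := by simp only [Matrix.mul_assoc]
      _ = fr.P * (1 + E) * H * cT hF fr.P := by rw [h1]
      _ = fr.P * (1 + E) * H * (cT hF (1 + E) * cT hF fr.P * (1 + nMat hF fr E)) := by rw [h2]
      _ = fr.P * ((1 + E) * H * cT hF (1 + E)) * cT hF fr.P * (1 + nMat hF fr E) := by
          simp only [Matrix.mul_assoc]
  have g1 : ∀ A X : Matrix (Fin n) (Fin n) F, A * (1 + ε • X) = A + ε • (A * X) := by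
    intro A X; rw [Matrix.mul_add, Matrix.mul_one, Matrix.mul_smul]
  have g2 : ∀ A Y : Matrix (Fin n) (Fin n) F, (1 + ε • Y) * A = A + ε • (Y * A) := by
    intro A Y; rw [Matrix.add_mul, Matrix.one_mul, Matrix.smul_mul]
  rw [lMat_eq]
  unfold aMat
  rw [g1, g2, h3]

end Cfsg.Agent.Helper40.U2
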