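import Cfsg.Agent.Lib.Helper40.FlagInv

set_option autoImplicit false

namespace Cfsg.Agent.Helper40.Flag

open Cfsg Module Cfsg.Agent.Helper40.Par

variable {n : ℕ}

/-- the size of a block of the labelling -/
theorem card_label_eq {α : Fin n → ℕ} (hα : ∑ i, α i = n) (s : Fin n) :
    (Finset.univ.filter fun i : Fin n => compLabel α i = s.val).card = α s := by
  have hle := card_label_le hα s.val s.isLt
  have hS := pS_succ α s
  rcases Nat.eq_zero_or_pos s.val with h0 | hpos
  · have e := card_filter_le_zero (fun i : Fin n => compLabel α i) (fun _ => True)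
    simp only [and_true] at e
    rw [h0] at hle hS ⊢
    rw [← e, hle, hS, pS_zero, zero_add]
  · have e := card_filter_le_succ (fun i : Fin n => compLabel α i) (fun _ => True) (s.val - 1)
    simp only [and_true] at e
    have hs1 : s.val - 1 + 1 = s.val := by omega
    rw [hs1] at e
    have hle' := card_label_le hα (s.val - 1) (by omega)
    rw [hs1] at hle'
    omega

/-- contingency matrices with prescribed margins -/
def Mat (α β : Fin n → ℕ) : Type :=
  {A : Fin n → Fin n → ℕ // (∀ s, ∑ t, A s t = α s) ∧ (∀ t, ∑ s, A s t = β t)}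

theorem sum_jointCount_right {α β : Fin n → ℕ} (hα : ∑ i, α i = n) (hβ : ∑ i, β i = n)
    (w : Equiv.Perm (Fin n)) (s : Fin n) :
    ∑ t : Fin n, jointCount α β w s.val t.val = α s := by
  classical
  rw [← card_label_eq hα s]
  rw [Finset.card_eq_sum_card_fiberwise (s := Finset.univ.filter fun i : Fin n => compLabel α i = s.val)
    (t := Finset.univ)
    (f := fun i => (⟨compLabel β (w⁻¹ i), (label_spec hβ (w⁻¹ i)).1⟩ : Fin n))
    (fun _ _ => Finset.mem_univ _)]
  apply Finset.sum_congr rfl
  intro t _
  unfold jointCount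
  congr 1
  ext i
  simp only [Finset.mem_filter, Finset.mem_univ, true_and, Fin.ext_iff]

theorem sum_jointCount_left {α β : Fin n → ℕ} (hα : ∑ i, α i = n) (hβ : ∑ i, β i = n)
    (w : Equiv.Perm (Fin n)) (t : Fin n) :
    ∑ s : Fin n, jointCount α β w s.val t.val = β t := by
  classical
  rw [← card_label_eq hβ t]
  have h1 : (Finset.univ.filter fun i : Fin n => compLabel β i = t.val).card =
      (Finset.univ.filter fun i : Fin n => compLabel β (w⁻¹ i) = t.val).card := by
    apply Finset.card_bijective (w : Fin n → Fin n) w.bijective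
    intro i
    simp
  rw [h1]
  rw [Finset.card_eq_sum_card_fiberwise
    (s := Finset.univ.filter fun i : Fin n => compLabel β (w⁻¹ i) = t.val)
    (t := Finset.univ)
    (f := fun i => (⟨compLabel α i, (label_spec hα i).1⟩ : Fin n))
    (fun _ _ => Finset.mem_univ _)]
  apply Finset.sum_congr rfl
  intro s _
  unfold jointCount
  congr 1
  ext i
  simp only [Finset.mem_filter, Finset.mem_univ, true_and, Fin.ext_iff]
  exact and_comm

/-- the joint counts are constant on double cosets of the Young subgroups -/
theorem jointCount_mul (α β : Fin n → ℕ) (w y y' : Equiv.Perm (Fin n)) (hy : y ∈ youngSubgroup α)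
    (hy' : y' ∈ youngSubgroup β) (s t : ℕ) :
    jointCount α β (y * w * y') s t = jointCount α β w s t := by
  classical
  unfold jointCount
  apply Finset.card_bijective (y⁻¹ : Equiv.Perm (Fin n)) (y⁻¹ : Equiv.Perm (Fin n)).bijective
  intro i
  simp only [Finset.mem_filter, Finset.mem_univ, true_and]
  have h1 : compLabel α (y⁻¹ i) = compLabel α i := (inv_mem hy) i
  have h2 : compLabel β ((y * w * y')⁻¹ i) = compLabel β (w⁻¹ (y⁻¹ i)) := by
    have : (y * w * y')⁻¹ i = y'⁻¹ (w⁻¹ (y⁻¹ i)) := by
      simp [mul_inv_rev, Equiv.Perm.mul_apply]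
    rw [this]
    exact (inv_mem hy') _
  rw [h1, h2]

/-- permutations with the same joint counts lie in the same double coset -/
theorem young_of_jointCount_eq (α β : Fin n → ℕ) (w w' : Equiv.Perm (Fin n))
    (h : ∀ s t, jointCount α β w s t = jointCount α β w' s t) :
    ∃ y ∈ youngSubgroup α, ∃ y' ∈ youngSubgroup β, w' = y * w * y' := by
  classical
  obtain ⟨ρ, hρ⟩ := exists_perm_of_card_fiber_eq
    (fun i : Fin n => (compLabel α i, compLabel β (w⁻¹ i)))
    (fun i : Fin n => (compLabel α i, compLabel β (w'⁻¹ i))) (by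
      rintro ⟨s, t⟩
      have := h s t
      unfold jointCount at this
      simp only [Prod.mk.injEq]
      exact this)
  have hρ1 : ∀ i, compLabel α (ρ i) = compLabel α i := fun i => (Prod.ext_iff.mp (hρ i)).1
  have hρ2 : ∀ i, compLabel β (w'⁻¹ (ρ i)) = compLabel β (w⁻¹ i) :=
    fun i => (Prod.ext_iff.mp (hρ i)).2
  refine ⟨ρ, hρ1, w⁻¹ * ρ⁻¹ * w', ?_, by group⟩
  intro k
  have := hρ2 (ρ⁻¹ (w' k))
  have e1 : ρ (ρ⁻¹ (w' k)) = w' k := by simp
  have e2 : w'⁻¹ (w' k) = k := by simp
  rw [e1, e2] at this
  simp only [Equiv.Perm.mul_apply]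
  exact this.symm

/-- a labelling with prescribed fibre sizes exists -/
theorem exists_labelling {X T : Type*} [Fintype X] [Fintype T] [DecidableEq T] (a : T → ℕ)
    (h : ∑ t, a t = Fintype.card X) :
    ∃ f : X → T, ∀ t, (Finset.univ.filter fun x => f x = t).card = a t := by
  classical
  have hc : Fintype.card X = Fintype.card (Σ t : T, Fin (a t)) := by
    rw [Fintype.card_sigma, ← h]
    simp
  let e : X ≃ Σ t : T, Fin (a t) := Fintype.equivOfCardEq hc
  refine ⟨fun x => (e x).1, ?_⟩
  intro t
  have h1 : (Finset.univ.filter fun x : X => (e x).1 = t).card =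
      (Finset.univ.filter fun σ : (Σ t : T, Fin (a t)) => σ.1 = t).card := by
    apply Finset.card_bijective e e.bijective
    intro x
    simp
  rw [h1]
  have h2 : (Finset.univ.filter fun σ : (Σ t : T, Fin (a t)) => σ.1 = t) =
      ({t} : Finset T).sigma (fun t' => (Finset.univ : Finset (Fin (a t')))) := by
    ext σ
    simp
  rw [h2, Finset.card_sigma]
  simp

/-- the labelling with values in `Fin n` -/
def flabel {α : Fin n → ℕ} (hα : ∑ i, α i = n) (i : Fin n) : Fin n :=
  ⟨compLabel α i, (label_spec hα i).1⟩

/-- every contingency matrix is the matrix of joint counts of a permutation -/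
theorem exists_perm_jointCount {α β : Fin n → ℕ} (hα : ∑ i, α i = n) (hβ : ∑ i, β i = n)
    (A : Mat α β) : ∃ w : Equiv.Perm (Fin n), ∀ s t : Fin n,
      jointCount α β w s.val t.val = A.1 s t := by
  classical
  have hsum : ∑ p : Fin n × Fin n, A.1 p.1 p.2 = Fintype.card (Fin n) := by
    rw [Fintype.sum_prod_type, Finset.sum_congr rfl (fun s _ => A.2.1 s), hα, Fintype.card_fin]
  obtain ⟨h, hh⟩ := exists_labelling (X := Fin n) (fun p : Fin n × Fin n => A.1 p.1 p.2) hsum
  -- the first components have the fibre sizes of the labelling of `α`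
  have hf1 : ∀ s : Fin n, (Finset.univ.filter fun j : Fin n => (h j).1 = s).card =
      (Finset.univ.filter fun i : Fin n => flabel hα i = s).card := by
    intro s
    have e1 : (Finset.univ.filter fun i : Fin n => flabel hα i = s).card = α s := by
      rw [← card_label_eq hα s]
      congr 1
      ext i
      simp only [Finset.mem_filter, Finset.mem_univ, true_and, flabel, Fin.ext_iff]
    rw [e1, ← A.2.1 s]
    rw [Finset.card_eq_sum_card_fiberwise (s := Finset.univ.filter fun j : Fin n => (h j).1 = s)
      (t := Finset.univ) (f := fun j => (h j).2) (fun _ _ => Finset.mem_univ _)]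
    apply Finset.sum_congr rfl
    intro t _
    rw [← hh (s, t)]
    congr 1
    ext j
    simp only [Finset.mem_filter, Finset.mem_univ, true_and, Prod.ext_iff]
  have hf2 : ∀ t : Fin n, (Finset.univ.filter fun j : Fin n => (h j).2 = t).card =
      (Finset.univ.filter fun i : Fin n => flabel hβ i = t).card := by
    intro t
    have e1 : (Finset.univ.filter fun i : Fin n => flabel hβ i = t).card = β t := by
      rw [← card_label_eq hβ t]
      congr 1
      ext i
      simp only [Finset.mem_filter, Finset.mem_univ, true_and, flabel, Fin.ext_iff]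
    rw [e1, ← A.2.2 t]
    rw [Finset.card_eq_sum_card_fiberwise (s := Finset.univ.filter fun j : Fin n => (h j).2 = t)
      (t := Finset.univ) (f := fun j => (h j).1) (fun _ _ => Finset.mem_univ _)]
    apply Finset.sum_congr rfl
    intro s _
    rw [← hh (s, t)]
    congr 1
    ext j
    simp only [Finset.mem_filter, Finset.mem_univ, true_and, Prod.ext_iff]
    exact and_comm
  obtain ⟨ρ₁, hρ₁⟩ := exists_perm_of_card_fiber_eq (fun j : Fin n => (h j).1) (flabel hα) hf1
  obtain ⟨ρ₂, hρ₂⟩ := exists_perm_of_card_fiber_eq (fun j : Fin n => (h j).2) (flabel hβ) hf2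
  refine ⟨ρ₁ * ρ₂⁻¹, ?_⟩
  intro s t
  rw [← hh (s, t)]
  unfold jointCount
  symm
  apply Finset.card_bijective (ρ₁ : Fin n → Fin n) ρ₁.bijective
  intro j
  simp only [Finset.mem_filter, Finset.mem_univ, true_and, Prod.ext_iff]
  have h1 : compLabel α (ρ₁ j) = ((h j).1 : ℕ) := congrArg Fin.val (hρ₁ j)
  have h2 : compLabel β ((ρ₁ * ρ₂⁻¹)⁻¹ (ρ₁ j)) = ((h j).2 : ℕ) := by
    have : (ρ₁ * ρ₂⁻¹)⁻¹ (ρ₁ j) = ρ₂ j := by
      simp [mul_inv_rev, Equiv.Perm.mul_apply]
    rw [this]
    exact congrArg Fin.val (hρ₂ j)
  rw [h1, h2, Fin.ext_iff, Fin.ext_iff]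

/-- the double cosets of two Young subgroups are counted by contingency matrices -/
theorem card_doubleCoset_young {α β : Fin n → ℕ} (hα : ∑ i, α i = n) (hβ : ∑ i, β i = n) :
    Nat.card (DoubleCoset.Quotient (youngSubgroup α : Set (Equiv.Perm (Fin n)))
      (youngSubgroup β : Set (Equiv.Perm (Fin n)))) = Nat.card (Mat α β) := by
  let Ψ₀ : Equiv.Perm (Fin n) → Mat α β := fun w =>
    ⟨fun s t => jointCount α β w s.val t.val, sum_jointCount_right hα hβ w,
      sum_jointCount_left hα hβ w⟩
  have hΨ₀ : ∀ w w' : Equiv.Perm (Fin n),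
      (DoubleCoset.setoid (youngSubgroup α : Set (Equiv.Perm (Fin n)))
        (youngSubgroup β : Set (Equiv.Perm (Fin n)))) w w' → Ψ₀ w = Ψ₀ w' := by
    intro w w' hrel
    obtain ⟨y, hy, y', hy', rfl⟩ := DoubleCoset.rel_iff.mp hrel
    apply Subtype.ext
    funext s t
    exact (jointCount_mul α β w y y' hy hy' s.val t.val).symm
  apply Nat.card_congr
  refine Equiv.ofBijective (Quotient.lift Ψ₀ hΨ₀) ⟨?_, ?_⟩
  · intro x x'
    induction x using Quotient.inductionOn with
    | h w =>
      induction x' using Quotient.inductionOn with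
      | h w' =>
        intro h
        apply Quotient.sound
        apply DoubleCoset.rel_iff.mpr
        apply young_of_jointCount_eq
        intro s t
        by_cases hs : s < n
        · by_cases ht : t < n
          · exact congrFun (congrFun (congrArg Subtype.val h) ⟨s, hs⟩) ⟨t, ht⟩
          · have e : ∀ v : Equiv.Perm (Fin n), jointCount α β v s t = 0 := by
              intro v
              unfold jointCount
              rw [Finset.card_eq_zero, Finset.filter_eq_empty_iff]
              intro i _ hi
              have := (label_spec hβ (v⁻¹ i)).1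
              omega
            rw [e, e]
        · have e : ∀ v : Equiv.Perm (Fin n), jointCount α β v s t = 0 := by
            intro v
            unfold jointCount
            rw [Finset.card_eq_zero, Finset.filter_eq_empty_iff]
            intro i _ hi
            have := (label_spec hα i).1
            omega
          rw [e, e]
  · intro A
    obtain ⟨w, hw⟩ := exists_perm_jointCount hα hβ A
    refine ⟨Quotient.mk _ w, ?_⟩
    apply Subtype.ext
    funext s t
    exact hw s t

end Cfsg.Agent.Helper40.Flag
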