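import Cfsg.Agent.Lib.Helper40.FlagMain
import Cfsg.Agent.Lib.Helper40.YoungMat
import Cfsg.Agent.Lib.Helper40.SchurDet
import Cfsg.Agent.S2424
import Cfsg.Agent.S0157
import Cfsg.Agent.Lib.Helper82.GenChar

set_option autoImplicit false

namespace Cfsg.Agent.Helper40.Unip

open Cfsg Cfsg.Agent.Helper40.Flag Cfsg.Agent.Helper40.Schur
open scoped MatrixGroups ComplexConjugate

variable {F : Type*} [Field F] {n : ℕ}

/-- the algebraic count of contingency tables agrees with the type of contingency matrices -/
theorem Nalg_eq_card_mat (a b : Fin n → ℕ) : Nalg a (fs b) = Nat.card (Mat a b) := by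
  classical
  unfold Nalg
  rw [← Fintype.card_coe, ← Nat.card_eq_fintype_card]
  apply Nat.card_congr
  refine ⟨fun p => ⟨fun s t => p.1 s t, ?_, ?_⟩, fun A => ⟨fun s => fs (A.1 s), ?_⟩, ?_, ?_⟩
  · intro s
    have h := (Finset.mem_filter.mp p.2).1
    exact (Finset.mem_finsuppAntidiag.mp (Fintype.mem_piFinset.mp h s)).1
  · intro t
    have h := (Finset.mem_filter.mp p.2).2
    have h2 := congrArg (fun f : Fin n →₀ ℕ => f t) h
    simp only [Finsupp.finsetSum_apply, fs_apply] at h2
    exact h2
  · rw [Finset.mem_filter, Fintype.mem_piFinset]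
    refine ⟨fun s => Finset.mem_finsuppAntidiag.mpr ⟨?_, Finset.subset_univ _⟩, ?_⟩
    · simp only [fs_apply]
      exact A.2.1 s
    · ext t
      rw [Finsupp.finsetSum_apply]
      simp only [fs_apply]
      exact A.2.2 t
  · intro p
    apply Subtype.ext
    funext s
    ext t
    simp only [fs_apply]
  · intro A
    apply Subtype.ext
    funext s t
    simp only [fs_apply]

/-- the inner product of two flag characters of `GL_n(q)` counts contingency tables -/
theorem inner_flag_eq_Nalg [Fintype (GL (Fin n) F)] (a b : Fin n → ℕ) (ha : ∑ i, a i = n)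
    (hb : ∑ i, b i = n) :
    (Nat.card (GL (Fin n) F) : ℂ)⁻¹ * ∑ g : GL (Fin n) F,
        fixedPointCharacter (parabolicGL n F a) g * fixedPointCharacter (parabolicGL n F b) g =
      (Nalg a (fs b) : ℂ) := by
  rw [inner_flag_GL a b ha hb, card_doubleCoset_young ha hb, Nalg_eq_card_mat]

/-- the shifted partition `λ_i = ν_i + i` -/
def lamOf (ν : Fin n → ℕ) (i : Fin n) : ℕ := ν i + i.val

theorem lamOf_strictMono {ν : Fin n → ℕ} (h : Monotone ν) : StrictMono (lamOf ν) := by
  intro i j hij
  unfold lamOf
  have h1 := h hij.le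
  have h2 : i.val < j.val := hij
  omega

theorem lamOf_injective : Function.Injective (lamOf (n := n)) := by
  intro ν ν' h
  funext i
  have := congrFun h i
  unfold lamOf at this
  omega

theorem conj_unipotent (ν : Fin n → ℕ) (g : GL (Fin n) F) :
    conj (unipotentCharacterGL n F ν g) = unipotentCharacterGL n F ν g := by
  unfold unipotentCharacterGL fixedPointCharacter
  rw [map_sum]
  apply Finset.sum_congr rfl
  intro κ _
  split_ifs
  · rw [map_mul, map_intCast, map_natCast]
  · rw [map_zero]

/-- one term of the alternating sum -/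
noncomputable def term (F : Type*) [Field F] (ν : Fin n → ℕ) (κ : Equiv.Perm (Fin n))
    (g : GL (Fin n) F) : ℂ :=
  if ∀ i : Fin n, (κ i).val ≤ ν i + i.val then
    ((Equiv.Perm.sign κ : ℤ) : ℂ) *
      fixedPointCharacter (parabolicGL n F fun i => ν i + i.val - (κ i).val) g
  else 0

theorem unipotent_eq_sum_term (ν : Fin n → ℕ) (g : GL (Fin n) F) :
    unipotentCharacterGL n F ν g = ∑ κ : Equiv.Perm (Fin n), term F ν κ g := rfl

theorem inner_term [Fintype (GL (Fin n) F)] (ν ν' : Fin n → ℕ) (hs : ∑ i, ν i = n)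
    (hs' : ∑ i, ν' i = n) (κ κ' : Equiv.Perm (Fin n)) :
    (Nat.card (GL (Fin n) F) : ℂ)⁻¹ * ∑ g : GL (Fin n) F, term F ν κ g * term F ν' κ' g =
      if (∀ t, (κ' t).val ≤ lamOf ν' t) ∧ (∀ i, (κ i).val ≤ lamOf ν i) then
        ((Equiv.Perm.sign κ' : ℤ) : ℂ) * ((Equiv.Perm.sign κ : ℤ) : ℂ) *
          (Nalg (fun i => lamOf ν i - (κ i).val) (fs (fun t => lamOf ν' t - (κ' t).val)) : ℂ)
      else 0 := by
  by_cases hv : ∀ i : Fin n, (κ i).val ≤ ν i + i.val
  · by_cases hv' : ∀ i : Fin n, (κ' i).val ≤ ν' i + i.val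
    · rw [if_pos ⟨hv', hv⟩]
      have h1 := inner_flag_eq_Nalg (F := F) (fun i => ν i + i.val - (κ i).val)
        (fun i => ν' i + i.val - (κ' i).val) (Cfsg.Agent.S2424.sum_comp_sub ν hs κ hv)
        (Cfsg.Agent.S2424.sum_comp_sub ν' hs' κ' hv')
      have h2 : ∀ g : GL (Fin n) F, term F ν κ g * term F ν' κ' g =
          (((Equiv.Perm.sign κ' : ℤ) : ℂ) * ((Equiv.Perm.sign κ : ℤ) : ℂ)) *
          (fixedPointCharacter (parabolicGL n F fun i => ν i + i.val - (κ i).val) g *
            fixedPointCharacter (parabolicGL n F fun i => ν' i + i.val - (κ' i).val) g) := by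
        intro g
        unfold term
        rw [if_pos hv, if_pos hv']
        ring
      rw [Finset.sum_congr rfl (fun g _ => h2 g), ← Finset.mul_sum, mul_left_comm, h1]
      rfl
    · rw [if_neg (fun h => hv' h.1)]
      have h2 : ∀ g : GL (Fin n) F, term F ν κ g * term F ν' κ' g = 0 := by
        intro g
        unfold term
        rw [if_neg hv', mul_zero]
      rw [Finset.sum_congr rfl (fun g _ => h2 g), Finset.sum_const_zero, mul_zero]
  · rw [if_neg (fun h => hv h.2)]
    have h2 : ∀ g : GL (Fin n) F, term F ν κ g * term F ν' κ' g = 0 := by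
      intro g
      unfold term
      rw [if_neg hv, zero_mul]
    rw [Finset.sum_congr rfl (fun g _ => h2 g), Finset.sum_const_zero, mul_zero]

/-- orthonormality of the alternating sums of flag characters -/
theorem classInner_unipotent [Fintype (GL (Fin n) F)] (ν ν' : Fin n → ℕ) (hm : Monotone ν)
    (hs : ∑ i, ν i = n) (hm' : Monotone ν') (hs' : ∑ i, ν' i = n) :
    classInner (unipotentCharacterGL n F ν) (unipotentCharacterGL n F ν') =
      if ν = ν' then 1 else 0 := by
  classical
  unfold classInner
  simp only [conj_unipotent]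
  have hschur := schur_orthogonality (lamOf ν) (lamOf ν') (lamOf_strictMono hm)
    (lamOf_strictMono hm')
  have hcast := congrArg (fun z : ℤ => (z : ℂ)) hschur
  simp only [Int.cast_sum, Int.cast_ite, Int.cast_mul, Int.cast_natCast, Int.cast_zero,
    Int.cast_one] at hcast
  have hif : (if lamOf ν = lamOf ν' then (1 : ℂ) else 0) = if ν = ν' then 1 else 0 := by
    by_cases h : ν = ν'
    · rw [if_pos h, if_pos (by rw [h])]
    · rw [if_neg h, if_neg (fun h' => h (lamOf_injective h'))]
  rw [← hif, ← hcast]
  have hsum : ∑ g : GL (Fin n) F, unipotentCharacterGL n F ν g * unipotentCharacterGL n F ν' g =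
      ∑ κ' : Equiv.Perm (Fin n), ∑ κ : Equiv.Perm (Fin n),
        ∑ g : GL (Fin n) F, term F ν κ g * term F ν' κ' g := by
    calc ∑ g : GL (Fin n) F, unipotentCharacterGL n F ν g * unipotentCharacterGL n F ν' g
        = ∑ g : GL (Fin n) F, ∑ κ : Equiv.Perm (Fin n), ∑ κ' : Equiv.Perm (Fin n),
            term F ν κ g * term F ν' κ' g := by
          apply Finset.sum_congr rfl
          intro g _
          rw [unipotent_eq_sum_term, unipotent_eq_sum_term, Finset.sum_mul_sum]
      _ = ∑ κ : Equiv.Perm (Fin n), ∑ g : GL (Fin n) F, ∑ κ' : Equiv.Perm (Fin n),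
            term F ν κ g * term F ν' κ' g := Finset.sum_comm
      _ = ∑ κ : Equiv.Perm (Fin n), ∑ κ' : Equiv.Perm (Fin n), ∑ g : GL (Fin n) F,
            term F ν κ g * term F ν' κ' g := by
          apply Finset.sum_congr rfl
          intro κ _
          exact Finset.sum_comm
      _ = ∑ κ' : Equiv.Perm (Fin n), ∑ κ : Equiv.Perm (Fin n), ∑ g : GL (Fin n) F,
            term F ν κ g * term F ν' κ' g := Finset.sum_comm
  rw [hsum, Finset.mul_sum]
  apply Finset.sum_congr rfl
  intro κ' _
  rw [Finset.mul_sum]
  apply Finset.sum_congr rfl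
  intro κ _
  exact inner_term ν ν' hs hs' κ κ'

/-- the alternating sums of flag characters are generalized characters -/
theorem isGeneralizedCharacter_unipotent [Fintype (GL (Fin n) F)] (ν : Fin n → ℕ) :
    IsGeneralizedCharacter (GL (Fin n) F) (unipotentCharacterGL n F ν) := by
  have hfun : unipotentCharacterGL n F ν =
      ∑ κ : Equiv.Perm (Fin n), (fun g => term F ν κ g) := by
    funext g
    rw [Finset.sum_apply]
    rfl
  rw [hfun]
  apply Finset.sum_induction _ (IsGeneralizedCharacter (GL (Fin n) F))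
  · intro a b ha hb
    exact Cfsg.Agent.Helper82.isGeneralizedCharacter_add ha hb
  · exact Cfsg.Agent.Helper82.isGeneralizedCharacter_of_isCharacter
      Cfsg.Agent.Helper81.isCharacter_zero
  · intro κ _
    have hπ : IsCharacter (GL (Fin n) F)
        (fixedPointCharacter (parabolicGL n F fun i => ν i + i.val - (κ i).val)) :=
      Cfsg.Agent.S0157.isCharacter_permChar
        (GL (Fin n) F ⧸ parabolicGL n F fun i => ν i + i.val - (κ i).val)
    by_cases hv : ∀ i : Fin n, (κ i).val ≤ ν i + i.val
    · rcases Int.units_eq_one_or (Equiv.Perm.sign κ) with h1 | h1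
      · have : (fun g => term F ν κ g) =
            fixedPointCharacter (parabolicGL n F fun i => ν i + i.val - (κ i).val) := by
          funext g
          unfold term
          rw [if_pos hv, h1]
          simp
        rw [this]
        exact Cfsg.Agent.Helper82.isGeneralizedCharacter_of_isCharacter hπ
      · have : (fun g => term F ν κ g) =
            -fixedPointCharacter (parabolicGL n F fun i => ν i + i.val - (κ i).val) := by
          funext g
          unfold term
          rw [if_pos hv, h1]
          simp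
        rw [this]
        exact Cfsg.Agent.Helper82.isGeneralizedCharacter_neg
          (Cfsg.Agent.Helper82.isGeneralizedCharacter_of_isCharacter hπ)
    · have : (fun g => term F ν κ g) = 0 := by
        funext g
        unfold term
        rw [if_neg hv]
        rfl
      rw [this]
      exact Cfsg.Agent.Helper82.isGeneralizedCharacter_of_isCharacter
        Cfsg.Agent.Helper81.isCharacter_zero

theorem geom_strictMono {q : ℕ} (hq : 1 ≤ q) :
    StrictMono (fun m : ℕ => ∑ l ∈ Finset.range m, q ^ l) := by
  apply strictMono_nat_of_lt_succ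
  intro m
  rw [Finset.sum_range_succ]
  have : 0 < q ^ m := Nat.pow_pos (by omega)
  omega

/-- the degree of the alternating sum is a positive real number -/
theorem unipotent_one_pos [Fintype F] (ν : Fin n → ℕ) (hm : Monotone ν) (hs : ∑ i, ν i = n) :
    ∃ r : ℝ, 0 < r ∧ unipotentCharacterGL n F ν 1 = (r : ℂ) := by
  classical
  set q := Fintype.card F with hq
  have hq2 : 2 ≤ q := Fintype.one_lt_card
  have h := Cfsg.Agent.S2424.result (F := F) (q := q) rfl ν hm hs
  set A : ℝ := (q : ℝ) ^ (n * (n - 1) * (n - 2) / 6) *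
    ∏ i : Fin n, ∏ j ∈ Finset.range (ν i + i.val),
      ((∑ l ∈ Finset.range (j + 1), q ^ l : ℕ) : ℝ) with hA
  set B : ℝ := (∏ j ∈ Finset.range n, ((∑ l ∈ Finset.range (j + 1), q ^ l : ℕ) : ℝ)) *
    ∏ i : Fin n, ∏ j ∈ Finset.univ.filter (fun j : Fin n => i < j),
      (((∑ l ∈ Finset.range (ν j + j.val), q ^ l : ℕ) : ℝ) -
        ((∑ l ∈ Finset.range (ν i + i.val), q ^ l : ℕ) : ℝ)) with hB
  have hpos : ∀ j : ℕ, (0 : ℝ) < ((∑ l ∈ Finset.range (j + 1), q ^ l : ℕ) : ℝ) := by
    intro j
    rw [Nat.cast_pos, Finset.sum_range_succ', pow_zero]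
    omega
  have hApos : 0 < A := by
    rw [hA]
    apply mul_pos
    · apply pow_pos
      rw [Nat.cast_pos]
      omega
    · apply Finset.prod_pos
      intro i _
      apply Finset.prod_pos
      intro j _
      exact hpos j
  have hBpos : 0 < B := by
    rw [hB]
    apply mul_pos
    · apply Finset.prod_pos
      intro j _
      exact hpos j
    · apply Finset.prod_pos
      intro i _
      apply Finset.prod_pos
      intro j hj
      rw [Finset.mem_filter] at hj
      rw [sub_pos, Nat.cast_lt]
      apply geom_strictMono (by omega : 1 ≤ q)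
      have h1 := hm hj.2.le
      have h2 : i.val < j.val := hj.2
      omega
  have hAB : unipotentCharacterGL n F ν 1 * (A : ℂ) = (B : ℂ) := by
    rw [hA, hB]
    push_cast
    rw [← mul_assoc]
    push_cast at h
    exact h
  refine ⟨B / A, div_pos hBpos hApos, ?_⟩
  have hA0 : (A : ℂ) ≠ 0 := by
    rw [Ne, Complex.ofReal_eq_zero]
    exact hApos.ne'
  rw [Complex.ofReal_div, ← hAB, mul_div_assoc, div_self hA0, mul_one]

/-- the alternating sums of flag characters are irreducible characters -/
theorem isIrrCharacter_unipotent [Fintype F] [Fintype (GL (Fin n) F)] (ν : Fin n → ℕ)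
    (hm : Monotone ν) (hs : ∑ i, ν i = n) :
    IsIrrCharacter (GL (Fin n) F) (unipotentCharacterGL n F ν) := by
  have hgen := isGeneralizedCharacter_unipotent (F := F) ν
  have hnorm := classInner_unipotent (F := F) ν ν hm hs hm hs
  rw [if_pos rfl] at hnorm
  rcases Cfsg.Agent.Helper82.genChar_norm_one hgen hnorm with h | h
  · exact h
  · exfalso
    obtain ⟨m, hmpos, hm1⟩ := Cfsg.Agent.Helper82.irr_degree_pos h
    obtain ⟨r, hr, hr1⟩ := unipotent_one_pos (F := F) ν hm hs
    rw [Pi.neg_apply, hr1] at hm1
    have h2 : (-r : ℝ) = (m : ℝ) := by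
      have := congrArg Complex.re hm1
      simpa using this
    have h3 : (0 : ℝ) < (m : ℝ) := Nat.cast_pos.mpr hmpos
    linarith

end Cfsg.Agent.Helper40.Unip
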