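import Cfsg.Agent.Lib.Helper40.UnipIrr
import Cfsg.Agent.Lib.Helper40.FlagSL
import Cfsg.Agent.Lib.Helper81.CharCorr

set_option autoImplicit false

namespace Cfsg.Agent.Helper40.Unip

open Cfsg Cfsg.Agent.Helper40.Flag Cfsg.Agent.Helper40.Schur
open scoped MatrixGroups ComplexConjugate

variable {F : Type*} [Field F] {n : ℕ}

/-- expansion of a sum of products of two alternating sums along any family of group elements -/
theorem sum_unipotent_mul {X : Type*} [Fintype X] (φ : X → GL (Fin n) F) (ν ν' : Fin n → ℕ) :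
    ∑ x : X, unipotentCharacterGL n F ν (φ x) * unipotentCharacterGL n F ν' (φ x) =
      ∑ κ' : Equiv.Perm (Fin n), ∑ κ : Equiv.Perm (Fin n),
        ∑ x : X, term F ν κ (φ x) * term F ν' κ' (φ x) := by
  calc ∑ x : X, unipotentCharacterGL n F ν (φ x) * unipotentCharacterGL n F ν' (φ x)
      = ∑ x : X, ∑ κ : Equiv.Perm (Fin n), ∑ κ' : Equiv.Perm (Fin n),
          term F ν κ (φ x) * term F ν' κ' (φ x) := by
        apply Finset.sum_congr rfl
        intro x _
        rw [unipotent_eq_sum_term, unipotent_eq_sum_term, Finset.sum_mul_sum]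
    _ = ∑ κ : Equiv.Perm (Fin n), ∑ x : X, ∑ κ' : Equiv.Perm (Fin n),
          term F ν κ (φ x) * term F ν' κ' (φ x) := Finset.sum_comm
    _ = ∑ κ : Equiv.Perm (Fin n), ∑ κ' : Equiv.Perm (Fin n), ∑ x : X,
          term F ν κ (φ x) * term F ν' κ' (φ x) := by
        apply Finset.sum_congr rfl
        intro κ _
        exact Finset.sum_comm
    _ = ∑ κ' : Equiv.Perm (Fin n), ∑ κ : Equiv.Perm (Fin n), ∑ x : X,
          term F ν κ (φ x) * term F ν' κ' (φ x) := Finset.sum_comm

theorem inner_term_SL [Fintype (GL (Fin n) F)] [Fintype (Matrix.SpecialLinearGroup (Fin n) F)]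
    (hn : 0 < n) (ν ν' : Fin n → ℕ) (hs : ∑ i, ν i = n) (hs' : ∑ i, ν' i = n)
    (κ κ' : Equiv.Perm (Fin n)) :
    (Nat.card (Matrix.SpecialLinearGroup (Fin n) F) : ℂ)⁻¹ *
        ∑ s : Matrix.SpecialLinearGroup (Fin n) F,
          term F ν κ (Matrix.SpecialLinearGroup.toGL s) *
            term F ν' κ' (Matrix.SpecialLinearGroup.toGL s) =
      (Nat.card (GL (Fin n) F) : ℂ)⁻¹ * ∑ g : GL (Fin n) F, term F ν κ g * term F ν' κ' g := by
  by_cases hv : ∀ i : Fin n, (κ i).val ≤ ν i + i.val
  · by_cases hv' : ∀ i : Fin n, (κ' i).val ≤ ν' i + i.val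
    · have h1 := inner_flag_GL (F := F) (fun i => ν i + i.val - (κ i).val)
        (fun i => ν' i + i.val - (κ' i).val) (Cfsg.Agent.S2424.sum_comp_sub ν hs κ hv)
        (Cfsg.Agent.S2424.sum_comp_sub ν' hs' κ' hv')
      have h1' := inner_flag_SL (F := F) hn (fun i => ν i + i.val - (κ i).val)
        (fun i => ν' i + i.val - (κ' i).val) (Cfsg.Agent.S2424.sum_comp_sub ν hs κ hv)
        (Cfsg.Agent.S2424.sum_comp_sub ν' hs' κ' hv')
      have h2 : ∀ g : GL (Fin n) F, term F ν κ g * term F ν' κ' g =
          (((Equiv.Perm.sign κ' : ℤ) : ℂ) * ((Equiv.Perm.sign κ : ℤ) : ℂ)) *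
          (fixedPointCharacter (parabolicGL n F fun i => ν i + i.val - (κ i).val) g *
            fixedPointCharacter (parabolicGL n F fun i => ν' i + i.val - (κ' i).val) g) := by
        intro g
        unfold term
        rw [if_pos hv, if_pos hv']
        ring
      rw [Finset.sum_congr rfl (fun g _ => h2 g), ← Finset.mul_sum, mul_left_comm, h1,
        Finset.sum_congr rfl (fun s _ => h2 (Matrix.SpecialLinearGroup.toGL s)),
        ← Finset.mul_sum, mul_left_comm, h1']
    · have h2 : ∀ g : GL (Fin n) F, term F ν κ g * term F ν' κ' g = 0 := by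
        intro g
        unfold term
        rw [if_neg hv', mul_zero]
      rw [Finset.sum_congr rfl (fun g _ => h2 g), Finset.sum_const_zero, mul_zero,
        Finset.sum_congr rfl (fun s _ => h2 (Matrix.SpecialLinearGroup.toGL s)),
        Finset.sum_const_zero, mul_zero]
  · have h2 : ∀ g : GL (Fin n) F, term F ν κ g * term F ν' κ' g = 0 := by
      intro g
      unfold term
      rw [if_neg hv, zero_mul]
    rw [Finset.sum_congr rfl (fun g _ => h2 g), Finset.sum_const_zero, mul_zero,
      Finset.sum_congr rfl (fun s _ => h2 (Matrix.SpecialLinearGroup.toGL s)),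
      Finset.sum_const_zero, mul_zero]

/-- orthonormality of the restrictions to `SL_n(q)` of the alternating sums -/
theorem classInner_unipotent_SL [Fintype (GL (Fin n) F)]
    [Fintype (Matrix.SpecialLinearGroup (Fin n) F)] (hn : 0 < n) (ν ν' : Fin n → ℕ)
    (hm : Monotone ν) (hs : ∑ i, ν i = n) (hm' : Monotone ν') (hs' : ∑ i, ν' i = n) :
    classInner (fun s : Matrix.SpecialLinearGroup (Fin n) F =>
        unipotentCharacterGL n F ν (Matrix.SpecialLinearGroup.toGL s))
      (fun s : Matrix.SpecialLinearGroup (Fin n) F =>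
        unipotentCharacterGL n F ν' (Matrix.SpecialLinearGroup.toGL s)) =
      if ν = ν' then 1 else 0 := by
  rw [← classInner_unipotent (F := F) ν ν' hm hs hm' hs']
  unfold classInner
  simp only [conj_unipotent]
  rw [sum_unipotent_mul (fun s : Matrix.SpecialLinearGroup (Fin n) F =>
      (Matrix.SpecialLinearGroup.toGL s : GL (Fin n) F)) ν ν',
    sum_unipotent_mul (fun g : GL (Fin n) F => g) ν ν', Finset.mul_sum, Finset.mul_sum]
  apply Finset.sum_congr rfl
  intro κ' _
  rw [Finset.mul_sum, Finset.mul_sum]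
  apply Finset.sum_congr rfl
  intro κ _
  exact inner_term_SL hn ν ν' hs hs' κ κ'

theorem isGeneralizedCharacter_comp_hom {K K' : Type*} [Group K] [Group K'] (e : K' →* K)
    {θ : K → ℂ} (h : IsGeneralizedCharacter K θ) :
    IsGeneralizedCharacter K' (fun x => θ (e x)) := by
  obtain ⟨χ, ψ, hχ, hψ, rfl⟩ := h
  exact ⟨fun x => χ (e x), fun x => ψ (e x),
    Cfsg.Agent.Helper81.isCharacter_comp_hom e hχ,
    Cfsg.Agent.Helper81.isCharacter_comp_hom e hψ, rfl⟩

/-- the restrictions to `SL_n(q)` of the unipotent characters of `GL_n(q)` are irreducible -/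
theorem isIrrCharacter_unipotent_SL [Fintype F] [Fintype (GL (Fin n) F)]
    [Fintype (Matrix.SpecialLinearGroup (Fin n) F)] (hn : 0 < n) (ν : Fin n → ℕ)
    (hm : Monotone ν) (hs : ∑ i, ν i = n) :
    IsIrrCharacter (Matrix.SpecialLinearGroup (Fin n) F)
      (fun s : Matrix.SpecialLinearGroup (Fin n) F =>
        unipotentCharacterGL n F ν (Matrix.SpecialLinearGroup.toGL s)) := by
  have hgen := isGeneralizedCharacter_comp_hom
    (Matrix.SpecialLinearGroup.toGL : Matrix.SpecialLinearGroup (Fin n) F →* GL (Fin n) F)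
    (isGeneralizedCharacter_unipotent (F := F) ν)
  have hnorm := classInner_unipotent_SL (F := F) hn ν ν hm hs hm hs
  rw [if_pos rfl] at hnorm
  rcases Cfsg.Agent.Helper82.genChar_norm_one hgen hnorm with h | h
  · exact h
  · exfalso
    obtain ⟨m, hmpos, hm1⟩ := Cfsg.Agent.Helper82.irr_degree_pos h
    obtain ⟨r, hr, hr1⟩ := unipotent_one_pos (F := F) ν hm hs
    rw [Pi.neg_apply, map_one, hr1] at hm1
    have h2 : (-r : ℝ) = (m : ℝ) := by
      have := congrArg Complex.re hm1
      simpa using this
    have h3 : (0 : ℝ) < (m : ℝ) := Nat.cast_pos.mpr hmpos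
    linarith

/-- a permutation character on cosets takes the same value at `1` and at a central element of
the subgroup -/
theorem fixedPointCharacter_central {G : Type*} [Group G] (H : Subgroup G) (z : G)
    (hz : z ∈ Subgroup.center G) (hzH : z ∈ H) :
    fixedPointCharacter H z = fixedPointCharacter H 1 := by
  unfold fixedPointCharacter
  have hset : MulAction.fixedBy (G ⧸ H) z = MulAction.fixedBy (G ⧸ H) (1 : G) := by
    ext x
    induction x using QuotientGroup.induction_on with
    | H x =>
      rw [MulAction.mem_fixedBy, MulAction.mem_fixedBy, one_smul, MulAction.Quotient.smul_mk,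
        smul_eq_mul, QuotientGroup.eq]
      have h1 : (z * x)⁻¹ * x = z⁻¹ := by
        rw [← Subgroup.mem_center_iff.mp hz x]
        group
      rw [h1]
      exact ⟨fun _ => rfl, fun _ => inv_mem hzH⟩
  rw [hset]

/-- the alternating sums take the same value at `1` and at the centre of `SL_n` -/
theorem unipotent_center_SL (ν : Fin n → ℕ) (z : Matrix.SpecialLinearGroup (Fin n) F)
    (hz : z ∈ Subgroup.center (Matrix.SpecialLinearGroup (Fin n) F)) :
    unipotentCharacterGL n F ν (Matrix.SpecialLinearGroup.toGL z) =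
      unipotentCharacterGL n F ν 1 := by
  obtain ⟨r, -, hr⟩ := Matrix.SpecialLinearGroup.mem_center_iff.mp hz
  have hmat : ((Matrix.SpecialLinearGroup.toGL z : GL (Fin n) F) :
      Matrix (Fin n) (Fin n) F) = Matrix.scalar (Fin n) r := by
    rw [hr]
    rfl
  have hcen : (Matrix.SpecialLinearGroup.toGL z : GL (Fin n) F) ∈
      Subgroup.center (GL (Fin n) F) := by
    rw [Subgroup.mem_center_iff]
    intro g
    apply Units.ext
    rw [Units.val_mul, Units.val_mul, hmat]
    exact ((Matrix.scalar_commute r (fun r' => mul_comm r r')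
      (g : Matrix (Fin n) (Fin n) F)).eq).symm
  have hpar : ∀ μ : Fin n → ℕ,
      (Matrix.SpecialLinearGroup.toGL z : GL (Fin n) F) ∈ parabolicGL n F μ := by
    intro μ
    change ((Matrix.SpecialLinearGroup.toGL z : GL (Fin n) F) :
      Matrix (Fin n) (Fin n) F).BlockTriangular (compLabel μ)
    rw [hmat, Matrix.scalar_apply]
    exact Matrix.blockTriangular_diagonal _
  unfold unipotentCharacterGL
  apply Finset.sum_congr rfl
  intro κ _
  split_ifs
  · rw [fixedPointCharacter_central _ _ hcen (hpar _)]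
  · rfl

end Cfsg.Agent.Helper40.Unip
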